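import Groth.Agent.Lib.Unram.SplitNhd
import Groth.Agent.Lib.EtaPt.FlatComponents
import Groth.Agent.Lib.SourceDescent.Scheme
import Groth.Agent.S7179
import Mathlib.AlgebraicGeometry.Morphisms.UniversallyOpen
import Mathlib.AlgebraicGeometry.Morphisms.ClosedImmersion
import Mathlib.AlgebraicGeometry.Morphisms.WeaklyEtale

/-!
# Flat unramified morphisms over reduced schemes with locally finitely many components are étale
-/

set_option autoImplicit false

universe u

open CategoryTheory CategoryTheory.Limits AlgebraicGeometry TopologicalSpace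

namespace Groth.Agent.Lib.Unram.FlatUnramified

theorem finite_components_of_open_subset {X : Type u} [TopologicalSpace X] {U V : Set X}
    (hV : IsOpen V) (hle : V ⊆ U) (h : (irreducibleComponents U).Finite) :
    (irreducibleComponents V).Finite := by
  let i : V → U := Set.inclusion hle
  have hi : Topology.IsOpenEmbedding i :=
    Topology.IsOpenEmbedding.inclusion hle (hV.preimage continuous_subtype_val)
  refine (h.image fun t => i ⁻¹' t).subset fun Z hZ => ?_
  obtain ⟨t, ht, hZt⟩ := exists_mem_irreducibleComponents_subset_of_isIrreducible _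
    (hZ.1.image i hi.continuous.continuousOn)
  refine ⟨t, ht, le_antisymm (hZ.2 ?_ (Set.image_subset_iff.mp hZt)) (Set.image_subset_iff.mp hZt)⟩
  obtain ⟨z, hz⟩ := hZ.1.nonempty
  exact ht.1.preimage hi ⟨i z, hZt ⟨z, hz, rfl⟩, z, rfl⟩

theorem finite_components_of_isCompact {Y : Scheme.{u}}
    (hY : ∀ y : Y, ∃ U : Y.Opens, y ∈ U ∧ (irreducibleComponents (U : Set Y)).Finite)
    (U : Y.Opens) (hU : IsCompact (U : Set Y)) : (irreducibleComponents (U : Type u)).Finite := by
  choose W hW hWfin using hY
  obtain ⟨t, ht⟩ := hU.elim_finite_subcover (fun y : Y => (W y : Set Y)) (fun y => (W y).isOpen)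
    (fun y _ => Set.mem_iUnion.mpr ⟨y, hW y⟩)
  refine EtaPt.FlatComponents.finite_of_open_cover (X := (U : Type u))
    (fun y : t => Subtype.val ⁻¹' (W y.1 : Set Y))
    (fun y => (W y.1).isOpen.preimage continuous_subtype_val) (fun z _ => ?_) (fun y => ?_)
  · obtain ⟨y, hy, hz⟩ := Set.mem_iUnion₂.mp (ht z.2)
    exact Set.mem_iUnion.mpr ⟨⟨y, hy⟩, hz⟩
  · refine EtaPt.FlatComponents.finite_of_homeomorph
      (?_ : ((U ⊓ W y.1 : Y.Opens) : Set Y) ≃ₜ _)
      (finite_components_of_open_subset (U ⊓ W y.1).isOpen (fun z hz => hz.2) (hWfin y.1))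
    exact { toFun := fun z => ⟨⟨z.1, z.2.1⟩, z.2.2⟩
            invFun := fun z => ⟨z.1.1, z.1.2, z.2⟩
            left_inv := fun _ => rfl
            right_inv := fun _ => rfl
            continuous_toFun := (continuous_subtype_val.subtype_mk _).subtype_mk _
            continuous_invFun := (continuous_subtype_val.comp continuous_subtype_val).subtype_mk _ }

/-- A closed set stable under generalization is open, if locally there are finitely many
irreducible components. -/
theorem isOpen_of_stableUnderGeneralization {X : Type u} [TopologicalSpace X] [QuasiSober X]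
    {Z : Set X} (hc : IsClosed Z) (hg : StableUnderGeneralization Z)
    (hfin : ∀ x ∈ Z, ∃ U : Set X, IsOpen U ∧ x ∈ U ∧ (irreducibleComponents U).Finite) :
    IsOpen Z := by
  refine isOpen_iff_forall_mem_open.mpr fun x hx => ?_
  obtain ⟨U, hU, hxU, hfin⟩ := hfin x hx
  let bad : Set U := ⋃ C ∈ {C ∈ irreducibleComponents U | ¬ C ⊆ Subtype.val ⁻¹' Z}, C
  have hbad : IsClosed bad := Set.Finite.isClosed_biUnion (hfin.subset fun C hC => hC.1)
    fun C hC => isClosed_of_mem_irreducibleComponents C hC.1
  refine ⟨Subtype.val '' badᶜ, ?_, hU.isOpenEmbedding_subtypeVal.isOpenMap _ hbad.isOpen_compl,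
    ⟨x, hxU⟩, ?_, rfl⟩
  · rintro _ ⟨z, hz, rfl⟩
    by_contra hzZ
    exact hz (Set.mem_iUnion₂.mpr ⟨irreducibleComponent z,
      ⟨irreducibleComponent_mem_irreducibleComponents z, fun h => hzZ (h mem_irreducibleComponent)⟩,
      mem_irreducibleComponent⟩)
  · intro hb
    obtain ⟨C, ⟨hC, hCZ⟩, hxC⟩ := Set.mem_iUnion₂.mp hb
    obtain ⟨c, hcC, hcZ⟩ := Set.not_subset.mp hCZ
    have hir : IsIrreducible (closure (Subtype.val '' C)) :=
      (hC.1.image _ continuous_subtype_val.continuousOn).closure
    obtain ⟨η, hη⟩ := QuasiSober.sober hir isClosed_closure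
    have hηZ : η ∈ Z :=
      hg (hη.specializes (subset_closure ⟨_, hxC, rfl⟩)) hx
    exact hcZ (hc.closure_subset_iff.mpr (Set.singleton_subset_iff.mpr hηZ)
      (hη.symm.le (subset_closure ⟨c, hcC, rfl⟩)))

/-- A flat closed immersion into a reduced scheme with locally finitely many components is an
open immersion. -/
theorem isOpenImmersion_of_flat {Z U : Scheme.{u}} (i : Z ⟶ U) [IsClosedImmersion i] [Flat i]
    [IsReduced U]
    (hfin : ∀ x : U, ∃ V : Set U, IsOpen V ∧ x ∈ V ∧ (irreducibleComponents V).Finite) :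
    IsOpenImmersion i := by
  have ho : IsOpen (Set.range i) := isOpen_of_stableUnderGeneralization i.isClosedEmbedding.isClosed_range
    (Flat.generalizingMap i).stableUnderGeneralization_range (fun x _ => hfin x)
  let W : U.Opens := ⟨Set.range i, ho⟩
  let i' := IsOpenImmersion.lift W.ι i (by rw [Scheme.Opens.range_ι]; exact le_rfl)
  have hi' : i' ≫ W.ι = i := IsOpenImmersion.lift_fac _ _ _
  have : IsClosedImmersion (i' ≫ W.ι) := hi'.symm ▸ inferInstance
  have : IsClosedImmersion i' := IsClosedImmersion.of_comp i' W.ι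
  have : Surjective i' := ⟨fun w => by
    obtain ⟨z, hz⟩ := w.2
    refine ⟨z, W.ι.isOpenEmbedding.injective ?_⟩
    rw [← Scheme.Hom.comp_apply, hi']
    exact hz⟩
  have : IsIso i' := isIso_of_isClosedImmersion_of_surjective i'
  rw [← hi']
  infer_instance

theorem etale {X Y : Scheme.{u}} (f : X ⟶ Y) [LocallyOfFiniteType f] [Flat f]
    [FormallyUnramified f] [IsReduced Y]
    (hY : ∀ y : Y, ∃ U : Y.Opens, y ∈ U ∧ (irreducibleComponents (U : Set Y)).Finite) : Etale f := by
  have key : ∀ x : X, ∃ O : X.Opens, x ∈ O ∧ Etale (O.ι ≫ f) := fun x => by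
    have : FormallyUnramified ((⊤ : X.Opens).ι ≫ f) :=
      MorphismProperty.comp_mem @FormallyUnramified _ _ inferInstance inferInstance
    obtain ⟨U, g, u, hg, hgu, K, hK, V, hV⟩ := SplitNhd.exists_isSplit f x ⊤ trivial
    obtain ⟨w, hw1, hw2⟩ := Scheme.Pullback.exists_preimage_pullback x u hgu.symm
    obtain ⟨k, hk⟩ := hV.cover w hw2 hw1
    have : IsReduced U := Groth.Agent.S7179.result g
    have := hV.closed k
    have : Flat ((V k).ι ≫ pullback.snd f g) := inferInstance
    have := isOpenImmersion_of_flat ((V k).ι ≫ pullback.snd f g) fun z => by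
      obtain ⟨U₁, hU₁, hz, -⟩ := exists_isAffineOpen_mem_and_subset
        (x := z) (U := (⊤ : U.Opens)) trivial
      exact ⟨U₁, U₁.isOpen, hz, EtaPt.FlatComponents.finite_components_of_flat g
        (finite_components_of_isCompact hY) U₁ hU₁.isCompact⟩
    let c := (V k).ι ≫ pullback.fst f g
    have : Etale c := MorphismProperty.comp_mem @Etale _ _ inferInstance inferInstance
    have hcf : Etale (c ≫ f) := by
      rw [show c ≫ f = ((V k).ι ≫ pullback.snd f g) ≫ g by
        simp [c, Category.assoc, pullback.condition]]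
      exact MorphismProperty.comp_mem @Etale _ _ inferInstance hg
    let O : X.Opens := ⟨Set.range c, c.isOpenMap.isOpen_range⟩
    refine ⟨O, ⟨⟨w, hk⟩, hw1⟩, ?_⟩
    let c' := IsOpenImmersion.lift O.ι c (by rw [Scheme.Opens.range_ι]; exact le_rfl)
    have hc' : c' ≫ O.ι = c := IsOpenImmersion.lift_fac _ _ _
    have : Etale (c' ≫ O.ι) := hc'.symm ▸ inferInstance
    have : Etale c' := MorphismProperty.of_postcomp (W := @Etale) (W' := @Etale) c' O.ι
      inferInstance inferInstance
    have : Surjective c' := ⟨fun o => by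
      obtain ⟨z, hz⟩ := o.2
      refine ⟨z, O.ι.isOpenEmbedding.injective ?_⟩
      rw [← Scheme.Hom.comp_apply, hc']
      exact hz⟩
    refine SourceDescent.Scheme.of_comp_etale_surjective (P := @Etale)
      SourceDescent.Ring.etale_esd
      (fun a b ha hb => MorphismProperty.comp_mem @Etale _ _ ha hb) c' (O.ι ≫ f) ?_
    rw [← Category.assoc, hc']
    exact hcf
  choose O hO hP using key
  exact IsZariskiLocalAtSource.of_iSup_eq_top O
    (eq_top_iff.mpr fun x _ => TopologicalSpace.Opens.mem_iSup.mpr ⟨x, hO x⟩) hP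

end Groth.Agent.Lib.Unram.FlatUnramified
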