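import Groth.Agent.Lib.Unram.AtPrime
import Mathlib.RingTheory.Trace.Basic
import Mathlib.RingTheory.Finiteness.ModuleFinitePresentation
import Mathlib.RingTheory.Flat.EquationalCriterion
import Mathlib.RingTheory.Kaehler.TensorProduct
import Mathlib.RingTheory.Etale.Locus
import Mathlib.RingTheory.Etale.Field
import Mathlib.RingTheory.Unramified.Field
import Mathlib.RingTheory.LocalRing.Module
import Mathlib.RingTheory.Flat.FaithfullyFlat.Basic
import Mathlib.FieldTheory.IsAlgClosed.AlgebraicClosure
import Mathlib.LinearAlgebra.Dual.Basis
import Mathlib.RingTheory.Artinian.Module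
import Mathlib.RingTheory.Etale.Descent

/-!
# Finite étale algebras and the trace form
-/

set_option autoImplicit false

universe u

open scoped TensorProduct

attribute [local instance] Algebra.TensorProduct.rightAlgebra

namespace Groth.Agent.Lib.Unram.TraceEtale

/-- A finite algebra is unramified if its fibres are. -/
theorem formallyUnramified_of_forall_fiber (A B : Type u) [CommRing A] [CommRing B] [Algebra A B]
    [Module.Finite A B]
    (h : ∀ (p : Ideal A) [p.IsPrime],
      Algebra.FormallyUnramified p.ResidueField (p.ResidueField ⊗[A] B)) :
    Algebra.FormallyUnramified A B := by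
  have : Module.Finite A Ω[B⁄A] := Module.Finite.trans B _
  refine ⟨(Module.support_eq_empty_iff (R := A) (M := Ω[B⁄A])).mp
    (Set.eq_empty_iff_forall_notMem.mpr fun p hp => ?_)⟩
  rw [Module.mem_support_iff_nontrivial_residueField_tensorProduct] at hp
  have := h p.asIdeal
  have := (KaehlerDifferential.tensorKaehlerEquivBase A p.asIdeal.ResidueField B
    (p.asIdeal.ResidueField ⊗[A] B)).toEquiv.subsingleton
  exact not_subsingleton _ this

theorem formallyUnramified_of_residueField (A B : Type u) [CommRing A] [IsLocalRing A] [CommRing B]
    [Algebra A B] [Module.Finite A B]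
    [Algebra.FormallyUnramified (IsLocalRing.ResidueField A) (IsLocalRing.ResidueField A ⊗[A] B)] :
    Algebra.FormallyUnramified A B := by
  have : Module.Finite A Ω[B⁄A] := Module.Finite.trans B _
  have := (KaehlerDifferential.tensorKaehlerEquivBase A (IsLocalRing.ResidueField A) B
    (IsLocalRing.ResidueField A ⊗[A] B)).toEquiv.subsingleton
  exact ⟨IsLocalRing.subsingleton_tensorProduct.mp this⟩

/-- A flat unramified finitely presented algebra is étale. -/
theorem etale_of_flat_of_formallyUnramified (A B : Type u) [CommRing A] [CommRing B] [Algebra A B]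
    [Algebra.FinitePresentation A B] [Module.Flat A B] [Algebra.FormallyUnramified A B] :
    Algebra.Etale A B := by
  refine ⟨?_, inferInstance⟩
  rw [← Algebra.etaleLocus_eq_univ_iff]
  refine Set.eq_univ_of_forall fun q => (AtPrime.isEtaleAt_iff A B q.asIdeal).mpr ⟨?_, inferInstance⟩
  have : Module.Flat B (Localization.AtPrime q.asIdeal) :=
    IsLocalization.flat _ q.asIdeal.primeCompl
  exact Module.Flat.trans A B _

theorem finitePresentation_of_free (A B : Type u) [CommRing A] [CommRing B] [Algebra A B]
    [Module.Finite A B] [Module.Free A B] : Algebra.FinitePresentation A B := by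
  have : Module.FinitePresentation A B := Module.finitePresentation_of_projective A B
  exact (Module.FinitePresentation.iff_finitePresentation_of_finite A B).mp this

section Trace

variable (A B : Type u) [CommRing A] [CommRing B] [Algebra A B]

theorem trace_one_tmul [Module.Finite A B] [Module.Free A B] (T : Type u) [CommRing T] [Algebra A T]
    (x : B) : Algebra.trace T (T ⊗[A] B) (1 ⊗ₜ x) = algebraMap A T (Algebra.trace A B x) := by
  rw [Algebra.trace_apply, Algebra.trace_apply, ← LinearMap.trace_baseChange]
  congr 1
  ext y
  simp

theorem bijective_traceForm_iff {ι : Type u} [Fintype ι] [DecidableEq ι] (b : Module.Basis ι A B) :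
    Function.Bijective (Algebra.traceForm A B) ↔ IsUnit (Algebra.traceMatrix A b).det := by
  have h : LinearMap.toMatrix b b.dualBasis (Algebra.traceForm A B) =
      (Algebra.traceMatrix A b).transpose := by
    ext i j
    simp [LinearMap.toMatrix_apply, Algebra.traceMatrix_apply, Module.Basis.dualBasis_repr]
  constructor
  · intro hb
    have := LinearEquiv.isUnit_det (LinearEquiv.ofBijective (Algebra.traceForm A B) hb) b b.dualBasis
    change IsUnit (LinearMap.toMatrix b b.dualBasis (Algebra.traceForm A B)).det at this
    rwa [h, Matrix.det_transpose] at this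
  · intro hu
    rw [← Matrix.det_transpose, ← h] at hu
    exact (LinearEquiv.ofIsUnitDet hu).bijective

/-- Over an algebraically closed field, reducedness is nondegeneracy of the trace form. -/
theorem injective_traceForm_iff (K C : Type u) [Field K] [IsAlgClosed K] [CommRing C] [Algebra K C]
    [Module.Finite K C] :
    Function.Injective (Algebra.traceForm K C) ↔ Algebra.FormallyEtale K C := by
  constructor
  · intro hinj
    have : IsReduced C := ⟨fun x hx => hinj (by
      rw [map_zero]
      ext y
      exact IsNilpotent.eq_zero (Algebra.isNilpotent_trace_of_isNilpotent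
        ((Commute.all x y).isNilpotent_mul_right hx)))⟩
    have : IsArtinianRing C := IsArtinianRing.of_finite K C
    refine (Algebra.FormallyEtale.iff_exists_algEquiv_prod K C).mpr
      ⟨MaximalSpectrum C, inferInstance, fun m => C ⧸ m.asIdeal,
        fun m => Ideal.Quotient.field m.asIdeal, inferInstance,
        (IsArtinianRing.equivPi C).restrictScalars K, fun m => ?_⟩
    let := Ideal.Quotient.field m.asIdeal
    exact Algebra.IsAlgebraic.isSeparable_of_perfectField
  · intro h
    obtain ⟨I, _, Ai, _, _, e, hsep⟩ := (Algebra.FormallyEtale.iff_exists_algEquiv_prod K C).mp h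
    classical
    cases nonempty_fintype I
    have hb : ∀ i, Function.Bijective (Algebra.ofId K (Ai i)) := fun i => by
      have : Module.Finite K (Ai i) := Module.Finite.of_surjective
        ((Pi.evalAlgHom K Ai i).comp e.toAlgHom).toLinearMap
        ((Function.surjective_eval i).comp e.surjective)
      exact IsAlgClosed.algebraMap_bijective_of_isIntegral
    let e' : C ≃ₐ[K] (I → K) :=
      e.trans (AlgEquiv.piCongrRight fun i => (AlgEquiv.ofBijective _ (hb i)).symm)
    rw [injective_iff_map_eq_zero]
    intro x hx
    apply e'.injective
    rw [map_zero]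
    funext i
    have h1 : Algebra.trace K C (x * e'.symm (Pi.single i 1)) = 0 := LinearMap.congr_fun hx _
    rw [← Algebra.trace_eq_of_algEquiv e', map_mul, AlgEquiv.apply_symm_apply,
      Algebra.trace_eq_matrix_trace (Pi.basisFun K I), Matrix.trace] at h1
    simp only [Matrix.diag_apply, Algebra.leftMulMatrix_eq_repr_mul, Pi.basisFun_repr,
      Pi.mul_apply, Pi.basisFun_apply] at h1
    simpa [Pi.single_apply] using h1

theorem bijective_traceForm_baseChange_iff [Module.Finite A B] [Module.Free A B] {ι : Type u}
    [Fintype ι] [DecidableEq ι] (b : Module.Basis ι A B) (T : Type u) [CommRing T] [Algebra A T] :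
    Function.Bijective (Algebra.traceForm T (T ⊗[A] B)) ↔
      IsUnit (algebraMap A T (Algebra.traceMatrix A b).det) := by
  rw [bijective_traceForm_iff T (T ⊗[A] B) (Algebra.TensorProduct.basis T b), RingHom.map_det]
  congr! 2
  ext i j
  simp [Algebra.traceMatrix_apply, Algebra.traceForm_apply, trace_one_tmul A B T]

/-- A finite free algebra is étale iff the trace form is perfect. -/
theorem etale_iff_bijective_traceForm [Module.Finite A B] [Module.Free A B] :
    Algebra.Etale A B ↔ Function.Bijective (Algebra.traceForm A B) := by
  classical
  let b := Module.Free.chooseBasis A B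
  rw [bijective_traceForm_iff A B b]
  constructor
  · intro _
    by_contra hu
    obtain ⟨m, hm, hmem⟩ := exists_max_ideal_of_mem_nonunits hu
    let K := AlgebraicClosure m.ResidueField
    have h1 := (injective_traceForm_iff K (K ⊗[A] B)).mpr inferInstance
    have h2 : Function.Bijective (Algebra.traceForm K (K ⊗[A] B)) :=
      ⟨h1, (LinearMap.injective_iff_surjective_of_finrank_eq_finrank
        (Subspace.dual_finrank_eq).symm).mp h1⟩
    rw [bijective_traceForm_baseChange_iff A B b, IsScalarTower.algebraMap_apply A m.ResidueField K,
      Ideal.algebraMap_residueField_eq_zero.mpr hmem, map_zero] at h2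
    exact not_isUnit_zero h2
  · intro hu
    have := finitePresentation_of_free A B
    have : Algebra.FormallyUnramified A B := formallyUnramified_of_forall_fiber A B fun p _ => by
      let K := AlgebraicClosure p.ResidueField
      have h2 := (bijective_traceForm_baseChange_iff A B b K).mpr (hu.map _)
      have := (injective_traceForm_iff K (K ⊗[A] B)).mp h2.injective
      have : Algebra.FormallyUnramified K (K ⊗[p.ResidueField] (p.ResidueField ⊗[A] B)) :=
        Algebra.FormallyUnramified.of_equiv
          (Algebra.TensorProduct.cancelBaseChange A p.ResidueField K K B).symm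
      exact Algebra.FormallyUnramified.of_formallyUnramified_tensorProduct_of_faithfullyFlat
        (T := K)
    exact etale_of_flat_of_formallyUnramified A B

end Trace

end Groth.Agent.Lib.Unram.TraceEtale
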