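import Groth.Agent.Lib.Unram.AtPrime
import Groth.Agent.Lib.Flat55.FlatDescend
import Mathlib.RingTheory.Unramified.Finite
import Mathlib.RingTheory.Etale.Kaehler
import Mathlib.AlgebraicGeometry.Morphisms.FiniteType

/-!
# Unramified / étale in a tower, pointwise
-/

set_option autoImplicit false

universe u

open CategoryTheory AlgebraicGeometry IsLocalRing
open scoped TensorProduct

namespace Groth.Agent.Lib.Unram.StalkTower

/-- If `g` is essentially of finite type and formally unramified and `h ∘ g` is flat, then `h` is flat. -/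
theorem flat_of_comp_of_formallyUnramified {A B C : Type u} [CommRing A] [CommRing B] [CommRing C]
    (g : A →+* B) (h : B →+* C) (hu : g.FormallyUnramified) (he : g.EssFiniteType)
    (hflat : (h.comp g).Flat) : h.Flat := by
  algebraize [g, h, h.comp g]
  exact Algebra.FormallyUnramified.flat_of_restrictScalars A B C

theorem formallyUnramified_of_comp_of_formallyEtale {A B C : Type u} [CommRing A] [CommRing B]
    [CommRing C] (g : A →+* B) (h : B →+* C) (hff : h.FaithfullyFlat) (he : h.FormallyEtale)
    (hu : (h.comp g).FormallyUnramified) : g.FormallyUnramified := by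
  algebraize [g, h, h.comp g]
  have : Subsingleton (C ⊗[B] Ω[B⁄A]) :=
    (KaehlerDifferential.tensorKaehlerEquivOfFormallyEtale A B C).subsingleton
  exact ⟨Module.FaithfullyFlat.lTensor_reflects_triviality B C _⟩

variable {X Y S : Scheme.{u}}

theorem faithfullyFlat_stalkMap (g : X ⟶ Y) (x : X) (hg : (g.stalkMap x).hom.Flat) :
    (g.stalkMap x).hom.FaithfullyFlat := by
  algebraize [(g.stalkMap x).hom]
  exact @Module.FaithfullyFlat.of_flat_of_isLocalHom _ _ _ _ _ _ _ hg (g.toLRSHom.prop x)

/-- `g` is flat at `x` if `f` is unramified at `g x` and `g ≫ f` is flat at `x`. -/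
theorem flat_stalkMap_of_unramified (g : X ⟶ Y) (f : Y ⟶ S) [LocallyOfFiniteType f] (x : X)
    (hu : (f.stalkMap (g x)).hom.FormallyUnramified) (hflat : ((g ≫ f).stalkMap x).hom.Flat) :
    (g.stalkMap x).hom.Flat := by
  rw [Scheme.Hom.stalkMap_comp] at hflat
  exact flat_of_comp_of_formallyUnramified (f.stalkMap (g x)).hom (g.stalkMap x).hom hu
    (LocallyOfFiniteType.stalkMap f _) hflat

theorem formallyUnramified_stalkMap_of_comp (g : X ⟶ Y) (f : Y ⟶ S) (x : X)
    (hu : ((g ≫ f).stalkMap x).hom.FormallyUnramified) :
    (g.stalkMap x).hom.FormallyUnramified := by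
  rw [Scheme.Hom.stalkMap_comp] at hu
  exact RingHom.FormallyUnramified.of_comp (f := (f.stalkMap (g x)).hom) (g := (g.stalkMap x).hom) hu

/-- Unramified at a point descends along a morphism flat at that point. -/
theorem formallyUnramified_stalkMap_descend (g : X ⟶ Y) (f : Y ⟶ S) [LocallyOfFinitePresentation g]
    (x : X) (hg : (g.stalkMap x).hom.Flat)
    (hu : ((g ≫ f).stalkMap x).hom.FormallyUnramified) :
    (f.stalkMap (g x)).hom.FormallyUnramified := by
  have hu' := formallyUnramified_stalkMap_of_comp g f x hu
  have hs := AtPrime.formallySmooth_stalkMap_of_flat g x hg hu'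
  have he : (g.stalkMap x).hom.FormallyEtale := by
    algebraize [(g.stalkMap x).hom]
    exact Algebra.FormallyEtale.iff_formallyUnramified_and_formallySmooth.mpr ⟨hu', hs⟩
  rw [Scheme.Hom.stalkMap_comp] at hu
  exact formallyUnramified_of_comp_of_formallyEtale _ _ (faithfullyFlat_stalkMap g x hg) he hu

/-- The local criterion for being unramified. -/
theorem formallyUnramified_stalkMap_iff (f : X ⟶ Y) [LocallyOfFiniteType f] (x : X) :
    (f.stalkMap x).hom.FormallyUnramified ↔
      ((maximalIdeal (Y.presheaf.stalk (f x))).map (f.stalkMap x).hom =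
          maximalIdeal (X.presheaf.stalk x) ∧
        letI := (f.residueFieldMap x).hom.toAlgebra
        Module.Finite (Y.residueField (f x)) (X.residueField x) ∧
          Algebra.IsSeparable (Y.residueField (f x)) (X.residueField x)) := by
  algebraize [(f.stalkMap x).hom]
  have : IsLocalHom (algebraMap (Y.presheaf.stalk (f x)) (X.presheaf.stalk x)) :=
    inferInstanceAs <| IsLocalHom (f.stalkMap x).hom
  have : Algebra.EssFiniteType (Y.presheaf.stalk (f x)) (X.presheaf.stalk x) := by
    rw [← RingHom.essFiniteType_algebraMap, RingHom.algebraMap_toAlgebra]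
    exact LocallyOfFiniteType.stalkMap f x
  have e : (inferInstance : Algebra (ResidueField (Y.presheaf.stalk (f x)))
        (ResidueField (X.presheaf.stalk x))) =
      (f.residueFieldMap x).hom.toAlgebra := by
    refine Algebra.algebra_ext _ _ fun z ↦ ?_
    obtain ⟨z, rfl⟩ := IsLocalRing.residue_surjective z
    rfl
  rw [← RingHom.algebraMap_toAlgebra (f.stalkMap x).hom, RingHom.formallyUnramified_algebraMap,
    Algebra.FormallyUnramified.iff_map_maximalIdeal_eq, RingHom.algebraMap_toAlgebra]
  constructor
  · rintro ⟨hsep, hm⟩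
    refine ⟨hm, ?_⟩
    have : Algebra.FormallyUnramified (Y.presheaf.stalk (f x)) (X.presheaf.stalk x) :=
      Algebra.FormallyUnramified.of_map_maximalIdeal (by rwa [RingHom.algebraMap_toAlgebra])
    have hfin : Module.Finite (ResidueField (Y.presheaf.stalk (f x)))
        (ResidueField (X.presheaf.stalk x)) := inferInstance
    exact e ▸ ⟨hfin, hsep⟩
  · rintro ⟨hm, -, hsep⟩
    refine ⟨?_, hm⟩
    convert! hsep using 1

end Groth.Agent.Lib.Unram.StalkTower
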