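import Mathlib.RingTheory.Smooth.Fiber
import Mathlib.RingTheory.Etale.Field
import Mathlib.RingTheory.Unramified.LocalRing
import Mathlib.RingTheory.Flat.Localization
import Mathlib.AlgebraicGeometry.Morphisms.Etale
import Mathlib.RingTheory.Unramified.Locus
import Groth.Agent.H34.EtaleAt

/-!
# Unramified and étale at a point

`étale at x ↔ flat at x ∧ unramified at x` for morphisms locally of finite presentation.
-/

set_option autoImplicit false

universe u

open CategoryTheory AlgebraicGeometry IsLocalRing
open scoped TensorProduct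

namespace Groth.Agent.Lib.Unram.AtPrime

section Ring

attribute [local instance] Algebra.FormallyEtale.of_formallyUnramified_of_field

/-- Over a finitely presented algebra, the local homomorphism at a prime is formally smooth as
soon as it is flat and formally unramified. -/
theorem formallySmooth_localization (R S : Type u) [CommRing R] [CommRing S] [Algebra R S]
    [Algebra.FinitePresentation R S] (p : Ideal R) [p.IsPrime] (q : Ideal S) [q.IsPrime]
    [q.LiesOver p] [Algebra (Localization.AtPrime p) (Localization.AtPrime q)]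
    [Localization.AtPrime.IsLiesOverAlgebra p q]
    [Module.Flat (Localization.AtPrime p) (Localization.AtPrime q)]
    [Algebra.FormallyUnramified (Localization.AtPrime p) (Localization.AtPrime q)] :
    Algebra.FormallySmooth (Localization.AtPrime p) (Localization.AtPrime q) := by
  let Rp := Localization.AtPrime p
  let Sp := Localization (Algebra.algebraMapSubmonoid S p.primeCompl)
  let Sq := Localization.AtPrime q
  let f : Sp →ₐ[S] Sq := IsLocalization.liftAlgHom
      (M := Algebra.algebraMapSubmonoid S p.primeCompl) (f := Algebra.ofId _ _) (by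
      rintro ⟨_, x, hx, rfl⟩
      simpa using! IsLocalization.map_units (M := q.primeCompl) Sq ⟨algebraMap _ _ x,
        by simp_all [q.over_def p]⟩)
  algebraize [f.toRingHom]
  have : IsScalarTower R Sp Sq := .to₁₃₄ _ S _ _
  have : IsScalarTower Rp Sp Sq := .of_algebraMap_eq' <| by
    apply IsLocalization.ringHom_ext p.primeCompl
    simp only [RingHom.comp_assoc, ← IsScalarTower.algebraMap_eq]
  have : IsLocalization (Algebra.algebraMapSubmonoid Sp q.primeCompl) Sq :=
    .isLocalization_of_submonoid_le _ _ (Algebra.algebraMapSubmonoid S p.primeCompl) _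
    (by rintro _ ⟨x, hx, rfl⟩; simp_all [q.over_def p])
  have : Algebra.FinitePresentation Rp Sp := by
    have : Algebra.IsPushout R Rp S Sp :=
      .symm <| Algebra.isPushout_of_isLocalization p.primeCompl _ _ _
    exact .equiv (Algebra.IsPushout.equiv R Rp S Sp)
  have : Algebra.EssFiniteType Rp Sq := .of_comp R _ _
  have : Algebra.FormallySmooth (ResidueField Rp) (ResidueField Rp ⊗[Rp] Sq) := inferInstance
  exact Algebra.FormallySmooth.of_formallySmooth_residueField_tensor
    (R := Rp) (S := Sq) (P := Sp) (Algebra.algebraMapSubmonoid _ q.primeCompl)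

theorem isUnramifiedAt_iff_formallyUnramified_localization (R S : Type u) [CommRing R]
    [CommRing S] [Algebra R S] (p : Ideal R) [p.IsPrime] (q : Ideal S) [q.IsPrime]
    [q.LiesOver p] [Algebra (Localization.AtPrime p) (Localization.AtPrime q)]
    [Localization.AtPrime.IsLiesOverAlgebra p q] :
    Algebra.IsUnramifiedAt R q ↔
      Algebra.FormallyUnramified (Localization.AtPrime p) (Localization.AtPrime q) :=
  ⟨fun _ ↦ .of_restrictScalars R _ _, fun _ ↦
    have : Algebra.FormallyUnramified R (Localization.AtPrime p) :=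
      Algebra.FormallyUnramified.of_isLocalization p.primeCompl
    Algebra.FormallyUnramified.comp _ (Localization.AtPrime p) _⟩

/-- Étale at a prime iff flat and unramified there. -/
theorem isEtaleAt_iff (R S : Type u) [CommRing R] [CommRing S] [Algebra R S]
    [Algebra.FinitePresentation R S] (q : Ideal S) [q.IsPrime] :
    Algebra.IsEtaleAt R q ↔
      Module.Flat R (Localization.AtPrime q) ∧ Algebra.IsUnramifiedAt R q := by
  constructor
  · intro h
    obtain ⟨f, hf, hf'⟩ := Algebra.exists_etale_of_isEtaleAt (R := R) q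
    let φ : Localization.Away f →+* Localization.AtPrime q := IsLocalization.Away.lift f
      (IsLocalization.map_units (Localization.AtPrime q) (⟨f, hf⟩ : q.primeCompl))
    let _ := φ.toAlgebra
    have : IsScalarTower S (Localization.Away f) (Localization.AtPrime q) :=
      .of_algebraMap_eq fun x => (IsLocalization.Away.lift_eq f _ x).symm
    have : IsScalarTower R (Localization.Away f) (Localization.AtPrime q) :=
      .to₁₃₄ R S (Localization.Away f) (Localization.AtPrime q)
    have : IsLocalization (Algebra.algebraMapSubmonoid (Localization.Away f) q.primeCompl)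
        (Localization.AtPrime q) :=
      .isLocalization_of_submonoid_le _ _ (Submonoid.powers f) _
        (Submonoid.powers_le.mpr (by simpa using hf))
    have : Module.Flat (Localization.Away f) (Localization.AtPrime q) :=
      IsLocalization.flat _ (Algebra.algebraMapSubmonoid (Localization.Away f) q.primeCompl)
    have hu : Algebra.FormallyUnramified R (Localization.AtPrime q) :=
      have := h
      inferInstance
    exact ⟨Module.Flat.trans R (Localization.Away f) _, hu⟩
  · rintro ⟨hflat, hu⟩
    let p := q.under R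
    let := Localization.AtPrime.algebraOfLiesOver p q
    have : Module.Flat (Localization.AtPrime p) (Localization.AtPrime q) :=
      (Module.flat_iff_of_isLocalization (Localization.AtPrime p) p.primeCompl _).mpr hflat
    have := (isUnramifiedAt_iff_formallyUnramified_localization R S p q).mp hu
    have := formallySmooth_localization R S p q
    have : Algebra.FormallyEtale R (Localization.AtPrime p) :=
      Algebra.FormallyEtale.of_isLocalization p.primeCompl
    have : Algebra.FormallySmooth R (Localization.AtPrime q) :=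
      Algebra.FormallySmooth.comp R (Localization.AtPrime p) _
    exact Algebra.FormallyEtale.iff_formallyUnramified_and_formallySmooth.mpr ⟨hu, this⟩

end Ring

section Scheme

variable {X Y : Scheme.{u}}

/-- The stalk map of `U.ι ≫ f`. -/
theorem stalkMap_restrict_iff {P : ∀ {R S : Type u} [CommRing R] [CommRing S], (R →+* S) → Prop}
    (hP : RingHom.RespectsIso P) (f : X ⟶ Y) (U : X.Opens) (x : X) (hx : x ∈ U) :
    P ((U.ι ≫ f).stalkMap ⟨x, hx⟩).hom ↔ P (f.stalkMap x).hom := by
  rw [Scheme.Hom.stalkMap_comp]
  exact RingHom.RespectsIso.cancel_right_isIso hP _ _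

theorem flat_stalkMap_of_nhd (f : X ⟶ Y) (x : X)
    (h : ∃ U : X.Opens, x ∈ U ∧ Flat (U.ι ≫ f)) : (f.stalkMap x).hom.Flat := by
  obtain ⟨U, hx, hU⟩ := h
  exact (stalkMap_restrict_iff RingHom.Flat.respectsIso f U x hx).mp (Flat.stalkMap _ _)

theorem formallyUnramified_stalkMap_of_nhd (f : X ⟶ Y) (x : X)
    (h : ∃ U : X.Opens, x ∈ U ∧ FormallyUnramified (U.ι ≫ f)) :
    (f.stalkMap x).hom.FormallyUnramified := by
  obtain ⟨U, hx, hU⟩ := h
  exact (stalkMap_restrict_iff RingHom.FormallyUnramified.respectsIso f U x hx).mp
    (FormallyUnramified.stalkMap _ _)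

theorem formallySmooth_stalkMap_of_flat (f : X ⟶ Y) [LocallyOfFinitePresentation f] (x : X)
    (hflat : (f.stalkMap x).hom.Flat) (hu : (f.stalkMap x).hom.FormallyUnramified) :
    (f.stalkMap x).hom.FormallySmooth := by
  obtain ⟨_, ⟨U, hU, rfl⟩, hxU, -⟩ :=
    Y.isBasis_affineOpens.exists_subset_of_mem_open (Set.mem_univ (f x)) isOpen_univ
  obtain ⟨_, ⟨V, hV, rfl⟩, hxV, hVU⟩ :=
    X.isBasis_affineOpens.exists_subset_of_mem_open hxU (U.2.preimage f.continuous)
  have := f.finitePresentation_appLE hU hV hVU
  algebraize [(f.appLE U V hVU).hom]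
  let p := (hU.primeIdealOf ⟨f x, hVU hxV⟩).asIdeal
  let q := (hV.primeIdealOf ⟨x, hxV⟩).asIdeal
  have : q.LiesOver p :=
    ⟨congr($(IsAffineOpen.comap_primeIdealOf_appLE U hU V hV hVU hxV).1).symm⟩
  let := Localization.AtPrime.algebraOfLiesOver p q
  have e := IsAffineOpen.arrowStalkMapIso f U hU V hV hVU hxV
  have : Module.Flat (Localization.AtPrime p) (Localization.AtPrime q) := by
    rw [← RingHom.flat_algebraMap_iff]
    exact (RingHom.Flat.respectsIso.arrow_mk_iso_iff e).mp hflat
  have : Algebra.FormallyUnramified (Localization.AtPrime p) (Localization.AtPrime q) := by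
    rw [← RingHom.formallyUnramified_algebraMap]
    exact (RingHom.FormallyUnramified.respectsIso.arrow_mk_iso_iff e).mp hu
  exact (RingHom.FormallySmooth.respectsIso.arrow_mk_iso_iff e).mpr
    (RingHom.formallySmooth_algebraMap.mpr (formallySmooth_localization _ _ p q))

theorem exists_etale_nhd_iff (f : X ⟶ Y) [LocallyOfFinitePresentation f] (x : X) :
    (∃ U : X.Opens, x ∈ U ∧ Etale (U.ι ≫ f)) ↔
      (f.stalkMap x).hom.Flat ∧ (f.stalkMap x).hom.FormallyUnramified := by
  constructor
  · rintro ⟨U, hx, hU⟩
    exact ⟨flat_stalkMap_of_nhd f x ⟨U, hx, inferInstance⟩,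
      formallyUnramified_stalkMap_of_nhd f x ⟨U, hx, inferInstance⟩⟩
  · rintro ⟨hflat, hu⟩
    exact Groth.Agent.H34.EtaleAt.exists_etale_nhd f x
      (formallySmooth_stalkMap_of_flat f x hflat hu) hu

theorem exists_formallyUnramified_nhd_iff (f : X ⟶ Y) [LocallyOfFiniteType f] (x : X) :
    (∃ U : X.Opens, x ∈ U ∧ FormallyUnramified (U.ι ≫ f)) ↔
      (f.stalkMap x).hom.FormallyUnramified := by
  refine ⟨formallyUnramified_stalkMap_of_nhd f x, fun hu => ?_⟩
  obtain ⟨_, ⟨U, hU, rfl⟩, hxU, -⟩ :=
    Y.isBasis_affineOpens.exists_subset_of_mem_open (Set.mem_univ (f x)) isOpen_univ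
  obtain ⟨_, ⟨V, hV, rfl⟩, hxV, hVU⟩ :=
    X.isBasis_affineOpens.exists_subset_of_mem_open hxU (U.2.preimage f.continuous)
  have := f.finiteType_appLE hU hV hVU
  algebraize [(f.appLE U V hVU).hom]
  let p := (hU.primeIdealOf ⟨f x, hVU hxV⟩).asIdeal
  let q := (hV.primeIdealOf ⟨x, hxV⟩).asIdeal
  have : q.LiesOver p :=
    ⟨congr($(IsAffineOpen.comap_primeIdealOf_appLE U hU V hV hVU hxV).1).symm⟩
  let := Localization.AtPrime.algebraOfLiesOver p q
  have h1 : Algebra.FormallyUnramified (Localization.AtPrime p) (Localization.AtPrime q) := by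
    rw [← RingHom.formallyUnramified_algebraMap]
    exact (RingHom.FormallyUnramified.respectsIso.arrow_mk_iso_iff
      (IsAffineOpen.arrowStalkMapIso f U hU V hV hVU hxV)).1 hu
  have : Algebra.IsUnramifiedAt Γ(Y, U) q :=
    (isUnramifiedAt_iff_formallyUnramified_localization _ _ p q).mpr h1
  obtain ⟨r, hr, hru⟩ := Algebra.exists_formallyUnramified_of_isUnramifiedAt (R := Γ(Y, U)) q
  refine ⟨X.basicOpen r, ?_, ?_⟩
  · have h3 : hV.primeIdealOf ⟨x, hxV⟩ ∈ hV.fromSpec ⁻¹ᵁ X.basicOpen r := by
      rw [hV.fromSpec_preimage_basicOpen]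
      exact hr
    change hV.fromSpec (hV.primeIdealOf ⟨x, hxV⟩) ∈ X.basicOpen r at h3
    rw [hV.fromSpec_primeIdealOf] at h3
    exact h3
  · have e : X.basicOpen r ≤ f ⁻¹ᵁ U := (X.basicOpen_le r).trans hVU
    have := hV.isLocalization_basicOpen r
    have h2 : (f.appLE U (X.basicOpen r) e).hom.FormallyUnramified := by
      rw [← RingHom.formallyUnramified_algebraMap] at hru
      convert! RingHom.FormallyUnramified.respectsIso.1 _
        (IsLocalization.algEquiv (.powers r) _ Γ(X, X.basicOpen r)).toRingEquiv hru
      ext z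
      dsimp
      rw [IsScalarTower.algebraMap_apply Γ(Y, U) Γ(X, V) (Localization.Away r), AlgEquiv.commutes,
        RingHom.algebraMap_toAlgebra, RingHom.algebraMap_toAlgebra, ← ConcreteCategory.comp_apply,
        Scheme.Hom.appLE_map]
    have : IsAffine (U : Scheme.{u}) := hU
    have : IsAffine (X.basicOpen r : Scheme.{u}) := hV.basicOpen r
    have : FormallyUnramified (f.resLE U (X.basicOpen r) e) := by
      rw [HasRingHomProperty.iff_of_isAffine (P := @FormallyUnramified)]
      exact (RingHom.FormallyUnramified.respectsIso.arrow_mk_iso_iff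
        (arrowResLEAppIso f U (X.basicOpen r) e)).mpr h2
    rw [← Scheme.Hom.resLE_comp_ι f e]
    exact MorphismProperty.comp_mem @FormallyUnramified _ _ this inferInstance

end Scheme

end Groth.Agent.Lib.Unram.AtPrime
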