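import Groth.Agent.Lib.Unram.BranchSum
import Groth.Agent.Lib.Henselian.Unibranch
import Groth.Agent.Lib.Henselian.IndEtale
import Groth.Agent.Lib.IndEtale.Basic
import Groth.Agent.Lib.FEt.NormalAlg
import Mathlib.LinearAlgebra.TensorProduct.Quotient
import Mathlib.RingTheory.Ideal.GoingDown

/-!
# Minimal primes of a (strict) henselization are the (geometric) branches
-/

set_option autoImplicit false

universe u

open IsLocalRing
open scoped TensorProduct nonZeroDivisors

namespace Groth.Agent.Lib.Unram.BranchHenselian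

attribute [local instance] Algebra.TensorProduct.rightAlgebra

/-- A localization of an ind-étale algebra over a normal domain is a domain. -/
theorem isDomain_localization (R B : Type u) [CommRing R] [IsDomain R] [IsIntegrallyClosed R]
    [CommRing B] [Algebra R B] (h : EtPBC.IsIndEtale R B) (M : Ideal B) [M.IsPrime] :
    IsDomain (Localization.AtPrime M) := by
  have : NoZeroDivisors (Localization.AtPrime M) := ⟨fun {x y} hxy => by
    obtain ⟨a, s, rfl⟩ := IsLocalization.exists_mk'_eq M.primeCompl x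
    obtain ⟨b, t, rfl⟩ := IsLocalization.exists_mk'_eq M.primeCompl y
    rw [← IsLocalization.mk'_mul, IsLocalization.mk'_eq_zero_iff] at hxy
    obtain ⟨c, hc⟩ := hxy
    let P := MvPolynomial (Fin 3) R
    let r : P := MvPolynomial.X 0 * (MvPolynomial.X 1 * MvPolynomial.X 2)
    let g₀ : P →ₐ[R] B := MvPolynomial.aeval ![(c : B), a, b]
    have hg₀ : g₀ r = 0 := by
      change MvPolynomial.aeval ![(c : B), a, b]
        (MvPolynomial.X 0 * (MvPolynomial.X 1 * MvPolynomial.X 2) : MvPolynomial (Fin 3) R) = 0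
      rw [map_mul, map_mul, MvPolynomial.aeval_X, MvPolynomial.aeval_X, MvPolynomial.aeval_X]
      exact hc
    let C := P ⧸ Ideal.span ({r} : Set P)
    have : Algebra.FinitePresentation R C :=
      Algebra.FinitePresentation.quotient (Submodule.fg_span_singleton r)
    let g : C →ₐ[R] B := Ideal.Quotient.liftₐ _ g₀ fun z hz => by
      obtain ⟨w, rfl⟩ := Ideal.mem_span_singleton'.mp hz
      rw [map_mul, hg₀, mul_zero]
    obtain ⟨E, _, _, hE, u, v, huv⟩ := IndEtale.Basic.factors h C ‹_› g
    have : Algebra.Etale R E := hE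
    let q := M.comap v.toRingHom
    obtain ⟨hdom, -⟩ := FEt.NormalAlg.normal_localization R E q (Localization.AtPrime q)
    let X : Fin 3 → E := fun i => u (Ideal.Quotient.mk _ (MvPolynomial.X i))
    have hvX : ∀ i, v (X i) = ![(c : B), a, b] i := fun i =>
      (AlgHom.congr_fun huv _).trans (MvPolynomial.aeval_X _ i)
    have h0 : X 0 * (X 1 * X 2) = 0 := by
      simp only [X, ← map_mul]
      rw [Ideal.Quotient.eq_zero_iff_mem.mpr (Ideal.mem_span_singleton_self r), map_zero]
    have hc0 : X 0 ∈ q.primeCompl := fun hX => c.2 (by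
      have : v (X 0) ∈ M := hX
      simpa [hvX 0] using this)
    have h1 : algebraMap E (Localization.AtPrime q) (X 1) *
        algebraMap E (Localization.AtPrime q) (X 2) = 0 := by
      rw [← map_mul]
      exact (IsLocalization.map_eq_zero_iff q.primeCompl _ _).mpr ⟨⟨X 0, hc0⟩, h0⟩
    have key : ∀ i, algebraMap E (Localization.AtPrime q) (X i) = 0 →
        ∀ w : M.primeCompl, IsLocalization.mk' (Localization.AtPrime M) (![(c : B), a, b] i) w = 0 := by
      intro i hi w
      obtain ⟨⟨t, ht⟩, ht0⟩ := (IsLocalization.map_eq_zero_iff q.primeCompl _ _).mp hi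
      refine (IsLocalization.mk'_eq_zero_iff _ _).mpr ⟨⟨v t, fun hh => ht hh⟩, ?_⟩
      rw [← hvX i]
      change v t * v (X i) = 0
      rw [← map_mul, ht0, map_zero]
    rcases mul_eq_zero.mp h1 with h2 | h2
    · exact Or.inl (key 1 h2 s)
    · exact Or.inr (key 2 h2 t)⟩
  exact NoZeroDivisors.to_isDomain _

/-- For an algebra integral over a henselian local ring whose localizations at maximal ideals are
domains, minimal primes correspond to maximal ideals. -/
theorem exists_maximal_equiv_minimal (S B : Type u) [CommRing S] [HenselianLocalRing S] [CommRing B]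
    [Algebra S B] [Algebra.IsIntegral S B]
    (h : ∀ (M : Ideal B) [M.IsMaximal], IsDomain (Localization.AtPrime M)) :
    Nonempty (minimalPrimes B ≃ MaximalSpectrum B) := by
  have hloc : ∀ q : Ideal B, q.IsPrime → IsLocalRing (B ⧸ q) := fun q _ => by
    have : Algebra.IsIntegral S (B ⧸ q) := ⟨fun x => by
      obtain ⟨x, rfl⟩ := Ideal.Quotient.mk_surjective x
      exact (Algebra.IsIntegral.isIntegral (R := S) x).map (Ideal.Quotient.mkₐ S q)⟩
    exact Henselian.Unibranch.isLocalRing_of_isDomain S (B ⧸ q)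
  have huniq : ∀ q : Ideal B, q.IsPrime → ∃! M : MaximalSpectrum B, q ≤ M.asIdeal := by
    intro q hq
    have := hloc q hq
    obtain ⟨M, hM, hqM⟩ := Ideal.exists_le_maximal q hq.ne_top
    refine ⟨⟨M, hM⟩, hqM, fun N hN => MaximalSpectrum.ext ?_⟩
    have key : ∀ (L : Ideal B), L.IsMaximal → q ≤ L →
        L = (maximalIdeal (B ⧸ q)).comap (Ideal.Quotient.mk q) := by
      intro L hL hqL
      have hsurj : Function.Surjective (Ideal.Quotient.mk q) := Ideal.Quotient.mk_surjective
      have hcm : (L.map (Ideal.Quotient.mk q)).comap (Ideal.Quotient.mk q) = L := by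
        rw [Ideal.comap_map_of_surjective _ hsurj, ← RingHom.ker_eq_comap_bot, Ideal.mk_ker,
          sup_eq_left.mpr hqL]
      have hmax : (L.map (Ideal.Quotient.mk q)).IsMaximal := by
        refine (Ideal.map_eq_top_or_isMaximal_of_surjective _ hsurj hL).resolve_left fun ht => ?_
        rw [ht, Ideal.comap_top] at hcm
        exact hL.ne_top hcm.symm
      rw [← eq_maximalIdeal hmax, hcm]
    exact (key _ N.isMaximal hN).trans (key _ hM hqM).symm
  choose f hf hf' using fun q : minimalPrimes B => huniq q.1 q.2.1.1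
  -- the kernel of `B → B_M`
  have hK : ∀ M : MaximalSpectrum B, ∀ q : Ideal B, q.IsPrime → q ≤ M.asIdeal →
      haveI := M.isMaximal
      RingHom.ker (algebraMap B (Localization.AtPrime M.asIdeal)) ≤ q := by
    intro M q hq hqM
    have := M.isMaximal
    intro x hx
    obtain ⟨s, hs⟩ := (IsLocalization.map_eq_zero_iff M.asIdeal.primeCompl _ _).mp hx
    exact (hq.mem_or_mem (hs ▸ q.zero_mem : (s : B) * x ∈ q)).resolve_left fun hsq => s.2 (hqM hsq)
  have hKp : ∀ M : MaximalSpectrum B,
      haveI := M.isMaximal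
      (RingHom.ker (algebraMap B (Localization.AtPrime M.asIdeal))).IsPrime ∧
        RingHom.ker (algebraMap B (Localization.AtPrime M.asIdeal)) ≤ M.asIdeal := by
    intro M
    have := M.isMaximal
    have := h M.asIdeal
    refine ⟨RingHom.ker_isPrime _, fun x hx => ?_⟩
    by_contra hxM
    have := IsLocalization.map_units (Localization.AtPrime M.asIdeal) (⟨x, hxM⟩ : M.asIdeal.primeCompl)
    rw [show algebraMap B (Localization.AtPrime M.asIdeal) x = 0 from hx] at this
    exact not_isUnit_zero this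
  refine ⟨Equiv.ofBijective f ⟨fun q₁ q₂ he => Subtype.ext ?_, fun M => ?_⟩⟩
  · have key : ∀ q : minimalPrimes B,
        haveI := (f q).isMaximal
        q.1 = RingHom.ker (algebraMap B (Localization.AtPrime (f q).asIdeal)) := fun q => by
      have := (f q).isMaximal
      exact le_antisymm (q.2.2 ⟨(hKp (f q)).1, bot_le⟩ (hK _ _ q.2.1.1 (hf q))) (hK _ _ q.2.1.1 (hf q))
    have := key q₁
    have := key q₂
    exact le_antisymm
      ((key q₁).le.trans (hK (f q₁) _ q₂.2.1.1 (he ▸ hf q₂)))
      ((key q₂).le.trans (hK (f q₂) _ q₁.2.1.1 (he.symm ▸ hf q₁)))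
  · have := M.isMaximal
    obtain ⟨hp, hle⟩ := hKp M
    obtain ⟨q, hq, hqK⟩ := Ideal.exists_minimalPrimes_le (I := (⊥ : Ideal B))
      (J := RingHom.ker (algebraMap B (Localization.AtPrime M.asIdeal))) bot_le
    exact ⟨⟨q, hq⟩, (hf' ⟨q, hq⟩ M (hqK.trans hle)).symm⟩

section Fibre

variable (A S A' : Type u) [CommRing A] [CommRing S] [Algebra A S] [CommRing A'] [Algebra A A']

theorem isIntegral_right [Algebra.IsIntegral A A'] : Algebra.IsIntegral S (A' ⊗[A] S) :=
  ⟨fun x => by
    have h := (Algebra.IsIntegral.isIntegral (R := S)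
      ((Algebra.TensorProduct.commRight A S A').symm x)).map (Algebra.TensorProduct.commRight A S A').toAlgHom
    simpa using h⟩

theorem comap_minimalPrime_mem [Module.Flat A S] {q : Ideal S} (hq : q ∈ minimalPrimes S) :
    q.comap (algebraMap A S) ∈ minimalPrimes A := by
  have := hq.1.1
  obtain ⟨r, hr, hrq⟩ := Ideal.exists_minimalPrimes_le (I := (⊥ : Ideal A))
    (J := q.comap (algebraMap A S)) bot_le
  have := hr.1.1
  have : q.LiesOver (q.comap (algebraMap A S)) := ⟨rfl⟩
  obtain ⟨Q, hQ, hQp, hQr⟩ := q.exists_ideal_le_liesOver_of_le (p := r) (q := q.comap (algebraMap A S)) hrq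
  obtain rfl : Q = q := le_antisymm hQ (hq.2 ⟨hQp, bot_le⟩ hQ)
  exact (show r = Q.comap (algebraMap A S) from hQr.over) ▸ hr

/-- Minimal primes over a minimal prime `p` via a birational integral extension of `A ⧸ p`. -/
theorem exists_minimalPrimes_equiv [Module.Flat A S] [IsDomain A'] [Algebra.IsIntegral A A']
    (p : Ideal A) [p.IsPrime] (hp : p ∈ minimalPrimes A)
    (hker : RingHom.ker (algebraMap A A') = p)
    (hbir : ∀ x : A', ∃ d ∉ p, ∃ a : A, d • x = algebraMap A A' a) :
    Nonempty (minimalPrimes (A' ⊗[A] S) ≃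
      {q : minimalPrimes S // q.1.comap (algebraMap A S) = p}) := by
  let B := A' ⊗[A] S
  let iR : S →+* B := algebraMap S B
  let iL : A' →+* B := Algebra.TensorProduct.includeLeftRingHom
  have := isIntegral_right A S A'
  have hcomm : ∀ a : A, iR (algebraMap A S a) = iL (algebraMap A A' a) := fun a => by
    change (1 : A') ⊗ₜ[A] algebraMap A S a = algebraMap A A' a ⊗ₜ[A] (1 : S)
    rw [Algebra.algebraMap_eq_smul_one, Algebra.algebraMap_eq_smul_one, TensorProduct.smul_tmul]
  -- minimal primes of `B` meet `A'` in zero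
  have hA' : ∀ Q ∈ minimalPrimes B, ∀ x : A', iL x ∈ Q → x = 0 := by
    intro Q hQ x hx
    by_contra hx0
    have hinj := Module.Flat.rTensor_preserves_injective_linearMap (M := S)
      (LinearMap.mulLeft A x) (fun y z hyz => mul_left_cancel₀ hx0 hyz)
    have hnzd : iL x ∈ B⁰ := mem_nonZeroDivisors_iff_left.mpr fun z hz => hinj (by
      rw [map_zero, ← hz]
      clear hz
      induction z using TensorProduct.induction_on with
      | zero => simp
      | tmul y s =>
        change (x * y) ⊗ₜ[A] s = (x ⊗ₜ[A] (1 : S)) * (y ⊗ₜ[A] s)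
        rw [Algebra.TensorProduct.tmul_mul_tmul, one_mul]
      | add y z hy hz => rw [map_add, hy, hz, mul_add])
    exact (Set.disjoint_left.mp (Ideal.disjoint_nonZeroDivisors_of_mem_minimalPrimes hQ)) hx hnzd
  have hover : ∀ Q ∈ minimalPrimes B, (Q.comap iR).comap (algebraMap A S) = p := by
    intro Q hQ
    ext a
    rw [Ideal.mem_comap, Ideal.mem_comap, hcomm, ← hker, RingHom.mem_ker]
    exact ⟨hA' Q hQ _, fun h0 => by rw [h0, map_zero]; exact Q.zero_mem⟩
  have hclear : ∀ x : B, ∃ d ∉ p, ∃ s : S, iR (algebraMap A S d) * x = iR s := by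
    intro x
    induction x using TensorProduct.induction_on with
    | zero => exact ⟨1, fun h1 => Ideal.IsPrime.ne_top ‹_› ((Ideal.eq_top_iff_one p).mpr h1), 0, by simp⟩
    | tmul y s =>
      obtain ⟨d, hd, a, hda⟩ := hbir y
      refine ⟨d, hd, algebraMap A S a * s, ?_⟩
      rw [map_mul, hcomm, hcomm, ← hda]
      change (algebraMap A A' d ⊗ₜ[A] (1 : S)) * (y ⊗ₜ s) = ((d • y) ⊗ₜ[A] (1 : S)) * (1 ⊗ₜ s)
      rw [Algebra.TensorProduct.tmul_mul_tmul, Algebra.TensorProduct.tmul_mul_tmul, one_mul, mul_one,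
        Algebra.smul_def]
    | add x y hx hy =>
      obtain ⟨d, hd, s, hs⟩ := hx
      obtain ⟨e, he, t, ht⟩ := hy
      refine ⟨d * e, fun h => (Ideal.IsPrime.mem_or_mem ‹_› h).elim hd he,
        algebraMap A S e * s + algebraMap A S d * t, ?_⟩
      simp only [map_mul, map_add, ← hs, ← ht]
      ring
  have hle : ∀ Q₁ Q₂ : Ideal B, Q₁ ∈ minimalPrimes B → Q₂ ∈ minimalPrimes B →
      Q₁.comap iR ≤ Q₂.comap iR → Q₁ ≤ Q₂ := by
    intro Q₁ Q₂ h₁ h₂ hle x hx
    obtain ⟨d, hd, s, hs⟩ := hclear x
    have h3 : iR s ∈ Q₂ := hle (show s ∈ Q₁.comap iR from by rw [Ideal.mem_comap, ← hs]; exact Q₁.mul_mem_left _ hx)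
    rw [← hs] at h3
    exact (h₂.1.1.mem_or_mem h3).resolve_left fun h4 =>
      hd ((hover Q₂ h₂).le (show d ∈ (Q₂.comap iR).comap (algebraMap A S) from h4))
  -- the kernel of `S → B`
  have hkerR : RingHom.ker iR ≤ p.map (algebraMap A S) := by
    intro s hs
    let l : (A ⧸ p) →ₗ[A] A' := p.liftQ (Algebra.linearMap A A') (le_of_eq (by rw [← hker]; rfl))
    have hl : Function.Injective l := LinearMap.ker_eq_bot.mp (Submodule.ker_liftQ_eq_bot _ _ _
      (le_of_eq (by rw [← hker]; rfl)))
    have h := Module.Flat.rTensor_preserves_injective_linearMap (M := S) l hl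
    have h0 : (Ideal.Quotient.mk p 1) ⊗ₜ[A] s = 0 := h (by
      rw [map_zero, LinearMap.rTensor_tmul]
      have : l (Ideal.Quotient.mk p 1) = 1 := (Submodule.liftQ_apply _ _ _).trans (map_one (algebraMap A A'))
      rw [this]
      exact hs)
    have h1 := congrArg (TensorProduct.quotTensorEquivQuotSMul S p) h0
    rw [map_zero, TensorProduct.quotTensorEquivQuotSMul_mk_tmul, one_smul, Submodule.Quotient.mk_eq_zero,
      Ideal.smul_top_eq_map] at h1
    exact h1
  -- primes over `p` lift
  have hsurj : ∀ q : Ideal S, q ∈ minimalPrimes S → q.comap (algebraMap A S) = p →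
      ∃ Q ∈ minimalPrimes B, Q.comap iR = q := by
    intro q hq hqp
    have := hq.1.1
    have hle0 : (⊥ : Ideal B).comap iR ≤ q := by
      rw [← RingHom.ker_eq_comap_bot]
      exact hkerR.trans (Ideal.map_le_iff_le_comap.mpr hqp.ge)
    obtain ⟨Q', -, hQ', hQ'q⟩ := Ideal.exists_ideal_over_prime_of_isIntegral (R := S) q ⊥ hle0
    obtain ⟨Q, hQ, hQQ'⟩ := Ideal.exists_minimalPrimes_le (I := (⊥ : Ideal B)) (J := Q') bot_le
    have := hQ.1.1
    exact ⟨Q, hQ, le_antisymm ((Ideal.comap_mono hQQ').trans hQ'q.le)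
      (hq.2 ⟨Ideal.comap_isPrime _ _, bot_le⟩ ((Ideal.comap_mono hQQ').trans hQ'q.le))⟩
  have hmem : ∀ Q : minimalPrimes B, Q.1.comap iR ∈ minimalPrimes S := by
    intro Q
    have := Q.2.1.1
    obtain ⟨q₀, hq₀, hle₀⟩ := Ideal.exists_minimalPrimes_le (I := (⊥ : Ideal S))
      (J := Q.1.comap iR) bot_le
    have hq₀p : q₀.comap (algebraMap A S) = p :=
      le_antisymm ((Ideal.comap_mono hle₀).trans (hover Q.1 Q.2).le)
        (hp.2 ⟨(comap_minimalPrime_mem A S hq₀).1.1, bot_le⟩
          ((Ideal.comap_mono hle₀).trans (hover Q.1 Q.2).le))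
    obtain ⟨Q₀, hQ₀, hQ₀q⟩ := hsurj q₀ hq₀ hq₀p
    have h1 : Q₀ ≤ Q.1 := hle Q₀ Q.1 hQ₀ Q.2 (hQ₀q.le.trans hle₀)
    obtain rfl : Q.1 = Q₀ := le_antisymm (Q.2.2 ⟨hQ₀.1.1, bot_le⟩ h1) h1
    exact hQ₀q ▸ hq₀
  let F : minimalPrimes B → {q : minimalPrimes S // q.1.comap (algebraMap A S) = p} :=
    fun Q => ⟨⟨Q.1.comap iR, hmem Q⟩, hover Q.1 Q.2⟩
  refine ⟨Equiv.ofBijective F ⟨fun Q₁ Q₂ h => Subtype.ext ?_, fun q => ?_⟩⟩
  · have h' : Q₁.1.comap iR = Q₂.1.comap iR := congrArg (fun z => z.1.1) h
    exact le_antisymm (hle _ _ Q₁.2 Q₂.2 h'.le) (hle _ _ Q₂.2 Q₁.2 h'.ge)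
  · obtain ⟨Q, hQ, hQq⟩ := hsurj q.1.1 q.1.2 q.2
    exact ⟨⟨Q, hQ⟩, Subtype.ext (Subtype.ext hQq)⟩

end Fibre

section MaxSpec

variable (A S A' : Type u) [CommRing A] [IsLocalRing A] [CommRing S] [IsLocalRing S] [Algebra A S]
  [IsLocalHom (algebraMap A S)] [CommRing A'] [Algebra A A'] [Algebra.IsIntegral A A']

/-- Maximal ideals after tensoring with a residually trivial local algebra. -/
theorem exists_maximal_equiv_of_residue
    (hres : ∀ s : S, ∃ a, s - algebraMap A S a ∈ maximalIdeal S) :
    Nonempty (MaximalSpectrum (A' ⊗[A] S) ≃ MaximalSpectrum A') := by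
  let B := A' ⊗[A] S
  let iR : S →+* B := algebraMap S B
  let iL : A' →+* B := Algebra.TensorProduct.includeLeftRingHom
  have := isIntegral_right A S A'
  have hmS : ∀ M : MaximalSpectrum B, ∀ z ∈ maximalIdeal S, iR z ∈ M.asIdeal := fun M z hz => by
    have := M.isMaximal
    exact (eq_maximalIdeal (Ideal.isMaximal_comap_of_isIntegral_of_isMaximal (R := S) M.asIdeal)).ge hz
  have key : ∀ x : B, ∃ r : A', ∀ M : MaximalSpectrum B, x - iL r ∈ M.asIdeal := by
    intro x
    induction x using TensorProduct.induction_on with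
    | zero => exact ⟨0, fun M => by simp⟩
    | tmul y s =>
      obtain ⟨a, ha⟩ := hres s
      refine ⟨a • y, fun M => ?_⟩
      have e : y ⊗ₜ[A] s - iL (a • y) = iL y * iR (s - algebraMap A S a) := by
        change y ⊗ₜ[A] s - (a • y) ⊗ₜ[A] (1 : S) = (y ⊗ₜ[A] (1 : S)) * (1 ⊗ₜ[A] (s - algebraMap A S a))
        rw [Algebra.TensorProduct.tmul_mul_tmul, mul_one, one_mul, TensorProduct.tmul_sub,
          Algebra.algebraMap_eq_smul_one, TensorProduct.smul_tmul]
      rw [e]
      exact Ideal.mul_mem_left _ _ (hmS M _ ha)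
    | add x y hx hy =>
      obtain ⟨a, ha⟩ := hx
      obtain ⟨b, hb⟩ := hy
      exact ⟨a + b, fun M => by rw [map_add, add_sub_add_comm]; exact add_mem (ha M) (hb M)⟩
  let F : MaximalSpectrum B → MaximalSpectrum A' := fun M => ⟨M.asIdeal.comap iL, by
    have := M.isMaximal
    let := Ideal.Quotient.field M.asIdeal
    have hsurj : Function.Surjective ((Ideal.Quotient.mk M.asIdeal).comp iL) := fun z => by
      obtain ⟨x, rfl⟩ := Ideal.Quotient.mk_surjective z
      obtain ⟨r, hr⟩ := key x
      exact ⟨r, (Ideal.Quotient.eq.mpr (hr M)).symm⟩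
    have := RingHom.ker_isMaximal_of_surjective _ hsurj
    rwa [← RingHom.comap_ker, Ideal.mk_ker] at this⟩
  refine ⟨Equiv.ofBijective F ⟨fun M N h => MaximalSpectrum.ext (Ideal.ext fun x => ?_), fun m => ?_⟩⟩
  · obtain ⟨r, hr⟩ := key x
    have h1 : ∀ L : MaximalSpectrum B, x ∈ L.asIdeal ↔ iL r ∈ L.asIdeal := fun L =>
      ⟨fun hx => by simpa using sub_mem hx (hr L), fun hx => by simpa using add_mem (hr L) hx⟩
    rw [h1, h1, ← Ideal.mem_comap, ← Ideal.mem_comap, show M.asIdeal.comap iL = N.asIdeal.comap iL from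
      congrArg MaximalSpectrum.asIdeal h]
  · have := m.isMaximal
    have hm : m.asIdeal.comap (algebraMap A A') = maximalIdeal A :=
      eq_maximalIdeal (Ideal.isMaximal_comap_of_isIntegral_of_isMaximal m.asIdeal)
    let ψ₀ : ResidueField A →+* A' ⧸ m.asIdeal :=
      Ideal.quotientMap m.asIdeal (algebraMap A A') hm.ge
    let η := RingEquiv.ofBijective (ResidueField.map (algebraMap A S)) ⟨RingHom.injective _, fun z => by
      obtain ⟨s, rfl⟩ := residue_surjective z
      obtain ⟨a, ha⟩ := hres s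
      exact ⟨residue A a, (Ideal.Quotient.eq.mpr ha).symm⟩⟩
    let ψ : S →+* A' ⧸ m.asIdeal := ψ₀.comp (η.symm.toRingHom.comp (residue S))
    let gS : S →ₐ[A] A' ⧸ m.asIdeal := ⟨ψ, fun a => by
      have : η.symm (residue S (algebraMap A S a)) = residue A a :=
        (RingEquiv.symm_apply_eq η).mpr (ResidueField.map_residue (algebraMap A S) a).symm
      change ψ₀ (η.symm (residue S (algebraMap A S a))) = _
      rw [this]
      rfl⟩
    let τ : B →ₐ[A] A' ⧸ m.asIdeal := Algebra.TensorProduct.lift (Ideal.Quotient.mkₐ A m.asIdeal) gS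
      fun _ _ => Commute.all _ _
    have hτ : ∀ r, τ (iL r) = Ideal.Quotient.mk m.asIdeal r := fun r => by
      change Algebra.TensorProduct.lift _ _ _ (r ⊗ₜ[A] (1 : S)) = _
      rw [Algebra.TensorProduct.lift_tmul, map_one, mul_one]
      rfl
    let := Ideal.Quotient.field m.asIdeal
    have hsurj : Function.Surjective τ.toRingHom := fun z => by
      obtain ⟨r, rfl⟩ := Ideal.Quotient.mk_surjective z
      exact ⟨iL r, hτ r⟩
    refine ⟨⟨RingHom.ker τ.toRingHom, RingHom.ker_isMaximal_of_surjective _ hsurj⟩,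
      MaximalSpectrum.ext (Ideal.ext fun r => ?_)⟩
    change τ (iL r) = 0 ↔ r ∈ m.asIdeal
    rw [hτ, Ideal.Quotient.eq_zero_iff_mem]

/-- Maximal ideals after tensoring with a henselization. -/
theorem exists_maximal_equiv_henselization [Hensel.IsHenselization A S] :
    Nonempty (MaximalSpectrum (A' ⊗[A] S) ≃ MaximalSpectrum A') :=
  exists_maximal_equiv_of_residue A S A' (Henselian.Henselization.exists_sub_mem A S)

/-- Maximal ideals after tensoring with a local algebra with separably closed residue field. -/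
theorem exists_maximal_equiv_of_sepClosed [IsSepClosed (ResidueField S)]
    [Algebra.IsSeparable (ResidueField A) (ResidueField S)]
    (Ω : Type u) [Field Ω] [IsAlgClosed Ω] (c : A →+* Ω) (hc : ∀ a ∈ maximalIdeal A, c a = 0) :
    Nonempty (MaximalSpectrum (A' ⊗[A] S) ≃
      {τ : A' →+* Ω // τ.comp (algebraMap A A') = c}) := by
  let B := A' ⊗[A] S
  let iR : S →+* B := algebraMap S B
  let iL : A' →+* B := Algebra.TensorProduct.includeLeftRingHom
  have := isIntegral_right A S A'
  let : Algebra A Ω := c.toAlgebra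
  let : Algebra (ResidueField A) Ω := (Ideal.Quotient.lift (maximalIdeal A) c hc).toAlgebra
  let ι : ResidueField S →ₐ[ResidueField A] Ω := IsAlgClosed.lift
  let c' : S →+* Ω := ι.toRingHom.comp (residue S)
  have hc' : ∀ a, c' (algebraMap A S a) = c a := fun a => by
    change ι (residue S (algebraMap A S a)) = c a
    rw [show residue S (algebraMap A S a) = algebraMap (ResidueField A) (ResidueField S) (residue A a)
      from rfl, ι.commutes]
    rfl
  -- maximal ideals as homomorphisms
  have hmax : ∀ τ : {τ : B →+* Ω // τ.comp iR = c'}, (RingHom.ker τ.1).IsMaximal := fun τ => by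
    have hp : (RingHom.ker τ.1).IsPrime := RingHom.ker_isPrime _
    refine Ideal.isMaximal_of_isIntegral_of_isMaximal_comap (R := S) _ ?_
    have : (RingHom.ker τ.1).comap (algebraMap S B) = maximalIdeal S := by
      rw [RingHom.comap_ker, show τ.1.comp (algebraMap S B) = c' from τ.2]
      ext s
      rw [RingHom.mem_ker, RingHom.comp_apply, map_eq_zero, residue_eq_zero_iff]
    exact this ▸ maximalIdeal.isMaximal S
  let G : {τ : B →+* Ω // τ.comp iR = c'} → MaximalSpectrum B := fun τ => ⟨RingHom.ker τ.1, hmax τ⟩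
  have hG : Function.Bijective G := by
    have key : ∀ M : MaximalSpectrum B, ∃! σ : B ⧸ M.asIdeal →+* Ω,
        σ.comp ((Ideal.Quotient.mk M.asIdeal).comp iR) = c' := by
      intro M
      have := M.isMaximal
      let := Ideal.Quotient.field M.asIdeal
      have hle : ∀ s ∈ maximalIdeal S, ((Ideal.Quotient.mk M.asIdeal).comp iR) s = 0 := fun s hs =>
        Ideal.Quotient.eq_zero_iff_mem.mpr
          ((eq_maximalIdeal (Ideal.isMaximal_comap_of_isIntegral_of_isMaximal (R := S) M.asIdeal)).ge hs)
      let : Algebra (ResidueField S) (B ⧸ M.asIdeal) :=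
        (Ideal.Quotient.lift (maximalIdeal S) ((Ideal.Quotient.mk M.asIdeal).comp iR) hle).toAlgebra
      have : IsScalarTower S (ResidueField S) (B ⧸ M.asIdeal) :=
        IsScalarTower.of_algebraMap_eq fun s => rfl
      have : Algebra.IsIntegral S (B ⧸ M.asIdeal) := ⟨fun x => by
        obtain ⟨x, rfl⟩ := Ideal.Quotient.mk_surjective x
        exact (Algebra.IsIntegral.isIntegral (R := S) x).map (Ideal.Quotient.mkₐ S M.asIdeal)⟩
      have : Algebra.IsAlgebraic (ResidueField S) (B ⧸ M.asIdeal) :=
        ⟨fun x => ((Algebra.IsIntegral.isIntegral (R := S) x).tower_top).isAlgebraic⟩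
      have : IsPurelyInseparable (ResidueField S) (B ⧸ M.asIdeal) := inferInstance
      let : Algebra (ResidueField S) Ω := ι.toRingHom.toAlgebra
      let σ₀ : B ⧸ M.asIdeal →ₐ[ResidueField S] Ω := IsAlgClosed.lift
      refine ⟨σ₀.toRingHom, RingHom.ext fun s => σ₀.commutes (residue S s), fun σ hσ => ?_⟩
      refine IsPurelyInseparable.injective_comp_algebraMap (ResidueField S) (B ⧸ M.asIdeal) Ω ?_
      refine (RingHom.cancel_right (Ideal.Quotient.mk_surjective (I := maximalIdeal S))).mp ?_
      refine RingHom.ext fun s => ?_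
      exact (RingHom.congr_fun hσ s).trans (σ₀.commutes (residue S s)).symm
    constructor
    · intro τ₁ τ₂ h
      have hk : RingHom.ker τ₁.1 = RingHom.ker τ₂.1 := congrArg MaximalSpectrum.asIdeal h
      let σ₁ : B ⧸ (G τ₁).asIdeal →+* Ω := Ideal.Quotient.lift _ τ₁.1 fun x hx => hx
      let σ₂ : B ⧸ (G τ₁).asIdeal →+* Ω := Ideal.Quotient.lift _ τ₂.1 fun x hx => hk.le hx
      have heq : σ₁ = σ₂ := (key (G τ₁)).unique (RingHom.ext fun s => RingHom.congr_fun τ₁.2 s)
        (RingHom.ext fun s => RingHom.congr_fun τ₂.2 s)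
      exact Subtype.ext (RingHom.ext fun x => RingHom.congr_fun heq (Ideal.Quotient.mk _ x))
    · intro M
      have := M.isMaximal
      obtain ⟨σ, hσ, -⟩ := key M
      refine ⟨⟨σ.comp (Ideal.Quotient.mk M.asIdeal), by rw [RingHom.comp_assoc]; exact hσ⟩,
        MaximalSpectrum.ext ?_⟩
      let := Ideal.Quotient.field M.asIdeal
      change RingHom.ker (σ.comp (Ideal.Quotient.mk M.asIdeal)) = M.asIdeal
      rw [← RingHom.comap_ker, (RingHom.injective_iff_ker_eq_bot σ).mp σ.injective,
        ← RingHom.ker_eq_comap_bot, Ideal.mk_ker]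
  -- homomorphisms out of the tensor product
  let gS : S →ₐ[A] Ω := ⟨c', hc'⟩
  let L : {τ : A' →+* Ω // τ.comp (algebraMap A A') = c} → (B →ₐ[A] Ω) := fun g =>
    Algebra.TensorProduct.productMap (⟨g.1, fun a => RingHom.congr_fun g.2 a⟩ : A' →ₐ[A] Ω) gS
  have hL : ∀ g y s, L g (y ⊗ₜ[A] s) = g.1 y * c' s := fun g y s =>
    Algebra.TensorProduct.productMap_apply_tmul _ _ y s
  let H : {τ : B →+* Ω // τ.comp iR = c'} ≃ {τ : A' →+* Ω // τ.comp (algebraMap A A') = c} :=
    { toFun := fun τ => ⟨τ.1.comp iL, RingHom.ext fun a => by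
        have h1 : iL (algebraMap A A' a) = iR (algebraMap A S a) := by
          change algebraMap A A' a ⊗ₜ[A] (1 : S) = (1 : A') ⊗ₜ[A] algebraMap A S a
          rw [Algebra.algebraMap_eq_smul_one, Algebra.algebraMap_eq_smul_one, TensorProduct.smul_tmul]
        rw [RingHom.comp_apply, RingHom.comp_apply, h1]
        exact (RingHom.congr_fun τ.2 _).trans (hc' a)⟩
      invFun := fun g => ⟨(L g).toRingHom, RingHom.ext fun s => by
        change L g ((1 : A') ⊗ₜ[A] s) = c' s
        rw [hL, map_one, one_mul]⟩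
      left_inv := fun τ => Subtype.ext (RingHom.ext fun x => by
        change L _ x = τ.1 x
        induction x using TensorProduct.induction_on with
        | zero => rw [map_zero, map_zero]
        | tmul y s =>
          rw [hL]
          have e : y ⊗ₜ[A] s = iL y * iR s := by
            change y ⊗ₜ[A] s = (y ⊗ₜ[A] (1 : S)) * ((1 : A') ⊗ₜ[A] s)
            rw [Algebra.TensorProduct.tmul_mul_tmul, mul_one, one_mul]
          rw [e, map_mul]
          exact congrArg (τ.1 (iL y) * ·) (RingHom.congr_fun τ.2 s).symm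
        | add x y hx hy => rw [map_add, map_add, hx, hy])
      right_inv := fun g => Subtype.ext (RingHom.ext fun y => by
        change L g (y ⊗ₜ[A] (1 : S)) = g.1 y
        rw [hL, map_one, mul_one]) }
  exact ⟨(Equiv.ofBijective G hG).symm.trans H⟩

/-- Maximal ideals after tensoring with a strict henselization. -/
theorem exists_maximal_equiv_strictHenselization [hS : Hensel.IsStrictHenselization A S]
    (Ω : Type u) [Field Ω] [IsAlgClosed Ω] (c : A →+* Ω) (hc : ∀ a ∈ maximalIdeal A, c a = 0) :
    Nonempty (MaximalSpectrum (A' ⊗[A] S) ≃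
      {τ : A' →+* Ω // τ.comp (algebraMap A A') = c}) :=
  have := hS.isSepClosure.sep_closed
  have := hS.isSepClosure.separable
  exists_maximal_equiv_of_sepClosed A S A' Ω c hc

end MaxSpec

section Count

variable (A S : Type u) [CommRing A] [IsLocalRing A] [CommRing S] [IsLocalRing S] [Algebra A S]
  [IsLocalHom (algebraMap A S)]

/-- Sum over the minimal primes of the base. -/
theorem card_minimalPrimes_eq [Module.FaithfullyFlat A S] (N : Ideal A → ℕ∞)
    (hN : ∀ p : minimalPrimes A,
      ENat.card {q : minimalPrimes S // q.1.comap (algebraMap A S) = p.1} = N p.1) :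
    ((minimalPrimes A).Finite → ENat.card (minimalPrimes S) = ∑ᶠ p : minimalPrimes A, N p.1) ∧
      (¬ (minimalPrimes A).Finite → ENat.card (minimalPrimes S) = ⊤) := by
  let f : minimalPrimes S → minimalPrimes A := fun q =>
    ⟨q.1.comap (algebraMap A S), comap_minimalPrime_mem A S q.2⟩
  constructor
  · intro h
    have : Finite (minimalPrimes A) := h.to_subtype
    rw [← ENat.card_congr (Equiv.sigmaFiberEquiv f), BranchSum.card_sigma]
    refine finsum_congr fun p => ?_
    rw [← hN p]
    exact ENat.card_congr (Equiv.subtypeEquivRight fun q => Subtype.ext_iff)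
  · intro h
    have hf : Function.Surjective f := fun p => by
      have := p.2.1.1
      obtain ⟨Q, hQ⟩ := PrimeSpectrum.comap_surjective_of_faithfullyFlat (A := A) (B := S) ⟨p.1, this⟩
      obtain ⟨q, hq, hqQ⟩ := Ideal.exists_minimalPrimes_le (I := (⊥ : Ideal S)) (J := Q.asIdeal) bot_le
      have hle : q.comap (algebraMap A S) ≤ p.1 :=
        (Ideal.comap_mono hqQ).trans (congrArg PrimeSpectrum.asIdeal hQ).le
      exact ⟨⟨q, hq⟩, Subtype.ext (le_antisymm hle
        (p.2.2 ⟨(comap_minimalPrime_mem A S hq).1.1, bot_le⟩ hle))⟩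
    have : Infinite (minimalPrimes A) := Set.infinite_coe_iff.mpr h
    have : Infinite (minimalPrimes S) := Infinite.of_surjective f hf
    exact ENat.card_eq_top_of_infinite

variable (p : Ideal A) [p.IsPrime]

/-- The normalisation of `A ⧸ p` as an `A`-algebra. -/
noncomputable abbrev normAlg : Algebra A (CAlg2.normRed (A ⧸ p)) :=
  ((BranchSum.toNorm (A ⧸ p)).comp (Ideal.Quotient.mk p)).toAlgebra

theorem normalization_props :
    letI := normAlg A p
    IsDomain (CAlg2.normRed (A ⧸ p)) ∧ IsIntegrallyClosed (CAlg2.normRed (A ⧸ p)) ∧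
      Algebra.IsIntegral A (CAlg2.normRed (A ⧸ p)) ∧
      RingHom.ker (algebraMap A (CAlg2.normRed (A ⧸ p))) = p ∧
      ∀ x : CAlg2.normRed (A ⧸ p), ∃ d ∉ p, ∃ a : A,
        d • x = algebraMap A (CAlg2.normRed (A ⧸ p)) a := by
  let := normAlg A p
  have hnil : nilradical (A ⧸ p) = ⊥ := nilradical_eq_zero _
  have : (nilradical (A ⧸ p)).IsPrime := hnil ▸ Ideal.bot_prime
  let R := CAlg2.red (A ⧸ p)
  have : IsDomain R := Ideal.Quotient.isDomain _
  let K := FractionRing R
  let e : A →+* R := (Ideal.Quotient.mk (nilradical (A ⧸ p))).comp (Ideal.Quotient.mk p)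
  have he : ∀ a, e a = 0 ↔ a ∈ p := fun a => by
    rw [RingHom.comp_apply, Ideal.Quotient.eq_zero_iff_mem, hnil, Ideal.mem_bot,
      Ideal.Quotient.eq_zero_iff_mem]
  have hRK : Function.Injective (algebraMap R K) := IsFractionRing.injective R K
  refine ⟨inferInstanceAs (IsDomain (integralClosure R K)), integralClosure.isIntegrallyClosedOfFiniteExtension K,
    ⟨RingHom.IsIntegral.trans _ _ (RingHom.isIntegral_of_surjective _ Ideal.Quotient.mk_surjective)
      (BranchSum.toNorm_isIntegral (A ⧸ p))⟩, ?_, fun x => ?_⟩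
  · ext a
    rw [RingHom.mem_ker, ← he]
    exact ⟨fun h => hRK (by rw [map_zero]; exact congrArg Subtype.val h),
      fun h => Subtype.ext (show algebraMap R K (e a) = 0 by rw [h, map_zero])⟩
  · obtain ⟨⟨n, d⟩, hnd⟩ := IsLocalization.surj R⁰ (x.1 : K)
    obtain ⟨n', rfl⟩ := (Ideal.Quotient.mk_surjective.comp Ideal.Quotient.mk_surjective : Function.Surjective e) n
    obtain ⟨d', hd'⟩ := (Ideal.Quotient.mk_surjective.comp Ideal.Quotient.mk_surjective : Function.Surjective e) d
    refine ⟨d', fun h => nonZeroDivisors.coe_ne_zero d (hd'.symm.trans ((he d').mpr h)), n', ?_⟩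
    rw [Algebra.smul_def]
    refine Subtype.ext ?_
    change algebraMap R K (e d') * x.1 = algebraMap R K (e n')
    rw [show e d' = (d : R) from hd', mul_comm]
    exact hnd

theorem card_fibre_of_isDomain [Module.Flat A S] [HenselianLocalRing S]
    (hdom : letI := normAlg A p
      ∀ (M : Ideal (CAlg2.normRed (A ⧸ p) ⊗[A] S)) [M.IsMaximal], IsDomain (Localization.AtPrime M))
    (hp : p ∈ minimalPrimes A) :
    letI := normAlg A p
    ENat.card {q : minimalPrimes S // q.1.comap (algebraMap A S) = p} =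
      ENat.card (MaximalSpectrum (CAlg2.normRed (A ⧸ p) ⊗[A] S)) := by
  let := normAlg A p
  obtain ⟨_, _, _, hker, hbir⟩ := normalization_props A p
  obtain ⟨E⟩ := exists_minimalPrimes_equiv A S (CAlg2.normRed (A ⧸ p)) p hp hker hbir
  have := isIntegral_right A S (CAlg2.normRed (A ⧸ p))
  obtain ⟨F⟩ := exists_maximal_equiv_minimal S (CAlg2.normRed (A ⧸ p) ⊗[A] S) hdom
  exact (ENat.card_congr E).symm.trans (ENat.card_congr F)

theorem card_fibre [Module.Flat A S] [HenselianLocalRing S] (hind : EtPBC.IsIndEtale A S)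
    (hp : p ∈ minimalPrimes A) :
    letI := normAlg A p
    ENat.card {q : minimalPrimes S // q.1.comap (algebraMap A S) = p} =
      ENat.card (MaximalSpectrum (CAlg2.normRed (A ⧸ p) ⊗[A] S)) := by
  let := normAlg A p
  obtain ⟨_, _, -, -, -⟩ := normalization_props A p
  exact card_fibre_of_isDomain A S p (fun M _ => isDomain_localization (CAlg2.normRed (A ⧸ p)) _
    (IndEtale.Basic.baseChange (CAlg2.normRed (A ⧸ p)) hind) M) hp

end Count

/-- Minimal primes of the henselization are branches. -/
theorem card_minimalPrimes_henselization (A S : Type u) [CommRing A] [IsLocalRing A] [CommRing S]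
    [IsLocalRing S] [Algebra A S] [IsLocalHom (algebraMap A S)] [hS : Hensel.IsHenselization A S] :
    ENat.card (minimalPrimes S) = Brnch.numBranches A := by
  classical
  have := hS.henselian
  have := Henselian.Henselization.faithfullyFlat A S
  have hind : EtPBC.IsIndEtale A S := IndEtale.Basic.of_algEquiv Henselian.IndEtale.isIndEtale_lim
    (Henselian.Henselization.equivOfIsHenselization A S)
  let N : Ideal A → ℕ∞ := fun p => if _ : p.IsPrime then ENat.card (MaximalSpectrum (CAlg2.normRed (A ⧸ p))) else 0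
  obtain ⟨hfin, hinf⟩ := card_minimalPrimes_eq A S N fun p => by
    have hp := p.2.1.1
    let := normAlg A p.1
    obtain ⟨-, -, _, -, -⟩ := normalization_props A p.1
    rw [card_fibre A S p.1 hind p.2]
    obtain ⟨E⟩ := exists_maximal_equiv_henselization A S (CAlg2.normRed (A ⧸ p.1))
    simp only [N, dif_pos hp]
    exact ENat.card_congr E
  by_cases h : (minimalPrimes A).Finite
  · rw [hfin h, BranchSum.numBranches_eq_finsum A h]
    refine finsum_congr fun p => ?_
    have hp := p.2.1.1
    simp only [N, dif_pos hp]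
    unfold Brnch.numBranches
    rw [if_pos (BranchSum.minimalPrimes_finite_quotient A p.1)]
  · rw [hinf h, Brnch.numBranches, if_neg h]

/-- Minimal primes of the strict henselization are geometric branches. -/
theorem card_minimalPrimes_strictHenselization (A S : Type u) [CommRing A] [IsLocalRing A]
    [CommRing S] [IsLocalRing S] [Algebra A S] [IsLocalHom (algebraMap A S)]
    [hS : Hensel.IsStrictHenselization A S] :
    ENat.card (minimalPrimes S) = Brnch.numGeomBranches A := by
  classical
  have := hS.henselian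
  have := Henselian.StrictHenselization.faithfullyFlat A S
  have hind : EtPBC.IsIndEtale A S := IndEtale.Basic.of_algEquiv Henselian.IndEtale.isIndEtale_lim
    (Henselian.StrictHenselization.equivOfIsStrictHenselization A S)
  let N : Ideal A → ℕ∞ := fun p => if _ : p.IsPrime then Brnch.numGeomBranches (A ⧸ p) else 0
  obtain ⟨hfin, hinf⟩ := card_minimalPrimes_eq A S N fun p => by
    have hp := p.2.1.1
    let := normAlg A p.1
    obtain ⟨-, -, _, -, -⟩ := normalization_props A p.1
    rw [card_fibre A S p.1 hind p.2]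
    let c := (Brnch.toClosure (A ⧸ p.1)).comp (Ideal.Quotient.mk p.1)
    have hc : ∀ a ∈ maximalIdeal A, c a = 0 := fun a ha => by
      have hloc : IsLocalHom (Ideal.Quotient.mk p.1) := IsLocalHom.of_surjective _ Ideal.Quotient.mk_surjective
      change algebraMap (ResidueField (A ⧸ p.1)) _ (residue _ (Ideal.Quotient.mk p.1 a)) = 0
      rw [(residue_eq_zero_iff _).mpr fun hu => ha (isUnit_of_map_unit _ a hu), map_zero]
    obtain ⟨E⟩ := exists_maximal_equiv_strictHenselization A S (CAlg2.normRed (A ⧸ p.1)) _ c hc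
    obtain ⟨E₀⟩ := BranchSum.exists_emb_equiv (A ⧸ p.1)
    simp only [N, dif_pos hp]
    unfold Brnch.numGeomBranches
    rw [if_pos (BranchSum.minimalPrimes_finite_quotient A p.1), ENat.card_congr E₀]
    exact ENat.card_congr (E.trans (Equiv.subtypeEquivRight fun τ => by
      change τ.comp ((BranchSum.toNorm (A ⧸ p.1)).comp (Ideal.Quotient.mk p.1)) = c ↔ _
      rw [← RingHom.comp_assoc]
      exact RingHom.cancel_right Ideal.Quotient.mk_surjective))
  by_cases h : (minimalPrimes A).Finite
  · rw [hfin h, BranchSum.numGeomBranches_eq_finsum A h]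
    refine finsum_congr fun p => ?_
    simp only [N, dif_pos p.2.1.1]
  · rw [hinf h, Brnch.numGeomBranches, if_neg h]

end Groth.Agent.Lib.Unram.BranchHenselian
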