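import Groth.Agent.Lib.Unram.PuncturedHenselian
import Groth.Agent.Lib.Unram.BranchHenselian
import Groth.Agent.Lib.Henselian.Permanence
import Groth.Agent.Lib.Excellent.CompletionNoetherian
import Groth.Agent.Lib.FSAdic.Completion
import Groth.Agent.Lib.Regular.Completion
import Mathlib.RingTheory.AdicCompletion.AsTensorProduct
import Mathlib.RingTheory.AdicCompletion.LocalRing

/-!
# Branches of a completion
-/

set_option autoImplicit false

universe u

open IsLocalRing
open scoped TensorProduct

namespace Groth.Agent.Lib.Unram.CompletionBranch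

attribute [local instance] Algebra.TensorProduct.rightAlgebra

/-- A map of ind-étale algebras over a flat extension of the bases is flat. -/
theorem flat_of_indEtale (A A' S T : Type u) [CommRing A] [CommRing A'] [CommRing S] [CommRing T]
    [Algebra A A'] [Algebra A S] [Algebra A' T] [Algebra S T] [Algebra A T] [IsScalarTower A A' T]
    [IsScalarTower A S T] [Module.Flat A A'] (hS : EtPBC.IsIndEtale A S) (hT : EtPBC.IsIndEtale A' T) :
    Module.Flat S T := by
  let B := A' ⊗[A] S
  let φ : B →ₐ[A'] T := Algebra.TensorProduct.lift (Algebra.ofId A' T) (IsScalarTower.toAlgHom A S T)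
    fun _ _ => Commute.all _ _
  let : Algebra B T := φ.toRingHom.toAlgebra
  have : IsScalarTower A' B T := IsScalarTower.of_algebraMap_eq fun a => (φ.commutes a).symm
  have : IsScalarTower S B T := IsScalarTower.of_algebraMap_eq fun s => by
    change algebraMap S T s = φ ((1 : A') ⊗ₜ[A] s)
    change _ = Algebra.TensorProduct.lift _ _ _ ((1 : A') ⊗ₜ[A] s)
    rw [Algebra.TensorProduct.lift_tmul, map_one, one_mul]
    rfl
  have : Module.Flat B T := IndEtale.Basic.flat (IndEtale.Basic.factors
    (IndEtale.Basic.cancel (IndEtale.Basic.baseChange A' hS) hT))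
  have : Module.Flat S B := Module.Flat.of_linearEquiv (R := S)
    (Algebra.TensorProduct.commRight A S A').symm.toLinearEquiv
  exact Module.Flat.trans S B T

section General

variable (S E : Type u) [CommRing S] [CommRing E] [Algebra S E]

theorem exists_minimalPrime_comap_eq [Module.FaithfullyFlat S E] (q : Ideal S)
    (hq : q ∈ minimalPrimes S) :
    ∃ Q ∈ minimalPrimes E, Q.comap (algebraMap S E) = q := by
  have := hq.1.1
  obtain ⟨P, hP⟩ := PrimeSpectrum.comap_surjective_of_faithfullyFlat (A := S) (B := E) ⟨q, this⟩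
  obtain ⟨Q, hQ, hQP⟩ := Ideal.exists_minimalPrimes_le (I := (⊥ : Ideal E)) (J := P.asIdeal) bot_le
  have hle : Q.comap (algebraMap S E) ≤ q :=
    (Ideal.comap_mono hQP).trans (congrArg PrimeSpectrum.asIdeal hP).le
  exact ⟨Q, hQ, le_antisymm hle
    (hq.2 ⟨(BranchHenselian.comap_minimalPrime_mem S E hQ).1.1, bot_le⟩ hle)⟩

theorem mapsTo_surjOn [Module.FaithfullyFlat S E] :
    Set.MapsTo (Ideal.comap (algebraMap S E)) (minimalPrimes E) (minimalPrimes S) ∧
      Set.SurjOn (Ideal.comap (algebraMap S E)) (minimalPrimes E) (minimalPrimes S) :=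
  ⟨fun _ hQ => BranchHenselian.comap_minimalPrime_mem S E hQ,
    fun q hq => by
      obtain ⟨Q, hQ, h⟩ := exists_minimalPrime_comap_eq S E q hq
      exact ⟨Q, hQ, h⟩⟩

theorem card_le [Module.FaithfullyFlat S E] :
    ENat.card (minimalPrimes S) ≤ ENat.card (minimalPrimes E) := by
  choose f hf hf' using fun q : minimalPrimes S => exists_minimalPrime_comap_eq S E q.1 q.2
  exact ENat.card_le_card_of_injective (f := fun q => (⟨f q, hf q⟩ : minimalPrimes E)) fun a b h =>
    Subtype.ext (by rw [← hf' a, ← hf' b]; exact congrArg (Ideal.comap _) (congrArg Subtype.val h))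

theorem card_eq_iff [Module.FaithfullyFlat S E] [IsNoetherianRing E] :
    ENat.card (minimalPrimes S) = ENat.card (minimalPrimes E) ↔
      ∀ q ∈ minimalPrimes S, (q.map (algebraMap S E)).radical.IsPrime := by
  have hfinE : Finite (minimalPrimes E) := (minimalPrimes.finite_of_isNoetherianRing E).to_subtype
  let F : minimalPrimes E → minimalPrimes S :=
    fun Q => ⟨Q.1.comap (algebraMap S E), BranchHenselian.comap_minimalPrime_mem S E Q.2⟩
  have hFs : Function.Surjective F := fun q => by
    obtain ⟨Q, hQ, h⟩ := exists_minimalPrime_comap_eq S E q.1 q.2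
    exact ⟨⟨Q, hQ⟩, Subtype.ext h⟩
  have hfinS : Finite (minimalPrimes S) := Finite.of_surjective F hFs
  have hmem : ∀ q : minimalPrimes S, ∀ P ∈ (q.1.map (algebraMap S E)).minimalPrimes,
      ∃ hP : P ∈ minimalPrimes E, F ⟨P, hP⟩ = q := by
    intro q P hP
    have := hP.1.1
    have := q.2.1.1
    have hle : q.1 ≤ P.comap (algebraMap S E) := Ideal.map_le_iff_le_comap.mp hP.1.2
    have : P.LiesOver (P.comap (algebraMap S E)) := ⟨rfl⟩
    obtain ⟨P₁, hP₁, hP₁p, hP₁q⟩ :=
      P.exists_ideal_le_liesOver_of_le (p := q.1) (q := P.comap (algebraMap S E)) hle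
    obtain rfl : P₁ = P := le_antisymm hP₁
      (hP.2 ⟨hP₁p, Ideal.map_le_iff_le_comap.mpr hP₁q.over.le⟩ hP₁)
    have hq : P₁.comap (algebraMap S E) = q.1 := hP₁q.over.symm
    obtain ⟨Q, hQ, hQP⟩ := Ideal.exists_minimalPrimes_le (I := (⊥ : Ideal E)) (J := P₁) bot_le
    have hQq : q.1 ≤ Q.comap (algebraMap S E) :=
      q.2.2 ⟨(BranchHenselian.comap_minimalPrime_mem S E hQ).1.1, bot_le⟩
        ((Ideal.comap_mono hQP).trans hq.le)
    obtain rfl : Q = P₁ := le_antisymm hQP
      (hP.2 ⟨hQ.1.1, Ideal.map_le_iff_le_comap.mpr hQq⟩ hQP)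
    exact ⟨hQ, Subtype.ext hq⟩
  constructor
  · intro h q hq
    have := hq.1.1
    have hcard : Nat.card (minimalPrimes S) = Nat.card (minimalPrimes E) := by
      rw [ENat.card_eq_coe_natCard, ENat.card_eq_coe_natCard] at h
      exact_mod_cast h
    have hinj : Function.Injective F :=
      (hFs.bijective_of_nat_card_le hcard.symm.le).1
    obtain ⟨Q, hQ, hQq⟩ := exists_minimalPrime_comap_eq S E q hq
    have : (q.map (algebraMap S E)).radical = Q := by
      refine le_antisymm ((Ideal.IsPrime.radical_le_iff hQ.1.1).mpr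
        (Ideal.map_le_iff_le_comap.mpr hQq.ge)) ?_
      rw [← Ideal.sInf_minimalPrimes]
      refine le_sInf fun P hP => ?_
      obtain ⟨hP', hPF⟩ := hmem ⟨q, hq⟩ P hP
      exact (congrArg Subtype.val (hinj (hPF.trans (Subtype.ext hQq).symm : F ⟨P, hP'⟩ = F ⟨Q, hQ⟩))).ge
    exact this ▸ hQ.1.1
  · intro h
    refine (ENat.card_congr (Equiv.ofBijective F ⟨fun Q₁ Q₂ he => ?_, hFs⟩)).symm
    have key : ∀ Q : minimalPrimes E, ((F Q).1.map (algebraMap S E)).radical = Q.1 := fun Q => by
      have hle : ((F Q).1.map (algebraMap S E)).radical ≤ Q.1 :=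
        (Ideal.IsPrime.radical_le_iff Q.2.1.1).mpr Ideal.map_comap_le
      exact le_antisymm hle (Q.2.2 ⟨h _ (F Q).2, bot_le⟩ hle)
    exact Subtype.ext (by rw [← key Q₁, he, key Q₂])

variable [IsLocalRing S] [IsLocalRing E]

theorem hres_of_comp {A : Type u} [CommRing A] (f : A →+* S) (g : A →+* E)
    (h : (algebraMap S E).comp f = g) (hres : ∀ x : E, ∃ a, x - g a ∈ maximalIdeal E) :
    ∀ x : E, ∃ d, x - algebraMap S E d ∈ maximalIdeal E := fun x => by
  obtain ⟨a, ha⟩ := hres x
  exact ⟨f a, by rw [← RingHom.comp_apply, h]; exact ha⟩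

/-- A one-dimensional minimal component of `E` comes from a minimal prime of the henselian base. -/
theorem radical_map_comap_eq [HenselianLocalRing S] [IsNoetherianRing S] [IsNoetherianRing E]
    [Module.Flat S E] (hmax : (maximalIdeal S).map (algebraMap S E) = maximalIdeal E)
    (hres : ∀ x : E, ∃ d, x - algebraMap S E d ∈ maximalIdeal E)
    (q : Ideal E) (hq : q ∈ minimalPrimes E) (hdim : ringKrullDim (E ⧸ q) ≤ 1) :
    ((q.comap (algebraMap S E)).map (algebraMap S E)).radical = q := by
  classical
  have := hq.1.1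
  set p := q.comap (algebraMap S E)
  have : p.IsPrime := Ideal.comap_isPrime _ _
  let I := p.map (algebraMap S E)
  have hIq : I ≤ q := Ideal.map_comap_le
  refine le_antisymm ((Ideal.IsPrime.radical_le_iff hq.1.1).mpr hIq) ?_
  rw [← Ideal.sInf_minimalPrimes]
  refine le_sInf fun P hP => ?_
  by_contra hne
  have hPp := hP.1.1
  rcases eq_or_ne q (maximalIdeal E) with hqm | hqm
  · refine hne (hqm.le.trans ?_)
    have hp : p = maximalIdeal S := by
      change q.comap _ = _
      rw [hqm, PuncturedHenselian.comap_maximalIdeal_eq S E hmax]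
    rw [← hmax, ← hp]
    exact hP.1.2
  have hqI : q ∈ I.minimalPrimes := ⟨⟨hq.1.1, hIq⟩, fun R hR hRq => hq.2 ⟨hR.1, bot_le⟩ hRq⟩
  -- work over the henselian domain `S ⧸ p`
  have hI : I ≤ maximalIdeal E := hIq.trans (le_maximalIdeal hq.1.1.ne_top)
  have : Nontrivial (E ⧸ I) := Ideal.Quotient.nontrivial_iff.mpr fun h' =>
    (maximalIdeal.isMaximal E).ne_top (top_le_iff.mp (h' ▸ hI))
  have : IsLocalRing (E ⧸ I) := IsLocalRing.of_surjective' (Ideal.Quotient.mk I) Ideal.Quotient.mk_surjective
  have : IsLocalRing (S ⧸ p) := IsLocalRing.of_surjective' (Ideal.Quotient.mk p) Ideal.Quotient.mk_surjective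
  have : HenselianLocalRing (S ⧸ p) := Henselian.LocalRing.henselianLocalRing_of_isIntegral S _
  have : Module.Flat (S ⧸ p) (E ⧸ I) :=
    Module.Flat.of_linearEquiv (R := S ⧸ p) (Algebra.TensorProduct.quotIdealMapEquivQuotTensor E p).toLinearEquiv
  have hmaxS : (maximalIdeal S).map (Ideal.Quotient.mk p) = maximalIdeal (S ⧸ p) :=
    IsLocalRing.map_maximalIdeal_of_surjective _ Ideal.Quotient.mk_surjective
  have hmaxE : (maximalIdeal E).map (Ideal.Quotient.mk I) = maximalIdeal (E ⧸ I) :=
    IsLocalRing.map_maximalIdeal_of_surjective _ Ideal.Quotient.mk_surjective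
  have hmax' : (maximalIdeal (S ⧸ p)).map (algebraMap (S ⧸ p) (E ⧸ I)) = maximalIdeal (E ⧸ I) := by
    rw [← hmaxS, Ideal.map_map, show (algebraMap (S ⧸ p) (E ⧸ I)).comp (Ideal.Quotient.mk p) =
      (Ideal.Quotient.mk I).comp (algebraMap S E) from RingHom.ext fun a => rfl, ← Ideal.map_map, hmax,
      hmaxE]
  have hres' : ∀ x : E ⧸ I, ∃ d, x - algebraMap (S ⧸ p) (E ⧸ I) d ∈ maximalIdeal (E ⧸ I) := fun x => by
    obtain ⟨x, rfl⟩ := Ideal.Quotient.mk_surjective x
    obtain ⟨d, hd⟩ := hres x
    refine ⟨Ideal.Quotient.mk p d, ?_⟩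
    rw [← hmaxE]
    exact (map_sub (Ideal.Quotient.mk I) x _) ▸ Ideal.mem_map_of_mem _ hd
  have hc := (PuncturedHenselian.isPreconnected_punctured_of_isDomain (S ⧸ p) (E ⧸ I) hmax' hres').image
    (PrimeSpectrum.comap (Ideal.Quotient.mk I)) (PrimeSpectrum.continuous_comap _).continuousOn
  rw [isPreconnected_closed_iff] at hc
  have hfin : I.minimalPrimes.Finite := I.finite_minimalPrimes_of_isNoetherianRing E
  let t' : Set (PrimeSpectrum E) := ⋃ R ∈ I.minimalPrimes \ {q}, PrimeSpectrum.zeroLocus (R : Set E)
  have hpt : ∀ x : PrimeSpectrum E, I ≤ x.asIdeal → x ≠ closedPoint E →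
      x ∈ PrimeSpectrum.comap (Ideal.Quotient.mk I) '' ({closedPoint (E ⧸ I)}ᶜ) := by
    intro x hx hne'
    have hxr : x ∈ Set.range (PrimeSpectrum.comap (Ideal.Quotient.mk I)) := by
      rw [range_comap_of_surjective _ _ Ideal.Quotient.mk_surjective, PrimeSpectrum.mem_zeroLocus,
        Ideal.mk_ker]
      exact hx
    obtain ⟨y, rfl⟩ := hxr
    refine ⟨y, fun hy => hne' ?_, rfl⟩
    rw [Set.mem_singleton_iff.mp hy]
    have : (closedPoint (E ⧸ I)).asIdeal.IsMaximal := maximalIdeal.isMaximal _
    exact PrimeSpectrum.ext (eq_maximalIdeal (Ideal.comap_isMaximal_of_surjective _ Ideal.Quotient.mk_surjective))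
  have hPm : P ≠ maximalIdeal E := fun h => hne (h ▸ le_maximalIdeal hq.1.1.ne_top)
  obtain ⟨w, ⟨y, hy, hyw⟩, hwq, hw'⟩ := hc (PrimeSpectrum.zeroLocus q) t' (PrimeSpectrum.isClosed_zeroLocus _)
    ((hfin.sdiff).isClosed_biUnion fun R _ => PrimeSpectrum.isClosed_zeroLocus _) (by
      rintro x ⟨y, -, rfl⟩
      have hIx : I ≤ (PrimeSpectrum.comap (Ideal.Quotient.mk I) y).asIdeal := fun a ha => by
        change Ideal.Quotient.mk I a ∈ y.asIdeal
        rw [Ideal.Quotient.eq_zero_iff_mem.mpr ha]
        exact zero_mem _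
      obtain ⟨R, hR, hRx⟩ := Ideal.exists_minimalPrimes_le hIx
      rcases eq_or_ne R q with rfl | h
      · exact Or.inl hRx
      · exact Or.inr (Set.mem_biUnion (show R ∈ I.minimalPrimes \ {q} from ⟨hR, h⟩) hRx))
    ⟨⟨q, hq.1.1⟩, hpt _ hIq fun h => hqm (congrArg PrimeSpectrum.asIdeal h), le_refl q⟩
    ⟨⟨P, hPp⟩, hpt _ hP.1.2 fun h => hPm (congrArg PrimeSpectrum.asIdeal h),
      Set.mem_biUnion (show P ∈ I.minimalPrimes \ {q} from ⟨hP, fun h => hne (le_of_eq h.symm)⟩) (le_refl P)⟩
  obtain ⟨R, ⟨hR, hRq⟩, hRw⟩ := Set.mem_iUnion₂.mp hw'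
  -- `w` lies strictly above `q`, hence is the closed point
  have hlt : q < w.asIdeal := lt_of_le_of_ne hwq fun h =>
    hRq (le_antisymm (hRw.trans h.ge) (hqI.2 ⟨hR.1.1, hR.1.2⟩ (hRw.trans h.ge)))
  have hwm : w.asIdeal ≠ maximalIdeal E := fun h => by
    refine hy (PrimeSpectrum.comap_injective_of_surjective _ Ideal.Quotient.mk_surjective ?_)
    have : (closedPoint (E ⧸ I)).asIdeal.IsMaximal := maximalIdeal.isMaximal _
    rw [hyw, show PrimeSpectrum.comap (Ideal.Quotient.mk I) (closedPoint (E ⧸ I)) = closedPoint E from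
      PrimeSpectrum.ext (eq_maximalIdeal (Ideal.comap_isMaximal_of_surjective _ Ideal.Quotient.mk_surjective))]
    exact PrimeSpectrum.ext h
  have hlt' : w.asIdeal < maximalIdeal E := lt_of_le_of_ne (le_maximalIdeal w.isPrime.ne_top) hwm
  have : Ring.KrullDimLE 1 (E ⧸ q) := Ring.krullDimLE_iff.mpr hdim
  have hbad : ((w.asIdeal.map (Ideal.Quotient.mk q))).IsMaximal := by
    have hp' : (w.asIdeal.map (Ideal.Quotient.mk q)).IsPrime :=
      Ideal.map_isPrime_of_surjective Ideal.Quotient.mk_surjective (by rw [Ideal.mk_ker]; exact hwq)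
    refine hp'.isMaximal_of_ne_bot ?_
    intro h
    rw [Ideal.map_eq_bot_iff_le_ker, Ideal.mk_ker] at h
    exact hlt.not_ge h
  have := Ideal.comap_isMaximal_of_surjective (Ideal.Quotient.mk q) Ideal.Quotient.mk_surjective (K := w.asIdeal.map (Ideal.Quotient.mk q))
  rw [Ideal.comap_map_of_surjective _ Ideal.Quotient.mk_surjective, ← RingHom.ker_eq_comap_bot,
    Ideal.mk_ker, sup_eq_left.mpr hwq] at this
  exact hwm (eq_maximalIdeal this)

theorem card_eq_of_dim_le_one [HenselianLocalRing S] [IsNoetherianRing S] [IsNoetherianRing E]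
    [Module.Flat S E] (hmax : (maximalIdeal S).map (algebraMap S E) = maximalIdeal E)
    (hres : ∀ x : E, ∃ d, x - algebraMap S E d ∈ maximalIdeal E) (hdim : ringKrullDim E ≤ 1) :
    ENat.card (minimalPrimes S) = ENat.card (minimalPrimes E) := by
  have := PuncturedHenselian.faithfullyFlat S E hmax
  refine (card_eq_iff S E).mpr fun q hq => ?_
  obtain ⟨Q, hQ, rfl⟩ := exists_minimalPrime_comap_eq S E q hq
  rw [radical_map_comap_eq S E hmax hres Q hQ
    ((ringKrullDim_quotient_le Q).trans hdim)]
  exact hQ.1.1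

end General

/-! ## The completion -/

variable (A : Type u) [CommRing A] [IsLocalRing A] [IsNoetherianRing A]

local notation "Ah" => AdicCompletion (maximalIdeal A) A

instance henselianLocalRing_completion : HenselianLocalRing Ah :=
  Henselian.LocalRing.henselianLocalRing_of_henselianRing

theorem completion_res (x : Ah) : ∃ a : A, x - algebraMap A Ah a ∈ maximalIdeal Ah := by
  obtain ⟨a, ha⟩ := FSAdic.Completion.exists_sub_mem (IsNoetherian.noetherian (maximalIdeal A)) 1 x
  refine ⟨a, ?_⟩
  rwa [pow_one, ← AdicCompletion.maximalIdeal_eq_map] at ha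

theorem completion_self : Hensel.IsHenselization Ah Ah where
  henselian := inferInstance
  universal _ _ _ f _ := ⟨f, RingHom.comp_id f, fun g hg => by simpa using hg⟩

theorem numBranches_completion : Brnch.numBranches Ah = ENat.card (minimalPrimes Ah) := by
  have := completion_self A
  exact (BranchHenselian.card_minimalPrimes_henselization Ah Ah).symm

section Hens

variable (S : Type u) [CommRing S] [IsLocalRing S] [Algebra A S] [IsLocalHom (algebraMap A S)]
  [hS : Hensel.IsHenselization A S]

/-- Properties of the canonical map from the henselization to the completion. -/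
theorem henselization_props (ψ : S →+* Ah) (hψ : ψ.comp (algebraMap A S) = algebraMap A Ah) :
    letI := ψ.toAlgebra
    Module.Flat S Ah ∧ Module.FaithfullyFlat S Ah ∧
      (maximalIdeal S).map (algebraMap S Ah) = maximalIdeal Ah ∧
      ∀ x : Ah, ∃ d, x - algebraMap S Ah d ∈ maximalIdeal Ah := by
  let := ψ.toAlgebra
  have : IsScalarTower A S Ah := IsScalarTower.of_algebraMap_eq fun a => (RingHom.congr_fun hψ a).symm
  have hflat : Module.Flat S Ah := flat_of_indEtale A Ah S Ah
    (IndEtale.Basic.of_algEquiv Henselian.IndEtale.isIndEtale_lim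
      (Henselian.Henselization.equivOfIsHenselization A S))
    IndEtale.Basic.of_etale
  have hmax : (maximalIdeal S).map (algebraMap S Ah) = maximalIdeal Ah := by
    rw [← Henselian.Henselization.map_maximalIdeal A S, Ideal.map_map, ← IsScalarTower.algebraMap_eq,
      AdicCompletion.maximalIdeal_eq_map]
  exact ⟨hflat, PuncturedHenselian.faithfullyFlat S Ah hmax, hmax,
    hres_of_comp S Ah (algebraMap A S) (algebraMap A Ah) hψ (completion_res A)⟩

theorem mapsTo_surjOn_completion (ψ : S →+* Ah) (hψ : ψ.comp (algebraMap A S) = algebraMap A Ah) :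
    Set.MapsTo (Ideal.comap ψ) (minimalPrimes Ah) (minimalPrimes S) ∧
      Set.SurjOn (Ideal.comap ψ) (minimalPrimes Ah) (minimalPrimes S) := by
  let := ψ.toAlgebra
  obtain ⟨-, _, -, -⟩ := henselization_props A S ψ hψ
  exact mapsTo_surjOn S Ah

theorem numBranches_eq_iff (ψ : S →+* Ah) (hψ : ψ.comp (algebraMap A S) = algebraMap A Ah) :
    Brnch.numBranches A = Brnch.numBranches Ah ↔ ∀ q ∈ minimalPrimes S, (q.map ψ).radical.IsPrime := by
  let := ψ.toAlgebra
  obtain ⟨-, _, -, -⟩ := henselization_props A S ψ hψ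
  rw [numBranches_completion, ← BranchHenselian.card_minimalPrimes_henselization A S]
  exact card_eq_iff S Ah

theorem exists_radical_eq (ψ : S →+* Ah) (hψ : ψ.comp (algebraMap A S) = algebraMap A Ah)
    (q : Ideal Ah) (hq : q ∈ minimalPrimes Ah) (hdim : ringKrullDim (Ah ⧸ q) ≤ 1) :
    ∃ q' ∈ minimalPrimes S, (q'.map ψ).radical = q := by
  let := ψ.toAlgebra
  obtain ⟨_, _, hmax, hres⟩ := henselization_props A S ψ hψ
  have := hS.henselian
  have := Henselian.Permanence.isNoetherianRing A S
  exact ⟨_, BranchHenselian.comap_minimalPrime_mem S Ah hq,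
    radical_map_comap_eq S Ah hmax hres q hq hdim⟩

theorem isPreconnected_punctured_completion_iff :
    IsPreconnected ({closedPoint Ah}ᶜ : Set (PrimeSpectrum Ah)) ↔
      IsPreconnected ({closedPoint S}ᶜ : Set (PrimeSpectrum S)) := by
  obtain ⟨ψ, hψ, -⟩ := hS.universal Ah (algebraMap A Ah) inferInstance
  let := ψ.toAlgebra
  obtain ⟨_, _, hmax, hres⟩ := henselization_props A S ψ hψ
  have := hS.henselian
  have := Henselian.Permanence.isNoetherianRing A S
  exact PuncturedHenselian.isPreconnected_punctured_iff S Ah hmax hres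

end Hens

/-- The map of strict henselizations. -/
theorem exists_strict_map :
    ∃ g : Henselian.StrictHenselization.StrictHenselization A →+*
        Henselian.StrictHenselization.StrictHenselization Ah,
      letI := g.toAlgebra
      Module.Flat (Henselian.StrictHenselization.StrictHenselization A)
        (Henselian.StrictHenselization.StrictHenselization Ah) ∧
      (maximalIdeal (Henselian.StrictHenselization.StrictHenselization A)).map g =
        maximalIdeal (Henselian.StrictHenselization.StrictHenselization Ah) ∧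
      ∀ x, ∃ d, x - g d ∈ maximalIdeal (Henselian.StrictHenselization.StrictHenselization Ah) := by
  let S := Henselian.StrictHenselization.StrictHenselization A
  let T := Henselian.StrictHenselization.StrictHenselization Ah
  have hS : Hensel.IsStrictHenselization A S := inferInstance
  have hT : Hensel.IsStrictHenselization Ah T := inferInstance
  have := hS.isSepClosure.sep_closed
  have := hS.isSepClosure.separable
  have := hT.isSepClosure.sep_closed
  have := hT.isSepClosure.separable
  let f : A →+* T := (algebraMap Ah T).comp (algebraMap A Ah)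
  have : IsLocalHom f := RingHom.isLocalHom_comp _ _
  let : Algebra (ResidueField A) (ResidueField T) := (ResidueField.map f).toAlgebra
  have : Algebra.IsSeparable (ResidueField A) (ResidueField T) := by
    let e : ResidueField A ≃+* ResidueField Ah :=
      RingEquiv.ofBijective (ResidueField.map (algebraMap A Ah))
        (AdicCompletion.residueField_map_bijective_of_fg (IsNoetherian.noetherian _))
    refine Algebra.IsSeparable.of_equiv_equiv e.symm (RingEquiv.refl (ResidueField T)) ?_
    refine RingHom.ext fun y => ?_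
    obtain ⟨y, rfl⟩ := e.surjective y
    obtain ⟨a, rfl⟩ := residue_surjective y
    simp only [RingHom.coe_comp, RingEquiv.coe_toRingHom, Function.comp_apply, RingEquiv.symm_apply_apply,
      RingEquiv.refl_apply]
    rfl
  let τ : ResidueField S →ₐ[ResidueField A] ResidueField T := IsSepClosed.lift
  obtain ⟨g, ⟨hg, hgτ⟩, -⟩ := hS.universal T f τ.toRingHom (RingHom.ext fun x => τ.commutes x)
  refine ⟨g, ?_⟩
  let : Algebra S T := g.toAlgebra
  let : Algebra A T := f.toAlgebra
  have : IsScalarTower A Ah T := IsScalarTower.of_algebraMap_eq fun a => rfl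
  have : IsScalarTower A S T := IsScalarTower.of_algebraMap_eq fun a => (RingHom.congr_fun hg a).symm
  refine ⟨flat_of_indEtale A Ah S T Henselian.IndEtale.isIndEtale_lim Henselian.IndEtale.isIndEtale_lim, ?_, fun x => ?_⟩
  · rw [← Henselian.StrictHenselization.map_maximalIdeal A S, Ideal.map_map, hg,
      ← Henselian.StrictHenselization.map_maximalIdeal Ah T, AdicCompletion.maximalIdeal_eq_map,
      Ideal.map_map]
  · let : Algebra (ResidueField S) (ResidueField T) := τ.toRingHom.toAlgebra
    have : IsScalarTower (ResidueField A) (ResidueField S) (ResidueField T) :=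
      IsScalarTower.of_algebraMap_eq fun y => (τ.commutes y).symm
    have : Algebra.IsSeparable (ResidueField S) (ResidueField T) :=
      Algebra.isSeparable_tower_top_of_isSeparable (ResidueField A) _ _
    obtain ⟨y, hy⟩ := IsSepClosed.algebraMap_surjective (ResidueField S) (ResidueField T) (residue T x)
    obtain ⟨d, rfl⟩ := residue_surjective y
    refine ⟨d, ?_⟩
    rw [← residue_eq_zero_iff, map_sub, sub_eq_zero, hgτ]
    exact hy.symm

theorem numBranches_le_completion :
    Brnch.numBranches A ≤ Brnch.numBranches Ah ∧ Brnch.numGeomBranches A ≤ Brnch.numGeomBranches Ah := by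
  constructor
  · let S := Henselian.Henselization.Henselization A
    obtain ⟨ψ, hψ, -⟩ := (inferInstance : Hensel.IsHenselization A S).universal Ah (algebraMap A Ah) inferInstance
    let := ψ.toAlgebra
    obtain ⟨-, _, -, -⟩ := henselization_props A S ψ hψ
    rw [numBranches_completion, ← BranchHenselian.card_minimalPrimes_henselization A S]
    exact card_le S Ah
  · obtain ⟨g, hflat, hmax, -⟩ := exists_strict_map A
    let := g.toAlgebra
    have := hflat
    have := PuncturedHenselian.faithfullyFlat _ _ hmax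
    rw [← BranchHenselian.card_minimalPrimes_strictHenselization A (Henselian.StrictHenselization.StrictHenselization A),
      ← BranchHenselian.card_minimalPrimes_strictHenselization Ah (Henselian.StrictHenselization.StrictHenselization Ah)]
    exact card_le _ _

theorem numBranches_completion_eq_of_dim_one (hA : ringKrullDim A = 1) :
    Brnch.numBranches Ah = Brnch.numBranches A ∧ Brnch.numGeomBranches Ah = Brnch.numGeomBranches A := by
  have hne : maximalIdeal A ≠ ⊤ := (maximalIdeal.isMaximal A).ne_top
  have hdim : ringKrullDim Ah = 1 := (Regular.Completion.ringKrullDim_eq _ hne).trans hA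
  constructor
  · let S := Henselian.Henselization.Henselization A
    obtain ⟨ψ, hψ, -⟩ := (inferInstance : Hensel.IsHenselization A S).universal Ah (algebraMap A Ah) inferInstance
    let := ψ.toAlgebra
    obtain ⟨_, _, hmax, hres⟩ := henselization_props A S ψ hψ
    have := Henselian.Permanence.isNoetherianRing A S
    rw [numBranches_completion, ← BranchHenselian.card_minimalPrimes_henselization A S]
    exact (card_eq_of_dim_le_one S Ah hmax hres hdim.le).symm
  · obtain ⟨g, hflat, hmax, hres⟩ := exists_strict_map A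
    let := g.toAlgebra
    have := hflat
    let S := Henselian.StrictHenselization.StrictHenselization A
    let T := Henselian.StrictHenselization.StrictHenselization Ah
    have := Henselian.Permanence.strict_isNoetherianRing A S
    have := Henselian.Permanence.strict_isNoetherianRing Ah T
    rw [← BranchHenselian.card_minimalPrimes_strictHenselization A S,
      ← BranchHenselian.card_minimalPrimes_strictHenselization Ah T]
    exact (card_eq_of_dim_le_one S T hmax hres
      (((Henselian.Permanence.strict_ringKrullDim_eq Ah T).trans hdim).le)).symm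

end Groth.Agent.Lib.Unram.CompletionBranch
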