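import Groth.Agent.Lib.Unram.UnibranchEtale
import Groth.Agent.Lib.Unram.CompletionBranch
import Groth.Prelude.Def_Hens2
import Mathlib.AlgebraicGeometry.ResidueField

/-!
# Branches and étale neighbourhoods
-/

set_option autoImplicit false

universe u

open CategoryTheory AlgebraicGeometry IsLocalRing
open scoped TensorProduct

namespace Groth.Agent.Lib.Unram.BranchNbhd

open Henselian.StrictHenselization (StrictHenselization)
open Henselian.Henselization (Henselization)

/-- Residual surjectivity. -/
def ResSurj {R S : Type u} [CommRing R] [CommRing S] (f : R →+* S) : Prop :=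
  ∀ y, ∃ a, ¬ IsUnit (y - f a)

theorem resSurj_respectsIso : RingHom.RespectsIso (fun f => ResSurj f) :=
  ⟨fun f e h y => by
    obtain ⟨a, ha⟩ := h (e.symm y)
    refine ⟨a, fun hu => ha ?_⟩
    have := hu.map e.symm
    simpa using this,
   fun f e h y => by
    obtain ⟨a, ha⟩ := h y
    exact ⟨e.symm a, by simpa using ha⟩⟩

theorem surjective_map_iff {R S : Type u} [CommRing R] [CommRing S] [IsLocalRing R] [IsLocalRing S]
    (f : R →+* S) [IsLocalHom f] : Function.Surjective (ResidueField.map f) ↔ ResSurj f := by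
  constructor
  · intro h y
    obtain ⟨z, hz⟩ := h (residue S y)
    obtain ⟨a, rfl⟩ := residue_surjective z
    refine ⟨a, ?_⟩
    have : residue S (y - f a) = 0 := by rw [map_sub, ← hz, ResidueField.map_residue, sub_self]
    exact (residue_eq_zero_iff _).mp this
  · intro h z
    obtain ⟨y, rfl⟩ := residue_surjective z
    obtain ⟨a, ha⟩ := h y
    refine ⟨residue R a, ?_⟩
    rw [ResidueField.map_residue, eq_comm, ← sub_eq_zero, ← map_sub]
    exact (residue_eq_zero_iff _).mpr ha

theorem card_congr {R S : Type u} [CommRing R] [CommRing S] (e : R ≃+* S) :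
    ENat.card (minimalPrimes R) = ENat.card (minimalPrimes S) := by
  have key : ∀ {R S : Type u} [CommRing R] [CommRing S] (e : R ≃+* S),
      ENat.card (minimalPrimes R) ≤ ENat.card (minimalPrimes S) := by
    intro R S _ _ e
    let : Algebra R S := e.toRingHom.toAlgebra
    let l : R ≃ₗ[R] S :=
      { toFun := e, invFun := e.symm, left_inv := e.symm_apply_apply, right_inv := e.apply_symm_apply,
        map_add' := map_add e, map_smul' := fun r x => by simp [Algebra.smul_def, RingHom.algebraMap_toAlgebra] }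
    have : Module.FaithfullyFlat R S := Module.FaithfullyFlat.of_linearEquiv R R l.symm
    exact CompletionBranch.card_le R S
  exact le_antisymm (key e) (key e.symm)

section Local

variable (A B : Type u) [CommRing A] [IsLocalRing A] [CommRing B] [IsLocalRing B] [Algebra A B]
  [IsLocalHom (algebraMap A B)]

/-- Henselizations of residually trivial local ind-étale algebras. -/
theorem exists_hens_equiv (hind : EtPBC.IsIndEtale A B) (hres : ResSurj (algebraMap A B)) :
    Nonempty (Henselization A ≃+* Henselization B) := by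
  let S := Henselization A
  let T := Henselization B
  have hS : Hensel.IsHenselization A S := inferInstance
  let f : A →+* T := (algebraMap B T).comp (algebraMap A B)
  have : IsLocalHom f := RingHom.isLocalHom_comp _ _
  obtain ⟨g, hg, -⟩ := hS.universal T f inferInstance
  have hmapT : (maximalIdeal S).map g = (maximalIdeal A).map f := by
    rw [← Henselian.Henselization.map_maximalIdeal A S, Ideal.map_map, hg]
  have : IsLocalHom g := ((local_hom_TFAE g).out 0 2 rfl rfl).mpr
    (hmapT.trans_le (((local_hom_TFAE f).out 0 2 rfl rfl).mp inferInstance))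
  let : Algebra S T := g.toAlgebra
  have : IsLocalHom (algebraMap S T) := ‹IsLocalHom g›
  let : Algebra A T := f.toAlgebra
  have : IsScalarTower A B T := IsScalarTower.of_algebraMap_eq fun a => rfl
  have : IsScalarTower A S T := IsScalarTower.of_algebraMap_eq fun a => (RingHom.congr_fun hg a).symm
  have hST : EtPBC.IsIndEtale S T :=
    IndEtale.Basic.cancel Henselian.IndEtale.isIndEtale_lim
      (IndEtale.Basic.trans hind Henselian.IndEtale.isIndEtale_lim)
  have hres' : Function.Surjective (ResidueField.map (algebraMap S T)) := by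
    refine (surjective_map_iff _).mpr fun y => ?_
    obtain ⟨b, hb⟩ := Henselian.Henselization.exists_sub_mem B T y
    obtain ⟨a, ha⟩ := hres b
    refine ⟨algebraMap A S a, ?_⟩
    have h1 : algebraMap B T (b - algebraMap A B a) ∈ maximalIdeal T := fun hu =>
      ha (isUnit_of_map_unit (algebraMap B T) _ hu)
    have h2 := add_mem hb h1
    rw [map_sub, sub_add_sub_cancel] at h2
    rwa [show algebraMap S T (algebraMap A S a) = algebraMap B T (algebraMap A B a) from RingHom.congr_fun hg a]
  exact ⟨RingEquiv.ofBijective _ (UnibranchEtaleAlg.bijective_of_indEtale S T hST hres')⟩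

theorem card_le_numBranches (hind : EtPBC.IsIndEtale A B) (hres : ResSurj (algebraMap A B)) :
    ENat.card (minimalPrimes B) ≤ Brnch.numBranches A := by
  obtain ⟨e⟩ := exists_hens_equiv A B hind hres
  have := Henselian.Henselization.faithfullyFlat B (Henselization B)
  rw [← BranchHenselian.card_minimalPrimes_henselization A (Henselization A), card_congr e]
  exact CompletionBranch.card_le B _

theorem card_le_numGeomBranches [Algebra.IsSeparable (ResidueField A) (ResidueField B)]
    (hind : EtPBC.IsIndEtale A B) : ENat.card (minimalPrimes B) ≤ Brnch.numGeomBranches A := by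
  obtain ⟨e⟩ := UnibranchEtaleAlg.exists_strict_equiv A B hind
  have := Henselian.StrictHenselization.faithfullyFlat B (StrictHenselization B)
  rw [← BranchHenselian.card_minimalPrimes_strictHenselization A (StrictHenselization A), card_congr e]
  exact CompletionBranch.card_le B _

end Local

/-- Finitely many minimal primes of an ind-étale local algebra separate at an étale stage. -/
theorem exists_stage (R S : Type u) [CommRing R] [CommRing S] [IsLocalRing S] [Algebra R S]
    (hind : EtPBC.IsIndEtale R S) (n : ℕ) (hn : (n : ℕ∞) ≤ ENat.card (minimalPrimes S)) :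
    ∃ (E : Type u) (_ : CommRing E) (_ : Algebra R E) (_ : Algebra.Etale R E) (v : E →ₐ[R] S),
      (n : ℕ∞) ≤ ENat.card (minimalPrimes (Localization.AtPrime ((maximalIdeal S).comap v.toRingHom))) := by
  classical
  obtain ⟨Q, hQ⟩ : ∃ Q : Fin n → minimalPrimes S, Function.Injective Q := by
    rw [ENat.card_coe_set_eq] at hn
    obtain ⟨t, ht, htc⟩ := Set.exists_subset_encard_eq hn
    have htf : t.Finite := Set.finite_of_encard_eq_coe htc
    have hcard : Nat.card t = n := by
      rw [Nat.card_coe_set_eq, Set.ncard_def, htc, ENat.toNat_natCast]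
    have := htf.to_subtype
    let e := (Finite.equivFinOfCardEq hcard).symm
    refine ⟨fun i => ⟨(e i).1, ht (e i).2⟩, fun i j h => ?_⟩
    have h' := congrArg Subtype.val h
    exact e.injective (Subtype.ext h')
  have hsep : ∀ i j, ∃ a, i ≠ j → a ∈ (Q i).1 ∧ a ∉ (Q j).1 := fun i j => by
    by_cases h : i = j
    · exact ⟨0, fun h' => (h' h).elim⟩
    · obtain ⟨a, ha, ha'⟩ := Set.not_subset.mp fun hle : (Q i).1 ≤ (Q j).1 =>
        h (hQ (Subtype.ext (le_antisymm hle ((Q j).2.2 ⟨(Q i).2.1.1, bot_le⟩ hle))))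
      exact ⟨a, fun _ => ⟨ha, ha'⟩⟩
  choose a ha using hsep
  obtain ⟨E, _, _, hE, v, hv⟩ := IndEtale.Basic.exists_lift (IndEtale.Basic.factors hind)
    (Finset.univ.image fun ij : Fin n × Fin n => a ij.1 ij.2)
  have : Algebra.Etale R E := hE
  choose e he using fun i j => hv (Finset.mem_coe.mpr (Finset.mem_image.mpr ⟨(i, j), Finset.mem_univ _, rfl⟩))
  refine ⟨E, inferInstance, inferInstance, hE, v, ?_⟩
  let 𝔮 := (maximalIdeal S).comap v.toRingHom
  let Eq := Localization.AtPrime 𝔮
  let w : Eq →ₐ[R] S := IsLocalization.liftAlgHom (M := 𝔮.primeCompl) (f := v)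
    fun y => IsLocalRing.notMem_maximalIdeal.mp y.2
  have hw : ∀ z, w (algebraMap E Eq z) = v z := fun z => IsLocalization.lift_eq _ z
  let : Algebra Eq S := w.toRingHom.toAlgebra
  have : IsScalarTower R Eq S := IsScalarTower.of_algebraMap_eq fun r => (w.commutes r).symm
  have hindE : EtPBC.IsIndEtale R Eq := IndEtale.Basic.of_factors
    (IndEtale.Zariski.factors_localization (IndEtale.Basic.impliesFP R) IndEtale.Zariski.stableAway_etale
      (IndEtale.Basic.factors IndEtale.Basic.of_etale) 𝔮.primeCompl Eq)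
  have : Module.Flat Eq S := IndEtale.Basic.flat (IndEtale.Basic.factors (IndEtale.Basic.cancel hindE hind))
  refine le_trans ?_ (ENat.card_le_card_of_injective (α := Fin n)
    (f := fun i => (⟨(Q i).1.comap (algebraMap Eq S),
      BranchHenselian.comap_minimalPrime_mem Eq S (Q i).2⟩ : minimalPrimes Eq)) ?_)
  · simp
  · intro i j h
    by_contra hij
    have h' : (Q i).1.comap (algebraMap Eq S) = (Q j).1.comap (algebraMap Eq S) := congrArg Subtype.val h
    have h1 : algebraMap E Eq (e i j) ∈ (Q i).1.comap (algebraMap Eq S) := by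
      change w (algebraMap E Eq (e i j)) ∈ (Q i).1
      rw [hw, he]
      exact (ha i j hij).1
    rw [h'] at h1
    change w (algebraMap E Eq (e i j)) ∈ (Q j).1 at h1
    rw [hw, he] at h1
    exact (ha i j hij).2 h1

variable {X : Scheme.{u}}

/-- Components through a point are the minimal primes of its local ring. -/
theorem components_encard (U : Scheme.{u}) (p : U) :
    {Z : Set U | Z ∈ irreducibleComponents ↥U ∧ p ∈ Z}.encard =
      ENat.card (minimalPrimes (U.presheaf.stalk p)) := by
  let ξ : PrimeSpectrum (U.presheaf.stalk p) → U := fun P => U.fromSpecStalk p P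
  have hξi : Function.Injective ξ := (U.fromSpecStalk p).isEmbedding.injective
  have hspec : ∀ P Q, ξ P ⤳ ξ Q → P.asIdeal ≤ Q.asIdeal := fun P Q h =>
    (PrimeSpectrum.le_iff_specializes P Q).mpr ((U.fromSpecStalk p).isEmbedding.isInducing.specializes_iff.mp h)
  have hp : ∀ P, ξ P ⤳ p := fun P => by
    have : ξ P ∈ Set.range (U.fromSpecStalk p) := ⟨P, rfl⟩
    rwa [Scheme.range_fromSpecStalk] at this
  have hrep : ∀ Z ∈ irreducibleComponents ↥U, p ∈ Z → ∃ P, IsGenericPoint (ξ P) Z := by
    intro Z hZ hpZ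
    obtain ⟨ζ, hζ⟩ := QuasiSober.sober hZ.1 (isClosed_of_mem_irreducibleComponents Z hZ)
    obtain ⟨P, hP⟩ : ζ ∈ Set.range (U.fromSpecStalk p) := by
      rw [Scheme.range_fromSpecStalk]
      exact hζ.specializes hpZ
    refine ⟨P, ?_⟩
    change IsGenericPoint (U.fromSpecStalk p P) Z
    rw [hP]
    exact hζ
  have hmem : ∀ q : minimalPrimes (U.presheaf.stalk p),
      closure {ξ ⟨q.1, q.2.1.1⟩} ∈ irreducibleComponents ↥U ∧ p ∈ closure {ξ ⟨q.1, q.2.1.1⟩} := by
    intro q
    refine ⟨?_, specializes_iff_mem_closure.mp (hp _)⟩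
    obtain ⟨Z, hZ, hsub⟩ := exists_mem_irreducibleComponents_subset_of_isIrreducible
      (closure {ξ ⟨q.1, q.2.1.1⟩}) isIrreducible_singleton.closure
    have hpZ : p ∈ Z := hsub (specializes_iff_mem_closure.mp (hp _))
    obtain ⟨P, hP⟩ := hrep Z hZ hpZ
    have hle : P.asIdeal ≤ q.1 := hspec P ⟨q.1, q.2.1.1⟩ (hP.specializes (hsub (subset_closure rfl)))
    have : P = ⟨q.1, q.2.1.1⟩ := PrimeSpectrum.ext (le_antisymm hle (q.2.2 ⟨P.isPrime, bot_le⟩ hle))
    rw [← this, hP.def]
    exact hZ
  rw [← ENat.card_coe_set_eq]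
  let F : minimalPrimes (U.presheaf.stalk p) → {Z : Set U | Z ∈ irreducibleComponents ↥U ∧ p ∈ Z} :=
    fun q => ⟨closure {ξ ⟨q.1, q.2.1.1⟩}, hmem q⟩
  refine (ENat.card_congr (Equiv.ofBijective F ⟨fun q q' h => ?_, fun Z => ?_⟩)).symm
  · have h' : closure {ξ ⟨q.1, q.2.1.1⟩} = closure {ξ ⟨q'.1, q'.2.1.1⟩} := congrArg Subtype.val h
    have he : ξ ⟨q.1, q.2.1.1⟩ = ξ ⟨q'.1, q'.2.1.1⟩ :=
      IsGenericPoint.eq (isGenericPoint_closure) (h' ▸ isGenericPoint_closure)
    exact Subtype.ext (congrArg PrimeSpectrum.asIdeal (hξi he))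
  · obtain ⟨P, hP⟩ := hrep Z.1 Z.2.1 Z.2.2
    have := P.isPrime
    obtain ⟨q, hq, hqP⟩ := Ideal.exists_minimalPrimes_le (I := (⊥ : Ideal (U.presheaf.stalk p)))
      (J := P.asIdeal) bot_le
    refine ⟨⟨q, hq⟩, Subtype.ext ?_⟩
    have hs : ξ ⟨q, hq.1.1⟩ ⤳ ξ P :=
      (((PrimeSpectrum.le_iff_specializes (⟨q, hq.1.1⟩ : PrimeSpectrum _) P).mp hqP).map
        (U.fromSpecStalk p).continuous)
    have hsub : Z.1 ⊆ closure {ξ ⟨q, hq.1.1⟩} := by
      rw [← hP.def]
      exact closure_minimal (Set.singleton_subset_iff.mpr (specializes_iff_mem_closure.mp hs)) isClosed_closure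
    exact (subset_antisymm hsub (Z.2.1.2 isIrreducible_singleton.closure hsub)).symm

theorem residue_bijective_iff {U : Scheme.{u}} (g : U ⟶ X) (p : U) :
    Function.Bijective (g.residueFieldMap p) ↔ ResSurj (g.stalkMap p).hom := by
  have : IsLocalHom (g.stalkMap p).hom := inferInstanceAs <| IsLocalHom (g.stalkMap p).hom
  have e : ⇑(g.residueFieldMap p) = ⇑(ResidueField.map (g.stalkMap p).hom) := rfl
  rw [e, ← surjective_map_iff]
  exact ⟨fun h => h.2, fun h => ⟨RingHom.injective _, h⟩⟩

/-- Bound on components through points of étale neighbourhoods. -/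
theorem encard_le_numGeomBranches {U : Scheme.{u}} (g : U ⟶ X) [Etale g] (p : U) :
    {Z : Set U | Z ∈ irreducibleComponents ↥U ∧ p ∈ Z}.encard ≤ Brnch.numGeomBranchesAt X (g p) := by
  rw [components_encard]
  have hflat := Flat.stalkMap g p
  have hu := FormallyUnramified.stalkMap g p
  algebraize [(g.stalkMap p).hom]
  have : IsLocalHom (algebraMap (X.presheaf.stalk (g p)) (U.presheaf.stalk p)) :=
    inferInstanceAs <| IsLocalHom (g.stalkMap p).hom
  have : Algebra.EssFiniteType (X.presheaf.stalk (g p)) (U.presheaf.stalk p) :=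
    LocallyOfFiniteType.stalkMap g p
  exact card_le_numGeomBranches _ _ (UnibranchEtaleAlg.isIndEtale_of_flat_unramified _ _)

theorem encard_le_numBranches {U : Scheme.{u}} (g : U ⟶ X) [Etale g] (p : U)
    (hres : Function.Bijective (g.residueFieldMap p)) :
    {Z : Set U | Z ∈ irreducibleComponents ↥U ∧ p ∈ Z}.encard ≤ Brnch.numBranchesAt X (g p) := by
  rw [components_encard]
  have hflat := Flat.stalkMap g p
  have hu := FormallyUnramified.stalkMap g p
  have hr := (residue_bijective_iff g p).mp hres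
  algebraize [(g.stalkMap p).hom]
  have : IsLocalHom (algebraMap (X.presheaf.stalk (g p)) (U.presheaf.stalk p)) :=
    inferInstanceAs <| IsLocalHom (g.stalkMap p).hom
  have : Algebra.EssFiniteType (X.presheaf.stalk (g p)) (U.presheaf.stalk p) :=
    LocallyOfFiniteType.stalkMap g p
  exact card_le_numBranches _ _ (UnibranchEtaleAlg.isIndEtale_of_flat_unramified _ _) hr

/-- A stage as a scheme. -/
theorem exists_nbhd (x : X) (S : Type u) [CommRing S] [IsLocalRing S]
    [Algebra (X.presheaf.stalk x) S] [IsLocalHom (algebraMap (X.presheaf.stalk x) S)]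
    (hind : EtPBC.IsIndEtale (X.presheaf.stalk x) S) (n : ℕ)
    (hn : (n : ℕ∞) ≤ ENat.card (minimalPrimes S)) :
    ∃ (U : Scheme.{u}) (g : U ⟶ X) (p : U), Etale g ∧ g p = x ∧
      (ResSurj (algebraMap (X.presheaf.stalk x) S) → Function.Bijective (g.residueFieldMap p)) ∧
      (n : ℕ∞) ≤ {Z : Set U | Z ∈ irreducibleComponents ↥U ∧ p ∈ Z}.encard := by
  obtain ⟨W, hW, hxW, -⟩ := exists_isAffineOpen_mem_and_subset (x := x) (U := (⊤ : X.Opens)) trivial
  let := X.presheaf.algebra_section_stalk ⟨x, hxW⟩
  let R := Γ(X, W)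
  let A := X.presheaf.stalk x
  let p₀ := (hW.primeIdealOf ⟨x, hxW⟩).asIdeal
  have : IsLocalization.AtPrime A p₀ := hW.isLocalization_stalk ⟨x, hxW⟩
  let : Algebra R S := ((algebraMap A S).comp (algebraMap R A)).toAlgebra
  have : IsScalarTower R A S := IsScalarTower.of_algebraMap_eq fun r => rfl
  have hindA : EtPBC.IsIndEtale R A := IndEtale.Basic.of_factors
    (IndEtale.Zariski.factors_localization (IndEtale.Basic.impliesFP R) IndEtale.Zariski.stableAway_etale
      (IndEtale.Basic.factors IndEtale.Basic.of_etale) p₀.primeCompl A)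
  obtain ⟨E, _, _, hE, v, hv⟩ := exists_stage R S (IndEtale.Basic.trans hindA hind) n hn
  let 𝔮 := (maximalIdeal S).comap v.toRingHom
  let φ : R ⟶ CommRingCat.of E := CommRingCat.ofHom (algebraMap R E)
  let g : Spec (CommRingCat.of E) ⟶ X := Spec.map φ ≫ hW.fromSpec
  let pt : Spec (CommRingCat.of E) := ⟨𝔮, inferInstance⟩
  have hcomap : 𝔮.comap (algebraMap R E) = p₀ := by
    rw [Ideal.comap_comap, show v.toRingHom.comp (algebraMap R E) = (algebraMap A S).comp (algebraMap R A)
      from RingHom.ext fun r => v.commutes r, ← Ideal.comap_comap,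
      ((local_hom_TFAE (algebraMap A S)).out 0 4 rfl rfl).mp inferInstance]
    exact IsLocalization.AtPrime.comap_maximalIdeal A p₀
  have : Etale (Spec.map φ) := by
    rw [HasRingHomProperty.Spec_iff (P := @Etale)]
    exact RingHom.etale_algebraMap.mpr hE
  have hg : g pt = x := by
    change hW.fromSpec (Spec.map φ pt) = x
    rw [show Spec.map φ pt = hW.primeIdealOf ⟨x, hxW⟩ from PrimeSpectrum.ext hcomap,
      hW.fromSpec_primeIdealOf]
  refine ⟨_, g, pt, MorphismProperty.comp_mem @Etale _ _ inferInstance inferInstance, hg, fun hres => ?_, ?_⟩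
  · rw [residue_bijective_iff, Scheme.Hom.stalkMap_comp]
    refine (resSurj_respectsIso.cancel_left_isIso _ _).mpr
      ((resSurj_respectsIso.arrow_mk_iso_iff (Scheme.arrowStalkMapSpecIso φ pt)).mpr fun y => ?_)
    let w : Localization.AtPrime 𝔮 →+* S := IsLocalization.lift (M := 𝔮.primeCompl) (g := v.toRingHom)
      fun z => IsLocalRing.notMem_maximalIdeal.mp z.2
    have hw : ∀ z, w (algebraMap E _ z) = v z := fun z => IsLocalization.lift_eq _ z
    obtain ⟨a, ha⟩ := hres (w y)
    obtain ⟨⟨r, s⟩, hrs⟩ := IsLocalization.surj p₀.primeCompl a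
    have hs : (s : R) ∈ ((PrimeSpectrum.comap φ.hom pt).asIdeal).primeCompl := by
      change (s : R) ∉ 𝔮.comap (algebraMap R E)
      rw [hcomap]
      exact s.2
    refine ⟨IsLocalization.mk' _ r ⟨s, hs⟩, fun hu => ha ?_⟩
    let b := IsLocalization.mk' (Localization.AtPrime (PrimeSpectrum.comap φ.hom pt).asIdeal) r ⟨s, hs⟩
    let L := Localization.localRingHom (PrimeSpectrum.comap φ.hom pt).asIdeal pt.asIdeal φ.hom rfl
    have hb : L b * algebraMap E _ (algebraMap R E s) = algebraMap E _ (algebraMap R E r) := by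
      have h1 := congrArg L (IsLocalization.mk'_spec (Localization.AtPrime (PrimeSpectrum.comap φ.hom pt).asIdeal) r ⟨s, hs⟩)
      rw [map_mul, Localization.localRingHom_to_map, Localization.localRingHom_to_map] at h1
      exact h1
    have hvr : ∀ t : R, v (algebraMap R E t) = algebraMap A S (algebraMap R A t) := fun t => v.commutes t
    have hunit : IsUnit (algebraMap A S (algebraMap R A s)) :=
      (IsLocalization.map_units A s).map _
    have h2 : w (L b) = algebraMap A S a := by
      refine hunit.mul_left_injective ?_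
      change w (L b) * _ = algebraMap A S a * _
      rw [← map_mul (algebraMap A S), hrs, ← hvr, ← hw, ← map_mul, hb, hw, hvr]
    have h3 := hu.map w
    rw [map_sub] at h3
    exact h2 ▸ h3
  · exact hv.trans_eq ((card_congr (AlgebraicGeometry.StructureSheaf.stalkIso (CommRingCat.of E) pt).toRingEquiv).trans
      (components_encard (Spec (CommRingCat.of E)) pt).symm)

theorem numGeomBranchesAt_eq (x : X) :
    Brnch.numGeomBranchesAt X x = ⨆ (U : Scheme.{u}) (g : U ⟶ X) (p : U) (_ : Etale g ∧ g p = x),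
      {Z : Set ↥U | Z ∈ irreducibleComponents ↥U ∧ p ∈ Z}.encard := by
  refine le_antisymm ?_ ?_
  · rw [← ENat.forall_natCast_le_iff_le]
    intro n hn
    let S := StrictHenselization (X.presheaf.stalk x)
    rw [Brnch.numGeomBranchesAt, ← BranchHenselian.card_minimalPrimes_strictHenselization _ S] at hn
    obtain ⟨U, g, p, hg, hgp, -, h⟩ := exists_nbhd x S Henselian.IndEtale.isIndEtale_lim n hn
    exact le_iSup_of_le U (le_iSup_of_le g (le_iSup_of_le p (le_iSup_of_le ⟨hg, hgp⟩ h)))
  · refine iSup_le fun U => iSup_le fun g => iSup_le fun p => iSup_le fun ⟨hg, hgp⟩ => ?_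
    subst hgp
    exact encard_le_numGeomBranches g p

theorem numBranchesAt_eq (x : X) :
    Brnch.numBranchesAt X x = ⨆ (U : Scheme.{u}) (g : U ⟶ X) (p : U) (_ : Hens2.IsEtaleNbhd g p x),
      {Z : Set ↥U | Z ∈ irreducibleComponents ↥U ∧ p ∈ Z}.encard := by
  refine le_antisymm ?_ ?_
  · rw [← ENat.forall_natCast_le_iff_le]
    intro n hn
    let S := Henselization (X.presheaf.stalk x)
    rw [Brnch.numBranchesAt, ← BranchHenselian.card_minimalPrimes_henselization _ S] at hn
    obtain ⟨U, g, p, hg, hgp, hres, h⟩ := exists_nbhd x S Henselian.IndEtale.isIndEtale_lim n hn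
    refine le_iSup_of_le U (le_iSup_of_le g (le_iSup_of_le p (le_iSup_of_le ⟨hg, hgp, hres fun y => ?_⟩ h)))
    obtain ⟨a, ha⟩ := Henselian.Henselization.exists_sub_mem (X.presheaf.stalk x) S y
    exact ⟨a, ha⟩
  · refine iSup_le fun U => iSup_le fun g => iSup_le fun p => iSup_le fun h => ?_
    obtain ⟨hg, hgp, hres⟩ := h
    change g p = x at hgp
    subst hgp
    exact encard_le_numBranches g p hres

theorem one_le_encard (U : Scheme.{u}) (p : U) :
    1 ≤ {Z : Set ↥U | Z ∈ irreducibleComponents ↥U ∧ p ∈ Z}.encard :=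
  Set.one_le_encard_iff_nonempty.mpr
    ⟨irreducibleComponent p, irreducibleComponent_mem_irreducibleComponents p, mem_irreducibleComponent⟩

theorem isGeomUnibranch_iff (x : X) :
    CAlg2.IsGeomUnibranch (X.presheaf.stalk x) ↔ ∀ (U : Scheme.{u}) (g : U ⟶ X) (p : U), Etale g → g p = x →
      {Z : Set ↥U | Z ∈ irreducibleComponents ↥U ∧ p ∈ Z}.encard = 1 := by
  rw [← OneBranch.numGeomBranches_eq_one_iff, ← Brnch.numGeomBranchesAt, numGeomBranchesAt_eq]
  refine ⟨fun h U g p hg hgp => le_antisymm ?_ (one_le_encard U p), fun h => le_antisymm ?_ ?_⟩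
  · rw [← h]
    exact le_iSup_of_le U (le_iSup_of_le g (le_iSup_of_le p (le_iSup_of_le ⟨hg, hgp⟩ le_rfl)))
  · exact iSup_le fun U => iSup_le fun g => iSup_le fun p => iSup_le fun ⟨hg, hgp⟩ => (h U g p hg hgp).le
  · exact le_iSup_of_le X (le_iSup_of_le (𝟙 X) (le_iSup_of_le x
      (le_iSup_of_le ⟨inferInstance, by simp⟩ (one_le_encard X x))))

theorem isUnibranch_iff (x : X) :
    CAlg2.IsUnibranch (X.presheaf.stalk x) ↔ ∀ (U : Scheme.{u}) (g : U ⟶ X) (p : U), Hens2.IsEtaleNbhd g p x →
      {Z : Set ↥U | Z ∈ irreducibleComponents ↥U ∧ p ∈ Z}.encard = 1 := by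
  rw [← OneBranch.numBranches_eq_one_iff, ← Brnch.numBranchesAt, numBranchesAt_eq]
  refine ⟨fun h U g p hg => le_antisymm ?_ (one_le_encard U p), fun h => le_antisymm ?_ ?_⟩
  · rw [← h]
    exact le_iSup_of_le U (le_iSup_of_le g (le_iSup_of_le p (le_iSup_of_le hg le_rfl)))
  · exact iSup_le fun U => iSup_le fun g => iSup_le fun p => iSup_le fun hg => (h U g p hg).le
  · refine le_iSup_of_le X (le_iSup_of_le (𝟙 X) (le_iSup_of_le x
      (le_iSup_of_le ⟨inferInstance, by simp, ?_⟩ (one_le_encard X x))))
    rw [residue_bijective_iff, Scheme.Hom.stalkMap_id]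
    refine fun y => ⟨y, ?_⟩
    change ¬ IsUnit (y - y)
    rw [sub_self]
    exact not_isUnit_zero

end Groth.Agent.Lib.Unram.BranchNbhd
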