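import Groth.Agent.Lib.Unram.EtaleSplitAll
import Mathlib.AlgebraicGeometry.Morphisms.Etale
import Mathlib.AlgebraicGeometry.Morphisms.ClosedImmersion
import Mathlib.AlgebraicGeometry.Morphisms.OpenImmersion
import Mathlib.AlgebraicGeometry.PullbackCarrier
import Mathlib.RingTheory.Spectrum.Prime.Topology

/-!
# Étale neighbourhoods over which an unramified morphism splits into closed immersions
-/

set_option autoImplicit false

universe u

open CategoryTheory CategoryTheory.Limits AlgebraicGeometry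

open scoped TensorProduct

namespace Groth.Agent.Lib.Unram.SplitNhd

/-- The opens `V` of `X ×_S U` split the points over `u` lying above `x`. -/
structure IsSplit {X S U : Scheme.{u}} (f : X ⟶ S) (g : U ⟶ S) (u : U) (x : X) (O : X.Opens)
    {K : Type} (V : K → (pullback f g).Opens) : Prop where
  closed : ∀ k, IsClosedImmersion ((V k).ι ≫ pullback.snd f g)
  le : ∀ k, V k ≤ pullback.fst f g ⁻¹ᵁ O
  point : ∀ k, ∃ w ∈ V k, pullback.snd f g w = u ∧ pullback.fst f g w = x
  disj : ∀ k k', ∀ w ∈ V k, w ∈ V k' → pullback.snd f g w = u → k = k'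
  cover : ∀ w, pullback.snd f g w = u → pullback.fst f g w = x → ∃ k, w ∈ V k

theorem IsSplit.unique {X S U : Scheme.{u}} {f : X ⟶ S} {g : U ⟶ S} {u : U} {x : X} {O : X.Opens}
    {K : Type} {V : K → (pullback f g).Opens} (h : IsSplit f g u x O V) (k : K) {w : ↑(pullback f g)}
    (hw : w ∈ V k) (hu : pullback.snd f g w = u) : pullback.fst f g w = x := by
  obtain ⟨w', hw', hu', hx'⟩ := h.point k
  have := h.closed k
  have heq : (⟨w, hw⟩ : V k) = ⟨w', hw'⟩ :=
    ((V k).ι ≫ pullback.snd f g).isClosedEmbedding.injective (by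
      change pullback.snd f g w = pullback.snd f g w'
      rw [hu, hu'])
  rw [show w = w' from congr_arg Subtype.val heq]; exact hx'

/-- The morphism on fibre products induced by a morphism of étale neighbourhoods. -/
noncomputable def refineMap {X S U U' : Scheme.{u}} (f : X ⟶ S) (g : U ⟶ S) (h : U' ⟶ U) :
    pullback f (h ≫ g) ⟶ pullback f g :=
  pullback.lift (pullback.fst f (h ≫ g)) (pullback.snd f (h ≫ g) ≫ h)
    (by rw [pullback.condition, Category.assoc])

theorem isPullback_refineMap {X S U U' : Scheme.{u}} (f : X ⟶ S) (g : U ⟶ S) (h : U' ⟶ U) :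
    IsPullback (refineMap f g h) (pullback.snd f (h ≫ g)) (pullback.snd f g) h := by
  refine IsPullback.of_right ?_ (pullback.lift_snd _ _ _) (IsPullback.of_hasPullback f g)
  rw [show refineMap f g h ≫ pullback.fst f g = pullback.fst f (h ≫ g) from pullback.lift_fst _ _ _]
  exact IsPullback.of_hasPullback f (h ≫ g)

theorem fst_refineMap {X S U U' : Scheme.{u}} (f : X ⟶ S) (g : U ⟶ S) (h : U' ⟶ U)
    (w : ↑(pullback f (h ≫ g))) :
    pullback.fst f g (refineMap f g h w) = pullback.fst f (h ≫ g) w := by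
  rw [← Scheme.Hom.comp_apply, refineMap, pullback.lift_fst]

theorem snd_refineMap {X S U U' : Scheme.{u}} (f : X ⟶ S) (g : U ⟶ S) (h : U' ⟶ U)
    (w : ↑(pullback f (h ≫ g))) :
    pullback.snd f g (refineMap f g h w) = h (pullback.snd f (h ≫ g) w) := by
  rw [← Scheme.Hom.comp_apply, refineMap, pullback.lift_snd, Scheme.Hom.comp_apply]

theorem isPullback_restrict {X S U U' : Scheme.{u}} (f : X ⟶ S) (g : U ⟶ S) (h : U' ⟶ U)
    (V : (pullback f g).Opens) :
    IsPullback (refineMap f g h ∣_ V) ((refineMap f g h ⁻¹ᵁ V).ι ≫ pullback.snd f (h ≫ g))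
      (V.ι ≫ pullback.snd f g) h :=
  (isPullback_morphismRestrict (refineMap f g h) V).paste_vert (isPullback_refineMap f g h)

theorem IsSplit.comp {X S U U' : Scheme.{u}} {f : X ⟶ S} {g : U ⟶ S} {u : U} {x : X}
    {O : X.Opens} {K : Type} {V : K → (pullback f g).Opens} (hV : IsSplit f g u x O V)
    (h : U' ⟶ U) (u' : U') (hu : h u' = u) :
    IsSplit f (h ≫ g) u' x O (fun k => refineMap f g h ⁻¹ᵁ V k) where
  closed k := MorphismProperty.of_isPullback (isPullback_restrict f g h (V k)) (hV.closed k)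
  le k w hw := by
    have : pullback.fst f g (refineMap f g h w) ∈ O := hV.le k hw
    change pullback.fst f (h ≫ g) w ∈ O
    rwa [fst_refineMap] at this
  point k := by
    obtain ⟨w, hw, hwu, hwx⟩ := hV.point k
    obtain ⟨z, hz1, hz2⟩ := Scheme.exists_preimage_of_isPullback (isPullback_refineMap f g h) w u'
      (by rw [hwu, hu])
    refine ⟨z, ?_, hz2, ?_⟩
    · change refineMap f g h z ∈ V k; rwa [hz1]
    · rw [← fst_refineMap, hz1, hwx]
  disj k k' w hw hw' hwu :=
    hV.disj k k' (refineMap f g h w) hw hw' (by rw [snd_refineMap, hwu, hu])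
  cover w hwu hwx :=
    hV.cover (refineMap f g h w) (by rw [snd_refineMap, hwu, hu]) (by rw [fst_refineMap, hwx])

/-- A factor of a product of rings gives an open subscheme of the spectrum. -/
theorem isOpenImmersion_specMap_eval {n : ℕ} (A : Fin n → Type u) [∀ i, CommRing (A i)]
    (B : Type u) [CommRing B] (k : Fin n) :
    IsOpenImmersion (Spec.map (CommRingCat.ofHom
      ((Pi.evalRingHom A k).comp (RingHom.fst (∀ i, A i) B)))) := by
  classical
  refine (isOpenImmersion_SpecMap_iff_of_surjective _ ?_).mpr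
    ⟨1 - (Pi.single k 1, 0), ?_, ?_⟩
  · intro a
    exact ⟨(Pi.single k a, 0), by simp⟩
  · exact IsIdempotentElem.one_sub (by
      refine Prod.ext (funext fun i => ?_) (by simp)
      by_cases hi : i = k
      · subst hi; simp
      · simp [hi])
  · ext a
    rw [Ideal.mem_span_singleton]
    constructor
    · intro ha
      refine ⟨a, ?_⟩
      change a.1 k = 0 at ha
      refine Prod.ext (funext fun i => ?_) (by simp)
      by_cases hi : i = k
      · subst hi; simp [ha]
      · simp [hi]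
    · rintro ⟨b, rfl⟩
      simp

theorem range_specMap_eval {n : ℕ} (A : Fin n → Type u) [∀ i, CommRing (A i)]
    (B : Type u) [CommRing B] (k : Fin n) (q : PrimeSpectrum ((∀ i, A i) × B)) :
    q ∈ Set.range (PrimeSpectrum.comap ((Pi.evalRingHom A k).comp (RingHom.fst (∀ i, A i) B))) ↔
      (Pi.single k (1 : A k), (0 : B)) ∉ q.asIdeal := by
  classical
  constructor
  · rintro ⟨P, rfl⟩
    simpa using (Ideal.ne_top_iff_one _).mp P.2.ne_top
  · intro hq
    rw [range_comap_of_surjective _ _ (fun a => ⟨(Pi.single k a, 0), by simp⟩)]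
    intro a ha
    change a.1 k = 0 at ha
    refine (q.2.mem_or_mem (x := (Pi.single k (1 : A k), (0 : B))) (y := a) ?_).resolve_left hq
    rw [show ((Pi.single k (1 : A k), (0 : B)) : (∀ i, A i) × B) * a = 0 from
      Prod.ext (funext fun i => by
        by_cases hi : i = k
        · subst hi; simp [ha]
        · simp [hi]) (by simp)]
    exact q.asIdeal.zero_mem

/-- An unramified morphism of affine schemes splits into closed immersions over an étale
neighbourhood of a given point. -/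
theorem exists_isSplit {X S : Scheme.{u}} (f : X ⟶ S) (x : X) (O : X.Opens) (hxO : x ∈ O)
    [LocallyOfFiniteType (O.ι ≫ f)] [FormallyUnramified (O.ι ≫ f)] :
    ∃ (U : Scheme.{u}) (g : U ⟶ S) (u : U), Etale g ∧ g u = f x ∧
      ∃ (K : Type) (_ : Finite K) (V : K → (pullback f g).Opens), IsSplit f g u x O V := by
  obtain ⟨W, hW, hsW, -⟩ := exists_isAffineOpen_mem_and_subset
    (x := f x) (U := (⊤ : S.Opens)) trivial
  obtain ⟨X₀, hX₀, hxX, hle⟩ := exists_isAffineOpen_mem_and_subset
    (x := x) (U := O ⊓ f ⁻¹ᵁ W) ⟨hxO, hsW⟩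
  have hXO : X₀ ≤ O := fun z hz => (hle hz).1
  have hXW : X₀ ≤ f ⁻¹ᵁ W := fun z hz => (hle hz).2
  let φ : Γ(S, W) ⟶ Γ(X, X₀) := f.appLE W X₀ hXW
  let _ : Algebra Γ(S, W) Γ(X, X₀) := φ.hom.toAlgebra
  have hc : Spec.map φ ≫ hW.fromSpec = hX₀.fromSpec ≫ f := hW.SpecMap_appLE_fromSpec f hX₀ hXW
  have hc' : hX₀.fromSpec ≫ f = (hX₀.isoSpec.inv ≫ X.homOfLE hXO) ≫ (O.ι ≫ f) := by
    rw [← IsAffineOpen.isoSpec_inv_ι, Category.assoc, Category.assoc, Scheme.homOfLE_ι_assoc]
  have : LocallyOfFiniteType (Spec.map φ ≫ hW.fromSpec) := by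
    rw [hc, hc']; infer_instance
  have : FormallyUnramified (Spec.map φ ≫ hW.fromSpec) := by
    rw [hc, hc']; exact MorphismProperty.comp_mem @FormallyUnramified _ _ inferInstance inferInstance
  have : LocallyOfFiniteType (Spec.map φ) := locallyOfFiniteType_of_comp _ hW.fromSpec
  have : FormallyUnramified (Spec.map φ) := FormallyUnramified.of_comp _ hW.fromSpec
  have hft : φ.hom.FiniteType :=
    (HasRingHomProperty.Spec_iff (P := @LocallyOfFiniteType)).mp inferInstance
  have hfu : φ.hom.FormallyUnramified :=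
    (HasRingHomProperty.Spec_iff (P := @FormallyUnramified)).mp inferInstance
  have : Algebra.Unramified Γ(S, W) Γ(X, X₀) := ⟨hfu, hft⟩
  obtain ⟨R', _, _, hE, p', hp', hl, n, I, B, _, _, ⟨e⟩, hI, hB⟩ :=
    EtaleSplitAll.exists_split_all Γ(S, W) Γ(X, X₀) (hW.primeIdealOf ⟨f x, hsW⟩).asIdeal
  let ψ : Γ(S, W) ⟶ CommRingCat.of R' := CommRingCat.ofHom (algebraMap Γ(S, W) R')
  have : Etale (Spec.map ψ) :=
    HasRingHomProperty.Spec_iff.mpr ((RingHom.etale_algebraMap).mpr hE)
  let g : Spec (CommRingCat.of R') ⟶ S := Spec.map ψ ≫ hW.fromSpec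
  let u : Spec (CommRingCat.of R') := ⟨p', hp'⟩
  have hgu : g u = f x := by
    have hq : (Spec.map ψ) u = hW.primeIdealOf ⟨f x, hsW⟩ := PrimeSpectrum.ext hl.over.symm
    change hW.fromSpec ((Spec.map ψ) u) = f x
    rw [hq, hW.fromSpec_primeIdealOf]
  let T := R' ⊗[Γ(S, W)] Γ(X, X₀)
  let a : Spec (CommRingCat.of T) ⟶ Spec Γ(X, X₀) :=
    Spec.map (CommRingCat.ofHom (Algebra.TensorProduct.includeRight :
      Γ(X, X₀) →ₐ[Γ(S, W)] T).toRingHom)
  let b : Spec (CommRingCat.of T) ⟶ Spec (CommRingCat.of R') :=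
    Spec.map (CommRingCat.ofHom (Algebra.TensorProduct.includeLeftRingHom : R' →+* T))
  have h2 : IsPullback a b (Spec.map φ) (Spec.map ψ) := by
    refine (IsPullback.of_iso_pullback ⟨?_⟩ (pullbackSpecIso Γ(S, W) R' Γ(X, X₀)).symm
      (pullbackSpecIso_inv_fst Γ(S, W) R' Γ(X, X₀))
      (pullbackSpecIso_inv_snd Γ(S, W) R' Γ(X, X₀))).flip
    rw [← Spec.map_comp, ← Spec.map_comp]
    congr 1
    ext r
    change (algebraMap Γ(S, W) R' r) ⊗ₜ[Γ(S, W)] (1 : Γ(X, X₀)) =
      1 ⊗ₜ[Γ(S, W)] (algebraMap Γ(S, W) Γ(X, X₀) r)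
    exact Algebra.TensorProduct.tmul_one_eq_one_tmul r
  have h3 : IsPullback a b (hX₀.fromSpec ≫ f) g := by
    rw [← hc]
    exact IsPullback.of_isLimit
      (PullbackCone.isLimitOfCompMono _ _ hW.fromSpec h2.cone h2.isLimit)
  let j : Spec (CommRingCat.of T) ⟶ pullback f g :=
    pullback.lift (a ≫ hX₀.fromSpec) b (by rw [Category.assoc, h3.w])
  have hj : IsPullback j a (pullback.fst f g) hX₀.fromSpec := by
    refine IsPullback.of_right ?_ (pullback.lift_fst _ _ _) (IsPullback.of_hasPullback f g).flip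
    rw [show j ≫ pullback.snd f g = b from pullback.lift_snd _ _ _]
    exact h3.flip
  have : IsOpenImmersion j := MorphismProperty.of_isPullback hj.flip inferInstance
  let c : ∀ k, Spec (CommRingCat.of (R' ⧸ I k)) ⟶ Spec (CommRingCat.of T) := fun k =>
    Spec.map (CommRingCat.ofHom
      (((Pi.evalRingHom (fun i => R' ⧸ I i) k).comp (RingHom.fst (∀ i, R' ⧸ I i) B)))) ≫
    Spec.map (CommRingCat.ofHom e.toRingEquiv.toRingHom)
  have : IsIso (CommRingCat.ofHom e.toRingEquiv.toRingHom) :=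
    (e.toRingEquiv.toCommRingCatIso).isIso_hom
  have hco : ∀ k, IsOpenImmersion (c k) := fun k => by
    have := isOpenImmersion_specMap_eval (fun i => R' ⧸ I i) B k
    infer_instance
  have hcb : ∀ k, c k ≫ j ≫ pullback.snd f g =
      Spec.map (CommRingCat.ofHom (algebraMap R' (R' ⧸ I k))) := fun k => by
    rw [show j ≫ pullback.snd f g = b from pullback.lift_snd _ _ _]
    simp only [c, b, ← Spec.map_comp]
    congr 1
    ext r
    exact congr_fun (congr_arg Prod.fst (e.commutes r)) k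
  let pt : ∀ k, Spec (CommRingCat.of (R' ⧸ I k)) := fun k =>
    ⟨p'.map (Ideal.Quotient.mk (I k)), Ideal.map_isPrime_of_surjective Ideal.Quotient.mk_surjective
      ((Ideal.mk_ker (I := I k)).le.trans (hI k))⟩
  have hpt : ∀ k, Spec.map (CommRingCat.ofHom (algebraMap R' (R' ⧸ I k))) (pt k) = u := fun k => by
    refine PrimeSpectrum.ext ?_
    change (p'.map (Ideal.Quotient.mk (I k))).comap (Ideal.Quotient.mk (I k)) = p'
    rw [Ideal.comap_map_of_surjective _ Ideal.Quotient.mk_surjective]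
    exact sup_eq_left.mpr ((Ideal.mk_ker (I := I k)).le.trans (hI k))
  refine ⟨Spec (CommRingCat.of R'), g, u,
    MorphismProperty.comp_mem @Etale _ _ inferInstance inferInstance, hgu,
    {k : Fin n // pullback.fst f g (j (c k (pt k))) = x}, inferInstance,
    fun k => (c k.1 ≫ j).opensRange, ?_⟩
  have hfib : ∀ q, b q = u → ∃ k, q ∈ Set.range (c k) := fun q hq => by
    classical
    let q' : PrimeSpectrum ((∀ i, R' ⧸ I i) × B) :=
      PrimeSpectrum.comap e.symm.toRingEquiv.toRingHom q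
    have hq' : PrimeSpectrum.comap e.toRingEquiv.toRingHom q' = q := by
      refine PrimeSpectrum.ext (Ideal.ext fun t => ?_)
      simp [q']
    rcases Ideal.ideal_prod_prime q'.asIdeal |>.mp q'.2 with ⟨P, hP, hPq⟩ | ⟨P, hP, hPq⟩
    · obtain ⟨k, hk⟩ : ∃ k, Pi.single k (1 : R' ⧸ I k) ∉ P := by
        by_contra hk
        push Not at hk
        refine hP.ne_top ((Ideal.eq_top_iff_one _).mpr ?_)
        rw [← Finset.univ_sum_single (1 : ∀ i, R' ⧸ I i)]
        exact P.sum_mem fun i _ => hk i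
      have hk' : (Pi.single k (1 : R' ⧸ I k), (0 : B)) ∉ q'.asIdeal := by
        rw [hPq]; exact fun h => hk h.1
      obtain ⟨Q, hQ⟩ := (range_specMap_eval (fun i => R' ⧸ I i) B k q').mpr hk'
      exact ⟨k, Q, (congr_arg (PrimeSpectrum.comap e.toRingEquiv.toRingHom) hQ).trans hq'⟩
    · exfalso
      refine hB P ?_
      have hu : (b q).asIdeal = p' := congr_arg PrimeSpectrum.asIdeal hq
      rw [← hu, ← hq']
      ext r
      change algebraMap R' B r ∈ P ↔ e (algebraMap R' T r) ∈ q'.asIdeal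
      rw [hPq, e.commutes]
      exact ⟨fun h => ⟨trivial, h⟩, fun h => h.2⟩
  refine ⟨fun k => ?_, fun k => ?_, fun k => ?_, fun k k' w hw hw' _ => ?_, fun w hwu hwx => ?_⟩
  · have hrw : (c k.1 ≫ j).opensRange.ι ≫ pullback.snd f g =
        (c k.1 ≫ j).isoOpensRange.inv ≫ Spec.map (CommRingCat.ofHom (algebraMap R' (R' ⧸ I k.1))) := by
      rw [← hcb k.1, ← Category.assoc (c k.1) j, ← Category.assoc (c k.1 ≫ j).isoOpensRange.inv,
        Scheme.Hom.isoOpensRange_inv_comp]
    rw [hrw]
    have : IsClosedImmersion (Spec.map (CommRingCat.ofHom (algebraMap R' (R' ⧸ I k.1)))) :=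
      IsClosedImmersion.spec_of_surjective _ Ideal.Quotient.mk_surjective
    infer_instance
  · rintro _ ⟨q, rfl⟩
    change pullback.fst f g (j (c k.1 q)) ∈ O
    rw [← Scheme.Hom.comp_apply, hj.w, Scheme.Hom.comp_apply]
    exact hXO (hX₀.range_fromSpec.le ⟨_, rfl⟩)
  · refine ⟨_, ⟨pt k.1, rfl⟩, ?_, k.2⟩
    rw [← Scheme.Hom.comp_apply, Category.assoc, hcb]
    exact hpt k.1
  · obtain ⟨q, rfl⟩ := hw
    obtain ⟨q', hq'⟩ := hw'
    have hcc : c k'.1 q' = c k.1 q := j.isOpenEmbedding.injective hq'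
    refine Subtype.ext (by_contra fun hne => ?_)
    have hinj := (Spec.map (CommRingCat.ofHom e.toRingEquiv.toRingHom)).isOpenEmbedding.injective hcc
    have h1 := (range_specMap_eval (fun i => R' ⧸ I i) B k.1 _).mp ⟨q, rfl⟩
    refine h1 ((congr_arg PrimeSpectrum.asIdeal hinj).le ?_)
    change Pi.single (M := fun i => R' ⧸ I i) k.1 1 k'.1 ∈ q'.asIdeal
    rw [Pi.single_eq_of_ne (fun h => hne h.symm)]
    exact q'.asIdeal.zero_mem
  · have hr : w ∈ Set.range j := by
      have : pullback.fst f g w ∈ Set.range hX₀.fromSpec := by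
        rw [hX₀.range_fromSpec, hwx]; exact hxX
      obtain ⟨q, hq⟩ := this
      obtain ⟨z, hz, -⟩ := Scheme.exists_preimage_of_isPullback hj w q hq.symm
      exact ⟨z, hz⟩
    obtain ⟨q, rfl⟩ := hr
    obtain ⟨k, q, rfl⟩ := hfib q (by
      rw [← hwu, ← Scheme.Hom.comp_apply, show j ≫ pullback.snd f g = b from pullback.lift_snd _ _ _])
    have : q = pt k := by
      have : IsClosedImmersion (Spec.map (CommRingCat.ofHom (algebraMap R' (R' ⧸ I k)))) :=
        IsClosedImmersion.spec_of_surjective _ Ideal.Quotient.mk_surjective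
      apply (Spec.map (CommRingCat.ofHom (algebraMap R' (R' ⧸ I k)))).isClosedEmbedding.injective
      rw [hpt k, ← hwu, ← hcb k]
      rfl
    exact ⟨⟨k, this ▸ hwx⟩, ⟨q, rfl⟩⟩

end Groth.Agent.Lib.Unram.SplitNhd
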