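import Groth.Prelude.Def_Brnch
import Mathlib.RingTheory.Ideal.MinimalPrime.Localization
import Mathlib.RingTheory.Ideal.GoingUp
import Mathlib.FieldTheory.PurelyInseparable.Basic
import Mathlib.RingTheory.Idempotents
import Mathlib.SetTheory.Cardinal.Finite

/-!
# Local rings with exactly one branch
-/

set_option autoImplicit false

universe u

namespace Groth.Agent.Lib.Unram.OneBranch

variable (A : Type u) [CommRing A]

theorem exists_separating (hfin : (minimalPrimes A).Finite) {P : Ideal A} (hP : P ∈ minimalPrimes A) :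
    (∃ a ∈ P, ∀ Q ∈ minimalPrimes A, Q ≠ P → a ∉ Q) ∧
      ∃ b ∉ P, ∀ Q ∈ minimalPrimes A, Q ≠ P → b ∈ Q := by
  classical
  have hPp : P.IsPrime := hP.1.1
  let s := hfin.toFinset.erase P
  have hs : ∀ Q ∈ s, Q ∈ minimalPrimes A ∧ Q ≠ P := fun Q hQ => by
    obtain ⟨h1, h2⟩ := Finset.mem_erase.mp hQ
    exact ⟨hfin.mem_toFinset.mp h2, h1⟩
  constructor
  · by_contra hne
    push Not at hne
    have hsub : (P : Set A) ⊆ ⋃ Q ∈ (↑s : Set (Ideal A)), (Q : Set A) := fun a ha => by
      obtain ⟨Q, hQ, hQP, haQ⟩ := hne a ha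
      exact Set.mem_biUnion (Finset.mem_erase.mpr ⟨hQP, hfin.mem_toFinset.mpr hQ⟩) haQ
    obtain ⟨Q, hQ, hle⟩ := (Ideal.subset_union_prime ⊥ ⊥ fun Q hQ _ _ => (hs Q hQ).1.1.1).mp hsub
    exact (hs Q hQ).2 (le_antisymm ((hs Q hQ).1.2 ⟨hPp, bot_le⟩ hle) hle)
  · have h : ∀ Q ∈ s, ∃ b ∈ Q, b ∉ P := fun Q hQ => Set.not_subset.mp fun hle =>
      (hs Q hQ).2 (le_antisymm hle (hP.2 ⟨(hs Q hQ).1.1.1, bot_le⟩ hle))
    choose! b hb hb' using h
    refine ⟨∏ Q ∈ s, b Q, fun hmem => ?_, fun Q hQ hne => ?_⟩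
    · obtain ⟨Q, hQ, hQ'⟩ := (hPp.prod_mem_iff).mp hmem
      exact hb' Q hQ hQ'
    · exact Ideal.mem_of_dvd _ (Finset.dvd_prod_of_mem b
        (Finset.mem_erase.mpr ⟨hne, hfin.mem_toFinset.mpr hQ⟩))
        (hb Q (Finset.mem_erase.mpr ⟨hne, hfin.mem_toFinset.mpr hQ⟩))

theorem mem_nilradical_iff_forall (x : A) : x ∈ nilradical A ↔ ∀ Q ∈ minimalPrimes A, x ∈ Q := by
  rw [nilradical, show Ideal.radical (0 : Ideal A) = Ideal.radical ⊥ from rfl,
    ← Ideal.sInf_minimalPrimes, Submodule.mem_sInf]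

theorem isDomain_red [IsLocalRing A] (hfin : (minimalPrimes A).Finite)
    (hloc : IsLocalRing (CAlg2.normRed A)) : IsDomain (CAlg2.red A) := by
  have hsub : ∀ P ∈ minimalPrimes A, ∀ Q ∈ minimalPrimes A, Q = P := by
    intro P hP Q hQ
    by_contra hne
    obtain ⟨⟨a, haP, ha⟩, b, hbP, hb⟩ := exists_separating A hfin hP
    let R := CAlg2.red A
    let K := FractionRing R
    let a' : R := Ideal.Quotient.mk _ a
    let b' : R := Ideal.Quotient.mk _ b
    have hab : a' * b' = 0 := by
      rw [← map_mul, Ideal.Quotient.eq_zero_iff_mem, mem_nilradical_iff_forall]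
      intro Q' hQ'
      rcases eq_or_ne Q' P with rfl | h
      · exact Ideal.mul_mem_right _ _ haP
      · exact Ideal.mul_mem_left _ _ (hb Q' hQ' h)
    have hreg : a' + b' ∈ nonZeroDivisors R := by
      rw [mem_nonZeroDivisors_iff_right]
      intro c hc
      obtain ⟨c, rfl⟩ := Ideal.Quotient.mk_surjective c
      rw [← map_add, ← map_mul, Ideal.Quotient.eq_zero_iff_mem, mem_nilradical_iff_forall] at hc
      rw [Ideal.Quotient.eq_zero_iff_mem, mem_nilradical_iff_forall]
      intro Q' hQ'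
      refine (hQ'.1.1.mem_or_mem (hc Q' hQ')).resolve_right fun h => ?_
      rcases eq_or_ne Q' P with rfl | h'
      · exact hbP ((add_mem_cancel_left haP).mp h)
      · exact ha Q' hQ' h' ((add_mem_cancel_right (hb Q' hQ' h')).mp h)
    obtain ⟨v, hv⟩ := (IsLocalization.map_units K ⟨_, hreg⟩).exists_right_inv
    change algebraMap R K (a' + b') * v = 1 at hv
    let e : K := algebraMap R K a' * v
    have hee : e * e = e := by
      have h0 : algebraMap R K a' * algebraMap R K b' = 0 := by rw [← map_mul, hab, map_zero]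
      rw [map_add] at hv
      calc e * e = (algebraMap R K a' * algebraMap R K a') * v * v := by ring
        _ = (algebraMap R K a' * (algebraMap R K a' + algebraMap R K b')) * v * v := by
            rw [mul_add, h0, add_zero]
        _ = algebraMap R K a' * v * ((algebraMap R K a' + algebraMap R K b') * v) := by ring
        _ = e := by rw [hv, mul_one]
    have hint : IsIntegral R e := by
      refine ⟨Polynomial.X ^ 2 - Polynomial.X, Polynomial.monic_X_pow_sub (Polynomial.degree_X_le.trans_lt (by decide)), ?_⟩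
      simp [pow_two, hee]
    have he : IsIdempotentElem (⟨e, hint⟩ : CAlg2.normRed A) := Subtype.ext hee
    have hmul : ∀ x : K, x * v = 0 → x = 0 := fun x hx => by
      rw [← mul_one x, ← hv, mul_left_comm, hx, mul_zero]
    have hinj : ∀ x : R, algebraMap R K x = 0 → x = 0 := fun x hx =>
      IsFractionRing.injective R K (hx.trans (map_zero _).symm)
    have h01 : (⟨e, hint⟩ : CAlg2.normRed A) = 0 ∨ (⟨e, hint⟩ : CAlg2.normRed A) = 1 := by
      rcases IsLocalRing.isUnit_or_isUnit_one_sub_self (⟨e, hint⟩ : CAlg2.normRed A) with h | h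
      · exact Or.inr (h.mul_left_cancel (by rw [he.eq, mul_one]))
      · exact Or.inl (h.mul_left_cancel (by rw [sub_mul, he.eq, one_mul, sub_self, mul_zero]))
    rcases h01 with h | h
    · have h' : e = 0 := congrArg Subtype.val h
      have := hinj a' (hmul _ h')
      rw [Ideal.Quotient.eq_zero_iff_mem, mem_nilradical_iff_forall] at this
      exact ha Q hQ hne (this Q hQ)
    · have h' : e = 1 := congrArg Subtype.val h
      have h1 : algebraMap R K b' * v = 0 := by
        have : algebraMap R K a' * v + algebraMap R K b' * v = 1 := by rw [← add_mul, ← map_add, hv]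
        rw [show algebraMap R K a' * v = 1 from h'] at this
        exact add_eq_left.mp this
      have := hinj b' (hmul _ h1)
      rw [Ideal.Quotient.eq_zero_iff_mem, mem_nilradical_iff_forall] at this
      exact hbP (this P hP)
  obtain ⟨⟨P, hP⟩⟩ := Ideal.nonempty_minimalPrimes (bot_ne_top : (⊥ : Ideal A) ≠ ⊤)
  have hnil : nilradical A = P := by
    ext x
    rw [mem_nilradical_iff_forall]
    exact ⟨fun h => h P hP, fun h Q hQ => hsub P hP Q hQ ▸ h⟩
  have : (nilradical A).IsPrime := hnil ▸ hP.1.1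
  exact Ideal.Quotient.isDomain _

theorem finite_minimalPrimes_of_isDomain_red (h : IsDomain (CAlg2.red A)) :
    (minimalPrimes A).Finite := by
  have hp : (nilradical A).IsPrime := (Ideal.Quotient.isDomain_iff_prime _).mp h
  refine (Set.finite_singleton (nilradical A)).subset fun P hP => ?_
  exact le_antisymm (hP.2 ⟨hp, bot_le⟩ (nilradical_le_prime P (H := hP.1.1)))
    (nilradical_le_prime P (H := hP.1.1))

theorem isLocalRing_iff (R : Type u) [CommRing R] :
    IsLocalRing R ↔ ENat.card (MaximalSpectrum R) = 1 := by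
  constructor
  · intro h
    have : Subsingleton (MaximalSpectrum R) := ⟨fun a b => MaximalSpectrum.ext
      ((IsLocalRing.eq_maximalIdeal a.isMaximal).trans (IsLocalRing.eq_maximalIdeal b.isMaximal).symm)⟩
    have : Nonempty (MaximalSpectrum R) := ⟨⟨IsLocalRing.maximalIdeal R, inferInstance⟩⟩
    exact ENat.card_eq_one_iff_unique.mpr ⟨uniqueOfSubsingleton this.some⟩
  · intro h
    obtain ⟨hu⟩ := ENat.card_eq_one_iff_unique.mp h
    exact IsLocalRing.of_unique_max_ideal ⟨hu.default.asIdeal, hu.default.isMaximal,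
      fun I hI => congrArg MaximalSpectrum.asIdeal (hu.eq_default ⟨I, hI⟩)⟩

theorem numBranches_eq_one_iff [IsLocalRing A] :
    Brnch.numBranches A = 1 ↔ CAlg2.IsUnibranch A := by
  classical
  unfold Brnch.numBranches CAlg2.IsUnibranch
  constructor
  · intro h
    split_ifs at h with hfin
    · have hloc := (isLocalRing_iff (CAlg2.normRed A)).mpr h
      exact ⟨isDomain_red A hfin hloc, hloc⟩
    · exact absurd h (ENat.top_ne_coe 1)
  · rintro ⟨hd, hloc⟩
    rw [if_pos (finite_minimalPrimes_of_isDomain_red A hd)]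
    exact (isLocalRing_iff _).mp hloc

section Geom

variable [IsLocalRing A] (m' : MaximalSpectrum (CAlg2.normRed A))

theorem emb_spec :
    letI := Ideal.Quotient.field m'.asIdeal
    ∃ φ : IsLocalRing.ResidueField A →+* CAlg2.normRed A ⧸ m'.asIdeal,
      φ.comp (IsLocalRing.residue A) = Brnch.toResidue A m' ∧ φ.IsIntegral := by
  let := Ideal.Quotient.field m'.asIdeal
  have := m'.isMaximal
  have hint : (Brnch.toResidue A m').IsIntegral := by
    refine RingHom.IsIntegral.trans _ _ (RingHom.IsIntegral.trans _ _ ?_ ?_) ?_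
    · exact RingHom.isIntegral_of_surjective _ Ideal.Quotient.mk_surjective
    · exact algebraMap_isIntegral_iff.mpr inferInstance
    · exact RingHom.isIntegral_of_surjective _ Ideal.Quotient.mk_surjective
  have hker : IsLocalRing.maximalIdeal A ≤ RingHom.ker (Brnch.toResidue A m') := by
    have hp : (RingHom.ker (Brnch.toResidue A m')).IsPrime := RingHom.ker_isPrime _
    algebraize [Brnch.toResidue A m']
    have : ((⊥ : Ideal (CAlg2.normRed A ⧸ m'.asIdeal)).comap
        (algebraMap A (CAlg2.normRed A ⧸ m'.asIdeal))).IsMaximal :=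
      Ideal.isMaximal_comap_of_isIntegral_of_isMaximal ⊥
    exact (IsLocalRing.eq_maximalIdeal this).ge
  refine ⟨Ideal.Quotient.lift _ (Brnch.toResidue A m') hker, Ideal.Quotient.lift_comp_mk _ _ _, ?_⟩
  refine RingHom.IsIntegral.tower_top (IsLocalRing.residue A) _ ?_
  have key : ∀ g : A →+* CAlg2.normRed A ⧸ m'.asIdeal, g = Brnch.toResidue A m' → g.IsIntegral :=
    fun g hg => hg ▸ hint
  exact key _ (Ideal.Quotient.lift_comp_mk _ _ _)

theorem nonempty_emb_and_subsingleton_iff :
    Nonempty (Brnch.Emb A m') ∧ (Subsingleton (Brnch.Emb A m') ↔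
      ∀ x : CAlg2.normRed A ⧸ m'.asIdeal, ∃ n : ℕ,
        x ^ (ringExpChar (CAlg2.normRed A ⧸ m'.asIdeal)) ^ n ∈ (Brnch.toResidue A m').range) := by
  let := Ideal.Quotient.field m'.asIdeal
  obtain ⟨φ, hφ, hint⟩ := emb_spec A m'
  let κ := IsLocalRing.ResidueField A
  let L := CAlg2.normRed A ⧸ m'.asIdeal
  let : Algebra κ L := φ.toAlgebra
  have : Algebra.IsIntegral κ L := ⟨hint⟩
  let e : Brnch.Emb A m' ≃ (L →ₐ[κ] AlgebraicClosure κ) :=
    { toFun := fun σ => { σ.1 with
        commutes' := fun c => by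
          obtain ⟨a, rfl⟩ := IsLocalRing.residue_surjective c
          exact (congrArg σ.1 (RingHom.congr_fun hφ a)).trans (RingHom.congr_fun σ.2 a) }
      invFun := fun τ => ⟨τ.toRingHom, RingHom.ext fun a => by
        rw [← hφ]
        exact τ.commutes (IsLocalRing.residue A a)⟩
      left_inv := fun σ => rfl
      right_inv := fun τ => rfl }
  have hne : Nonempty (L →ₐ[κ] AlgebraicClosure κ) := ⟨IsAlgClosed.lift⟩
  have hq : ringExpChar L = ringExpChar κ := by
    have := expChar_of_injective_ringHom φ.injective (ringExpChar κ)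
    exact ringExpChar.eq L (ringExpChar κ)
  have hrange : φ.range = (Brnch.toResidue A m').range := by
    ext y
    constructor
    · rintro ⟨c, rfl⟩
      obtain ⟨a, rfl⟩ := IsLocalRing.residue_surjective c
      exact ⟨a, (RingHom.congr_fun hφ a).symm⟩
    · rintro ⟨a, rfl⟩
      exact ⟨_, RingHom.congr_fun hφ a⟩
  refine ⟨e.nonempty_congr.mpr hne, ?_⟩
  rw [e.subsingleton_congr, hq, ← hrange]
  refine Iff.trans ?_ (isPurelyInseparable_iff_pow_mem κ (ringExpChar κ) (E := L))
  rw [isPurelyInseparable_iff_finSepDegree_eq_one,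
    Field.finSepDegree_eq_of_isAlgClosed κ L (AlgebraicClosure κ), Nat.card_eq_one_iff_unique]
  exact (and_iff_left hne).symm

theorem numGeomBranches_eq_one_iff :
    Brnch.numGeomBranches A = 1 ↔ CAlg2.IsGeomUnibranch A := by
  classical
  unfold Brnch.numGeomBranches CAlg2.IsGeomUnibranch CAlg2.IsUnibranch
  constructor
  · intro h
    split_ifs at h with hfin
    · obtain ⟨hu⟩ := ENat.card_eq_one_iff_unique.mp h
      have hne := fun m => (nonempty_emb_and_subsingleton_iff A m).1
      have hsub : Subsingleton (MaximalSpectrum (CAlg2.normRed A)) := ⟨fun a b =>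
        congrArg Sigma.fst ((hu.eq_default ⟨a, (hne a).some⟩).trans
          (hu.eq_default ⟨b, (hne b).some⟩).symm)⟩
      have hloc : IsLocalRing (CAlg2.normRed A) := (isLocalRing_iff _).mpr
        (ENat.card_eq_one_iff_unique.mpr ⟨uniqueOfSubsingleton hu.default.1⟩)
      refine ⟨⟨isDomain_red A hfin hloc, hloc⟩, fun m hm => ?_⟩
      refine (nonempty_emb_and_subsingleton_iff A ⟨m, hm⟩).2.mp ⟨fun σ τ => ?_⟩
      exact eq_of_heq (Sigma.mk.inj_iff.mp
        ((hu.eq_default ⟨⟨m, hm⟩, σ⟩).trans (hu.eq_default ⟨⟨m, hm⟩, τ⟩).symm)).2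
    · exact absurd h (ENat.top_ne_coe 1)
  · rintro ⟨⟨hd, hloc⟩, hpi⟩
    rw [if_pos (finite_minimalPrimes_of_isDomain_red A hd)]
    obtain ⟨hu⟩ := ENat.card_eq_one_iff_unique.mp ((isLocalRing_iff _).mp hloc)
    have hs : Subsingleton (MaximalSpectrum (CAlg2.normRed A)) := hu.instSubsingleton
    have hsub : ∀ m, Subsingleton (Brnch.Emb A m) := fun m =>
      (nonempty_emb_and_subsingleton_iff A m).2.mpr (@hpi m.asIdeal m.isMaximal)
    have : Subsingleton (Σ m, Brnch.Emb A m) := ⟨fun p q => by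
      obtain ⟨m, σ⟩ := p; obtain ⟨n, τ⟩ := q
      obtain rfl : m = n := Subsingleton.elim m n
      rw [(hsub m).elim σ τ]⟩
    exact ENat.card_eq_one_iff_unique.mpr
      ⟨uniqueOfSubsingleton ⟨hu.default, (nonempty_emb_and_subsingleton_iff A hu.default).1.some⟩⟩

end Geom

theorem isGeomUnibranch_of_isIntegrallyClosed [IsLocalRing A] [IsDomain A] [IsIntegrallyClosed A] :
    CAlg2.IsGeomUnibranch A := by
  have hnil : nilradical A = ⊥ := nilradical_eq_zero A
  let e : A ≃+* CAlg2.red A :=
    RingEquiv.ofBijective (Ideal.Quotient.mk (nilradical A))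
      ⟨(RingHom.injective_iff_ker_eq_bot _).mpr (by rw [Ideal.mk_ker, hnil]),
        Ideal.Quotient.mk_surjective⟩
  have : IsDomain (CAlg2.red A) := e.toMulEquiv.isDomain_iff.mp inferInstance
  have : IsIntegrallyClosed (CAlg2.red A) := IsIntegrallyClosed.of_equiv e
  have hsurj : Function.Surjective (algebraMap (CAlg2.red A) (CAlg2.normRed A)) := fun x => by
    have hx : x.1 ∈ (⊥ : Subalgebra (CAlg2.red A) (FractionRing (CAlg2.red A))) :=
      (IsIntegrallyClosed.integralClosure_eq_bot (CAlg2.red A)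
        (FractionRing (CAlg2.red A))).le x.2
    obtain ⟨r, hr⟩ := hx
    exact ⟨r, Subtype.ext hr⟩
  have hloc : IsLocalRing (CAlg2.normRed A) := IsLocalRing.of_surjective'
    ((algebraMap (CAlg2.red A) (CAlg2.normRed A)).comp (Ideal.Quotient.mk _))
    (hsurj.comp Ideal.Quotient.mk_surjective)
  refine ⟨⟨inferInstance, hloc⟩, fun m' _ x => ⟨0, ?_⟩⟩
  obtain ⟨y, hy⟩ := (Ideal.Quotient.mk_surjective.comp (hsurj.comp Ideal.Quotient.mk_surjective)) x
  exact ⟨y, by simpa using hy⟩

end Groth.Agent.Lib.Unram.OneBranch
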