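import Groth.Agent.Lib.EtaPt.FlatComponents
import Mathlib.AlgebraicGeometry.Morphisms.QuasiFinite
import Mathlib.AlgebraicGeometry.Morphisms.UniversallyOpen
import Mathlib.Topology.Sober
import Mathlib.Topology.LocallyFinite

/-!
# Irreducible components of flat locally quasi-finite schemes
-/

set_option autoImplicit false

universe u

open CategoryTheory AlgebraicGeometry

namespace Groth.Agent.Lib.Unram.QuasiFiniteComponents

theorem closure_mem_irreducibleComponents_iff {X : Scheme.{u}} (x : X) :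
    closure ({x} : Set X) ∈ irreducibleComponents X ↔ ∀ x' : X, x' ⤳ x → x' = x := by
  constructor
  · intro h x' hx'
    have h1 : closure ({x} : Set X) ⊆ closure {x'} :=
      specializes_iff_closure_subset.mp hx'
    have h2 := h.2 isIrreducible_singleton.closure h1
    exact ((specializes_iff_mem_closure.mpr (h2 (subset_closure rfl))).antisymm hx').eq.symm
  · intro h
    refine ⟨isIrreducible_singleton.closure, fun Z hZ hle => ?_⟩
    have hg := hZ.isGenericPoint_genericPoint_closure
    have := h _ (hg.specializes (subset_closure (hle (subset_closure rfl))))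
    rw [← this, hg.def]
    exact subset_closure

theorem mem_genericFibre_iff {X Y : Scheme.{u}} [IrreducibleSpace ↥Y] (f : X ⟶ Y)
    [Flat f] [LocallyQuasiFinite f] (x : X) :
    f x = genericPoint Y ↔ closure ({x} : Set X) ∈ irreducibleComponents X := by
  rw [closure_mem_irreducibleComponents_iff]
  constructor
  · intro hx x' hx'
    have h' : f x' = genericPoint Y :=
      (((hx'.map f.continuous).trans (hx ▸ le_rfl)).antisymm (genericPoint_specializes _)).eq
    have hdisc := f.isDiscrete_preimage_singleton (genericPoint Y)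
    have : DiscreteTopology (f ⁻¹' {genericPoint Y}) := isDiscrete_iff_discreteTopology.mp hdisc
    have hsp : (⟨x', h'⟩ : f ⁻¹' {genericPoint Y}) ⤳ ⟨x, hx⟩ := Topology.IsInducing.subtypeVal.specializes_iff.mp hx'
    exact congrArg Subtype.val hsp.eq
  · intro h
    obtain ⟨x', hx', hfx⟩ := Flat.generalizingMap f (genericPoint_specializes (f x))
    rw [h x' hx'] at hfx
    exact hfx

theorem locallyFinite_irreducibleComponents {X Y : Scheme.{u}} (f : X ⟶ Y)
    [Flat f] [LocallyOfFiniteType f]
    (hY : LocallyFinite (fun Z : ↥(irreducibleComponents ↥Y) => (Z : Set ↥Y))) :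
    LocallyFinite (fun Z : ↥(irreducibleComponents ↥X) => (Z : Set ↥X)) := by
  intro x
  obtain ⟨U, hU, hxU, -⟩ := exists_isAffineOpen_mem_and_subset (x := f x) (U := (⊤ : Y.Opens)) trivial
  obtain ⟨W, hW, hxW, hWle⟩ := exists_isAffineOpen_mem_and_subset
    (x := x) (U := f ⁻¹ᵁ U) hxU
  refine ⟨W, W.2.mem_nhds hxW, ?_⟩
  have hfin : (irreducibleComponents (U : Type u)).Finite := by
    have h1 := hY.finite_nonempty_inter_compact hU.isCompact
    refine (h1.image fun Z : irreducibleComponents Y => (Subtype.val ⁻¹' (Z : Set Y) : Set (U : Type u))).subset fun t ht => ?_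
    have hirr : IsIrreducible (closure (Subtype.val '' t)) :=
      (ht.1.image _ continuous_subtype_val.continuousOn).closure
    obtain ⟨Z, hZ, hle⟩ := exists_mem_irreducibleComponents_subset_of_isIrreducible _ hirr
    obtain ⟨z, hz⟩ := ht.1.nonempty
    have hzZ : z.1 ∈ Z := hle (subset_closure ⟨z, hz, rfl⟩)
    refine ⟨⟨Z, hZ⟩, ⟨z.1, hzZ, z.2⟩, ?_⟩
    have h2 : Subtype.val ⁻¹' Z ∈ irreducibleComponents (U : Type u) :=
      preimage_mem_irreducibleComponents hZ U.2.isOpenEmbedding_subtypeVal ⟨z.1, hzZ, z, rfl⟩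
    exact le_antisymm (ht.2 h2.1 fun a ha => hle (subset_closure ⟨a, ha, rfl⟩))
      (fun a ha => hle (subset_closure ⟨a, ha, rfl⟩))
  have hflat := f.flat_appLE hU hW hWle
  have hft := f.finiteType_appLE hU hW hWle
  algebraize [(f.appLE U W hWle).hom]
  have hA : (minimalPrimes Γ(Y, U)).Finite :=
    (Lib.EtaPt.FlatComponents.finite_irreducibleComponents_spec_iff _).mp
      (Lib.EtaPt.FlatComponents.finite_of_homeomorph (Scheme.homeoOfIso hU.isoSpec) hfin)
  have hWfin : (irreducibleComponents (W : Type u)).Finite :=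
    Lib.EtaPt.FlatComponents.finite_of_homeomorph (Scheme.homeoOfIso hW.isoSpec).symm
      ((Lib.EtaPt.FlatComponents.finite_irreducibleComponents_spec_iff _).mpr
        (Lib.EtaPt.FlatComponents.finite_minimalPrimes_of_flat Γ(Y, U) Γ(X, W) hA))
  refine Set.Finite.of_finite_image (f := fun Z : irreducibleComponents X =>
    (Subtype.val ⁻¹' (Z : Set X) : Set (W : Type u))) (hWfin.subset ?_) ?_
  · rintro _ ⟨Z, ⟨z, hzZ, hzW⟩, rfl⟩
    exact preimage_mem_irreducibleComponents Z.2 W.2.isOpenEmbedding_subtypeVal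
      ⟨z, hzZ, ⟨z, hzW⟩, rfl⟩
  · rintro Z ⟨z, hzZ, hzW⟩ Z' ⟨z', hzZ', hzW'⟩ heq
    have key : ∀ (T : irreducibleComponents X), ((T : Set X) ∩ W).Nonempty →
        closure ((T : Set X) ∩ W) = T := fun T hT =>
      le_antisymm ((closure_mono Set.inter_subset_left).trans
        (isClosed_of_mem_irreducibleComponents _ T.2).closure_eq.subset)
        (subset_closure_inter_of_isPreirreducible_of_isOpen T.2.1.2 W.2 hT)
    have h3 : (Z : Set X) ∩ W = (Z' : Set X) ∩ W := Set.ext fun a =>
      ⟨fun ⟨h, hw⟩ => ⟨(Set.ext_iff.mp heq ⟨a, hw⟩).mp h, hw⟩,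
        fun ⟨h, hw⟩ => ⟨(Set.ext_iff.mp heq ⟨a, hw⟩).mpr h, hw⟩⟩
    exact Subtype.ext (by rw [← key Z ⟨z, hzZ, hzW⟩, ← key Z' ⟨z', hzZ', hzW'⟩]; exact congrArg _ h3)

end Groth.Agent.Lib.Unram.QuasiFiniteComponents
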