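import Groth.Agent.Lib.Unram.Radicial
import Groth.Agent.Lib.Unram.QuasiFiniteComponents
import Mathlib.AlgebraicGeometry.Morphisms.UniversallyOpen

/-!
# Birational morphisms are stable under flat base change
-/

set_option autoImplicit false

universe u

open CategoryTheory CategoryTheory.Limits AlgebraicGeometry

namespace Groth.Agent.Lib.Unram.BirationalBaseChange

open QuasiFiniteComponents

theorem mem_genericPoints_iff {X : Scheme.{u}} (x : X) :
    x ∈ genericPoints X ↔ ∀ x' : X, x' ⤳ x → x' = x :=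
  closure_mem_irreducibleComponents_iff x

theorem map_mem_genericPoints {X Y : Scheme.{u}} (g : X ⟶ Y) [Flat g] {x : X}
    (hx : x ∈ genericPoints X) : g x ∈ genericPoints Y := by
  rw [mem_genericPoints_iff] at hx ⊢
  intro η hη
  obtain ⟨x', hx', hgx'⟩ := Flat.generalizingMap g hη
  rw [← hgx', hx x' hx']

theorem isBirational_baseChange {X Y X' Y' : Scheme.{u}} {f : X ⟶ Y} {g : Y' ⟶ Y} [Flat g]
    {f' : X' ⟶ Y'} {g' : X' ⟶ X} (sq : IsPullback g' f' f g) (hf : RadPt.IsBirational f) :
    RadPt.IsBirational f' := by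
  obtain ⟨hbij, hfib⟩ := hf
  have : Flat g' := MorphismProperty.of_isPullback sq.flip ‹Flat g›
  have hrad : ∀ y' : Y', g y' ∈ genericPoints Y → RadPt.IsRadicialAt f' y' := fun y' hy =>
    (Radicial.isRadicialAt_iff_of_isPullback sq y').mp
      ⟨(hfib _ hy).1, fun x hx =>
        Radicial.isPurelyInseparable_of_bijective ((hfib _ hy).2 x hx)⟩
  have hsec : ∀ y ∈ genericPoints Y,
      ∃ σ : Spec (Y.residueField y) ⟶ X, σ ≫ f = Y.fromSpecResidueField y := by
    intro y hy
    obtain ⟨x, -, rfl⟩ := hbij.surjOn hy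
    have : IsIso (f.residueFieldMap x) :=
      (ConcreteCategory.isIso_iff_bijective _).mpr ((hfib _ hy).2 x rfl)
    exact ⟨Spec.map (inv (f.residueFieldMap x)) ≫ X.fromSpecResidueField x, by
      rw [Category.assoc, ← Scheme.Hom.SpecMap_residueFieldMap_fromSpecResidueField,
        ← Spec.map_comp_assoc, IsIso.hom_inv_id, Spec.map_id, Category.id_comp]⟩
  have hmain : ∀ y' : Y', g y' ∈ genericPoints Y →
      ∃ w : X', f' w = y' ∧ Function.Bijective (f'.residueFieldMap w).hom := by
    intro y' hy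
    obtain ⟨σ, hσ⟩ := hsec (g y') hy
    let τ := sq.lift (Spec.map (g.residueFieldMap y') ≫ σ) (Y'.fromSpecResidueField y') (by
      rw [Category.assoc, hσ, Scheme.Hom.SpecMap_residueFieldMap_fromSpecResidueField])
    have hτ : τ ≫ f' = Y'.fromSpecResidueField y' := sq.lift_snd _ _ _
    refine ⟨τ (IsLocalRing.closedPoint _), ?_, ?_⟩
    · rw [← Scheme.Hom.comp_apply, hτ]; exact Y'.fromSpecResidueField_apply y' _
    · have hp : IsPreimmersion (τ ≫ f') := by rw [hτ]; infer_instance
      have h1 := Radicial.bijective_residueFieldMap (τ ≫ f') (IsLocalRing.closedPoint _)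
      rw [Scheme.residueFieldMap_comp] at h1
      refine ⟨(f'.residueFieldMap _).hom.injective, fun b => ?_⟩
      obtain ⟨a, ha⟩ := h1.2 ((τ.residueFieldMap (IsLocalRing.closedPoint _)).hom b)
      exact ⟨a, (τ.residueFieldMap (IsLocalRing.closedPoint _)).hom.injective ha⟩
  have hmax : ∀ x' ∈ genericPoints X', f' x' ∈ genericPoints Y' := by
    intro x' hx'
    have hy : g (f' x') ∈ genericPoints Y := by
      rw [← Scheme.Hom.comp_apply, ← sq.w, Scheme.Hom.comp_apply]
      exact hbij.mapsTo (map_mem_genericPoints g' hx')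
    rw [mem_genericPoints_iff] at hx' ⊢
    intro η hη
    have hgη : g η = g (f' x') := (mem_genericPoints_iff _).mp hy _ (hη.map g.continuous)
    obtain ⟨σ, hσ⟩ := hsec _ hy
    let Φ : g.fiber (g (f' x')) ⟶ X' :=
      sq.lift (g.fiberToSpecResidueField _ ≫ σ) (g.fiberι _) (by
        rw [Category.assoc, hσ, ← Scheme.Hom.fiber_fac])
    have hΦ : ∀ z, f' (Φ z) = g.fiberι _ z := fun z => by
      rw [← Scheme.Hom.comp_apply, IsPullback.lift_snd]
    obtain ⟨a, rfl⟩ : η ∈ Set.range (g.fiberι (g (f' x'))) := (g.range_fiberι _).ge hgη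
    obtain ⟨b, hb⟩ : f' x' ∈ Set.range (g.fiberι (g (f' x'))) := (g.range_fiberι _).ge rfl
    have hsp : a ⤳ b :=
      (g.fiberι (g (f' x'))).isEmbedding.isInducing.specializes_iff.mp (hb.symm ▸ hη)
    have hΦb : Φ b = x' := (hrad (f' x') hy).1 _ _ ((hΦ b).trans hb) rfl
    have h3 := hx' (Φ a) ((hsp.map Φ.continuous).trans (specializes_of_eq hΦb))
    rw [← hΦ a, h3]
  refine ⟨⟨hmax, fun a ha b hb hab => ?_, fun y' hy' => ?_⟩, fun y' hy' => ⟨?_, fun x hx => ?_⟩⟩
  · exact (hrad (f' b) (map_mem_genericPoints g (hmax b hb))).1 a b hab rfl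
  · have hy := map_mem_genericPoints g hy'
    obtain ⟨w, hw, -⟩ := hmain y' hy
    refine ⟨w, (mem_genericPoints_iff w).mpr fun x'' hx'' => ?_, hw⟩
    refine (hrad y' hy).1 _ _ ?_ hw
    exact (mem_genericPoints_iff y').mp hy' _ (hw ▸ hx''.map f'.continuous)
  · exact fun x x' h h' => (hrad y' (map_mem_genericPoints g hy')).1 x x' h h'
  · obtain ⟨w, hw, hwb⟩ := hmain y' (map_mem_genericPoints g hy')
    rw [(hrad y' (map_mem_genericPoints g hy')).1 x w hx hw]
    exact hwb

end Groth.Agent.Lib.Unram.BirationalBaseChange
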