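import Groth.Agent.Lib.Unram.UnibranchBirationalAlg
import Groth.Agent.Lib.Unram.BirationalBaseChange
import Groth.Agent.Lib.Cyc.FieldDim
import Mathlib.AlgebraicGeometry.Morphisms.Integral
import Mathlib.FieldTheory.PurelyInseparable.Basic

/-!
# Geometrically unibranch points under integral birational morphisms
-/

set_option autoImplicit false

universe u

open IsLocalRing AlgebraicGeometry

namespace Groth.Agent.Lib.Unram.UnibranchBirational

open UnibranchBirationalAlg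

section Loc

variable (R S : Type u) [CommRing R] [CommRing S] [Algebra R S] [Algebra.IsIntegral R S]
  (p : Ideal R) [p.IsPrime]

local notation "A" => Localization.AtPrime p
local notation "M'" => Algebra.algebraMapSubmonoid S p.primeCompl
local notation "B" => Localization M'

theorem comap_minimalPrimes {R₀ : Type u} [CommRing R₀] (N : Submonoid R₀) (T : Type u)
    [CommRing T] [Algebra R₀ T] [IsLocalization N T] {Q : Ideal T} (hQ : Q ∈ minimalPrimes T) :
    Q.comap (algebraMap R₀ T) ∈ minimalPrimes R₀ := by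
  refine ⟨⟨hQ.1.1.comap _, bot_le⟩, fun q' hq' hle => ?_⟩
  have hdisj : Disjoint (N : Set R₀) (q' : Set R₀) :=
    ((IsLocalization.isPrime_iff_isPrime_disjoint N T Q).mp hQ.1.1).2.mono_right hle
  have := hQ.2 ⟨IsLocalization.isPrime_of_isPrime_disjoint N T q' hq'.1 hdisj, bot_le⟩
    (Ideal.map_le_iff_le_comap.mpr hle)
  refine (Ideal.comap_mono this).trans ?_
  exact (IsLocalization.comap_map_of_isPrime_disjoint N T hq'.1 hdisj).le

theorem loc_main (h1 : ∀ q ∈ minimalPrimes S, q.comap (algebraMap R S) ∈ minimalPrimes R)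
    (h2 : ∀ P ∈ minimalPrimes R, P ≤ p →
      ∃! q : Ideal S, q.IsPrime ∧ q.comap (algebraMap R S) = P)
    (h3 : ∀ P ∈ minimalPrimes R, ∀ q : Ideal S, q.IsPrime → q.comap (algebraMap R S) = P →
      ∀ s : S, ∃ r u : R, u ∉ P ∧ algebraMap R S u * s - algebraMap R S r ∈ q) :
    CAlg2.IsGeomUnibranch A ↔ ∃ (q : Ideal S) (_ : q.IsPrime),
      q.comap (algebraMap R S) = p ∧
      (∀ q' : Ideal S, q'.IsPrime → q'.comap (algebraMap R S) = p → q' = q) ∧
      CAlg2.IsGeomUnibranch (Localization.AtPrime q) ∧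
      ∀ s : S, ∃ (n : ℕ) (r u : R), u ∉ p ∧
        algebraMap R S u * s ^ (ringExpChar (ResidueField A)) ^ n - algebraMap R S r ∈ q := by
  have hsq : ∀ Q : Ideal B, (Q.comap (algebraMap S B)).comap (algebraMap R S) =
      (Q.comap (algebraMap A B)).comap (algebraMap R A) := fun Q => by
    rw [Ideal.comap_comap, Ideal.comap_comap, ← IsScalarTower.algebraMap_eq R S B,
      ← IsScalarTower.algebraMap_eq R A B]
  have hdis : ∀ q : Ideal S, q.comap (algebraMap R S) ≤ p →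
      Disjoint (M' : Set S) (q : Set S) := fun q hq => Set.disjoint_left.mpr fun x hx hxq => by
    obtain ⟨r, hr, rfl⟩ := hx
    exact hr (hq hxq)
  have hcomap_inj : ∀ P P' : Ideal A, P.comap (algebraMap R A) = P'.comap (algebraMap R A) →
      P = P' := fun P P' h => by
    exact (IsLocalization.map_comap p.primeCompl A P).symm.trans
      ((congrArg (Ideal.map (algebraMap R A)) h).trans (IsLocalization.map_comap p.primeCompl A P'))
  have hle : ∀ (P : Ideal A), P.IsPrime → P.comap (algebraMap R A) ≤ p := fun P hP => by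
    exact (Ideal.comap_mono (IsLocalRing.le_maximalIdeal hP.ne_top)).trans
      (Localization.AtPrime.comap_maximalIdeal (I := p)).le
  have H1 : ∀ Q ∈ minimalPrimes B, Q.comap (algebraMap A B) ∈ minimalPrimes A := by
    intro Q hQ
    have hq := h1 _ (comap_minimalPrimes M' B hQ)
    rw [hsq] at hq
    refine ⟨⟨hQ.1.1.comap _, bot_le⟩, fun P' hP' hle' => ?_⟩
    exact (hcomap_inj _ _ (le_antisymm (Ideal.comap_mono hle')
      (hq.2 ⟨hP'.1.comap _, bot_le⟩ (Ideal.comap_mono hle')))).ge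
  have H2 : ∀ P ∈ minimalPrimes A, ∃! Q : Ideal B, Q.IsPrime ∧ Q.comap (algebraMap A B) = P := by
    intro P hP
    obtain ⟨q, ⟨hq, hqP⟩, huq⟩ :=
      h2 _ (comap_minimalPrimes p.primeCompl A hP) (hle P hP.1.1)
    have hd := hdis q (hqP ▸ hle P hP.1.1)
    refine ⟨q.map (algebraMap S B), ⟨IsLocalization.isPrime_of_isPrime_disjoint M' B q hq hd, ?_⟩, ?_⟩
    · apply hcomap_inj
      rw [← hsq]
      exact (congrArg (Ideal.comap (algebraMap R S))
        (IsLocalization.comap_map_of_isPrime_disjoint M' B hq hd)).trans hqP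
    · rintro Q ⟨hQ, hQP⟩
      refine (IsLocalization.map_comap M' B Q).symm.trans ?_
      exact congrArg (Ideal.map (algebraMap S B)) (huq _ ⟨hQ.comap _, by rw [hsq, hQP]⟩)
  have hmu : ∀ u : R, u ∈ p.primeCompl → IsUnit (algebraMap S B (algebraMap R S u)) := fun u hu =>
    IsLocalization.map_units B (⟨algebraMap R S u, ⟨u, hu, rfl⟩⟩ : M')
  have hRB : ∀ r : R, algebraMap A B (algebraMap R A r) = algebraMap S B (algebraMap R S r) :=
    fun r => (IsScalarTower.algebraMap_apply R A B r).symm.trans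
      (IsScalarTower.algebraMap_apply R S B r)
  have H3 : ∀ P ∈ minimalPrimes A, ∀ Q : Ideal B, Q.IsPrime → Q.comap (algebraMap A B) = P →
      ∀ b : B, ∃ a t : A, t ∉ P ∧ algebraMap A B t * b - algebraMap A B a ∈ Q := by
    intro P hP Q hQ hQP b
    obtain ⟨⟨s, ⟨_, w, hw, rfl⟩⟩, hb⟩ := IsLocalization.surj M' b
    obtain ⟨r, u, hu, h⟩ := h3 _ (comap_minimalPrimes p.primeCompl A hP) _ (hQ.comap _)
      (by rw [hsq, hQP]) s
    refine ⟨algebraMap R A r, algebraMap R A (u * w), fun hmem => ?_, ?_⟩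
    · have hmem' : u * w ∈ P.comap (algebraMap R A) := hmem
      rcases (hP.1.1.comap _).mem_or_mem hmem' with h' | h'
      · exact hu h'
      · exact hw (hle P hP.1.1 h')
    · have h' : algebraMap S B (algebraMap R S u * s - algebraMap R S r) ∈ Q := h
      rw [map_sub, map_mul] at h'
      dsimp only at hb
      rw [hRB, hRB, map_mul, map_mul, mul_assoc, mul_comm _ b, hb]
      exact h'
  have hint : Algebra.IsIntegral A B := by
    rw [← algebraMap_isIntegral_iff,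
      IsLocalization.algebraMap_eq_map_map_submonoid p.primeCompl S A B]
    exact isIntegral_localization
  have hmax : ∀ Q : Ideal B, Q.IsMaximal →
      (Q.comap (algebraMap S B)).comap (algebraMap R S) = p := fun Q hQ => by
    have : (Q.comap (algebraMap A B)).IsMaximal :=
      Ideal.isMaximal_comap_of_isIntegral_of_isMaximal Q
    rw [hsq, IsLocalRing.eq_maximalIdeal this]
    exact Localization.AtPrime.comap_maximalIdeal
  have hmax' : ∀ q : Ideal S, q.IsPrime → q.comap (algebraMap R S) = p →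
      (q.map (algebraMap S B)).IsMaximal ∧
        (q.map (algebraMap S B)).comap (algebraMap S B) = q := fun q hq hqp => by
    have hd := hdis q hqp.le
    have h' := IsLocalization.comap_map_of_isPrime_disjoint M' B hq hd
    have hQ := IsLocalization.isPrime_of_isPrime_disjoint M' B q hq hd
    refine ⟨Ideal.isMaximal_of_isIntegral_of_isMaximal_comap (R := A) _ ?_, h'⟩
    have he : (q.map (algebraMap S B)).comap (algebraMap A B) = maximalIdeal A := by
      apply hcomap_inj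
      rw [← hsq]
      exact ((congrArg (Ideal.comap (algebraMap R S)) h').trans hqp).trans
        Localization.AtPrime.comap_maximalIdeal.symm
    rw [he]
    exact maximalIdeal.isMaximal A
  have hloc : ∀ [IsLocalRing B] (q : Ideal S) [q.IsPrime],
      (maximalIdeal B).comap (algebraMap S B) = q →
        ∃ _ : IsLocalization.AtPrime B q, True := fun {_} q _ hq => by
    refine ⟨IsLocalization.of_le M' q.primeCompl ?_ ?_, trivial⟩
    · rintro _ ⟨r, hr, rfl⟩ hmem
      have hmem' : algebraMap R S r ∈ (maximalIdeal B).comap (algebraMap S B) := hq.symm ▸ hmem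
      exact (IsLocalRing.notMem_maximalIdeal.mpr (hmu r hr)) hmem'
    · intro x hx
      refine IsLocalRing.notMem_maximalIdeal.mp fun h => hx ?_
      rw [← hq]
      exact h
  rw [main A B H1 H2 H3]
  constructor
  · rintro ⟨hB, hGU, hres⟩
    have := maximalIdeal.isMaximal B
    let q := (maximalIdeal B).comap (algebraMap S B)
    have hqp : q.comap (algebraMap R S) = p := hmax _ ‹_›
    have hqprime : q.IsPrime := Ideal.IsPrime.comap _
    obtain ⟨_, -⟩ := hloc q rfl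
    refine ⟨q, hqprime, hqp, fun q' hq' hq'p => ?_, ?_, fun s => ?_⟩
    · obtain ⟨hm, hc⟩ := hmax' q' hq' hq'p
      rw [← hc, IsLocalRing.eq_maximalIdeal hm]
    · exact isGeomUnibranch_of_ringEquiv
        (IsLocalization.algEquiv q.primeCompl B (Localization.AtPrime q)).toRingEquiv hGU
    · obtain ⟨n, a, ha⟩ := hres (algebraMap S B s)
      obtain ⟨⟨r, ⟨u, hu⟩⟩, hr⟩ := IsLocalization.surj p.primeCompl a
      refine ⟨n, r, u, hu, ?_⟩
      change algebraMap S B _ ∈ maximalIdeal B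
      have := Ideal.mul_mem_left _ (algebraMap S B (algebraMap R S u)) ha
      dsimp only at hr
      rw [mul_sub, ← hRB u, ← map_mul (algebraMap A B), mul_comm _ a, hr, hRB, hRB, ← map_pow,
        ← map_mul, ← map_sub] at this
      exact this
  · rintro ⟨q, hq, hqp, huq, hGU, hres⟩
    obtain ⟨hm, hc⟩ := hmax' q hq hqp
    have hB : IsLocalRing B := IsLocalRing.of_unique_max_ideal ⟨_, hm, fun Q hQ => by
      refine (IsLocalization.map_comap M' B Q).symm.trans ?_
      exact congrArg (Ideal.map (algebraMap S B)) (huq _ (hQ.isPrime.comap _) (hmax Q hQ))⟩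
    have hqe : (maximalIdeal B).comap (algebraMap S B) = q := by
      rw [← IsLocalRing.eq_maximalIdeal hm, hc]
    obtain ⟨_, -⟩ := hloc q hqe
    refine ⟨hB, isGeomUnibranch_of_ringEquiv
      (IsLocalization.algEquiv q.primeCompl (Localization.AtPrime q) B).toRingEquiv hGU, fun b => ?_⟩
    obtain ⟨⟨s, ⟨_, w, hw, rfl⟩⟩, hb⟩ := IsLocalization.surj M' b
    dsimp only at hb
    obtain ⟨n, r, u, hu, h⟩ := hres s
    let N := (ringExpChar (ResidueField A)) ^ n
    have huw : u * w ^ N ∈ p.primeCompl := mul_mem hu (pow_mem hw N)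
    refine ⟨n, IsLocalization.mk' A r ⟨_, huw⟩, ?_⟩
    rw [← hqe, Ideal.mem_comap] at h
    refine (Ideal.unit_mul_mem_iff_mem _ (hmu _ huw)).mp ?_
    rw [mul_sub, ← hRB (u * w ^ N), ← map_mul (algebraMap A B), mul_comm _ (IsLocalization.mk' A r _),
      IsLocalization.mk'_spec, hRB, hRB]
    simp only [map_mul, map_pow, map_sub] at h ⊢
    rw [mul_assoc, ← mul_pow, mul_comm _ b, hb]
    exact h

end Loc

section Geom

variable {X Y : Scheme.{u}}

theorem exists_point {V : X.Opens} (hV : IsAffineOpen V) (q : Ideal Γ(X, V)) [hq : q.IsPrime] :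
    ∃ (x : X) (hx : x ∈ V), (hV.primeIdealOf ⟨x, hx⟩).asIdeal = q := by
  refine ⟨hV.fromSpec ⟨q, hq⟩, hV.range_fromSpec.le ⟨_, rfl⟩, ?_⟩
  have := hV.fromSpec.isEmbedding.injective
    (hV.fromSpec_primeIdealOf ⟨hV.fromSpec ⟨q, hq⟩, hV.range_fromSpec.le ⟨_, rfl⟩⟩)
  exact congrArg PrimeSpectrum.asIdeal this

theorem primeIdealOf_mem_minimalPrimes_iff {V : X.Opens} (hV : IsAffineOpen V) {x : X}
    (hx : x ∈ V) :
    (hV.primeIdealOf ⟨x, hx⟩).asIdeal ∈ minimalPrimes Γ(X, V) ↔ x ∈ genericPoints X := by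
  rw [BirationalBaseChange.mem_genericPoints_iff]
  constructor
  · intro h x' hx'
    have hx'V : x' ∈ V := hx'.mem_open V.2 hx
    have hle : (hV.primeIdealOf ⟨x', hx'V⟩).asIdeal ≤ (hV.primeIdealOf ⟨x, hx⟩).asIdeal :=
      (Cyc.FieldDim.primeIdealOf_le_iff hV hx hx'V).mpr hx'
    exact ((Cyc.FieldDim.primeIdealOf_le_iff hV hx'V hx).mp
      (h.2 ⟨(hV.primeIdealOf ⟨x', hx'V⟩).isPrime, bot_le⟩ hle)).antisymm hx' |>.eq.symm
  · intro h
    refine ⟨⟨(hV.primeIdealOf ⟨x, hx⟩).isPrime, bot_le⟩, fun q hq hle => ?_⟩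
    have := hq.1
    obtain ⟨x', hx'V, rfl⟩ := exists_point hV q
    obtain rfl := h x' ((Cyc.FieldDim.primeIdealOf_le_iff hV hx hx'V).mp hle)
    exact le_rfl

theorem isGeomUnibranch_stalk_iff {V : X.Opens} (hV : IsAffineOpen V) {x : X} (hx : x ∈ V) :
    CAlg2.IsGeomUnibranch (X.presheaf.stalk x) ↔
      CAlg2.IsGeomUnibranch (Localization.AtPrime (hV.primeIdealOf ⟨x, hx⟩).asIdeal) := by
  let := (X.presheaf.germ V x hx).hom.toAlgebra
  have : IsLocalization.AtPrime (X.presheaf.stalk x) (hV.primeIdealOf ⟨x, hx⟩).asIdeal :=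
    hV.isLocalization_stalk ⟨x, hx⟩
  let e := (IsLocalization.algEquiv (hV.primeIdealOf ⟨x, hx⟩).asIdeal.primeCompl
    (X.presheaf.stalk x) (Localization.AtPrime (hV.primeIdealOf ⟨x, hx⟩).asIdeal)).toRingEquiv
  exact ⟨isGeomUnibranch_of_ringEquiv e, isGeomUnibranch_of_ringEquiv e.symm⟩

theorem ringExpChar_eq {U : Y.Opens} (hU : IsAffineOpen U) {y : Y} (hy : y ∈ U) :
    ringExpChar (ResidueField (Localization.AtPrime (hU.primeIdealOf ⟨y, hy⟩).asIdeal)) =
      ringExpChar (Y.residueField y) := by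
  let := (Y.presheaf.germ U y hy).hom.toAlgebra
  have : IsLocalization.AtPrime (Y.presheaf.stalk y) (hU.primeIdealOf ⟨y, hy⟩).asIdeal :=
    hU.isLocalization_stalk ⟨y, hy⟩
  let g : ResidueField (Localization.AtPrime (hU.primeIdealOf ⟨y, hy⟩).asIdeal) →+*
      Y.residueField y :=
    (IsLocalRing.ResidueField.mapEquiv (IsLocalization.algEquiv
      (hU.primeIdealOf ⟨y, hy⟩).asIdeal.primeCompl
      (Localization.AtPrime (hU.primeIdealOf ⟨y, hy⟩).asIdeal) (Y.presheaf.stalk y)).toRingEquiv).toRingHom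
  have := expChar_of_injective_ringHom g.injective
    (ringExpChar (ResidueField (Localization.AtPrime (hU.primeIdealOf ⟨y, hy⟩).asIdeal)))
  exact (ringExpChar.eq (Y.residueField y) _).symm

theorem comap_primeIdealOf {U : Y.Opens} (hU : IsAffineOpen U) (f : X ⟶ Y) [IsAffineHom f]
    {x : X} (hx : f x ∈ U) :
    ((hU.preimage f).primeIdealOf ⟨x, hx⟩).asIdeal.comap (f.app U).hom =
      (hU.primeIdealOf ⟨f x, hx⟩).asIdeal := by
  have h := IsAffineOpen.comap_primeIdealOf_appLE (f := f) (x := x) U hU (f ⁻¹ᵁ U) (hU.preimage f)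
    le_rfl hx
  rw [Scheme.Hom.appLE_eq_app] at h
  exact congrArg PrimeSpectrum.asIdeal h

theorem bijective_iff {U : Y.Opens} (hU : IsAffineOpen U) (f : X ⟶ Y) [IsAffineHom f] {x : X}
    (hx : f x ∈ U) (h : Function.Bijective (f.residueFieldMap x).hom) (s : Γ(X, f ⁻¹ᵁ U)) :
    ∃ r u : Γ(Y, U), u ∉ (hU.primeIdealOf ⟨f x, hx⟩).asIdeal ∧
      (f.app U).hom u * s - (f.app U).hom r ∈ ((hU.preimage f).primeIdealOf ⟨x, hx⟩).asIdeal := by
  obtain ⟨w, hw⟩ := h.2 (X.evaluation _ x hx s)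
  obtain ⟨r, u, hu, he⟩ := Cyc.Ord.exists_section_fraction U hU (f x) hx w
  refine ⟨r, u, fun h' => hu ((Cyc.FieldDim.mem_primeIdealOf_iff hU hx u).mp h'), ?_⟩
  rw [Cyc.FieldDim.mem_primeIdealOf_iff (hU.preimage f) hx, map_sub, map_mul, sub_eq_zero,
    ← Scheme.evaluation_naturality_apply f x hx, ← Scheme.evaluation_naturality_apply f x hx, ← he,
    map_mul, mul_comm, ← hw]

theorem isPurelyInseparable_iff {U : Y.Opens} (hU : IsAffineOpen U) (f : X ⟶ Y) [IsAffineHom f]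
    {x : X} (hx : f x ∈ U) :
    (f.residueFieldMap x).hom.IsPurelyInseparable ↔
      ∀ s : Γ(X, f ⁻¹ᵁ U), ∃ (n : ℕ) (r u : Γ(Y, U)),
        u ∉ (hU.primeIdealOf ⟨f x, hx⟩).asIdeal ∧
          (f.app U).hom u * s ^ (ringExpChar (Y.residueField (f x))) ^ n - (f.app U).hom r ∈
            ((hU.preimage f).primeIdealOf ⟨x, hx⟩).asIdeal := by
  let := (f.residueFieldMap x).hom.toAlgebra
  let c := ringExpChar (Y.residueField (f x))
  have hev : ∀ r : Γ(Y, U), X.evaluation (f ⁻¹ᵁ U) x hx (f.app U r) =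
      algebraMap (Y.residueField (f x)) (X.residueField x) (Y.evaluation U (f x) hx r) :=
    fun r => (Scheme.evaluation_naturality_apply f x hx r).symm
  change IsPurelyInseparable (Y.residueField (f x)) (X.residueField x) ↔ _
  rw [isPurelyInseparable_iff_pow_mem _ c]
  constructor
  · intro h s
    obtain ⟨n, w, hw⟩ := h (X.evaluation _ x hx s)
    obtain ⟨r, u, hu, he⟩ := Cyc.Ord.exists_section_fraction U hU (f x) hx w
    refine ⟨n, r, u, fun h' => hu ((Cyc.FieldDim.mem_primeIdealOf_iff hU hx u).mp h'), ?_⟩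
    rw [Cyc.FieldDim.mem_primeIdealOf_iff (hU.preimage f) hx, map_sub, map_mul, map_pow, sub_eq_zero,
      hev, hev, ← he, map_mul, mul_comm, ← hw]
  · intro h
    have key : ∀ s : Γ(X, f ⁻¹ᵁ U), ∃ n : ℕ, X.evaluation _ x hx s ^ c ^ n ∈
        (algebraMap (Y.residueField (f x)) (X.residueField x)).range := fun s => by
      obtain ⟨n, r, u, hu, hm⟩ := h s
      rw [Cyc.FieldDim.mem_primeIdealOf_iff (hU.preimage f) hx, map_sub, map_mul, map_pow,
        sub_eq_zero, hev, hev] at hm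
      refine ⟨n, Y.evaluation U (f x) hx r / Y.evaluation U (f x) hx u, ?_⟩
      have h0 : Y.evaluation U (f x) hx u ≠ 0 := fun h0 =>
        hu ((Cyc.FieldDim.mem_primeIdealOf_iff hU hx u).mpr h0)
      rw [map_div₀, div_eq_iff ((map_ne_zero _).mpr h0), ← hm, mul_comm]
    intro z
    obtain ⟨a, b, hb, hab⟩ :=
      Cyc.Ord.exists_section_fraction (f ⁻¹ᵁ U) (hU.preimage f) x hx z
    obtain ⟨n, wa, hwa⟩ := key a
    obtain ⟨m, wb, hwb⟩ := key b
    refine ⟨n + m, wa ^ c ^ m / wb ^ c ^ n, ?_⟩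
    rw [map_div₀, map_pow, map_pow, hwa, hwb, ← pow_mul, ← pow_mul, ← pow_add, ← pow_add, add_comm m n,
      ← div_pow, ← hab, mul_div_cancel_right₀ _ hb]

theorem stalk_iff (f : X ⟶ Y) [IsIntegralHom f] (hf : RadPt.IsBirational f) (y : Y) :
    CAlg2.IsGeomUnibranch (Y.presheaf.stalk y) ↔
      (RadPt.IsRadicialAt f y ∧ ∀ x : X, f x = y → CAlg2.IsGeomUnibranch (X.presheaf.stalk x)) := by
  obtain ⟨U, hU, hy, -⟩ := exists_isAffineOpen_mem_and_subset (x := y) (U := (⊤ : Y.Opens)) trivial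
  let := (f.app U).hom.toAlgebra
  have : Algebra.IsIntegral Γ(Y, U) Γ(X, f ⁻¹ᵁ U) := ⟨IsIntegralHom.isIntegral_app (f := f) U hU⟩
  let hV := hU.preimage f
  let p := (hU.primeIdealOf ⟨y, hy⟩).asIdeal
  obtain ⟨hbij, hfib⟩ := hf
  have hcomap : ∀ (x : X) (hx : f x ∈ U),
      (hV.primeIdealOf ⟨x, hx⟩).asIdeal.comap (algebraMap Γ(Y, U) Γ(X, f ⁻¹ᵁ U)) =
        (hU.primeIdealOf ⟨f x, hx⟩).asIdeal := fun x hx => comap_primeIdealOf hU f hx
  have hinj : ∀ (y' : Y) (hy' : y' ∈ U) (y'' : Y) (hy'' : y'' ∈ U),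
      (hU.primeIdealOf ⟨y', hy'⟩).asIdeal = (hU.primeIdealOf ⟨y'', hy''⟩).asIdeal → y' = y'' := by
    intro y' hy' y'' hy'' h
    exact (hU.fromSpec_primeIdealOf ⟨y', hy'⟩).symm.trans
      ((congrArg hU.fromSpec (PrimeSpectrum.ext h)).trans (hU.fromSpec_primeIdealOf ⟨y'', hy''⟩))
  have h1 : ∀ q ∈ minimalPrimes Γ(X, f ⁻¹ᵁ U),
      q.comap (algebraMap Γ(Y, U) Γ(X, f ⁻¹ᵁ U)) ∈ minimalPrimes Γ(Y, U) := by
    intro q hq
    have := hq.1.1
    obtain ⟨x, hx, rfl⟩ := exists_point hV q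
    rw [hcomap x hx]
    exact (primeIdealOf_mem_minimalPrimes_iff hU hx).mpr
      (hbij.mapsTo ((primeIdealOf_mem_minimalPrimes_iff hV hx).mp hq))
  have h2 : ∀ P ∈ minimalPrimes Γ(Y, U), P ≤ p →
      ∃! q : Ideal Γ(X, f ⁻¹ᵁ U), q.IsPrime ∧
        q.comap (algebraMap Γ(Y, U) Γ(X, f ⁻¹ᵁ U)) = P := by
    intro P hP _
    have := hP.1.1
    obtain ⟨η, hη, rfl⟩ := exists_point hU P
    have hgen := (primeIdealOf_mem_minimalPrimes_iff hU hη).mp hP
    obtain ⟨ξ, -, rfl⟩ := hbij.surjOn hgen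
    refine ⟨(hV.primeIdealOf ⟨ξ, hη⟩).asIdeal, ⟨(hV.primeIdealOf ⟨ξ, hη⟩).isPrime, hcomap ξ hη⟩, ?_⟩
    rintro q ⟨hq, hqP⟩
    obtain ⟨x, hx, rfl⟩ := exists_point hV q
    rw [hcomap x hx] at hqP
    obtain rfl := (hfib _ hgen).1 x ξ (hinj _ _ _ _ hqP) rfl
    rfl
  have h3 : ∀ P ∈ minimalPrimes Γ(Y, U), ∀ q : Ideal Γ(X, f ⁻¹ᵁ U), q.IsPrime →
      q.comap (algebraMap Γ(Y, U) Γ(X, f ⁻¹ᵁ U)) = P → ∀ s, ∃ r u : Γ(Y, U), u ∉ P ∧
        algebraMap Γ(Y, U) Γ(X, f ⁻¹ᵁ U) u * s - algebraMap Γ(Y, U) Γ(X, f ⁻¹ᵁ U) r ∈ q := by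
    intro P hP q hq hqP s
    obtain ⟨x, hx, rfl⟩ := exists_point hV q
    rw [hcomap x hx] at hqP
    subst hqP
    exact bijective_iff hU f hx
      ((hfib _ ((primeIdealOf_mem_minimalPrimes_iff hU hx).mp hP)).2 x rfl) s
  rw [isGeomUnibranch_stalk_iff hU hy, loc_main Γ(Y, U) Γ(X, f ⁻¹ᵁ U) p h1 h2 h3]
  constructor
  · rintro ⟨q, hq, hqp, huq, hGU, hres⟩
    obtain ⟨x, hx, rfl⟩ := exists_point hV q
    rw [hcomap x hx] at hqp
    obtain rfl := hinj _ _ _ _ hqp
    have huniq : ∀ x' : X, f x' = f x → x' = x := by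
      intro x' hx'
      have hx'U : f x' ∈ U := by rw [hx']; exact hy
      have := huq (hV.primeIdealOf ⟨x', hx'U⟩).asIdeal (hV.primeIdealOf ⟨x', hx'U⟩).isPrime
        ((hcomap x' hx'U).trans (by simp only [p, hx']))
      exact (hV.fromSpec_primeIdealOf ⟨x', hx'U⟩).symm.trans
        ((congrArg hV.fromSpec (PrimeSpectrum.ext this)).trans (hV.fromSpec_primeIdealOf _))
    refine ⟨⟨fun a b ha hb => (huniq a ha).trans (huniq b hb).symm, fun x' hx' => ?_⟩,
      fun x' hx' => ?_⟩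
    · obtain rfl := huniq x' hx'
      rw [isPurelyInseparable_iff hU f hy, ← ringExpChar_eq hU hy]
      exact hres
    · obtain rfl := huniq x' hx'
      exact (isGeomUnibranch_stalk_iff hV hx).mpr hGU
  · rintro ⟨⟨hsing, hpi⟩, hGU⟩
    obtain ⟨P, hP, hPp⟩ := Ideal.exists_minimalPrimes_le (bot_le : (⊥ : Ideal Γ(Y, U)) ≤ p)
    obtain ⟨q₀, ⟨hq₀, hq₀P⟩, -⟩ := h2 P hP hPp
    obtain ⟨q, -, hq, hqp⟩ := Ideal.exists_ideal_over_prime_of_isIntegral p q₀ (hq₀P.le.trans hPp)
    obtain ⟨x, hx, rfl⟩ := exists_point hV q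
    rw [hcomap x hx] at hqp
    obtain rfl := hinj _ _ _ _ hqp
    refine ⟨(hV.primeIdealOf ⟨x, hx⟩).asIdeal, (hV.primeIdealOf ⟨x, hx⟩).isPrime, hcomap x hx,
      fun q' hq' hq'p => ?_, (isGeomUnibranch_stalk_iff hV hx).mp (hGU x rfl), ?_⟩
    · obtain ⟨x', hx', rfl⟩ := exists_point hV q'
      rw [hcomap x' hx'] at hq'p
      obtain rfl := hsing x' x (hinj _ _ _ _ hq'p) rfl
      rfl
    · have := (isPurelyInseparable_iff hU f hy).mp (hpi x rfl)
      rw [← ringExpChar_eq hU hy] at this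
      exact this

theorem universallyInjective_iff_forall_isRadicialAt (f : X ⟶ Y) :
    UniversallyInjective f ↔ ∀ y, RadPt.IsRadicialAt f y := by
  rw [(tfae_universallyInjective f).out 0 2 rfl rfl]
  exact ⟨fun h y => ⟨fun a b ha hb => h.1 (ha.trans hb.symm), fun x _ => h.2 x⟩,
    fun h => ⟨fun a b hab => (h (f a)).1 a b rfl hab.symm, fun x => (h (f x)).2 x rfl⟩⟩

theorem forall_stalk_iff (f : X ⟶ Y) [IsIntegralHom f] (hf : RadPt.IsBirational f) :
    (∀ y : Y, CAlg2.IsGeomUnibranch (Y.presheaf.stalk y)) ↔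
      ((∀ x : X, CAlg2.IsGeomUnibranch (X.presheaf.stalk x)) ∧ UniversallyInjective f) := by
  rw [universallyInjective_iff_forall_isRadicialAt]
  exact ⟨fun h => ⟨fun x => ((stalk_iff f hf (f x)).mp (h _)).2 x rfl,
      fun y => ((stalk_iff f hf y).mp (h y)).1⟩,
    fun h y => (stalk_iff f hf y).mpr ⟨h.2 y, fun x _ => h.1 x⟩⟩

end Geom

end Groth.Agent.Lib.Unram.UnibranchBirational
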