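import Groth.Agent.Lib.Unram.StalkTower
import Mathlib.RingTheory.Unramified.LocalStructure
import Mathlib.RingTheory.Unramified.LocalRing
import Mathlib.RingTheory.EssentialFiniteness

/-!
# Local structure of unramified local homomorphisms
-/

set_option autoImplicit false

universe u

open IsLocalRing

namespace Groth.Agent.Lib.Unram.LocalStandardEtale

variable (A B : Type u) [CommRing A] [CommRing B] [IsLocalRing A] [IsLocalRing B] [Algebra A B]
  [IsLocalHom (algebraMap A B)] [Algebra.EssFiniteType A B]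

theorem formallyUnramified_of_isSeparable
    (hm : (maximalIdeal A).map (algebraMap A B) = maximalIdeal B)
    [Algebra.IsSeparable (ResidueField A) (ResidueField B)] :
    Algebra.FormallyUnramified A B :=
  Algebra.FormallyUnramified.of_map_maximalIdeal hm

theorem exists_surjection [Algebra.FormallyUnramified A B] :
    ∃ (P : StandardEtalePair A) (𝔮 : Ideal P.Ring) (_ : 𝔮.IsPrime)
      (Ψ : Localization.AtPrime 𝔮 →ₐ[A] B), Function.Surjective Ψ ∧ IsLocalHom Ψ.toRingHom := by
  obtain ⟨s, hloc⟩ := Algebra.EssFiniteType.cond (R := A) (S := B)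
  let S := Algebra.adjoin A (s : Set B)
  have : Algebra.FiniteType A S :=
    (Subalgebra.fg_iff_finiteType S).mp ⟨s, rfl⟩
  let q : Ideal S := (maximalIdeal B).comap (algebraMap S B)
  have hM : (IsUnit.submonoid B).comap (algebraMap S B) = q.primeCompl := by
    ext x
    simp [q, IsUnit.mem_submonoid_iff]
  have hloc' : IsLocalization q.primeCompl B := hM ▸ hloc
  have : Algebra.IsUnramifiedAt A q :=
    Algebra.FormallyUnramified.of_equiv
      ((IsLocalization.algEquiv q.primeCompl B (Localization.AtPrime q)).restrictScalars A)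
  obtain ⟨f, hf, P, φ, hφ⟩ := Algebra.IsUnramifiedAt.exists_hasStandardEtaleSurjectionOn (R := A) q
  let θ : Localization.Away f →ₐ[A] B :=
    IsLocalization.liftAlgHom (M := Submonoid.powers f) (f := IsScalarTower.toAlgHom A S B) (by
      rintro ⟨_, n, rfl⟩
      change IsUnit (algebraMap S B (f ^ n))
      rw [map_pow]
      exact (IsLocalization.map_units B (⟨f, hf⟩ : q.primeCompl)).pow n)
  let ψ : P.Ring →ₐ[A] B := θ.comp φ
  let 𝔮 : Ideal P.Ring := (maximalIdeal B).comap ψ.toRingHom
  let Ψ : Localization.AtPrime 𝔮 →ₐ[A] B :=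
    IsLocalization.liftAlgHom (M := 𝔮.primeCompl) (f := ψ)
      fun y => IsLocalRing.notMem_maximalIdeal.mp y.2
  have hΨ : ∀ x, Ψ (algebraMap P.Ring _ x) = ψ x := fun x => IsLocalization.lift_eq _ x
  refine ⟨P, 𝔮, inferInstance, Ψ, fun b => ?_, ⟨fun z hz => ?_⟩⟩
  · obtain ⟨a, t, rfl⟩ := IsLocalization.exists_mk'_eq q.primeCompl b
    obtain ⟨a', ha'⟩ := hφ (algebraMap S (Localization.Away f) a)
    obtain ⟨t', ht'⟩ := hφ (algebraMap S (Localization.Away f) t)
    have hθ : ∀ x, θ (algebraMap S (Localization.Away f) x) = algebraMap S B x :=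
      fun x => IsLocalization.lift_eq _ x
    have hψa : ψ a' = algebraMap S B a := by simp [ψ, ha', hθ]
    have hψt : ψ t' = algebraMap S B t := by simp [ψ, ht', hθ]
    have ht : t' ∉ 𝔮 := fun h => t.2 (show algebraMap S B t ∈ maximalIdeal B by rw [← hψt]; exact h)
    refine ⟨IsLocalization.mk' _ a' (⟨t', ht⟩ : 𝔮.primeCompl), ?_⟩
    rw [eq_comm, IsLocalization.mk'_eq_iff_eq_mul, ← hψa, ← hψt, ← hΨ a', ← hΨ t', ← map_mul]
    exact congr_arg Ψ (IsLocalization.mk'_spec (Localization.AtPrime 𝔮) a'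
      (⟨t', ht⟩ : 𝔮.primeCompl)).symm
  · obtain ⟨a, t, rfl⟩ := IsLocalization.exists_mk'_eq 𝔮.primeCompl z
    rw [IsLocalization.AtPrime.isUnit_mk'_iff (Localization.AtPrime 𝔮) 𝔮]
    intro ha
    have : Ψ (IsLocalization.mk' _ a t) * ψ t ∈ maximalIdeal B := by
      rw [← hΨ, ← map_mul, IsLocalization.mk'_spec, hΨ]
      exact ha
    rcases (inferInstance : (maximalIdeal B).IsPrime).mem_or_mem this with h | h
    · exact (IsLocalRing.mem_maximalIdeal _).mp h hz
    · exact t.2 h

theorem exists_equiv [Algebra.FormallyUnramified A B] [Module.Flat A B] :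
    ∃ (P : StandardEtalePair A) (𝔮 : Ideal P.Ring) (_ : 𝔮.IsPrime),
      Nonempty (B ≃ₐ[A] Localization.AtPrime 𝔮) := by
  obtain ⟨P, 𝔮, _, Ψ, hΨ, hloc⟩ := exists_surjection A B
  let _ := Ψ.toRingHom.toAlgebra
  have : IsScalarTower A (Localization.AtPrime 𝔮) B :=
    .of_algebraMap_eq fun a => (Ψ.commutes a).symm
  have : Algebra.FormallyUnramified P.Ring (Localization.AtPrime 𝔮) :=
    Algebra.FormallyUnramified.of_isLocalization 𝔮.primeCompl
  have : Algebra.FormallyUnramified A (Localization.AtPrime 𝔮) :=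
    Algebra.FormallyUnramified.comp A P.Ring _
  have : Algebra.EssFiniteType A (Localization.AtPrime 𝔮) := .comp A P.Ring _
  have : Module.Flat (Localization.AtPrime 𝔮) B :=
    Algebra.FormallyUnramified.flat_of_restrictScalars A (Localization.AtPrime 𝔮) B
  have : IsLocalHom (algebraMap (Localization.AtPrime 𝔮) B) := hloc
  have : Module.FaithfullyFlat (Localization.AtPrime 𝔮) B :=
    Module.FaithfullyFlat.of_flat_of_isLocalHom
  exact ⟨P, 𝔮, inferInstance,
    ⟨(AlgEquiv.ofBijective Ψ ⟨FaithfulSMul.algebraMap_injective _ B, hΨ⟩).symm⟩⟩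

end Groth.Agent.Lib.Unram.LocalStandardEtale
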