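import Mathlib.AlgebraicGeometry.Morphisms.Etale
import Mathlib.AlgebraicGeometry.Morphisms.FlatMono
import Mathlib.AlgebraicGeometry.Morphisms.QuasiFinite
import Mathlib.AlgebraicGeometry.Morphisms.UniversallyInjective
import Mathlib.AlgebraicGeometry.Morphisms.Separated

/-!
# Étale morphisms with surjective diagonal
-/

set_option autoImplicit false

universe u

open CategoryTheory CategoryTheory.Limits AlgebraicGeometry

namespace Groth.Agent.Lib.Unram.EtaleMono

theorem mono_of_surjective_diagonal {X Y : Scheme.{u}} (f : X ⟶ Y) [FormallyUnramified f]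
    [LocallyOfFiniteType f] [Surjective (pullback.diagonal f)] : Mono f := by
  rw [← pullback.isIso_diagonal_iff]
  exact (isIso_iff_isOpenImmersion_and_epi_base _).mpr
    ⟨inferInstance, (TopCat.epi_iff_surjective _).mpr (pullback.diagonal f).surjective⟩

theorem isOpenImmersion_of_surjective_diagonal {X Y : Scheme.{u}} (f : X ⟶ Y) [Etale f]
    [Surjective (pullback.diagonal f)] : IsOpenImmersion f :=
  have := mono_of_surjective_diagonal f
  IsOpenImmersion.of_flat_of_mono f

/-- If `s` is surjective and `s ≫ φ` is a monomorphism, the diagonal of `φ` is surjective. -/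
theorem surjective_diagonal_of_comp {W Y V : Scheme.{u}} (s : W ⟶ V) (φ : V ⟶ Y) [Surjective s]
    [Mono (s ≫ φ)] : Surjective (pullback.diagonal φ) := by
  let m : pullback (s ≫ φ) (s ≫ φ) ⟶ pullback φ φ :=
    pullback.map (s ≫ φ) (s ≫ φ) φ φ s s (𝟙 Y) (Category.comp_id _) (Category.comp_id _)
  have : Surjective m :=
    MorphismProperty.pullback_map (P := @Surjective) ‹Surjective s› ‹Surjective s› rfl rfl
  have hd : pullback.diagonal (s ≫ φ) ≫ m = s ≫ pullback.diagonal φ := by
    apply pullback.hom_ext
    · simp only [m, pullback.map, Category.assoc]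
      erw [pullback.lift_fst]
      rw [pullback.diagonal_fst, Category.comp_id, ← Category.assoc, pullback.diagonal_fst, Category.id_comp]
    · simp only [m, pullback.map, Category.assoc]
      erw [pullback.lift_snd]
      rw [pullback.diagonal_snd, Category.comp_id, ← Category.assoc, pullback.diagonal_snd, Category.id_comp]
  have : IsIso (pullback.diagonal (s ≫ φ)) := (pullback.isIso_diagonal_iff _).mpr inferInstance
  have : Surjective (s ≫ pullback.diagonal φ) := hd ▸ inferInstance
  exact Surjective.of_comp s (pullback.diagonal φ)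

set_option backward.defeqAttrib.useBackward true in
/-- Two field-valued points through a point where the residue field map is an isomorphism agree
as soon as their composites agree. -/
theorem eq_of_isIso_residueFieldMap {X Y : Scheme.{u}} (f : X ⟶ Y) {K : Type u} [Field K]
    (g₁ g₂ : Spec (.of K) ⟶ X) (hp : g₁ (IsLocalRing.closedPoint K) = g₂ (IsLocalRing.closedPoint K))
    [hi : IsIso (f.residueFieldMap (g₁ (IsLocalRing.closedPoint K)))] (hg : g₁ ≫ f = g₂ ≫ f) :
    g₁ = g₂ := by
  obtain ⟨e, h⟩ := Scheme.SpecToEquivOfField_eq_iff.mp congr((Y.SpecToEquivOfField K) $(hg))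
  apply (X.SpecToEquivOfField K).injective
  dsimp at e h
  simp only [Scheme.descResidueField_stalkClosedPointTo_comp] at e h
  rw [← f.residueFieldMap_congr'_assoc hp] at h
  rw [Scheme.SpecToEquivOfField_eq_iff]
  have : Epi (f.residueFieldMap (g₁ (IsLocalRing.closedPoint K))) := @IsIso.epi_of_iso _ _ _ _ _ hi
  refine ⟨hp, ?_⟩
  exact (@cancel_epi _ _ _ _ _ _ this _ _).mp h

end Groth.Agent.Lib.Unram.EtaleMono
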