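import Mathlib.AlgebraicGeometry.Morphisms.Smooth
import Groth.Agent.Lib.DescAlg.SmoothNormal
import Groth.Agent.Lib.AnLoc.FlatAscent
import Groth.Agent.Lib.EGA75.Sn
import Groth.Agent.Lib.EGA75.DepthFlat
import Groth.Agent.Lib.JacCrit.GeomRegular
import Groth.Agent.H2.Rigid.GeomRegLocal
import Groth.Agent.H21.SkDescent
import Groth.Agent.H21.SmoothRed
import Groth.Agent.Lib.Regular.Descent
import Groth.Agent.Lib.Unram.AtPrime
import Groth.Agent.H34.EtaleAt

/-!
# Local rings along smooth morphisms
-/

universe u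

open AlgebraicGeometry CategoryTheory IsLocalRing
open scoped TensorProduct

set_option linter.style.haveILetI false

namespace Groth.Agent.Lib.Unram.SmoothAscent

/-- Near a smooth point the stalk map is a localization of a smooth algebra over the stalk. -/
theorem exists_model {X Y : Scheme.{u}} (f : X ⟶ Y) [LocallyOfFinitePresentation f] (x : X)
    (hx : (f.stalkMap x).hom.FormallySmooth) :
    ∃ (A B : Type u) (_ : CommRing A) (_ : IsLocalRing A) (_ : CommRing B) (_ : Algebra A B)
      (_ : Algebra.Smooth A B) (q : Ideal B) (_ : q.IsPrime),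
      q.comap (algebraMap A B) = maximalIdeal A ∧
      Nonempty (Y.presheaf.stalk (f x) ≃+* A) ∧
      Nonempty (X.presheaf.stalk x ≃+* Localization.AtPrime q) := by
  obtain ⟨U, hU, V, hV, hVU, hxV, H⟩ := exists_smooth_of_formallySmooth_stalk f x hx
  algebraize [(f.appLE U V hVU).hom]
  let p := (hU.primeIdealOf ⟨f x, hVU hxV⟩).asIdeal
  let q₀ := (hV.primeIdealOf ⟨x, hxV⟩).asIdeal
  have hpq : q₀.comap (algebraMap Γ(Y, U) Γ(X, V)) = p :=
    congr($(IsAffineOpen.comap_primeIdealOf_appLE U hU V hV hVU hxV).1)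
  have hfx : f x ∈ U := hVU hxV
  letI := Y.presheaf.algebra_section_stalk ⟨f x, hfx⟩
  haveI := hU.isLocalization_stalk ⟨f x, hfx⟩
  letI := X.presheaf.algebra_section_stalk ⟨x, hxV⟩
  haveI := hV.isLocalization_stalk ⟨x, hxV⟩
  let eA : Y.presheaf.stalk (f x) ≃+* Localization.AtPrime p :=
    (IsLocalization.algEquiv p.primeCompl (Y.presheaf.stalk (f x))
      (Localization.AtPrime p)).toRingEquiv
  let eX : X.presheaf.stalk x ≃+* Localization.AtPrime q₀ :=
    (IsLocalization.algEquiv q₀.primeCompl (X.presheaf.stalk x)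
      (Localization.AtPrime q₀)).toRingEquiv
  let M := Algebra.algebraMapSubmonoid Γ(X, V) p.primeCompl
  let B := Localization M
  let A := Localization.AtPrime p
  haveI : Algebra.IsPushout Γ(Y, U) A Γ(X, V) B :=
    (Algebra.isPushout_of_isLocalization p.primeCompl A Γ(X, V) B).symm
  haveI : Algebra.Smooth A B :=
    Algebra.Smooth.of_equiv (Algebra.IsPushout.equiv Γ(Y, U) A Γ(X, V) B)
  have hd : Disjoint (M : Set Γ(X, V)) q₀ := Set.disjoint_left.mpr fun z hz hzq => by
    obtain ⟨a, ha, rfl⟩ := hz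
    exact ha (hpq ▸ hzq : a ∈ p)
  haveI hq' : (q₀.map (algebraMap Γ(X, V) B)).IsPrime :=
    IsLocalization.isPrime_of_isPrime_disjoint M B q₀ inferInstance hd
  have hcomap : (q₀.map (algebraMap Γ(X, V) B)).comap (algebraMap Γ(X, V) B) = q₀ :=
    IsLocalization.comap_map_of_isPrime_disjoint M B inferInstance hd
  refine ⟨A, B, inferInstance, inferInstance, inferInstance, inferInstance, inferInstance,
    q₀.map (algebraMap Γ(X, V) B), hq', ?_, ⟨eA⟩, ⟨eX.trans ?_⟩⟩
  · have h1 : ((q₀.map (algebraMap Γ(X, V) B)).comap (algebraMap A B)).comap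
        (algebraMap Γ(Y, U) A) = p := by
      rw [Ideal.comap_comap, ← IsScalarTower.algebraMap_eq,
        IsScalarTower.algebraMap_eq Γ(Y, U) Γ(X, V) B, ← Ideal.comap_comap, hcomap, hpq]
    exact (IsLocalization.map_comap p.primeCompl A
      ((q₀.map (algebraMap Γ(X, V) B)).comap (algebraMap A B))).symm.trans
      ((congrArg (Ideal.map (algebraMap Γ(Y, U) A)) h1).trans
        Localization.AtPrime.map_eq_maximalIdeal)
  · have h2 : IsLocalization.AtPrime (Localization.AtPrime (q₀.map (algebraMap Γ(X, V) B)))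
        ((q₀.map (algebraMap Γ(X, V) B)).comap (algebraMap Γ(X, V) B)) :=
      IsLocalization.isLocalization_isLocalization_atPrime_isLocalization M
        (Localization.AtPrime (q₀.map (algebraMap Γ(X, V) B))) _
    have h3 : IsLocalization q₀.primeCompl
        (Localization.AtPrime (q₀.map (algebraMap Γ(X, V) B))) := by
      convert h2 using 2
      exact hcomap.symm
    exact (IsLocalization.algEquiv q₀.primeCompl (Localization.AtPrime q₀)
      (Localization.AtPrime (q₀.map (algebraMap Γ(X, V) B)))).toRingEquiv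

section Alg

variable {A B : Type u} [CommRing A] [IsLocalRing A] [CommRing B] [Algebra A B] [Algebra.Smooth A B]
  (q : Ideal B) [q.IsPrime]

theorem props (hq : q.comap (algebraMap A B) = maximalIdeal A) :
    IsLocalHom (algebraMap A (Localization.AtPrime q)) ∧
      Module.Flat A (Localization.AtPrime q) ∧
      Module.FaithfullyFlat A (Localization.AtPrime q) := by
  have h1 : IsLocalHom (algebraMap A (Localization.AtPrime q)) :=
    ((local_hom_TFAE _).out 0 4).mpr (by
      rw [IsScalarTower.algebraMap_eq A B (Localization.AtPrime q), ← Ideal.comap_comap]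
      exact (congrArg (Ideal.comap (algebraMap A B))
        Localization.AtPrime.comap_maximalIdeal).trans hq)
  have h2 : Module.Flat A (Localization.AtPrime q) :=
    haveI : Module.Flat B (Localization.AtPrime q) := IsLocalization.flat _ q.primeCompl
    Module.Flat.trans A B _
  exact ⟨h1, h2, Module.FaithfullyFlat.of_flat_of_isLocalHom⟩

theorem isReduced_iff (hq : q.comap (algebraMap A B) = maximalIdeal A) :
    IsReduced (Localization.AtPrime q) ↔ IsReduced A := by
  obtain ⟨_, _, _⟩ := props q hq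
  refine ⟨fun _ => isReduced_of_injective (algebraMap A (Localization.AtPrime q))
    (FaithfulSMul.algebraMap_injective _ _), fun _ => ?_⟩
  haveI : IsReduced B := Groth.Agent.H21.SmoothRed.isReduced A B
  exact isReduced_localizationPreserves q.primeCompl (Localization.AtPrime q) ‹_›

theorem normal_iff (hq : q.comap (algebraMap A B) = maximalIdeal A) :
    (IsDomain (Localization.AtPrime q) ∧ IsIntegrallyClosed (Localization.AtPrime q)) ↔
      (IsDomain A ∧ IsIntegrallyClosed A) := by
  obtain ⟨_, _, _⟩ := props q hq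
  refine ⟨fun ⟨_, _⟩ =>
    Henselian.Normal.isDomain_and_isIntegrallyClosed_of_faithfullyFlat A (Localization.AtPrime q),
    fun ⟨_, _⟩ => DescAlg.SmoothNormal.atPrime (A := A) (fun p _ => ⟨inferInstance,
      isIntegrallyClosed_of_isLocalization (Localization.AtPrime p) p.primeCompl
        p.primeCompl_le_nonZeroDivisors⟩) q⟩

theorem isRegularRing_fiber (p : Ideal A) [p.IsPrime] : IsRegularRing (p.Fiber B) := by
  have : Algebra.Smooth p.ResidueField (p.Fiber B) := inferInstance
  have h := (JacCrit.GeomRegular.smooth_iff_isGeometricallyRegular (F := p.Fiber B) p.ResidueField).1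
    this p.ResidueField inferInstance
  exact IsRegularRing.of_ringEquiv (R := TensorProduct p.ResidueField p.ResidueField (p.Fiber B))
    (Algebra.TensorProduct.lid p.ResidueField (p.Fiber B)).toRingEquiv

variable [IsNoetherianRing A]

theorem isNoetherianRing_of_smooth (A B : Type u) [CommRing A] [IsNoetherianRing A] [CommRing B]
    [Algebra A B] [Algebra.Smooth A B] : IsNoetherianRing B :=
  Algebra.FiniteType.isNoetherianRing A B

theorem hasSk_localization (n : ℕ) [IsNoetherianRing B] (h : LocCoh.HasSk n B B) :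
    LocCoh.HasSk n (Localization.AtPrime q) (Localization.AtPrime q) := by
  rw [EGA75.Sn.hasSk_iff] at h ⊢
  intro P _
  exact EGA75.Sn.isoInvariant n _ _
    (IsLocalization.algEquiv (P.comap (algebraMap B (Localization.AtPrime q))).primeCompl
      (Localization.AtPrime (P.comap (algebraMap B (Localization.AtPrime q))))
      (Localization.AtPrime P)).toRingEquiv (h _)

theorem hasRk_localization (n : ℕ) [IsNoetherianRing B] (h : LocCoh.HasRk n B) :
    LocCoh.HasRk n (Localization.AtPrime q) := by
  rw [H18.SerreCrit.hasRk_iff] at h ⊢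
  intro P _ hd
  let e := (IsLocalization.algEquiv (P.comap (algebraMap B (Localization.AtPrime q))).primeCompl
      (Localization.AtPrime (P.comap (algebraMap B (Localization.AtPrime q))))
      (Localization.AtPrime P)).toRingEquiv
  haveI := h (P.comap (algebraMap B (Localization.AtPrime q)))
    (by rwa [ringKrullDim_eq_of_ringEquiv e])
  exact IsRegularLocalRing.of_ringEquiv e

theorem hasSk_iff (hq : q.comap (algebraMap A B) = maximalIdeal A) (n : ℕ) :
    LocCoh.HasSk n (Localization.AtPrime q) (Localization.AtPrime q) ↔ LocCoh.HasSk n A A := by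
  obtain ⟨_, _, _⟩ := props q hq
  haveI := isNoetherianRing_of_smooth A B
  refine ⟨EGA75.Sn.descent n A (Localization.AtPrime q), fun h => hasSk_localization q n ?_⟩
  exact AnLoc.FlatAscent.hasSk (fun Q _ =>
    H2.Rigid.GeomRegLocal.fibLocRing_regular Q (isRegularRing_fiber _)) n h

theorem hasRk_iff (hq : q.comap (algebraMap A B) = maximalIdeal A) (n : ℕ) :
    LocCoh.HasRk n (Localization.AtPrime q) ↔ LocCoh.HasRk n A := by
  obtain ⟨_, _, _⟩ := props q hq
  haveI := isNoetherianRing_of_smooth A B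
  refine ⟨H21.SkDescent.hasRk A (Localization.AtPrime q), fun h => hasRk_localization q n ?_⟩
  exact AnLoc.FlatAscent.hasRk (fun Q _ =>
    H2.Rigid.GeomRegLocal.fibLocRing_regular Q (isRegularRing_fiber _)) n h

theorem codepth (hq : q.comap (algebraMap A B) = maximalIdeal A) :
    ringKrullDim (Localization.AtPrime q) + ((LocCoh.depth A A : ℕ∞) : WithBot ℕ∞) =
      ringKrullDim A +
        ((LocCoh.depth (Localization.AtPrime q) (Localization.AtPrime q) : ℕ∞) : WithBot ℕ∞) := by
  obtain ⟨_, _, _⟩ := props q hq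
  haveI := isNoetherianRing_of_smooth A B
  set F := Localization.AtPrime q ⧸ (maximalIdeal A).map (algebraMap A (Localization.AtPrime q))
  have : Nontrivial F := Ideal.Quotient.nontrivial_iff.mpr (IsLocalRing.map_maximalIdeal_lt_top _).ne
  have : IsLocalRing F := IsLocalRing.of_surjective' _ Ideal.Quotient.mk_surjective
  have : IsRegularLocalRing F := by
    have h := H2.Rigid.GeomRegLocal.fibLocRing_regular q (isRegularRing_fiber (A := A) (B := B) _)
    refine IsRegularLocalRing.of_ringEquiv (Ideal.quotEquivOfEq ?_) (R := EGA4.FibLocRing A B q)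
    rw [hq]
  have := JacCrit.FlatRegular.isCohenMacaulayLocalRing F
  rw [EGA75.DepthFlat.ringKrullDim_eq_add A (Localization.AtPrime q),
    EGA75.DepthFlat.depth_eq_add A (Localization.AtPrime q), Depth.CM.ringKrullDim_eq_depth (R := F)]
  push_cast
  abel

end Alg

theorem depth_congr {R S : Type u} [CommRing R] [IsLocalRing R] [CommRing S] [IsLocalRing S]
    (e : R ≃+* S) : LocCoh.depth R R = LocCoh.depth S S :=
  Goren.Flat.depth_ringEquiv e

theorem normal_congr {R S : Type u} [CommRing R] [CommRing S] (e : R ≃+* S) :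
    (IsDomain R ∧ IsIntegrallyClosed R) ↔ (IsDomain S ∧ IsIntegrallyClosed S) := by
  constructor
  · rintro ⟨_, _⟩
    exact ⟨MulEquiv.isDomain R e.symm.toMulEquiv, .of_equiv e⟩
  · rintro ⟨_, _⟩
    exact ⟨MulEquiv.isDomain S e.toMulEquiv, .of_equiv e.symm⟩

theorem hasSk_congr {R S : Type u} [CommRing R] [CommRing S] (e : R ≃+* S) (n : ℕ)
    (h : LocCoh.HasSk n R R) : LocCoh.HasSk n S S := by
  rw [EGA75.Sn.hasSk_iff] at h ⊢
  intro P _
  exact EGA75.Sn.isoInvariant n _ _
    (Localization.localRingEquiv (P.comap (e : R →+* S)) P e rfl) (h _)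

theorem hasRk_congr {R S : Type u} [CommRing R] [CommRing S] (e : R ≃+* S) (n : ℕ)
    (h : LocCoh.HasRk n R) : LocCoh.HasRk n S := by
  rw [H18.SerreCrit.hasRk_iff] at h ⊢
  intro P _ hd
  let e' := Localization.localRingEquiv (P.comap (e : R →+* S)) P e rfl
  haveI := h (P.comap (e : R →+* S)) (by rwa [ringKrullDim_eq_of_ringEquiv e'])
  exact IsRegularLocalRing.of_ringEquiv e'

section Scheme

variable {X Y : Scheme.{u}} (f : X ⟶ Y) [LocallyOfFinitePresentation f] (x : X)

theorem scheme_reduced_normal (hx : x ∈ f.smoothLocus) :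
    (IsReduced (X.presheaf.stalk x) ↔ IsReduced (Y.presheaf.stalk (f x))) ∧
      ((IsDomain (X.presheaf.stalk x) ∧ IsIntegrallyClosed (X.presheaf.stalk x)) ↔
        (IsDomain (Y.presheaf.stalk (f x)) ∧ IsIntegrallyClosed (Y.presheaf.stalk (f x)))) := by
  obtain ⟨A, B, _, _, _, _, _, q, _, hq, ⟨eA⟩, ⟨eX⟩⟩ := exists_model f x hx
  refine ⟨?_, (normal_congr eX).trans ((normal_iff q hq).trans (normal_congr eA).symm)⟩
  constructor <;> intro h
  · haveI : IsReduced A := (isReduced_iff q hq).mp
      (isReduced_of_injective eX.symm eX.symm.injective)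
    exact isReduced_of_injective eA eA.injective
  · haveI : IsReduced (Localization.AtPrime q) := (isReduced_iff q hq).mpr
      (isReduced_of_injective eA.symm eA.symm.injective)
    exact isReduced_of_injective eX eX.injective

theorem scheme_hasSk_hasRk [IsLocallyNoetherian Y] (hx : x ∈ f.smoothLocus) (n : ℕ) :
    (LocCoh.HasSk n (X.presheaf.stalk x) (X.presheaf.stalk x) ↔
        LocCoh.HasSk n (Y.presheaf.stalk (f x)) (Y.presheaf.stalk (f x))) ∧
      (LocCoh.HasRk n (X.presheaf.stalk x) ↔ LocCoh.HasRk n (Y.presheaf.stalk (f x))) := by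
  obtain ⟨A, B, _, _, _, _, _, q, _, hq, ⟨eA⟩, ⟨eX⟩⟩ := exists_model f x hx
  haveI : IsNoetherianRing A := isNoetherianRing_of_ringEquiv _ eA
  refine ⟨⟨fun h => ?_, fun h => ?_⟩, ⟨fun h => ?_, fun h => ?_⟩⟩
  · exact hasSk_congr eA.symm n ((hasSk_iff q hq n).mp (hasSk_congr eX n h))
  · exact hasSk_congr eX.symm n ((hasSk_iff q hq n).mpr (hasSk_congr eA n h))
  · exact hasRk_congr eA.symm n ((hasRk_iff q hq n).mp (hasRk_congr eX n h))
  · exact hasRk_congr eX.symm n ((hasRk_iff q hq n).mpr (hasRk_congr eA n h))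

theorem scheme_codepth [IsLocallyNoetherian Y] (hx : x ∈ f.smoothLocus) :
    ringKrullDim (X.presheaf.stalk x) +
        ((LocCoh.depth (Y.presheaf.stalk (f x)) (Y.presheaf.stalk (f x)) : ℕ∞) : WithBot ℕ∞) =
      ringKrullDim (Y.presheaf.stalk (f x)) +
        ((LocCoh.depth (X.presheaf.stalk x) (X.presheaf.stalk x) : ℕ∞) : WithBot ℕ∞) := by
  obtain ⟨A, B, _, _, _, _, _, q, _, hq, ⟨eA⟩, ⟨eX⟩⟩ := exists_model f x hx
  haveI : IsNoetherianRing A := isNoetherianRing_of_ringEquiv _ eA
  rw [ringKrullDim_eq_of_ringEquiv eX, ringKrullDim_eq_of_ringEquiv eA, depth_congr eX,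
    depth_congr eA]
  exact codepth q hq

theorem mem_smoothLocus_of_nhd (hx : ∃ U : X.Opens, x ∈ U ∧ Smooth (U.ι ≫ f)) :
    x ∈ f.smoothLocus := by
  obtain ⟨U, hxU, hU⟩ := hx
  have h1 : (⟨x, hxU⟩ : U.toScheme) ∈ (U.ι ≫ f).smoothLocus := by
    exact (Scheme.Hom.smoothLocus_eq_top (U.ι ≫ f)).ge (by trivial)
  exact Scheme.Hom.mem_smoothLocus.mpr ((AtPrime.stalkMap_restrict_iff
    RingHom.FormallySmooth.respectsIso f U x hxU).mp (Scheme.Hom.mem_smoothLocus.mp h1))

end Scheme

end Groth.Agent.Lib.Unram.SmoothAscent
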