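import Groth.Agent.Lib.Unram.OneBranch
import Groth.Prelude.Def_EGA4b
import Mathlib.RingTheory.Spectrum.Prime.RingHom
import Mathlib.RingTheory.IntegralClosure.IntegrallyClosed
import Mathlib.FieldTheory.IsAlgClosed.Basic

/-!
# Branches of a local ring are the branches of its components
-/

set_option autoImplicit false

universe u

namespace Groth.Agent.Lib.Unram.BranchSum

open scoped nonZeroDivisors

theorem isIntegral_pi {R ι : Type*} [CommRing R] [Finite ι] {B : ι → Type*} [∀ i, CommRing (B i)]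
    [∀ i, Algebra R (B i)] {x : Π i, B i} (h : ∀ i, IsIntegral R (x i)) : IsIntegral R x := by
  classical
  cases nonempty_fintype ι
  choose f hf hfx using h
  refine ⟨∏ i, f i, Polynomial.monic_prod_of_monic _ _ fun i _ => hf i, funext fun i => ?_⟩
  rw [← Polynomial.aeval_def, show (Polynomial.aeval x (∏ j, f j)) i =
      Pi.evalAlgHom R B i (Polynomial.aeval x (∏ j, f j)) from rfl,
    ← Polynomial.aeval_algHom_apply, map_prod]
  exact Finset.prod_eq_zero (Finset.mem_univ i) (hfx i)

theorem card_sigma {ι : Type*} [Finite ι] (β : ι → Type*) :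
    ENat.card (Σ i, β i) = ∑ᶠ i, ENat.card (β i) := by
  classical
  cases nonempty_fintype ι
  rw [finsum_eq_sum_of_fintype]
  by_cases h : ∀ i, Finite (β i)
  · rw [ENat.card_eq_coe_natCard, Nat.card_sigma, Nat.cast_sum]
    exact Finset.sum_congr rfl fun i _ => (ENat.card_eq_coe_natCard _).symm
  · push Not at h
    obtain ⟨i, hi⟩ := h
    have : Infinite (Σ i, β i) := Infinite.of_injective (fun b : β i => (⟨i, b⟩ : Σ i, β i))
      sigma_mk_injective
    rw [ENat.card_eq_top_of_infinite]
    refine (eq_top_iff.mpr ?_).symm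
    refine le_trans ?_ (Finset.single_le_sum (fun j _ => zero_le') (Finset.mem_univ i))
    rw [ENat.card_eq_top_of_infinite]

/-- A maximal ideal of a finite product is a maximal ideal of a factor. -/
theorem exists_maximalSpectrum_pi_equiv {ι : Type u} [Finite ι] (C : ι → Type u)
    [∀ i, CommRing (C i)] :
    Nonempty ((Σ i, MaximalSpectrum (C i)) ≃ MaximalSpectrum (Π i, C i)) := by
  classical
  let f : (Σ i, MaximalSpectrum (C i)) → MaximalSpectrum (Π i, C i) := fun p =>
    ⟨p.2.asIdeal.comap (Pi.evalRingHom C p.1),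
      have := p.2.isMaximal
      Ideal.comap_isMaximal_of_surjective _ (Function.surjective_eval p.1)⟩
  refine ⟨Equiv.ofBijective f ⟨?_, fun M => ?_⟩⟩
  · rintro ⟨i, m⟩ ⟨j, n⟩ h
    have h' : m.asIdeal.comap (Pi.evalRingHom C i) = n.asIdeal.comap (Pi.evalRingHom C j) :=
      congrArg MaximalSpectrum.asIdeal h
    by_cases hij : i = j
    · subst hij
      exact Sigma.ext rfl (heq_of_eq (MaximalSpectrum.ext
        (Ideal.comap_injective_of_surjective _ (Function.surjective_eval i) h')))
    · have h1 : (Pi.single i (1 : C i)) ∈ n.asIdeal.comap (Pi.evalRingHom C j) := by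
        rw [Ideal.mem_comap, Pi.evalRingHom_apply, Pi.single_eq_of_ne (Ne.symm hij)]
        exact n.asIdeal.zero_mem
      rw [← h', Ideal.mem_comap, Pi.evalRingHom_apply, Pi.single_eq_same] at h1
      exact absurd ((Ideal.eq_top_iff_one _).mpr h1) m.isMaximal.ne_top
  · obtain ⟨i, q, hq⟩ := PrimeSpectrum.exists_comap_evalRingHom_eq
      (⟨M.asIdeal, M.isMaximal.isPrime⟩ : PrimeSpectrum (Π i, C i))
    have hq' : q.asIdeal.comap (Pi.evalRingHom C i) = M.asIdeal :=
      congrArg PrimeSpectrum.asIdeal hq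
    refine ⟨⟨i, q.asIdeal, ?_⟩, MaximalSpectrum.ext hq'⟩
    have := M.isMaximal
    have h2 := Ideal.map_eq_top_or_isMaximal_of_surjective (Pi.evalRingHom C i)
      (Function.surjective_eval i) this
    rw [← hq', Ideal.map_comap_of_surjective _ (Function.surjective_eval i)] at h2
    exact h2.resolve_left q.2.ne_top

/-- A map from a finite product to a domain factors through a single factor. -/
theorem exists_hom_pi_equiv {ι : Type u} [Finite ι] (C : ι → Type u) [∀ i, CommRing (C i)]
    (A K : Type u) [CommRing A] [CommRing K] [IsDomain K] (ι₀ : ∀ i, A →+* C i) (κ : A →+* K) :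
    Nonempty ((Σ i, {τ : C i →+* K // τ.comp (ι₀ i) = κ}) ≃
      {τ : (Π i, C i) →+* K // τ.comp (Pi.ringHom ι₀) = κ}) := by
  classical
  cases nonempty_fintype ι
  let f : (Σ i, {τ : C i →+* K // τ.comp (ι₀ i) = κ}) →
      {τ : (Π i, C i) →+* K // τ.comp (Pi.ringHom ι₀) = κ} := fun p =>
    ⟨p.2.1.comp (Pi.evalRingHom C p.1), by
      rw [RingHom.comp_assoc]
      exact p.2.2⟩
  refine ⟨Equiv.ofBijective f ⟨?_, fun τ => ?_⟩⟩
  · rintro ⟨i, σ⟩ ⟨j, ρ⟩ h
    have h' : σ.1.comp (Pi.evalRingHom C i) = ρ.1.comp (Pi.evalRingHom C j) := congrArg Subtype.val h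
    by_cases hij : i = j
    · subst hij
      refine Sigma.ext rfl (heq_of_eq (Subtype.ext ?_))
      exact (RingHom.cancel_right (Function.surjective_eval i)).mp h'
    · have := RingHom.congr_fun h' (Pi.single i 1)
      simp [Pi.single_eq_of_ne (Ne.symm hij)] at this
  · have hne : ∃ i, τ.1 (Pi.single i 1) ≠ 0 := by
      by_contra h
      push Not at h
      apply one_ne_zero (α := K)
      rw [← map_one τ.1, ← Finset.univ_sum_single (1 : Π i, C i), map_sum]
      exact Finset.sum_eq_zero fun i _ => h i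
    obtain ⟨i, hi⟩ := hne
    have h1 : τ.1 (Pi.single i 1) = 1 := by
      refine mul_left_cancel₀ hi ?_
      rw [mul_one, ← map_mul, ← Pi.single_mul, one_mul]
    let σ : C i →+* K :=
      { toFun := fun c => τ.1 (Pi.single i c)
        map_one' := h1
        map_mul' := fun a b => by rw [← map_mul, Pi.single_mul]
        map_zero' := by rw [Pi.single_zero, map_zero]
        map_add' := fun a b => by rw [← map_add, Pi.single_add] }
    have hστ : ∀ c, σ (c i) = τ.1 c := fun c => by
      change τ.1 (Pi.single i (c i)) = τ.1 c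
      rw [show (Pi.single i (c i) : Π i, C i) = Pi.single i 1 * c from by
        ext j
        by_cases hj : j = i
        · subst hj; simp
        · simp [Pi.single_eq_of_ne hj], map_mul, h1, one_mul]
    refine ⟨⟨i, σ, RingHom.ext fun a => ?_⟩, Subtype.ext (RingHom.ext fun c => hστ c)⟩
    exact (hστ (Pi.ringHom ι₀ a)).trans (RingHom.congr_fun τ.2 a)

/-- The canonical map to the normalisation. -/
noncomputable def toNorm (A : Type u) [CommRing A] : A →+* CAlg2.normRed A :=
  (algebraMap (CAlg2.red A) (CAlg2.normRed A)).comp (Ideal.Quotient.mk (nilradical A))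

set_option maxHeartbeats 1200000 in
theorem exists_normRed_equiv (A : Type u) [CommRing A] (h : (minimalPrimes A).Finite) :
    ∃ e : CAlg2.normRed A ≃+* (Π p : minimalPrimes A, CAlg2.normRed (A ⧸ p.1)),
      ∀ (a : A) (p : minimalPrimes A), e (toNorm A a) p = toNorm (A ⧸ p.1) (Ideal.Quotient.mk p.1 a) := by
  classical
  have : Finite (minimalPrimes A) := h.to_subtype
  cases nonempty_fintype (minimalPrimes A)
  have hpp : ∀ p : minimalPrimes A, p.1.IsPrime := fun p => p.2.1.1
  have : ∀ p : minimalPrimes A, IsDomain (CAlg2.red (A ⧸ p.1)) := fun p => by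
    have : (nilradical (A ⧸ p.1)).IsPrime := by
      rw [nilradical_eq_zero]; exact Ideal.isPrime_bot
    exact Ideal.Quotient.isDomain _
  let R := CAlg2.red A
  let T := FractionRing R
  let Rp := fun p : minimalPrimes A => CAlg2.red (A ⧸ p.1)
  let Kp := fun p : minimalPrimes A => FractionRing (Rp p)
  let π : ∀ p, R →+* Rp p := fun p => Ideal.Quotient.lift (nilradical A)
    ((Ideal.Quotient.mk _).comp (Ideal.Quotient.mk p.1)) (fun a ha => by
      rw [RingHom.comp_apply, Ideal.Quotient.eq_zero_iff_mem.mpr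
        ((OneBranch.mem_nilradical_iff_forall A a).mp ha p.1 p.2), map_zero])
  have hπ : ∀ p a, π p (Ideal.Quotient.mk _ a) = 0 ↔ a ∈ p.1 := fun p a => by
    rw [Ideal.Quotient.lift_mk, RingHom.comp_apply, Ideal.Quotient.eq_zero_iff_mem,
      nilradical_eq_zero, Ideal.zero_eq_bot, Ideal.mem_bot, Ideal.Quotient.eq_zero_iff_mem]
  have hπs : ∀ p, Function.Surjective (π p) := fun p => by
    intro y
    obtain ⟨y, rfl⟩ := Ideal.Quotient.mk_surjective y
    obtain ⟨a, rfl⟩ := Ideal.Quotient.mk_surjective y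
    exact ⟨Ideal.Quotient.mk _ a, rfl⟩
  have hnz : ∀ (p : minimalPrimes A) (a : A), Ideal.Quotient.mk (nilradical A) a ∈ R⁰ → a ∉ p.1 := by
    intro p a ha hap
    obtain ⟨-, b, hb, hb'⟩ := OneBranch.exists_separating A h p.2
    apply hb
    have h0 : Ideal.Quotient.mk (nilradical A) b = 0 := mem_nonZeroDivisors_iff_right.mp ha _ (by
      rw [← map_mul, Ideal.Quotient.eq_zero_iff_mem, OneBranch.mem_nilradical_iff_forall]
      intro Q hQ
      by_cases hQp : Q = p.1
      · subst hQp; exact Ideal.mul_mem_left _ _ hap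
      · exact Ideal.mul_mem_right _ _ (hb' Q hQ hQp))
    exact (OneBranch.mem_nilradical_iff_forall A b).mp (Ideal.Quotient.eq_zero_iff_mem.mp h0) p.1 p.2
  let _ : ∀ p, Algebra R (Rp p) := fun p => (π p).toAlgebra
  have hunit : ∀ p (s : R⁰), IsUnit (algebraMap R (Kp p) s) := fun p s => by
    obtain ⟨a, ha⟩ := Ideal.Quotient.mk_surjective (s : R)
    rw [IsScalarTower.algebraMap_apply R (Rp p) (Kp p), isUnit_iff_ne_zero,
      map_ne_zero_iff _ (IsFractionRing.injective _ _)]
    intro h0
    refine hnz p a (by rw [ha]; exact s.2) ((hπ p a).mp ?_)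
    rw [ha]; exact h0
  let toK : ∀ p, T →ₐ[R] Kp p := fun p =>
    IsLocalization.liftAlgHom (M := R⁰) (f := Algebra.ofId R (Kp p)) (hunit p)
  let Φ : T →ₐ[R] Π p, Kp p := Pi.algHom R _ toK
  have hΦA : ∀ (p : minimalPrimes A) (a : A), Φ (algebraMap R T (Ideal.Quotient.mk _ a)) p =
      algebraMap (Rp p) (Kp p) (π p (Ideal.Quotient.mk _ a)) := fun p a => by
    rw [AlgHom.commutes]; rfl
  have hinj : Function.Injective Φ := by
    rw [injective_iff_map_eq_zero]
    intro x hx
    obtain ⟨⟨r, s⟩, hrs⟩ := IsLocalization.surj R⁰ x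
    obtain ⟨a, rfl⟩ := Ideal.Quotient.mk_surjective r
    have h0 : Ideal.Quotient.mk (nilradical A) a = 0 := by
      rw [Ideal.Quotient.eq_zero_iff_mem, OneBranch.mem_nilradical_iff_forall]
      intro Q hQ
      refine (hπ ⟨Q, hQ⟩ a).mp (IsFractionRing.injective (Rp ⟨Q, hQ⟩) (Kp ⟨Q, hQ⟩) ?_)
      have h1 := congrArg (fun z : T => Φ z ⟨Q, hQ⟩) hrs
      simp only [map_mul, Pi.mul_apply, hx, Pi.zero_apply, zero_mul] at h1
      rw [← hΦA, map_zero, h1]
    simp only [h0, map_zero] at hrs
    exact (IsLocalization.map_units T s).mul_left_eq_zero.mp hrs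
  choose e he he' using fun p : minimalPrimes A => (OneBranch.exists_separating A h p.2).2
  have hsum : ∀ (c : minimalPrimes A → A) (q : minimalPrimes A),
      π q (Ideal.Quotient.mk _ (∑ p, e p * c p)) = π q (Ideal.Quotient.mk _ (e q * c q)) := by
    intro c q
    rw [map_sum, map_sum]
    refine Finset.sum_eq_single q (fun p _ hpq => ?_) (by simp)
    exact (hπ q _).mpr (Ideal.mul_mem_right _ _ (he' p q.1 q.2 fun hh => hpq (Subtype.ext hh).symm))
  have hsurj : Function.Surjective Φ := by
    intro y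
    choose a b hb hab using fun p => IsFractionRing.div_surjective (Rp p) (y p)
    choose a₁ ha₁ using fun p => hπs p (a p)
    choose b₁ hb₁ using fun p => hπs p (b p)
    choose a' ha' using fun p => Ideal.Quotient.mk_surjective (a₁ p)
    choose b' hb' using fun p => Ideal.Quotient.mk_surjective (b₁ p)
    have hbq : ∀ p, b' p ∉ p.1 := fun p hm => nonZeroDivisors.ne_zero (hb p) (by
      rw [← hb₁, ← hb']; exact (hπ p _).mpr hm)
    have hden : Ideal.Quotient.mk (nilradical A) (∑ p, e p * b' p) ∈ R⁰ := by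
      rw [mem_nonZeroDivisors_iff_right]
      intro z hz
      obtain ⟨z, rfl⟩ := Ideal.Quotient.mk_surjective z
      rw [← map_mul, Ideal.Quotient.eq_zero_iff_mem, OneBranch.mem_nilradical_iff_forall] at hz
      rw [Ideal.Quotient.eq_zero_iff_mem, OneBranch.mem_nilradical_iff_forall]
      intro Q hQ
      refine (hQ.1.1.mem_or_mem (hz Q hQ)).resolve_right fun hm => ?_
      have h2 := (hπ ⟨Q, hQ⟩ _).mpr hm
      rw [hsum b' ⟨Q, hQ⟩, hπ] at h2
      exact (hQ.1.1.mem_or_mem h2).elim (he ⟨Q, hQ⟩) (hbq ⟨Q, hQ⟩)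
    refine ⟨IsLocalization.mk' T (Ideal.Quotient.mk _ (∑ p, e p * a' p)) ⟨_, hden⟩,
      funext fun q => ?_⟩
    have hu := hunit q ⟨_, hden⟩
    refine hu.mul_left_injective ?_
    show Φ _ q * algebraMap R (Kp q) _ = y q * algebraMap R (Kp q) _
    have hbne : algebraMap (Rp q) (Kp q) (b q) ≠ 0 :=
      (map_ne_zero_iff _ (IsFractionRing.injective _ _)).mpr (nonZeroDivisors.ne_zero (hb q))
    let num : T := algebraMap R T (Ideal.Quotient.mk _ (∑ p, e p * a' p))
    let den : T := algebraMap R T (Ideal.Quotient.mk _ (∑ p, e p * b' p))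
    let z : T := IsLocalization.mk' T (Ideal.Quotient.mk _ (∑ p, e p * a' p)) (⟨_, hden⟩ : R⁰)
    have h0 : z * den = num := IsLocalization.mk'_spec T _ (⟨_, hden⟩ : R⁰)
    have h1 : Φ z q * Φ den q = Φ num q := by rw [← Pi.mul_apply, ← map_mul, h0]
    rw [show Φ den q = _ from hΦA q _, show Φ num q = _ from hΦA q _] at h1
    show Φ z q * algebraMap (Rp q) (Kp q) (π q (Ideal.Quotient.mk _ (∑ p, e p * b' p))) =
      y q * algebraMap (Rp q) (Kp q) (π q (Ideal.Quotient.mk _ (∑ p, e p * b' p)))
    rw [h1]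
    rw [hsum, hsum, map_mul, map_mul, map_mul, map_mul, map_mul, map_mul, ha', hb', ha₁, hb₁,
      ← hab q]
    rw [div_mul_eq_mul_div, eq_div_iff hbne]
    ring
  have hmemC : ∀ (x : CAlg2.normRed A) (p : minimalPrimes A),
      IsIntegral (Rp p) (toK p x.1) := fun x p => (x.2.map (toK p)).tower_top
  let Ψ : CAlg2.normRed A →+* Π p : minimalPrimes A, CAlg2.normRed (A ⧸ p.1) :=
    Pi.ringHom fun p => RingHom.codRestrict
      ((toK p).toRingHom.comp (integralClosure R T).val.toRingHom)
      (integralClosure (Rp p) (Kp p)) fun x => hmemC x p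
  have hΨ : Function.Bijective Ψ := by
    refine ⟨fun x y hxy => Subtype.ext (hinj (funext fun p => congrArg Subtype.val (congrFun hxy p))),
      fun c => ?_⟩
    obtain ⟨x, hx⟩ := hsurj fun p => (c p).1
    refine ⟨⟨x, ?_⟩, funext fun p => Subtype.ext (congrFun hx p)⟩
    refine (isIntegral_algHom_iff Φ hinj).mp ?_
    rw [hx]
    refine isIntegral_pi fun p => ?_
    have : Algebra.IsIntegral R (Rp p) := ⟨fun y => by
      obtain ⟨r, rfl⟩ := hπs p y
      exact isIntegral_algebraMap⟩
    exact isIntegral_trans (A := Rp p) _ (c p).2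
  refine ⟨RingEquiv.ofBijective Ψ hΨ, fun a p => Subtype.ext ?_⟩
  exact hΦA p a

variable (A : Type u) [CommRing A] [IsLocalRing A]

theorem minimalPrimes_finite_quotient (p : Ideal A) [p.IsPrime] : (minimalPrimes (A ⧸ p)).Finite := by
  rw [IsDomain.minimalPrimes_eq_singleton_bot]
  exact Set.finite_singleton _

theorem numBranches_eq_finsum (h : (minimalPrimes A).Finite) :
    Brnch.numBranches A = ∑ᶠ p : minimalPrimes A,
      haveI : p.1.IsPrime := p.2.1.1
      Brnch.numBranches (A ⧸ p.1) := by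
  classical
  have : Finite (minimalPrimes A) := h.to_subtype
  obtain ⟨e, -⟩ := exists_normRed_equiv A h
  obtain ⟨E⟩ := exists_maximalSpectrum_pi_equiv fun p : minimalPrimes A => CAlg2.normRed (A ⧸ p.1)
  let E' : MaximalSpectrum (CAlg2.normRed A) ≃
      MaximalSpectrum (Π p : minimalPrimes A, CAlg2.normRed (A ⧸ p.1)) :=
    { toFun := fun m => ⟨m.asIdeal.comap e.symm,
        have := m.isMaximal
        Ideal.comap_isMaximal_of_surjective _ e.symm.surjective⟩
      invFun := fun m => ⟨m.asIdeal.comap e,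
        have := m.isMaximal
        Ideal.comap_isMaximal_of_surjective _ e.surjective⟩
      left_inv := fun m => MaximalSpectrum.ext (Ideal.ext fun x => by
        rw [Ideal.mem_comap, Ideal.mem_comap, RingEquiv.symm_apply_apply])
      right_inv := fun m => MaximalSpectrum.ext (Ideal.ext fun x => by
        rw [Ideal.mem_comap, Ideal.mem_comap, RingEquiv.apply_symm_apply]) }
  rw [Brnch.numBranches, if_pos h, ENat.card_congr (E'.trans E.symm), card_sigma]
  refine finsum_congr fun p => ?_
  have : p.1.IsPrime := p.2.1.1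
  unfold Brnch.numBranches
  rw [if_pos (minimalPrimes_finite_quotient A p.1)]

theorem toNorm_isIntegral : (toNorm A).IsIntegral :=
  RingHom.IsIntegral.trans _ _ (RingHom.isIntegral_of_surjective _ Ideal.Quotient.mk_surjective)
    (algebraMap_isIntegral_iff.mpr (Algebra.IsIntegral.mk fun x => integralClosure.isIntegral x))

/-- Geometric branches as homomorphisms to the algebraic closure. -/
theorem exists_emb_equiv :
    Nonempty ((Σ m : MaximalSpectrum (CAlg2.normRed A), Brnch.Emb A m) ≃
      {τ : CAlg2.normRed A →+* AlgebraicClosure (IsLocalRing.ResidueField A) //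
        τ.comp (toNorm A) = Brnch.toClosure A}) := by
  let f : (Σ m : MaximalSpectrum (CAlg2.normRed A), Brnch.Emb A m) →
      {τ : CAlg2.normRed A →+* AlgebraicClosure (IsLocalRing.ResidueField A) //
        τ.comp (toNorm A) = Brnch.toClosure A} := fun p =>
    ⟨p.2.1.comp (Ideal.Quotient.mk p.1.asIdeal), by rw [RingHom.comp_assoc]; exact p.2.2⟩
  refine ⟨Equiv.ofBijective f ⟨?_, fun τ => ?_⟩⟩
  · rintro ⟨m, σ⟩ ⟨n, ρ⟩ h
    have h' : σ.1.comp (Ideal.Quotient.mk m.asIdeal) = ρ.1.comp (Ideal.Quotient.mk n.asIdeal) :=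
      congrArg Subtype.val h
    have hk : ∀ (l : MaximalSpectrum (CAlg2.normRed A)) (θ : Brnch.Emb A l),
        RingHom.ker (θ.1.comp (Ideal.Quotient.mk l.asIdeal)) = l.asIdeal := fun l θ => by
      let := @Ideal.Quotient.field _ _ l.asIdeal l.isMaximal
      rw [← RingHom.comap_ker, (RingHom.injective_iff_ker_eq_bot θ.1).mp θ.1.injective,
        ← RingHom.ker_eq_comap_bot, Ideal.mk_ker]
    obtain rfl : m = n := MaximalSpectrum.ext (by rw [← hk m σ, h', hk n ρ])
    exact Sigma.ext rfl (heq_of_eq (Subtype.ext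
      ((RingHom.cancel_right Ideal.Quotient.mk_surjective).mp h')))
  · have hmax : (RingHom.ker τ.1).IsMaximal := by
      have hp : (RingHom.ker τ.1).IsPrime := RingHom.ker_isPrime _
      algebraize [toNorm A]
      have : Algebra.IsIntegral A (CAlg2.normRed A) := ⟨toNorm_isIntegral A⟩
      refine Ideal.isMaximal_of_isIntegral_of_isMaximal_comap (R := A) _ ?_
      rw [show (RingHom.ker τ.1).comap (algebraMap A (CAlg2.normRed A)) =
        RingHom.ker (Brnch.toClosure A) by rw [RingHom.comap_ker]; exact congrArg RingHom.ker τ.2]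
      rw [show RingHom.ker (Brnch.toClosure A) = IsLocalRing.maximalIdeal A by
        ext a
        rw [RingHom.mem_ker, Brnch.toClosure, RingHom.comp_apply, map_eq_zero,
          IsLocalRing.residue_eq_zero_iff]]
      exact IsLocalRing.maximalIdeal.isMaximal A
    refine ⟨⟨⟨RingHom.ker τ.1, hmax⟩, Ideal.Quotient.lift _ τ.1 fun a ha => ha, ?_⟩, ?_⟩
    · refine RingHom.ext fun a => ?_
      exact RingHom.congr_fun τ.2 a
    · exact Subtype.ext (RingHom.ext fun a => rfl)

theorem numGeomBranches_eq_finsum (h : (minimalPrimes A).Finite) :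
    Brnch.numGeomBranches A = ∑ᶠ p : minimalPrimes A,
      haveI : p.1.IsPrime := p.2.1.1
      Brnch.numGeomBranches (A ⧸ p.1) := by
  classical
  have : Finite (minimalPrimes A) := h.to_subtype
  obtain ⟨e, he⟩ := exists_normRed_equiv A h
  let K := AlgebraicClosure (IsLocalRing.ResidueField A)
  let ι₀ : ∀ p : minimalPrimes A, A →+* CAlg2.normRed (A ⧸ p.1) := fun p =>
    (toNorm (A ⧸ p.1)).comp (Ideal.Quotient.mk p.1)
  obtain ⟨E⟩ := exists_hom_pi_equiv (fun p : minimalPrimes A => CAlg2.normRed (A ⧸ p.1)) A K ι₀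
    (Brnch.toClosure A)
  obtain ⟨E₀⟩ := exists_emb_equiv A
  have hι : e.toRingHom.comp (toNorm A) = Pi.ringHom ι₀ :=
    RingHom.ext fun a => funext fun p => he a p
  let E' : {τ : CAlg2.normRed A →+* K // τ.comp (toNorm A) = Brnch.toClosure A} ≃
      {τ : (Π p : minimalPrimes A, CAlg2.normRed (A ⧸ p.1)) →+* K //
        τ.comp (Pi.ringHom ι₀) = Brnch.toClosure A} :=
    { toFun := fun τ => ⟨τ.1.comp e.symm.toRingHom, by
        rw [← hι, RingHom.comp_assoc, ← RingHom.comp_assoc (toNorm A)]
        simpa using τ.2⟩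
      invFun := fun τ => ⟨τ.1.comp e.toRingHom, by rw [RingHom.comp_assoc, hι]; exact τ.2⟩
      left_inv := fun τ => Subtype.ext (RingHom.ext fun x => by simp)
      right_inv := fun τ => Subtype.ext (RingHom.ext fun x => by simp) }
  rw [Brnch.numGeomBranches, if_pos h, ENat.card_congr ((E₀.trans E').trans E.symm), card_sigma]
  refine finsum_congr fun p => ?_
  have : p.1.IsPrime := p.2.1.1
  unfold Brnch.numGeomBranches
  rw [if_pos (minimalPrimes_finite_quotient A p.1)]
  obtain ⟨Ep⟩ := exists_emb_equiv (A ⧸ p.1)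
  rw [ENat.card_congr Ep]
  have hloc : IsLocalHom (Ideal.Quotient.mk p.1) :=
    IsLocalHom.of_surjective _ Ideal.Quotient.mk_surjective
  let η : IsLocalRing.ResidueField A ≃+* IsLocalRing.ResidueField (A ⧸ p.1) :=
    RingEquiv.ofBijective (IsLocalRing.ResidueField.map (Ideal.Quotient.mk p.1))
      ⟨RingHom.injective _, fun y => by
        obtain ⟨y, rfl⟩ := IsLocalRing.residue_surjective y
        obtain ⟨a, rfl⟩ := Ideal.Quotient.mk_surjective y
        exact ⟨IsLocalRing.residue A a, rfl⟩⟩
  let K' := AlgebraicClosure (IsLocalRing.ResidueField (A ⧸ p.1))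
  let θ : K ≃+* K' := IsAlgClosure.equivOfEquiv K K' η
  have hθ : θ.toRingHom.comp (Brnch.toClosure A) =
      (Brnch.toClosure (A ⧸ p.1)).comp (Ideal.Quotient.mk p.1) :=
    RingHom.ext fun a => IsAlgClosure.equivOfEquiv_algebraMap K K' η (IsLocalRing.residue A a)
  refine ENat.card_congr
    { toFun := fun τ => ⟨θ.toRingHom.comp τ.1, (RingHom.cancel_right Ideal.Quotient.mk_surjective).mp
        (by rw [RingHom.comp_assoc, RingHom.comp_assoc]; exact (congrArg θ.toRingHom.comp τ.2).trans hθ)⟩
      invFun := fun τ => ⟨θ.symm.toRingHom.comp τ.1, RingHom.ext fun a => by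
        have h1 := RingHom.congr_fun τ.2 (Ideal.Quotient.mk p.1 a)
        have h2 := RingHom.congr_fun hθ a
        exact (congrArg θ.symm (h1.trans h2.symm)).trans (θ.symm_apply_apply _)⟩
      left_inv := fun τ => Subtype.ext (RingHom.ext fun x => by simp)
      right_inv := fun τ => Subtype.ext (RingHom.ext fun x => by simp) }

end Groth.Agent.Lib.Unram.BranchSum
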