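import Groth.Agent.Lib.Unram.BranchNbhd
import Groth.Agent.Lib.Flat55.FibrewiseStalk
import Groth.Agent.Lib.Flat55.FibreTransfer
import Groth.Agent.Lib.Henselian.Basic
import Mathlib.RingTheory.TensorProduct.Quotient

/-!
# Branches of fibres and étale neighbourhoods
-/

set_option autoImplicit false

universe u

open CategoryTheory CategoryTheory.Limits AlgebraicGeometry IsLocalRing
open scoped TensorProduct

namespace Groth.Agent.Lib.Unram.BranchFibre

open Henselian.StrictHenselization (StrictHenselization)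
open Henselian.Henselization (Henselization)
open Flat55.FibrewiseStalk (mIdeal)
open BranchNbhd (ResSurj)

attribute [local instance] Algebra.TensorProduct.rightAlgebra

section Quot

variable (A B S : Type u) [CommRing A] [IsLocalRing A] [CommRing B] [IsLocalRing B] [Algebra A B]
  [CommRing S] [IsLocalRing S] [Algebra A S] [IsLocalHom (algebraMap A S)]

/-- The ideal of `S` cutting out `B`. -/
abbrev J : Ideal S := (RingHom.ker (algebraMap A B)).map (algebraMap A S)

theorem J_le : J A B S ≤ maximalIdeal S :=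
  (Ideal.map_mono (IsLocalRing.le_maximalIdeal (RingHom.ker_ne_top _))).trans
    (((local_hom_TFAE (algebraMap A S)).out 0 2 rfl rfl).mp inferInstance)

theorem isLocalRing_quot : IsLocalRing (S ⧸ J A B S) :=
  have : Nontrivial (S ⧸ J A B S) :=
    Ideal.Quotient.nontrivial_iff.mpr ((J_le A B S).trans_lt (maximalIdeal.isMaximal S).ne_top.lt_top).ne
  IsLocalRing.of_surjective' _ Ideal.Quotient.mk_surjective

theorem henselian_quot [HenselianLocalRing S] : HenselianLocalRing (S ⧸ J A B S) := by
  have := isLocalRing_quot A B S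
  have hmap : (maximalIdeal S).map (Ideal.Quotient.mk (J A B S)) = maximalIdeal (S ⧸ J A B S) := by
    have : ((maximalIdeal S).map (Ideal.Quotient.mk (J A B S))).IsMaximal :=
      (Ideal.map_eq_top_or_isMaximal_of_surjective _ Ideal.Quotient.mk_surjective
        (maximalIdeal.isMaximal S)).resolve_left fun h => by
          have h' := congrArg (Ideal.comap (Ideal.Quotient.mk (J A B S))) h
          rw [Ideal.comap_map_of_surjective _ Ideal.Quotient.mk_surjective, Ideal.comap_top,
            ← RingHom.ker_eq_comap_bot, Ideal.mk_ker, sup_eq_left.mpr (J_le A B S)] at h'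
          exact (maximalIdeal.isMaximal S).ne_top h'
    exact IsLocalRing.eq_maximalIdeal this
  have h := Henselian.Basic.henselianRing_quotient (I := J A B S) (J_le A B S)
  rw [hmap] at h
  exact { is_henselian := fun f hf a h1 h2 =>
    h.is_henselian f hf a h1 (h2.map (Ideal.Quotient.mk _)) }

variable (hq : Function.Surjective (algebraMap A B))

/-- The map from `B`. -/
noncomputable def toQuot : B →+* S ⧸ J A B S :=
  (algebraMap A B).liftOfSurjective hq ⟨(Ideal.Quotient.mk (J A B S)).comp (algebraMap A S),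
    fun a ha => Ideal.Quotient.eq_zero_iff_mem.mpr (Ideal.mem_map_of_mem _ ha)⟩

theorem toQuot_algebraMap (a : A) :
    toQuot A B S hq (algebraMap A B a) = Ideal.Quotient.mk (J A B S) (algebraMap A S a) :=
  RingHom.liftOfRightInverse_comp_apply _ _ _ _ a

theorem isIndEtale_toQuot (hind : EtPBC.IsIndEtale A S) :
    @EtPBC.IsIndEtale B (S ⧸ J A B S) _ _ (toQuot A B S hq).toAlgebra := by
  let T := S ⧸ J A B S
  let : Algebra B T := (toQuot A B S hq).toAlgebra
  have : IsScalarTower A B T := IsScalarTower.of_algebraMap_eq fun a => (toQuot_algebraMap A B S hq a).symm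
  let φ : B ⊗[A] S →ₐ[B] T := Algebra.TensorProduct.lift (Algebra.ofId B T)
    (IsScalarTower.toAlgHom A S T) fun _ _ => Commute.all _ _
  let ι : S →ₐ[A] B ⊗[A] S := Algebra.TensorProduct.includeRight
  let ψ : T →+* B ⊗[A] S := Ideal.Quotient.lift (J A B S) ι.toRingHom fun s hs => by
    refine (show J A B S ≤ RingHom.ker ι.toRingHom from Ideal.map_le_iff_le_comap.mpr fun a ha => ?_) hs
    rw [Ideal.mem_comap, RingHom.mem_ker]
    change ι (algebraMap A S a) = 0
    rw [ι.commutes, Algebra.TensorProduct.algebraMap_apply, RingHom.mem_ker.mp ha, TensorProduct.zero_tmul]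
  have hψ : Function.Surjective ψ := fun y => by
    obtain ⟨s, hs⟩ := Algebra.TensorProduct.includeRight_surjective S hq y
    exact ⟨Ideal.Quotient.mk _ s, hs⟩
  have hφψ : ∀ t, φ (ψ t) = t := fun t => by
    obtain ⟨s, rfl⟩ := Ideal.Quotient.mk_surjective t
    change φ ((1 : B) ⊗ₜ[A] s) = _
    simp only [φ, Algebra.TensorProduct.lift_tmul, map_one, one_mul]
    rfl
  refine IndEtale.Basic.of_algEquiv (IndEtale.Basic.baseChange B hind)
    (AlgEquiv.ofBijective φ ⟨fun x y h => ?_, fun t => ⟨ψ t, hφψ t⟩⟩)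
  obtain ⟨x, rfl⟩ := hψ x
  obtain ⟨y, rfl⟩ := hψ y
  rw [hφψ, hφψ] at h
  rw [h]

theorem isLocalHom_toQuot : IsLocalHom (toQuot A B S hq) := by
  have := isLocalRing_quot A B S
  refine ⟨fun b hb => ?_⟩
  obtain ⟨a, rfl⟩ := hq b
  rw [toQuot_algebraMap] at hb
  have := IsLocalHom.of_surjective (Ideal.Quotient.mk (J A B S)) Ideal.Quotient.mk_surjective
  exact (isUnit_of_map_unit (algebraMap A S) a (isUnit_of_map_unit _ _ hb)).map _

end Quot

/-- Geometric branches of a quotient, upstairs. -/
theorem card_strict_quot (A B : Type u) [CommRing A] [IsLocalRing A] [CommRing B] [IsLocalRing B]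
    [Algebra A B] (hq : Function.Surjective (algebraMap A B)) :
    Brnch.numGeomBranches B = ENat.card (minimalPrimes (StrictHenselization A ⧸ J A B (StrictHenselization A))) := by
  let S := StrictHenselization A
  let T := S ⧸ J A B S
  have hS : Hensel.IsStrictHenselization A S := inferInstance
  have := hS.isSepClosure.sep_closed
  have := hS.isSepClosure.separable
  have : IsLocalRing T := isLocalRing_quot A B S
  have : HenselianLocalRing T := henselian_quot A B S
  let : Algebra B T := (toQuot A B S hq).toAlgebra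
  have : IsLocalHom (algebraMap B T) := isLocalHom_toQuot A B S hq
  have : IsScalarTower A B T := IsScalarTower.of_algebraMap_eq fun a => (toQuot_algebraMap A B S hq a).symm
  have hmk : IsLocalHom (Ideal.Quotient.mk (J A B S)) :=
    IsLocalHom.of_surjective _ Ideal.Quotient.mk_surjective
  have : IsLocalHom (algebraMap A T) := RingHom.isLocalHom_comp (Ideal.Quotient.mk (J A B S)) (algebraMap A S)
  have : IsLocalHom (algebraMap A B) := IsLocalHom.of_surjective _ hq
  let eT : ResidueField S ≃+* ResidueField T := RingEquiv.ofBijective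
    (ResidueField.map (Ideal.Quotient.mk (J A B S)))
    ⟨RingHom.injective _, fun z => by
      obtain ⟨t, rfl⟩ := residue_surjective z
      obtain ⟨s, rfl⟩ := Ideal.Quotient.mk_surjective t
      exact ⟨residue S s, rfl⟩⟩
  let eA : ResidueField S ≃ₐ[ResidueField A] ResidueField T := AlgEquiv.ofRingEquiv (f := eT) fun x => by
    obtain ⟨a, rfl⟩ := residue_surjective x
    rfl
  have : Algebra.IsSeparable (ResidueField A) (ResidueField T) := AlgEquiv.Algebra.isSeparable eA
  have : IsScalarTower (ResidueField A) (ResidueField B) (ResidueField T) :=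
    IsScalarTower.of_algebraMap_eq fun x => by
      obtain ⟨a, rfl⟩ := residue_surjective x
      exact congrArg (residue T) (toQuot_algebraMap A B S hq a).symm
  have : Algebra.IsSeparable (ResidueField B) (ResidueField T) :=
    Algebra.isSeparable_tower_top_of_isSeparable (ResidueField A) _ _
  have : IsSepClosed (ResidueField T) := Henselian.StrictHenselization.isSepClosed_of_ringEquiv eT
  obtain ⟨e⟩ := UnibranchEtaleAlg.exists_strict_equiv B T
    (isIndEtale_toQuot A B S hq Henselian.IndEtale.isIndEtale_lim)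
  let U := StrictHenselization T
  have hU : Hensel.IsStrictHenselization T U := inferInstance
  have := hU.isSepClosure.separable
  have hres : Function.Surjective (ResidueField.map (algebraMap T U)) :=
    IsSepClosed.algebraMap_surjective (ResidueField T) (ResidueField U)
  let eU := RingEquiv.ofBijective _
    (UnibranchEtaleAlg.bijective_of_indEtale T U Henselian.IndEtale.isIndEtale_lim hres)
  rw [← BranchHenselian.card_minimalPrimes_strictHenselization B (StrictHenselization B),
    BranchNbhd.card_congr e, BranchNbhd.card_congr eU.symm]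

/-- Branches of a quotient, upstairs. -/
theorem card_hens_quot (A B : Type u) [CommRing A] [IsLocalRing A] [CommRing B] [IsLocalRing B]
    [Algebra A B] (hq : Function.Surjective (algebraMap A B)) :
    Brnch.numBranches B = ENat.card (minimalPrimes (Henselization A ⧸ J A B (Henselization A))) := by
  let S := Henselization A
  let T := S ⧸ J A B S
  have : IsLocalRing T := isLocalRing_quot A B S
  have : HenselianLocalRing T := henselian_quot A B S
  let : Algebra B T := (toQuot A B S hq).toAlgebra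
  have : IsLocalHom (algebraMap B T) := isLocalHom_toQuot A B S hq
  have hresB : ResSurj (algebraMap B T) := fun t => by
    obtain ⟨s, rfl⟩ := Ideal.Quotient.mk_surjective t
    obtain ⟨a, ha⟩ := Henselian.Henselization.exists_sub_mem A S s
    refine ⟨algebraMap A B a, fun hu => ?_⟩
    rw [show algebraMap B T (algebraMap A B a) = _ from toQuot_algebraMap A B S hq a, ← map_sub] at hu
    have := IsLocalHom.of_surjective (Ideal.Quotient.mk (J A B S)) Ideal.Quotient.mk_surjective
    exact ha (isUnit_of_map_unit _ _ hu)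
  obtain ⟨e⟩ := BranchNbhd.exists_hens_equiv B T
    (isIndEtale_toQuot A B S hq Henselian.IndEtale.isIndEtale_lim) hresB
  let U := Henselization T
  have hres : Function.Surjective (ResidueField.map (algebraMap T U)) :=
    (BranchNbhd.surjective_map_iff _).mpr fun y => by
      obtain ⟨a, ha⟩ := Henselian.Henselization.exists_sub_mem T U y
      exact ⟨a, ha⟩
  let eU := RingEquiv.ofBijective _
    (UnibranchEtaleAlg.bijective_of_indEtale T U Henselian.IndEtale.isIndEtale_lim hres)
  rw [← BranchHenselian.card_minimalPrimes_henselization B (Henselization B),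
    BranchNbhd.card_congr e, BranchNbhd.card_congr eU.symm]

/-- Finitely many minimal primes of a quotient of an ind-étale local algebra separate at an étale stage. -/
theorem exists_stage (R S : Type u) [CommRing R] [CommRing S] [IsLocalRing S] [Algebra R S]
    (hind : EtPBC.IsIndEtale R S) (I : Ideal R) (n : ℕ)
    (hn : (n : ℕ∞) ≤ ENat.card (minimalPrimes (S ⧸ I.map (algebraMap R S)))) :
    ∃ (E : Type u) (_ : CommRing E) (_ : Algebra R E) (_ : Algebra.Etale R E) (v : E →ₐ[R] S),
      (n : ℕ∞) ≤ ENat.card (minimalPrimes (Localization.AtPrime ((maximalIdeal S).comap v.toRingHom) ⧸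
        I.map (algebraMap R (Localization.AtPrime ((maximalIdeal S).comap v.toRingHom))))) := by
  classical
  let JS := I.map (algebraMap R S)
  let T := S ⧸ JS
  obtain ⟨Q, hQ⟩ : ∃ Q : Fin n → minimalPrimes T, Function.Injective Q := by
    rw [ENat.card_coe_set_eq] at hn
    obtain ⟨t, ht, htc⟩ := Set.exists_subset_encard_eq hn
    have htf : t.Finite := Set.finite_of_encard_eq_coe htc
    have hcard : Nat.card t = n := by
      rw [Nat.card_coe_set_eq, Set.ncard_def, htc, ENat.toNat_natCast]
    have := htf.to_subtype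
    let e := (Finite.equivFinOfCardEq hcard).symm
    refine ⟨fun i => ⟨(e i).1, ht (e i).2⟩, fun i j h => ?_⟩
    have h' := congrArg Subtype.val h
    exact e.injective (Subtype.ext h')
  have hsep : ∀ i j, ∃ a : S, i ≠ j →
      Ideal.Quotient.mk JS a ∈ (Q i).1 ∧ Ideal.Quotient.mk JS a ∉ (Q j).1 := fun i j => by
    by_cases h : i = j
    · exact ⟨0, fun h' => (h' h).elim⟩
    · obtain ⟨a, ha, ha'⟩ := Set.not_subset.mp fun hle : (Q i).1 ≤ (Q j).1 =>
        h (hQ (Subtype.ext (le_antisymm hle ((Q j).2.2 ⟨(Q i).2.1.1, bot_le⟩ hle))))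
      obtain ⟨a, rfl⟩ := Ideal.Quotient.mk_surjective a
      exact ⟨a, fun _ => ⟨ha, ha'⟩⟩
  choose a ha using hsep
  obtain ⟨E, _, _, hE, v, hv⟩ := IndEtale.Basic.exists_lift (IndEtale.Basic.factors hind)
    (Finset.univ.image fun ij : Fin n × Fin n => a ij.1 ij.2)
  have : Algebra.Etale R E := hE
  choose e he using fun i j => hv (Finset.mem_coe.mpr (Finset.mem_image.mpr ⟨(i, j), Finset.mem_univ _, rfl⟩))
  refine ⟨E, inferInstance, inferInstance, hE, v, ?_⟩
  let 𝔮 := (maximalIdeal S).comap v.toRingHom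
  let Eq := Localization.AtPrime 𝔮
  let w : Eq →ₐ[R] S := IsLocalization.liftAlgHom (M := 𝔮.primeCompl) (f := v)
    fun y => IsLocalRing.notMem_maximalIdeal.mp y.2
  have hw : ∀ z, w (algebraMap E Eq z) = v z := fun z => IsLocalization.lift_eq _ z
  let : Algebra Eq S := w.toRingHom.toAlgebra
  have : IsScalarTower R Eq S := IsScalarTower.of_algebraMap_eq fun r => (w.commutes r).symm
  have hindE : EtPBC.IsIndEtale R Eq := IndEtale.Basic.of_factors
    (IndEtale.Zariski.factors_localization (IndEtale.Basic.impliesFP R) IndEtale.Zariski.stableAway_etale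
      (IndEtale.Basic.factors IndEtale.Basic.of_etale) 𝔮.primeCompl Eq)
  have : Module.Flat Eq S := IndEtale.Basic.flat (IndEtale.Basic.factors (IndEtale.Basic.cancel hindE hind))
  let JE := I.map (algebraMap R Eq)
  let L := Eq ⧸ JE
  have hJ : JE.map (algebraMap Eq S) = JS := by
    rw [Ideal.map_map, ← IsScalarTower.algebraMap_eq]
  let wbar : L →+* T := Ideal.quotientMap JS (algebraMap Eq S) (Ideal.map_le_iff_le_comap.mp hJ.le)
  let : Algebra L T := wbar.toAlgebra
  have : IsScalarTower Eq L T := ⟨fun c x t => by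
    obtain ⟨x, rfl⟩ := Ideal.Quotient.mk_surjective x
    obtain ⟨t, rfl⟩ := Ideal.Quotient.mk_surjective t
    change Ideal.Quotient.mk JS (algebraMap Eq S (c • x) * t) =
      Ideal.Quotient.mk JS (c • (algebraMap Eq S x * t))
    rw [Algebra.smul_def, Algebra.smul_def, Algebra.algebraMap_self, RingHom.id_apply, map_mul (algebraMap Eq S), mul_assoc]⟩
  have : Module.Flat L T := by
    have hIJ : JS.restrictScalars Eq = JE • (⊤ : Submodule Eq S) := by
      rw [Ideal.smul_top_eq_map, hJ]
    let τ : L ⊗[Eq] S ≃ₗ[Eq] T := TensorProduct.quotTensorEquivQuotSMul S JE ≪≫ₗ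
      Submodule.quotEquivOfEq _ _ hIJ.symm ≪≫ₗ Submodule.Quotient.restrictScalarsEquiv _ JS
    exact Module.Flat.of_linearEquiv (τ.extendScalarsOfSurjective (S := L) Ideal.Quotient.mk_surjective).symm
  refine le_trans ?_ (ENat.card_le_card_of_injective (α := Fin n)
    (f := fun i => (⟨(Q i).1.comap (algebraMap L T),
      BranchHenselian.comap_minimalPrime_mem L T (Q i).2⟩ : minimalPrimes L)) ?_)
  · simp
  · intro i j h
    by_contra hij
    have h' : (Q i).1.comap (algebraMap L T) = (Q j).1.comap (algebraMap L T) := congrArg Subtype.val h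
    have h1 : Ideal.Quotient.mk JE (algebraMap E Eq (e i j)) ∈ (Q i).1.comap (algebraMap L T) := by
      change Ideal.Quotient.mk JS (w (algebraMap E Eq (e i j))) ∈ (Q i).1
      rw [hw, he]
      exact (ha i j hij).1
    rw [h'] at h1
    change Ideal.Quotient.mk JS (w (algebraMap E Eq (e i j))) ∈ (Q j).1 at h1
    rw [hw, he] at h1
    exact (ha i j hij).2 h1

variable {X Y : Scheme.{u}}

/-- The ideal of the fibre in a localization of an affine coordinate ring. -/
noncomputable abbrev fibIdeal {R : CommRingCat.{u}} (f : Spec R ⟶ Y) (P : PrimeSpectrum R) :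
    Ideal (Localization.AtPrime P.asIdeal) :=
  (mIdeal f P).map (AlgebraicGeometry.Spec.stalkIso R P).hom.hom

theorem fibIdeal_map {R E : CommRingCat.{u}} (f : Spec R ⟶ Y) (φ : R ⟶ E) (pt : PrimeSpectrum E)
    (P : PrimeSpectrum R) (h : PrimeSpectrum.comap φ.hom pt = P) :
    fibIdeal (Spec.map φ ≫ f) pt = ((fibIdeal f P).comap (algebraMap R _)).map
      ((algebraMap E (Localization.AtPrime pt.asIdeal)).comp φ.hom) := by
  subst h
  rw [← show (Localization.localRingHom (PrimeSpectrum.comap φ.hom pt).asIdeal pt.asIdeal φ.hom rfl).comp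
    (algebraMap R _) = (algebraMap E (Localization.AtPrime pt.asIdeal)).comp φ.hom from
      RingHom.ext fun r => Localization.localRingHom_to_map _ _ _ rfl r]
  rw [← Ideal.map_map, IsLocalization.map_comap (PrimeSpectrum.comap φ.hom pt).asIdeal.primeCompl]
  rw [fibIdeal, fibIdeal, ← Flat55.FibrewiseStalk.map_mIdeal (Spec.map φ) f pt, Ideal.map_map, Ideal.map_map]
  rw [Ideal.map_map, Ideal.map_map]
  congr 1
  have key : (Spec.map φ).stalkMap pt ≫ (AlgebraicGeometry.Spec.stalkIso E pt).hom =
      (AlgebraicGeometry.Spec.stalkIso R (PrimeSpectrum.comap φ.hom pt)).hom ≫ CommRingCat.ofHom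
        (Localization.localRingHom (PrimeSpectrum.comap φ.hom pt).asIdeal pt.asIdeal φ.hom rfl) := by
    rw [← Scheme.localRingHom_comp_stalkIso]
    erw [Category.assoc, Category.assoc, Iso.inv_hom_id, Category.comp_id]
    rfl
  exact congrArg (fun h => (CommRingCat.Hom.hom h).comp (f.stalkMap _).hom) key

/-- The local ring of the fibre at a point, as a quotient. -/
theorem card_fibre {U : Scheme.{u}} (h : U ⟶ Y) (s : Y) (b : h.fiber s) (p : U) (hb : h.fiberι s b = p) :
    ENat.card (minimalPrimes ((h.fiber s).presheaf.stalk b)) =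
      ENat.card (minimalPrimes (U.presheaf.stalk p ⧸ mIdeal h p)) := by
  obtain ⟨hk, hs⟩ := Flat55.FibrewiseStalk.ker_stalkMap_fiberι' h s b p hb
  exact BranchNbhd.card_congr ((Ideal.quotEquivOfEq hk.symm).trans (RingHom.quotientKerEquivOfSurjective hs)).symm

theorem exists_fibre_point {U : Scheme.{u}} (h : U ⟶ Y) (s : Y) (p : U) (hp : h p = s) :
    ∃ b, h.fiberι s b = p := by
  change p ∈ Set.range (h.fiberι s)
  rw [Scheme.Hom.range_fiberι]
  exact hp

theorem encard_eq {U : Scheme.{u}} (h : U ⟶ Y) (s : Y) (b : h.fiber s) (p : U) (hb : h.fiberι s b = p) :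
    {Z : Set ↥(h.fiber s) | Z ∈ irreducibleComponents ↥(h.fiber s) ∧ ∃ u' ∈ Z, h.fiberι s u' = p}.encard =
      ENat.card (minimalPrimes ((h.fiber s).presheaf.stalk b)) := by
  rw [← BranchNbhd.components_encard]
  congr 1
  ext Z
  refine and_congr_right fun _ => ⟨?_, fun hZ => ⟨b, hZ, hb⟩⟩
  rintro ⟨u', hu', he⟩
  rwa [(h.fiberι s).isEmbedding.injective (he.trans hb.symm)] at hu'

/-- A stage as an étale neighbourhood. -/
theorem exists_nbhd (f : X ⟶ Y) {R : CommRingCat.{u}} (ι : Spec R ⟶ X) [IsOpenImmersion ι]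
    (P : PrimeSpectrum R) (S : Type u) [CommRing S] [IsLocalRing S]
    [Algebra (Localization.AtPrime P.asIdeal) S] [IsLocalHom (algebraMap (Localization.AtPrime P.asIdeal) S)]
    (hind : EtPBC.IsIndEtale (Localization.AtPrime P.asIdeal) S) (n : ℕ)
    (hn : (n : ℕ∞) ≤ ENat.card (minimalPrimes (S ⧸
      (fibIdeal (ι ≫ f) P).map (algebraMap (Localization.AtPrime P.asIdeal) S)))) :
    ∃ (U : Scheme.{u}) (g : U ⟶ X) (p : U), Etale g ∧ g p = ι P ∧
      (ResSurj (algebraMap (Localization.AtPrime P.asIdeal) S) → Function.Bijective (g.residueFieldMap p)) ∧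
      (n : ℕ∞) ≤ {Z : Set ↥((g ≫ f).fiber (f (ι P))) | Z ∈ irreducibleComponents ↥((g ≫ f).fiber (f (ι P))) ∧
        ∃ u' ∈ Z, (g ≫ f).fiberι (f (ι P)) u' = p}.encard := by
  let A := Localization.AtPrime P.asIdeal
  let : Algebra R S := ((algebraMap A S).comp (algebraMap R A)).toAlgebra
  have : IsScalarTower R A S := IsScalarTower.of_algebraMap_eq fun r => rfl
  have hindA : EtPBC.IsIndEtale R A := IndEtale.Basic.of_factors
    (IndEtale.Zariski.factors_localization (IndEtale.Basic.impliesFP R) IndEtale.Zariski.stableAway_etale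
      (IndEtale.Basic.factors IndEtale.Basic.of_etale) P.asIdeal.primeCompl A)
  let I := (fibIdeal (ι ≫ f) P).comap (algebraMap R A)
  have hI : I.map (algebraMap R S) = (fibIdeal (ι ≫ f) P).map (algebraMap A S) := by
    rw [IsScalarTower.algebraMap_eq R A S, ← Ideal.map_map, IsLocalization.map_comap P.asIdeal.primeCompl]
  obtain ⟨E, _, _, hE, v, hv⟩ := exists_stage R S (IndEtale.Basic.trans hindA hind) I n (hI ▸ hn)
  let 𝔮 := (maximalIdeal S).comap v.toRingHom
  let φ : R ⟶ CommRingCat.of E := CommRingCat.ofHom (algebraMap R E)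
  let g : Spec (CommRingCat.of E) ⟶ X := Spec.map φ ≫ ι
  let pt : Spec (CommRingCat.of E) := ⟨𝔮, inferInstance⟩
  have hcomap : 𝔮.comap (algebraMap R E) = P.asIdeal := by
    rw [Ideal.comap_comap, show v.toRingHom.comp (algebraMap R E) = (algebraMap A S).comp (algebraMap R A)
      from RingHom.ext fun r => v.commutes r, ← Ideal.comap_comap,
      ((local_hom_TFAE (algebraMap A S)).out 0 4 rfl rfl).mp inferInstance]
    exact IsLocalization.AtPrime.comap_maximalIdeal A P.asIdeal
  have : Etale (Spec.map φ) := by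
    rw [HasRingHomProperty.Spec_iff (P := @Etale)]
    exact RingHom.etale_algebraMap.mpr hE
  have hP : Spec.map φ pt = P := PrimeSpectrum.ext hcomap
  have hg : g pt = ι P := congrArg ι hP
  refine ⟨_, g, pt, MorphismProperty.comp_mem @Etale _ _ inferInstance inferInstance, hg, fun hres => ?_, ?_⟩
  · rw [BranchNbhd.residue_bijective_iff, Scheme.Hom.stalkMap_comp]
    refine (BranchNbhd.resSurj_respectsIso.cancel_left_isIso _ _).mpr
      ((BranchNbhd.resSurj_respectsIso.arrow_mk_iso_iff (Scheme.arrowStalkMapSpecIso φ pt)).mpr fun y => ?_)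
    let w : Localization.AtPrime 𝔮 →+* S := IsLocalization.lift (M := 𝔮.primeCompl) (g := v.toRingHom)
      fun z => IsLocalRing.notMem_maximalIdeal.mp z.2
    have hw : ∀ z, w (algebraMap E _ z) = v z := fun z => IsLocalization.lift_eq _ z
    obtain ⟨a, ha⟩ := hres (w y)
    obtain ⟨⟨r, s⟩, hrs⟩ := IsLocalization.surj P.asIdeal.primeCompl a
    have hs : (s : R) ∈ ((PrimeSpectrum.comap φ.hom pt).asIdeal).primeCompl := by
      change (s : R) ∉ 𝔮.comap (algebraMap R E)
      rw [hcomap]
      exact s.2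
    refine ⟨IsLocalization.mk' _ r ⟨s, hs⟩, fun hu => ha ?_⟩
    let b := IsLocalization.mk' (Localization.AtPrime (PrimeSpectrum.comap φ.hom pt).asIdeal) r ⟨s, hs⟩
    let L := Localization.localRingHom (PrimeSpectrum.comap φ.hom pt).asIdeal pt.asIdeal φ.hom rfl
    have hb : L b * algebraMap E _ (algebraMap R E s) = algebraMap E _ (algebraMap R E r) := by
      have h1 := congrArg L (IsLocalization.mk'_spec (Localization.AtPrime (PrimeSpectrum.comap φ.hom pt).asIdeal) r ⟨s, hs⟩)
      rw [map_mul, Localization.localRingHom_to_map, Localization.localRingHom_to_map] at h1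
      exact h1
    have hvr : ∀ t : R, v (algebraMap R E t) = algebraMap A S (algebraMap R A t) := fun t => v.commutes t
    have hunit : IsUnit (algebraMap A S (algebraMap R A s)) :=
      (IsLocalization.map_units A s).map _
    have h2 : w (L b) = algebraMap A S a := by
      refine hunit.mul_left_injective ?_
      change w (L b) * _ = algebraMap A S a * _
      rw [← map_mul (algebraMap A S), hrs, ← hvr, ← hw, ← map_mul, hb, hw, hvr]
    have h3 := hu.map w
    rw [map_sub] at h3
    exact h2 ▸ h3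
  · obtain ⟨b, hb⟩ := exists_fibre_point (g ≫ f) (f (ι P)) pt (congrArg f hg)
    rw [encard_eq (g ≫ f) _ b pt hb, card_fibre (g ≫ f) _ b pt hb]
    refine hv.trans_eq (BranchNbhd.card_congr (Ideal.quotientEquiv _ _
      (AlgebraicGeometry.Spec.stalkIso (CommRingCat.of E) pt).commRingCatIsoToRingEquiv ?_)).symm
    change I.map (algebraMap R (Localization.AtPrime 𝔮)) = fibIdeal (g ≫ f) pt
    rw [show g ≫ f = Spec.map φ ≫ (ι ≫ f) from Category.assoc _ _ _, fibIdeal_map (ι ≫ f) φ pt P hP]
    rfl

/-- The chart presents the local ring of the fibre. -/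
theorem exists_quot (f : X ⟶ Y) {R : CommRingCat.{u}} (ι : Spec R ⟶ X) [IsOpenImmersion ι]
    (P : PrimeSpectrum R) :
    ∃ q : Localization.AtPrime P.asIdeal →+* (f.fiber (f (ι P))).presheaf.stalk (f.asFiber (ι P)),
      Function.Surjective q ∧ RingHom.ker q = fibIdeal (ι ≫ f) P := by
  obtain ⟨hk, hs⟩ := Flat55.FibrewiseStalk.ker_stalkMap_fiberι' f _ (f.asFiber (ι P)) (ι P)
    (f.fiberι_asFiber _)
  let ψ : X.presheaf.stalk (ι P) ≃+* Localization.AtPrime P.asIdeal :=
    (asIso (ι.stalkMap P) ≪≫ AlgebraicGeometry.Spec.stalkIso R P).commRingCatIsoToRingEquiv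
  refine ⟨RingHom.comp ((X.presheaf.stalkCongr (.of_eq (f.fiberι_asFiber (ι P)).symm)).hom ≫
    (f.fiberι (f (ι P))).stalkMap (f.asFiber (ι P))).hom ψ.symm.toRingHom, hs.comp ψ.symm.surjective, ?_⟩
  rw [← RingHom.comap_ker, hk, fibIdeal, ← Flat55.FibrewiseStalk.map_mIdeal ι f P, Ideal.map_map]
  change (mIdeal f (ι P)).comap ψ.symm = (mIdeal f (ι P)).map (ψ : X.presheaf.stalk (ι P) →+* _)
  rw [Ideal.comap_symm]
  rfl

theorem etale_fiberMap {U : Scheme.{u}} (g : U ⟶ X) [Etale g] (f : X ⟶ Y) (s : Y) :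
    Etale (MoreMor.fiberMap g f s) := by
  obtain ⟨e, he, -⟩ := Flat55.FibreTransfer.exists_iso_fiberMap g f s
  rw [show MoreMor.fiberMap g f s = e.inv ≫ pullback.snd g (f.fiberι s) by
    rw [← he, Iso.inv_hom_id_assoc]]
  exact MorphismProperty.comp_mem @Etale _ _ inferInstance inferInstance

theorem fiberMap_apply {U : Scheme.{u}} (g : U ⟶ X) (f : X ⟶ Y) (u : U) (x : X) (hx : g u = x)
    (b : (g ≫ f).fiber (f x)) (hb : (g ≫ f).fiberι _ b = u) :
    MoreMor.fiberMap g f (f x) b = f.asFiber x := by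
  refine (f.fiberι (f x)).isEmbedding.injective ?_
  rw [← Scheme.Hom.comp_apply, Flat55.FibrewiseStalk.fiberMap_fiberι, Scheme.Hom.comp_apply, hb, hx,
    Scheme.Hom.fiberι_asFiber]

theorem residue_fiberMap {U : Scheme.{u}} (g : U ⟶ X) (f : X ⟶ Y) (s : Y)
    (b : (g ≫ f).fiber s) (hres : Function.Bijective (g.residueFieldMap ((g ≫ f).fiberι s b))) :
    Function.Bijective ((MoreMor.fiberMap g f s).residueFieldMap b) := by
  rw [BranchNbhd.residue_bijective_iff] at hres ⊢
  set fm := MoreMor.fiberMap g f s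
  set x := (g ≫ f).fiberι s b
  have hb : f.fiberι s (fm b) = g x := by
    rw [← Scheme.Hom.comp_apply, Flat55.FibrewiseStalk.fiberMap_fiberι, Scheme.Hom.comp_apply]
  set q₁ := ((X.presheaf.stalkCongr (.of_eq hb.symm)).hom ≫ (f.fiberι s).stalkMap (fm b)).hom
  set q₂ := (((g ≫ f).fiberι s).stalkMap b).hom
  have hsq : (fm.stalkMap b).hom.comp q₁ = q₂.comp (g.stalkMap x).hom := by
    have h := Scheme.Hom.stalkMap_congr_hom _ _ (Flat55.FibrewiseStalk.fiberMap_fiberι g f s).symm b
    rw [Scheme.Hom.stalkMap_comp, Scheme.Hom.stalkMap_comp] at h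
    have h' := congrArg CommRingCat.Hom.hom h
    simp only [CommRingCat.hom_comp] at h'
    simp only [q₁, q₂, CommRingCat.hom_comp]
    exact h'.symm
  intro y
  obtain ⟨z, rfl⟩ := ((g ≫ f).fiberι s).stalkMap_surjective b y
  obtain ⟨a, ha⟩ := hres z
  refine ⟨q₁ a, fun hu => ha ?_⟩
  have : IsLocalHom q₂ := inferInstanceAs <| IsLocalHom (((g ≫ f).fiberι s).stalkMap b).hom
  refine isUnit_of_map_unit q₂ _ ?_
  rw [map_sub]
  have h2 : (fm.stalkMap b).hom (q₁ a) = q₂ ((g.stalkMap x).hom a) := RingHom.congr_fun hsq a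
  rwa [← h2]

theorem numGeomBranchesAt_fibre_eq (f : X ⟶ Y) (x : X) :
    Brnch.numGeomBranchesAt (f.fiber (f x)) (f.asFiber x) =
      ⨆ (U : Scheme.{u}) (g : U ⟶ X) (p : U) (_ : Etale g ∧ g p = x),
      {Z : Set ↥((g ≫ f).fiber (f x)) | Z ∈ irreducibleComponents ↥((g ≫ f).fiber (f x)) ∧
        ∃ u' ∈ Z, (g ≫ f).fiberι (f x) u' = p}.encard := by
  refine le_antisymm ?_ ?_
  · obtain ⟨W, hW, hxW, -⟩ := exists_isAffineOpen_mem_and_subset (x := x) (U := (⊤ : X.Opens)) trivial
    obtain ⟨P, rfl⟩ : ∃ P, hW.fromSpec P = x := ⟨_, hW.fromSpec_primeIdealOf ⟨x, hxW⟩⟩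
    rw [← ENat.forall_natCast_le_iff_le]
    intro n hn
    obtain ⟨q, hq, hk⟩ := exists_quot f hW.fromSpec P
    let := q.toAlgebra
    rw [Brnch.numGeomBranchesAt, card_strict_quot (Localization.AtPrime P.asIdeal) _ hq] at hn
    obtain ⟨U, g, p, hg, hgp, -, h⟩ := exists_nbhd f hW.fromSpec P (StrictHenselization _)
      Henselian.IndEtale.isIndEtale_lim n (hn.trans_eq (BranchNbhd.card_congr
        (Ideal.quotEquivOfEq (congrArg (Ideal.map _) hk))))
    exact le_iSup_of_le U (le_iSup_of_le g (le_iSup_of_le p (le_iSup_of_le ⟨hg, hgp⟩ h)))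
  · refine iSup_le fun U => iSup_le fun g => iSup_le fun p => iSup_le fun ⟨hg, hgp⟩ => ?_
    obtain ⟨b, hb⟩ := exists_fibre_point (g ≫ f) (f x) p (congrArg f hgp)
    have := etale_fiberMap g f (f x)
    rw [encard_eq (g ≫ f) _ b p hb, ← BranchNbhd.components_encard, ← fiberMap_apply g f p x hgp b hb]
    exact BranchNbhd.encard_le_numGeomBranches _ b

theorem numBranchesAt_fibre_eq (f : X ⟶ Y) (x : X) :
    Brnch.numBranchesAt (f.fiber (f x)) (f.asFiber x) =
      ⨆ (U : Scheme.{u}) (g : U ⟶ X) (p : U) (_ : Hens2.IsEtaleNbhd g p x),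
      {Z : Set ↥((g ≫ f).fiber (f x)) | Z ∈ irreducibleComponents ↥((g ≫ f).fiber (f x)) ∧
        ∃ u' ∈ Z, (g ≫ f).fiberι (f x) u' = p}.encard := by
  refine le_antisymm ?_ ?_
  · obtain ⟨W, hW, hxW, -⟩ := exists_isAffineOpen_mem_and_subset (x := x) (U := (⊤ : X.Opens)) trivial
    obtain ⟨P, rfl⟩ : ∃ P, hW.fromSpec P = x := ⟨_, hW.fromSpec_primeIdealOf ⟨x, hxW⟩⟩
    rw [← ENat.forall_natCast_le_iff_le]
    intro n hn
    obtain ⟨q, hq, hk⟩ := exists_quot f hW.fromSpec P
    let := q.toAlgebra
    rw [Brnch.numBranchesAt, card_hens_quot (Localization.AtPrime P.asIdeal) _ hq] at hn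
    obtain ⟨U, g, p, hg, hgp, hres, h⟩ := exists_nbhd f hW.fromSpec P (Henselization _)
      Henselian.IndEtale.isIndEtale_lim n (hn.trans_eq (BranchNbhd.card_congr
        (Ideal.quotEquivOfEq (congrArg (Ideal.map _) hk))))
    refine le_iSup_of_le U (le_iSup_of_le g (le_iSup_of_le p (le_iSup_of_le ⟨hg, hgp, hres fun y => ?_⟩ h)))
    obtain ⟨a, ha⟩ := Henselian.Henselization.exists_sub_mem (Localization.AtPrime P.asIdeal) (Henselization _) y
    exact ⟨a, ha⟩
  · refine iSup_le fun U => iSup_le fun g => iSup_le fun p => iSup_le fun h => ?_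
    obtain ⟨hg, hgp, hres⟩ := h
    change g p = x at hgp
    obtain ⟨b, hb⟩ := exists_fibre_point (g ≫ f) (f x) p (congrArg f hgp)
    have := etale_fiberMap g f (f x)
    subst hb
    rw [encard_eq (g ≫ f) _ b _ rfl, ← BranchNbhd.components_encard, ← fiberMap_apply g f _ x hgp b rfl]
    exact BranchNbhd.encard_le_numBranches _ b (residue_fiberMap g f _ b hres)

end Groth.Agent.Lib.Unram.BranchFibre
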