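import Groth.Agent.Lib.Unram.Radicial
import Mathlib.AlgebraicGeometry.ZariskisMainTheorem
import Mathlib.AlgebraicGeometry.Morphisms.Proper
import Mathlib.RingTheory.Etale.QuasiFinite
import Mathlib.Topology.JacobsonSpace

/-!
# Étale neighbourhoods with trivial residue field extension splitting off a finite part
-/

set_option autoImplicit false

universe u

open CategoryTheory CategoryTheory.Limits AlgebraicGeometry
open scoped TensorProduct

namespace Groth.Agent.Lib.Unram.FinitePartNhd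

theorem quasiFiniteAt_of_finite_fibre {X Y : Scheme.{u}} (f : X ⟶ Y) [LocallyOfFiniteType f] (x : X)
    (h : (f ⁻¹' {f x}).Finite) : f.QuasiFiniteAt x := by
  rw [Scheme.Hom.quasiFiniteAt_iff_isOpen_singleton_asFiber]
  have : Finite (f.fiber (f x)) :=
    @Finite.of_equiv _ _ h.to_subtype (f.fiberHomeo (f x)).symm.toEquiv
  have : LocallyOfFiniteType (f.fiberToSpecResidueField (f x)) :=
    MorphismProperty.pullback_snd _ _ inferInstance
  have : JacobsonSpace (f.fiber (f x)) :=
    LocallyOfFiniteType.jacobsonSpace (f.fiberToSpecResidueField (f x))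
  exact isOpen_discrete _

theorem isPreimmersion_algebraMap_residueField {R : Type u} [CommRing R] (p : PrimeSpectrum R) :
    IsPreimmersion (Spec.map (CommRingCat.ofHom (algebraMap R p.asIdeal.ResidueField))) := by
  have h := Scheme.Spec.map_residueFieldIso_inv_eq_fromSpecResidueField (CommRingCat.of R) p
  have hi : IsIso (Spec.map (Scheme.Spec.residueFieldIso (CommRingCat.of R) p).inv) := inferInstance
  rw [(IsIso.eq_inv_comp _).mpr h]
  infer_instance

/-- The pointed étale neighbourhood splitting off a point of the fibre, together with a section. -/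
theorem exists_clopen_finite {X S : Scheme.{u}} (f : X ⟶ S) [LocallyOfFiniteType f] [IsSeparated f]
    {U : S.Opens} (hU : IsAffineOpen U) (s : S) (hs : s ∈ U) (x : X) (h : f x = s)
    (hx : f.QuasiFiniteAt x) :
    ∃ (T : Scheme.{u}) (g : T ⟶ S)
      (σ : Spec (CommRingCat.of (hU.primeIdealOf ⟨s, hs⟩).asIdeal.ResidueField) ⟶ T),
      Etale g ∧
      σ ≫ g = Spec.map (CommRingCat.ofHom (algebraMap Γ(S, U)
        (hU.primeIdealOf ⟨s, hs⟩).asIdeal.ResidueField)) ≫ hU.fromSpec ∧
      ∃ (V : (pullback f g).Opens), IsClosed (V : Set ↑(pullback f g)) ∧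
        IsFinite (V.ι ≫ pullback.snd f g) ∧
        ∃ v ∈ V, pullback.fst f g v = x ∧ pullback.snd f g v ∈ Set.range σ := by
  subst h
  obtain ⟨_, ⟨V, hV, rfl⟩, hxV, hUV : V ≤ f ⁻¹ᵁ U⟩ :=
    X.isBasis_affineOpens.exists_subset_of_mem_open (show x ∈ f ⁻¹ᵁ U from hs) (f ⁻¹ᵁ U).2
  have : (f.appLE U V hUV).hom.FiniteType := f.finiteType_appLE hU hV hUV
  algebraize [(f.appLE U V hUV).hom]
  let p := (hU.primeIdealOf ⟨f x, hs⟩).asIdeal
  let q := (hV.primeIdealOf ⟨x, hxV⟩).asIdeal
  have : q.LiesOver p :=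
    ⟨congr($(IsAffineOpen.comap_primeIdealOf_appLE U hU V hV hUV hxV).1).symm⟩
  have : Algebra.QuasiFiniteAt Γ(S, U) q := hx.quasiFiniteAt hV hU hUV hxV
  obtain ⟨R, _, _, _, P, _, _, e, _, P', _, hP'P, hP', heP', hbij, hfin, -⟩ :=
    Algebra.exists_etale_isIdempotentElem_forall_liesOver_eq p q
  have : (algebraMap R (Localization.Away e)).Finite := RingHom.finite_algebraMap.mpr hfin
  let φ : Γ(S, U) ⟶ CommRingCat.of R := CommRingCat.ofHom (algebraMap Γ(S, U) R)
  have hφ : φ.hom.Etale := RingHom.etale_algebraMap.mpr ‹_›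
  have : Etale (Spec.map φ) := HasRingHomProperty.Spec_iff.mpr hφ
  let ρ := AlgEquiv.ofBijective _ hbij
  let σ₀ : R →+* p.ResidueField := ρ.symm.toAlgHom.toRingHom.comp (algebraMap R P.ResidueField)
  have hσ₀ : σ₀.comp (algebraMap Γ(S, U) R) = algebraMap Γ(S, U) p.ResidueField := by
    ext r
    change ρ.symm (algebraMap R P.ResidueField (algebraMap Γ(S, U) R r)) = _
    rw [← IsScalarTower.algebraMap_apply, AlgEquiv.commutes]
  refine ⟨Spec (CommRingCat.of R), Spec.map φ ≫ hU.fromSpec, Spec.map (CommRingCat.ofHom σ₀),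
    MorphismProperty.comp_mem @Etale _ _ inferInstance inferInstance, ?_, ?_⟩
  · rw [← Spec.map_comp_assoc]
    congr 2
    exact CommRingCat.hom_ext hσ₀
  let e₁ : Spec (CommRingCat.of (R ⊗[Γ(S, U)] Γ(X, V))) ≅
      pullback (Spec.map (f.appLE U V hUV)) (Spec.map φ) :=
    (pullbackSpecIso _ _ _).symm ≪≫ pullbackSymmetry _ _
  have he₁ : e₁.hom ≫ pullback.fst _ _ =
      Spec.map (CommRingCat.ofHom Algebra.TensorProduct.includeRight.toRingHom) := by
    dsimp [e₁, RingHom.algebraMap_toAlgebra]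
    rw [Category.assoc, pullbackSymmetry_hom_comp_fst]
    exact pullbackSpecIso_inv_snd ..
  have he₂ : e₁.hom ≫ pullback.snd _ _ =
      Spec.map (CommRingCat.ofHom Algebra.TensorProduct.includeLeftRingHom) := by
    dsimp [e₁, φ, RingHom.algebraMap_toAlgebra]
    rw [Category.assoc, pullbackSymmetry_hom_comp_snd]
    exact pullbackSpecIso_inv_fst ..
  let g : Spec (CommRingCat.of (R ⊗[Γ(S, U)] Γ(X, V))) ⟶ pullback f (Spec.map φ ≫ hU.fromSpec) :=
    e₁.hom ≫ pullback.map _ _ _ _ hV.fromSpec (𝟙 _) hU.fromSpec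
      (IsAffineOpen.SpecMap_appLE_fromSpec ..) (by simp)
  let ι : Spec (CommRingCat.of (Localization.Away e)) ⟶ pullback f (Spec.map φ ≫ hU.fromSpec) :=
    Spec.map (CommRingCat.ofHom (algebraMap _ _)) ≫ g
  have hgs : g ≫ pullback.snd f _ =
      Spec.map (CommRingCat.ofHom Algebra.TensorProduct.includeLeftRingHom) := by
    simp only [g, Category.assoc, pullback.map, pullback.lift_snd, Category.comp_id]
    exact he₂
  have hιfin : IsFinite (ι ≫ pullback.snd f _) := by
    rw [Category.assoc, hgs, ← Spec.map_comp, IsFinite.SpecMap_iff]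
    change ((algebraMap (R ⊗[Γ(S, U)] Γ(X, V)) (Localization.Away e)).comp
      (algebraMap R (R ⊗[Γ(S, U)] Γ(X, V)))).Finite
    rw [← IsScalarTower.algebraMap_eq]
    exact RingHom.finite_algebraMap.mpr hfin
  let W₁ := ι.opensRange
  have hW : IsFinite (W₁.ι ≫ pullback.snd f _) := by
    rw [← MorphismProperty.cancel_left_of_respectsIso @IsFinite ι.isoOpensRange.hom,
      Scheme.Hom.isoOpensRange_hom_ι_assoc]
    exact hιfin
  have : IsFinite W₁.ι := .of_comp _ (pullback.snd f _)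
  refine ⟨W₁, by simpa using W₁.ι.isClosedMap.isClosed_range, hW, g ⟨P', ‹_›⟩, ?_, ?_, ?_⟩
  · obtain ⟨z, hz⟩ : (⟨P', ‹_›⟩ : PrimeSpectrum _) ∈
        Set.range (PrimeSpectrum.comap (algebraMap _ (Localization.Away e))) := by
      rw [PrimeSpectrum.localization_away_comap_range _ e]
      exact heP'
    exact ⟨z, congrArg g hz⟩
  · have hgf : g ≫ pullback.fst f _ =
        Spec.map (CommRingCat.ofHom Algebra.TensorProduct.includeRight.toRingHom) ≫ hV.fromSpec := by
      simp only [g, Category.assoc, pullback.map, pullback.lift_fst]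
      rw [← Category.assoc, he₁]
    rw [← Scheme.Hom.comp_apply, hgf, Scheme.Hom.comp_apply]
    refine Eq.trans ?_ (hV.fromSpec_primeIdealOf ⟨x, hxV⟩)
    exact congrArg hV.fromSpec (PrimeSpectrum.ext hP')
  · refine ⟨IsLocalRing.closedPoint _, ?_⟩
    rw [← Scheme.Hom.comp_apply, hgs]
    refine PrimeSpectrum.ext ?_
    change (IsLocalRing.maximalIdeal p.ResidueField).comap σ₀ =
      P'.comap (algebraMap R (R ⊗[Γ(S, U)] Γ(X, V)))
    rw [← Ideal.under_def, ← hP'P.over, IsLocalRing.maximalIdeal_eq_bot]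
    ext r
    change σ₀ r ∈ (⊥ : Ideal p.ResidueField) ↔ r ∈ P
    rw [Ideal.mem_bot, RingHom.comp_apply]
    exact (map_eq_zero_iff _ ρ.symm.injective).trans Ideal.algebraMap_residueField_eq_zero

/-- Common refinement compatible with sections. -/
theorem exists_common {S K : Scheme.{u}} (j : K ⟶ S) {ι : Type*} [Finite ι] (T : ι → Scheme.{u})
    (g : ∀ i, T i ⟶ S) (σ : ∀ i, K ⟶ T i) (hg : ∀ i, Etale (g i)) (hσ : ∀ i, σ i ≫ g i = j) :
    ∃ (T₀ : Scheme.{u}) (q : T₀ ⟶ S) (τ : K ⟶ T₀), Etale q ∧ τ ≫ q = j ∧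
      ∀ i, ∃ h : T₀ ⟶ T i, h ≫ g i = q ∧ τ ≫ h = σ i := by
  classical
  cases nonempty_fintype ι
  suffices H : ∀ a : Finset ι, ∃ (T₀ : Scheme.{u}) (q : T₀ ⟶ S) (τ : K ⟶ T₀), Etale q ∧ τ ≫ q = j ∧
      ∀ i ∈ a, ∃ h : T₀ ⟶ T i, h ≫ g i = q ∧ τ ≫ h = σ i by
    obtain ⟨T₀, q, τ, h1, h2, h3⟩ := H Finset.univ
    exact ⟨T₀, q, τ, h1, h2, fun i => h3 i (Finset.mem_univ i)⟩
  intro a
  induction a using Finset.induction_on with
  | empty => exact ⟨S, 𝟙 S, j, inferInstance, Category.comp_id j,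
      fun i hi => absurd hi (Finset.notMem_empty i)⟩
  | @insert b a _ ih =>
    obtain ⟨T₀, q, τ, hq, hqτ, H⟩ := ih
    have := hg b
    refine ⟨pullback q (g b), pullback.fst q (g b) ≫ q, pullback.lift τ (σ b) (by rw [hqτ, hσ]),
      MorphismProperty.comp_mem @Etale _ _ inferInstance hq, ?_, fun i hi => ?_⟩
    · rw [pullback.lift_fst_assoc, hqτ]
    · rcases Finset.mem_insert.mp hi with rfl | hi
      · exact ⟨pullback.snd q (g i), pullback.condition.symm, pullback.lift_snd _ _ _⟩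
      · obtain ⟨h, hh, hht⟩ := H i hi
        exact ⟨pullback.fst q (g b) ≫ h, by rw [Category.assoc, hh],
          by rw [pullback.lift_fst_assoc, hht]⟩

/-- Over a point with trivial residue field extension the base change has the same fibre. -/
theorem eq_of_fst_eq {X Y T : Scheme.{u}} (f : X ⟶ Y) (q : T ⟶ Y) (t : T)
    [IsIso (q.residueFieldMap t)] (w w' : ↑(pullback f q)) (hw : pullback.snd f q w = t)
    (hw' : pullback.snd f q w' = t) (h : pullback.fst f q w = pullback.fst f q w') : w = w' := by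
  have hp := isPullback_fiberToSpecResidueField_of_isPullback (IsPullback.of_hasPullback f q) t
  have := hp.isIso_fst_of_isIso
  obtain ⟨z, rfl⟩ : w ∈ Set.range ((pullback.snd f q).fiberι t) :=
    ((pullback.snd f q).range_fiberι t).ge hw
  obtain ⟨z', rfl⟩ : w' ∈ Set.range ((pullback.snd f q).fiberι t) :=
    ((pullback.snd f q).range_fiberι t).ge hw'
  let Φ : (pullback.snd f q).fiber t ⟶ f.fiber (q t) :=
    pullback.map _ _ _ _ (pullback.fst f q) (Spec.map (q.residueFieldMap t)) q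
      pullback.condition.symm (by simp)
  have hΦ : Φ ≫ f.fiberι (q t) = (pullback.snd f q).fiberι t ≫ pullback.fst f q :=
    pullback.lift_fst _ _ _
  have : IsIso Φ := this
  have heq : f.fiberι (q t) (Φ z) = f.fiberι (q t) (Φ z') := by
    rw [← Scheme.Hom.comp_apply, ← Scheme.Hom.comp_apply, hΦ]
    exact h
  rw [Φ.homeomorph.injective ((f.fiberι (q t)).isEmbedding.injective heq)]

theorem isFinite_union {X T : Scheme.{u}} (f : X ⟶ T) [IsSeparated f] [LocallyOfFiniteType f]
    {ι : Type*} [Finite ι] (V : ι → X.Opens) (hV : ∀ i, IsFinite ((V i).ι ≫ f)) :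
    IsFinite ((⨆ i, V i).ι ≫ f) := by
  let W := ⨆ i, V i
  have hle : ∀ i, V i ≤ W := le_iSup V
  have hV' : ∀ i, IsFinite (X.homOfLE (hle i) ≫ W.ι ≫ f) := fun i => by
    rw [← Category.assoc, Scheme.homOfLE_ι]; exact hV i
  have hcov : ∀ z : W, ∃ i, z.1 ∈ V i := fun z => TopologicalSpace.Opens.mem_iSup.mp z.2
  have : UniversallyClosed (W.ι ≫ f) := by
    constructor
    intro P T' i₁ i₂ f' H Z hZ
    have hk : ∀ i, IsClosed (((pullback.fst i₁ (X.homOfLE (hle i))) ≫ f') ''
        ((pullback.fst i₁ (X.homOfLE (hle i))) ⁻¹' Z)) := fun i => by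
      have : IsFinite (pullback.fst i₁ (X.homOfLE (hle i)) ≫ f') :=
        MorphismProperty.of_isPullback
          (((IsPullback.of_hasPullback i₁ (X.homOfLE (hle i))).flip.paste_vert H.flip)) (hV' i)
      exact Scheme.Hom.isClosedMap _ _ (hZ.preimage (Scheme.Hom.continuous _))
    convert isClosed_iUnion_of_finite hk using 1
    ext t
    simp only [Set.mem_iUnion, Set.mem_image]
    constructor
    · rintro ⟨z, hz, rfl⟩
      obtain ⟨i, hi⟩ := hcov (i₁ z)
      obtain ⟨w, hw, -⟩ := Scheme.Pullback.exists_preimage_pullback z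
        (⟨(i₁ z).1, hi⟩ : V i) (f := i₁) (g := X.homOfLE (hle i)) (Subtype.ext (by simp))
      exact ⟨i, w, by change pullback.fst i₁ _ w ∈ Z; rw [hw]; exact hz,
        by rw [Scheme.Hom.comp_apply, hw]⟩
    · rintro ⟨i, w, hw, rfl⟩
      exact ⟨_, hw, rfl⟩
  have : LocallyQuasiFinite (W.ι ≫ f) := by
    refine IsZariskiLocalAtSource.of_iSup_eq_top (P := @LocallyQuasiFinite) (fun i => W.ι ⁻¹ᵁ V i)
      (eq_top_iff.mpr fun z _ => TopologicalSpace.Opens.mem_iSup.mpr (hcov z)) fun i => ?_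
    have : LocallyQuasiFinite ((W.ι ∣_ V i) ≫ (V i).ι ≫ f) := by
      have := hV i
      infer_instance
    rwa [morphismRestrict_ι_assoc] at this
  have : IsProper (W.ι ≫ f) := {}
  exact IsFinite.of_isProper_of_locallyQuasiFinite _

theorem exists_finite_part {X Y : Scheme.{u}} (f : X ⟶ Y)
    [LocallyOfFiniteType f] [IsSeparated f] (y : Y) (hfin : (f ⁻¹' {y}).Finite) :
    ∃ (Y' : Scheme.{u}) (g : Y' ⟶ Y) (y' : Y'), Etale g ∧ g y' = y ∧
      IsIso (g.residueFieldMap y') ∧
      ∃ (V W : (pullback f g).Opens), IsCompl V W ∧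
        IsFinite (V.ι ≫ pullback.snd f g) ∧
        ∀ x : ↥(pullback f g), pullback.snd f g x = y' → x ∈ V := by
  obtain ⟨U, hU, hyU, -⟩ := exists_isAffineOpen_mem_and_subset (x := y) (U := (⊤ : Y.Opens)) trivial
  have : Finite (f ⁻¹' {y}) := hfin.to_subtype
  choose T g σ hg hσ V hVc hVf v hvV hvx hvσ using fun x : f ⁻¹' {y} =>
    exists_clopen_finite f hU y hyU x.1 x.2
      (quasiFiniteAt_of_finite_fibre f x.1 (by rw [show f x.1 = y from x.2]; exact hfin))
  let j := Spec.map (CommRingCat.ofHom (algebraMap Γ(Y, U)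
    (hU.primeIdealOf ⟨y, hyU⟩).asIdeal.ResidueField)) ≫ hU.fromSpec
  obtain ⟨T₀, q, τ, hq, hτ, H⟩ := exists_common j T g σ hg hσ
  choose h hh hτh using H
  let t : T₀ := τ (IsLocalRing.closedPoint _)
  have hqt : q t = y := by
    rw [← Scheme.Hom.comp_apply, hτ, Scheme.Hom.comp_apply]
    refine Eq.trans ?_ (hU.fromSpec_primeIdealOf ⟨y, hyU⟩)
    congr 1
    refine PrimeSpectrum.ext ?_
    change (IsLocalRing.maximalIdeal _).comap (algebraMap Γ(Y, U) _) = _
    rw [IsLocalRing.maximalIdeal_eq_bot]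
    exact Ideal.ker_algebraMap_residueField _
  have hiso : IsIso (q.residueFieldMap t) := by
    have := isPreimmersion_algebraMap_residueField (hU.primeIdealOf ⟨y, hyU⟩)
    have hjb : IsPreimmersion j := inferInstance
    have hb : IsPreimmersion (τ ≫ q) := by rw [hτ]; exact hjb
    have h1 := Radicial.bijective_residueFieldMap (τ ≫ q) (IsLocalRing.closedPoint _)
    rw [Scheme.residueFieldMap_comp] at h1
    have h2 : Function.Bijective (q.residueFieldMap t).hom := by
      refine ⟨(q.residueFieldMap t).hom.injective, fun b => ?_⟩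
      obtain ⟨a, ha⟩ := h1.2 ((τ.residueFieldMap (IsLocalRing.closedPoint _)).hom b)
      exact ⟨a, (τ.residueFieldMap (IsLocalRing.closedPoint _)).hom.injective ha⟩
    exact (ConcreteCategory.isIso_iff_bijective _).mpr h2
  let Φ : ∀ i, pullback f q ⟶ pullback f (g i) := fun i =>
    pullback.lift (pullback.fst f q) (pullback.snd f q ≫ h i)
      (by rw [pullback.condition, Category.assoc, hh])
  have hΦ : ∀ i, IsPullback (Φ i) (pullback.snd f q) (pullback.snd f (g i)) (h i) := fun i => by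
    refine IsPullback.of_right ?_ (pullback.lift_snd _ _ _) (IsPullback.of_hasPullback f (g i))
    rw [pullback.lift_fst, hh]
    exact IsPullback.of_hasPullback f q
  let V' : (f ⁻¹' {y}) → (pullback f q).Opens := fun i => Φ i ⁻¹ᵁ V i
  have hVf' : ∀ i, IsFinite ((V' i).ι ≫ pullback.snd f q) := fun i =>
    MorphismProperty.of_isPullback
      ((isPullback_morphismRestrict (Φ i) (V i)).paste_vert (hΦ i)) (hVf i)
  have hclosed : IsClosed ((⨆ i, V' i : (pullback f q).Opens) : Set ↑(pullback f q)) := by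
    rw [TopologicalSpace.Opens.coe_iSup]
    exact isClosed_iUnion_of_finite fun i => (hVc i).preimage (Φ i).continuous
  refine ⟨T₀, q, t, hq, hqt, hiso, ⨆ i, V' i, ⟨_, hclosed.isOpen_compl⟩, ?_,
    isFinite_union _ V' hVf', fun w hw => ?_⟩
  · constructor
    · rw [disjoint_iff_inf_le]
      rintro z ⟨h1, h2⟩
      exact (h2 h1).elim
    · rw [codisjoint_iff_le_sup]
      rintro z -
      by_cases hz : z ∈ (⨆ i, V' i : (pullback f q).Opens)
      · exact Or.inl hz
      · exact Or.inr hz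
  have hfw : f (pullback.fst f q w) = y := by
    rw [← Scheme.Hom.comp_apply, pullback.condition, Scheme.Hom.comp_apply, hw, hqt]
  let i : f ⁻¹' {y} := ⟨_, hfw⟩
  obtain ⟨c, hc⟩ := hvσ i
  have hvt : pullback.snd f (g i) (v i) = h i t := by
    rw [← hc, ← hτh i, Scheme.Hom.comp_apply,
      show c = IsLocalRing.closedPoint _ from Subsingleton.elim (α := PrimeSpectrum _) _ _]
  obtain ⟨w', hw'1, hw'2⟩ := Scheme.exists_preimage_of_isPullback (hΦ i) (v i) t hvt
  have heq : w' = w := eq_of_fst_eq f q t w' w hw'2 hw (by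
    have e1 : pullback.fst f q w' = pullback.fst f (g i) (v i) := by
      rw [← hw'1, ← Scheme.Hom.comp_apply, pullback.lift_fst]
    rw [e1, hvx i])
  refine TopologicalSpace.Opens.mem_iSup.mpr ⟨i, ?_⟩
  change Φ i w ∈ V i
  rw [← heq, hw'1]
  exact hvV i

end Groth.Agent.Lib.Unram.FinitePartNhd
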