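import Groth.Prelude.Def_EGA4Misc
import Mathlib.AlgebraicGeometry.Morphisms.UniversallyInjective
import Mathlib.AlgebraicGeometry.Morphisms.FlatDescent
import Mathlib.AlgebraicGeometry.Fiber

/-!
# Morphisms radicial at a point
-/

set_option autoImplicit false

universe u

open CategoryTheory CategoryTheory.Limits AlgebraicGeometry

namespace Groth.Agent.Lib.Unram.Radicial

theorem isPurelyInseparable_of_bijective {F E : Type u} [Field F] [Field E] {f : F →+* E}
    (hf : Function.Bijective f) : f.IsPurelyInseparable := by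
  algebraize [f]
  exact (AlgEquiv.ofBijective (Algebra.ofId F E) hf).isPurelyInseparable

theorem isPurelyInseparable_left {F E K : Type u} [Field F] [Field E] [Field K] {f : F →+* E}
    {g : E →+* K} (h : (g.comp f).IsPurelyInseparable) : f.IsPurelyInseparable := by
  algebraize [f, g, g.comp f]
  exact IsPurelyInseparable.tower_bot F E K

theorem isPurelyInseparable_right {F E K : Type u} [Field F] [Field E] [Field K] {f : F →+* E}
    {g : E →+* K} (h : (g.comp f).IsPurelyInseparable) : g.IsPurelyInseparable := by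
  algebraize [f, g, g.comp f]
  exact IsPurelyInseparable.tower_top F E K

theorem bijective_residueFieldMap {X Y : Scheme.{u}} (f : X ⟶ Y) [IsPreimmersion f] (x : X) :
    Function.Bijective (f.residueFieldMap x).hom := by
  refine ⟨(f.residueFieldMap x).hom.injective, fun z => ?_⟩
  obtain ⟨z, rfl⟩ := Scheme.residue_surjective X x z
  obtain ⟨w, rfl⟩ := f.stalkMap_surjective x z
  exact ⟨Y.residue (f x) w, congr($(Scheme.residue_residueFieldMap f x).hom w)⟩

theorem residueFieldMap_comp_iff {X Y Z : Scheme.{u}} (f : X ⟶ Y) (g : Y ⟶ Z) (x : X) :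
    ((f ≫ g).residueFieldMap x).hom.IsPurelyInseparable ↔
      ((f.residueFieldMap x).hom.comp (g.residueFieldMap (f x)).hom).IsPurelyInseparable := by
  rw [Scheme.residueFieldMap_comp]; rfl

theorem isRadicialAt_iff {X Y : Scheme.{u}} (f : X ⟶ Y) (y : Y) :
    RadPt.IsRadicialAt f y ↔ UniversallyInjective (f.fiberToSpecResidueField y) := by
  refine Iff.trans ?_ ((tfae_universallyInjective (f.fiberToSpecResidueField y)).out 2 0)
  have hres : ∀ z : f.fiber y,
      (f.residueFieldMap (f.fiberι y z)).hom.IsPurelyInseparable ↔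
        ((f.fiberToSpecResidueField y).residueFieldMap z).hom.IsPurelyInseparable := fun z => by
    have e := Scheme.Hom.residueFieldMap_congr (f.fiber_fac y) z
    rw [Scheme.residueFieldMap_comp, Scheme.residueFieldMap_comp] at e
    have h1 : IsPreimmersion (Y.fromSpecResidueField y) := inferInstance
    have hb := isPurelyInseparable_of_bijective
      (bijective_residueFieldMap (f.fiberι y) z)
    have hj := isPurelyInseparable_of_bijective
      (bijective_residueFieldMap (Y.fromSpecResidueField y) (f.fiberToSpecResidueField y z))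
    have hc := isPurelyInseparable_of_bijective (f := (Y.residueFieldCongr
      (show (f.fiberι y ≫ f) z = (f.fiberToSpecResidueField y ≫ Y.fromSpecResidueField y) z by
        rw [f.fiber_fac])).hom.hom) (ConcreteCategory.bijective_of_isIso _)
    have e' : ((f.fiberι y).residueFieldMap z).hom.comp (f.residueFieldMap (f.fiberι y z)).hom =
        (((f.fiberToSpecResidueField y).residueFieldMap z).hom.comp
          ((Y.fromSpecResidueField y).residueFieldMap (f.fiberToSpecResidueField y z)).hom).comp
          (Y.residueFieldCongr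
            (show (f.fiberι y ≫ f) z = (f.fiberToSpecResidueField y ≫ Y.fromSpecResidueField y) z by
              rw [f.fiber_fac])).hom.hom := congrArg CommRingCat.Hom.hom e
    constructor
    · intro h
      have h2 := h.comp hb
      rw [e'] at h2
      exact isPurelyInseparable_right (isPurelyInseparable_right h2)
    · intro h
      have h2 := hc.comp (hj.comp h)
      refine isPurelyInseparable_left (g := ((f.fiberι y).residueFieldMap z).hom) ?_
      rw [e']
      exact h2
  constructor
  · rintro ⟨h1, h2⟩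
    refine ⟨fun z z' _ => (f.fiberι y).isEmbedding.injective (h1 _ _ ?_ ?_), fun z => (hres z).mp (h2 _ ?_)⟩
    all_goals exact (f.range_fiberι y).le ⟨_, rfl⟩
  · rintro ⟨h1, h2⟩
    refine ⟨fun x x' hx hx' => ?_, fun x hx => ?_⟩
    · obtain ⟨z, rfl⟩ : x ∈ Set.range (f.fiberι y) := (f.range_fiberι y).ge hx
      obtain ⟨z', rfl⟩ : x' ∈ Set.range (f.fiberι y) := (f.range_fiberι y).ge hx'
      rw [h1 (Subsingleton.elim (α := PrimeSpectrum _) (f.fiberToSpecResidueField y z)
        (f.fiberToSpecResidueField y z'))]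
    · obtain ⟨z, rfl⟩ : x ∈ Set.range (f.fiberι y) := (f.range_fiberι y).ge hx
      exact (hres z).mpr (h2 z)

theorem comp_and_converse {X Y Z : Scheme.{u}} (f : X ⟶ Y) (g : Y ⟶ Z) (y : Y) :
    (RadPt.IsRadicialAt f y → RadPt.IsRadicialAt g (g y) → RadPt.IsRadicialAt (f ≫ g) (g y)) ∧
      (Surjective f → RadPt.IsRadicialAt (f ≫ g) (g y) →
        RadPt.IsRadicialAt f y ∧ RadPt.IsRadicialAt g (g y)) := by
  constructor
  · rintro ⟨hf1, hf2⟩ ⟨hg1, hg2⟩
    refine ⟨fun x x' hx hx' => ?_, fun x hx => ?_⟩
    · rw [Scheme.Hom.comp_apply] at hx hx'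
      exact hf1 x x' (hg1 _ y hx rfl) (hg1 _ y hx' rfl)
    · rw [Scheme.Hom.comp_apply] at hx
      rw [residueFieldMap_comp_iff]
      exact (hg2 _ hx).comp (hf2 _ (hg1 _ y hx rfl))
  · rintro hs ⟨h1, h2⟩
    refine ⟨⟨fun x x' hx hx' => h1 x x' ?_ ?_, fun x hx => ?_⟩, fun a b ha hb => ?_, fun a ha => ?_⟩
    · rw [Scheme.Hom.comp_apply, hx]
    · rw [Scheme.Hom.comp_apply, hx']
    · have := h2 x (by rw [Scheme.Hom.comp_apply, hx])
      rw [residueFieldMap_comp_iff] at this
      exact isPurelyInseparable_right this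
    · obtain ⟨x, rfl⟩ := f.surjective a
      obtain ⟨x', rfl⟩ := f.surjective b
      rw [h1 x x' ha hb]
    · obtain ⟨x, rfl⟩ := f.surjective a
      have := h2 x ha
      rw [residueFieldMap_comp_iff] at this
      exact isPurelyInseparable_left this

theorem isRadicialAt_iff_of_isPullback {X Y X' Y' : Scheme.{u}} {f : X ⟶ Y} {h : Y' ⟶ Y}
    {f' : X' ⟶ Y'} {h' : X' ⟶ X} (sq : IsPullback h' f' f h) (y' : Y') :
    RadPt.IsRadicialAt f (h y') ↔ RadPt.IsRadicialAt f' y' := by
  rw [isRadicialAt_iff, isRadicialAt_iff]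
  have hp := isPullback_fiberToSpecResidueField_of_isPullback sq y'
  refine ⟨fun H => MorphismProperty.of_isPullback hp H, fun H => ?_⟩
  have hflat : Flat (Spec.map (h.residueFieldMap y')) :=
    HasRingHomProperty.Spec_iff.mpr (by
      algebraize [(h.residueFieldMap y').hom]
      exact (inferInstance : Module.Flat (Y.residueField (h y')) (Y'.residueField y')))
  have hsurj : Surjective (Spec.map (h.residueFieldMap y')) :=
    ⟨fun a => ⟨IsLocalRing.closedPoint _, Subsingleton.elim (α := PrimeSpectrum _) _ _⟩⟩
  exact MorphismProperty.of_isPullback_of_descendsAlong (P := @UniversallyInjective)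
    (Q := @Surjective ⊓ @Flat ⊓ @QuasiCompact) hp.flip ⟨⟨hsurj, hflat⟩, inferInstance⟩ H

end Groth.Agent.Lib.Unram.Radicial
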