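import Groth.Agent.Lib.Unram.EtaleSplitAll
import Mathlib.RingTheory.Finiteness.ModuleFinitePresentation
import Mathlib.RingTheory.Flat.EquationalCriterion
import Mathlib.RingTheory.Ideal.GoingUp
import Mathlib.RingTheory.Etale.Basic

/-!
# Finite étale algebras split étale locally
-/

set_option autoImplicit false

universe u

open scoped TensorProduct

namespace Groth.Agent.Lib.Unram.FiniteSplit

/-- An ideal with projective quotient which lies inside a prime is killed by an element outside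
that prime. -/
theorem exists_notMem_mul_eq_zero (R : Type u) [CommRing R] (I : Ideal R)
    [Module.Projective R (R ⧸ I)] (p : Ideal R) [p.IsPrime] (hI : I ≤ p) :
    ∃ a ∉ p, ∀ x ∈ I, a * x = 0 := by
  obtain ⟨s, hs⟩ := Module.projective_lifting_property (Submodule.mkQ I) LinearMap.id
    (Submodule.mkQ_surjective I)
  refine ⟨s 1, fun ha => ?_, fun x hx => ?_⟩
  · have h1 : Submodule.mkQ I (s 1) = Submodule.mkQ I 1 := LinearMap.congr_fun hs (1 : R ⧸ I)
    have h2 : (1 : R) - s 1 ∈ I := (Submodule.Quotient.eq I).mp h1.symm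
    exact (Ideal.ne_top_iff_one p).mp (Ideal.IsPrime.ne_top inferInstance)
      (by simpa using p.add_mem (hI h2) ha)
  · calc s 1 * x = x • s 1 := mul_comm _ _
      _ = s (x • 1) := (map_smul s x 1).symm
      _ = 0 := by
        rw [show x • (1 : R ⧸ I) = 0 by
          rw [Algebra.smul_def, mul_one]; exact Ideal.Quotient.eq_zero_iff_mem.mpr hx, map_zero]

theorem exists_split_finite_etale (R : Type u) [CommRing R] (S : Type u) [CommRing S]
    [Algebra R S] [Algebra.Etale R S] [Module.Finite R S] (p : Ideal R) [p.IsPrime] :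
    ∃ (R' : Type u) (_ : CommRing R') (_ : Algebra R R') (_ : Algebra.Etale R R') (p' : Ideal R')
      (_ : p'.IsPrime) (_ : p'.LiesOver p) (n : ℕ),
      Nonempty ((R' ⊗[R] S) ≃ₐ[R'] (Fin n → R')) := by
  obtain ⟨R₁, _, _, _, p₁, _, hl, n, I, B, _, _, ⟨e⟩, hI, hB⟩ :=
    EtaleSplitAll.exists_split_all R S p
  have : Module.Projective R S := by
    have := Module.FinitePresentation.of_finite_of_finitePresentation R S
    exact Module.Flat.projective_of_finitePresentation
  have : Module.Finite R₁ B := Module.Finite.of_surjective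
    ((AlgHom.snd R₁ (∀ i, R₁ ⧸ I i) B).comp e.toAlgHom).toLinearMap
    (fun b => ⟨e.symm (0, b), by simp⟩)
  have hg : ∃ g ∉ p₁, algebraMap R₁ B g = 0 := by
    by_contra hc
    push Not at hc
    obtain ⟨Q, -, hQ, hQp⟩ := Ideal.exists_ideal_over_prime_of_isIntegral p₁ (⊥ : Ideal B)
      (fun r hr => by
        by_contra h
        exact hc r h (by simpa using hr))
    exact hB Q hQp
  obtain ⟨g, hgp, hg⟩ := hg
  have hproj : ∀ i, Module.Projective R₁ (R₁ ⧸ I i) := fun i => by
    classical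
    refine Module.Projective.of_split
      (e.symm.toLinearEquiv.toLinearMap ∘ₗ
        (LinearMap.inl R₁ (∀ i, R₁ ⧸ I i) B ∘ₗ LinearMap.single R₁ (fun i => R₁ ⧸ I i) i))
      ((LinearMap.proj i ∘ₗ LinearMap.fst R₁ (∀ i, R₁ ⧸ I i) B) ∘ₗ e.toLinearEquiv.toLinearMap) ?_
    ext
    simp
  choose a ha hax using fun i => exists_notMem_mul_eq_zero R₁ (I i) p₁ (hI i)
  let G := g * ∏ i, a i
  have hG : G ∉ p₁ := fun h => by
    rcases Ideal.IsPrime.mem_or_mem inferInstance h with h | h
    · exact hgp h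
    · obtain ⟨i, -, hi⟩ := Ideal.IsPrime.prod_mem_iff.mp h
      exact ha i hi
  let R₂ := Localization.Away G
  have hGu : IsUnit (algebraMap R₁ R₂ G) := IsLocalization.Away.algebraMap_isUnit G
  have hd : Disjoint (Submonoid.powers G : Set R₁) p₁ := Set.disjoint_left.mpr fun b hb hbp => by
    obtain ⟨k, rfl⟩ := hb
    exact hG (Ideal.IsPrime.mem_of_pow_mem inferInstance k hbp)
  let p₂ : Ideal R₂ := p₁.map (algebraMap R₁ R₂)
  have hp₂ : p₂.IsPrime :=
    IsLocalization.isPrime_of_isPrime_disjoint (Submonoid.powers G) _ p₁ inferInstance hd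
  have hp₂c : p₂.comap (algebraMap R₁ R₂) = p₁ :=
    IsLocalization.under_map_of_isPrime_disjoint (Submonoid.powers G) _ inferInstance hd
  have : p₂.LiesOver p₁ := ⟨hp₂c.symm⟩
  have : Algebra.Etale R₁ R₂ := Algebra.Etale.of_isLocalizationAway G
  have hgu : IsUnit (algebraMap R₁ R₂ g) := by
    rw [map_mul] at hGu
    exact isUnit_of_mul_isUnit_left hGu
  have hau : ∀ i, IsUnit (algebraMap R₁ R₂ (a i)) := fun i => by
    rw [map_mul, map_prod, IsUnit.mul_iff, IsUnit.prod_iff] at hGu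
    exact hGu.2 i (Finset.mem_univ i)
  have hB0 : Subsingleton (R₂ ⊗[R₁] B) := by
    refine subsingleton_of_zero_eq_one ?_
    obtain ⟨v, hv⟩ := hgu.exists_right_inv
    calc (0 : R₂ ⊗[R₁] B) = v ⊗ₜ[R₁] (g • (1 : B)) := by
          rw [Algebra.smul_def, hg, zero_mul, TensorProduct.tmul_zero]
      _ = (g • v) ⊗ₜ[R₁] (1 : B) := (TensorProduct.smul_tmul g v (1 : B)).symm
      _ = 1 := by rw [Algebra.smul_def, hv, Algebra.TensorProduct.one_def]
  have hI0 : ∀ i, (I i).map (algebraMap R₁ R₂) = ⊥ := fun i => by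
    rw [eq_bot_iff, Ideal.map_le_iff_le_comap]
    intro x hx
    rw [Ideal.mem_comap, Ideal.mem_bot, ← (hau i).mul_right_eq_zero, ← map_mul, hax i x hx,
      map_zero]
  classical
  let eI : ∀ i, R₂ ⊗[R₁] (R₁ ⧸ I i) ≃ₐ[R₂] R₂ := fun i =>
    (Algebra.TensorProduct.quotIdealMapEquivTensorQuot R₂ (I i)).symm.trans
      ((Ideal.quotientEquivAlgOfEq R₂ (hI0 i)).trans (AlgEquiv.quotientBot R₂ R₂))
  let : Unique (R₂ ⊗[R₁] B) := uniqueOfSubsingleton 0
  refine ⟨R₂, inferInstance, inferInstance, Algebra.Etale.comp R R₁ R₂, p₂, inferInstance,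
    Ideal.LiesOver.trans p₂ p₁ p, n, ⟨?_⟩⟩
  exact (Algebra.TensorProduct.cancelBaseChange R R₁ R₂ R₂ S).symm.trans
    ((Algebra.TensorProduct.congr AlgEquiv.refl e).trans
    ((Algebra.TensorProduct.prodRight R₁ R₂ R₂ (∀ i, R₁ ⧸ I i) B).trans
    (AlgEquiv.prodUnique.trans
    ((Algebra.TensorProduct.piRight R₁ R₂ R₂ (fun i => R₁ ⧸ I i)).trans
    (AlgEquiv.piCongrRight eI)))))

end Groth.Agent.Lib.Unram.FiniteSplit
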