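import Groth.Agent.Lib.Unram.ArtinianLifting
import Groth.Agent.Lib.Excellent.CompletionNoetherian
import Groth.Agent.Lib.ArtinFun.SmoothAdic
import Groth.Agent.Lib.FSAdic.PowerSeries
import Groth.Agent.Lib.FSAdic.Completion
import Mathlib.RingTheory.AdicCompletion.LocalRing
import Mathlib.RingTheory.MvPowerSeries.Inverse

/-!
# Smooth points with trivial residue extension and completions
-/

set_option autoImplicit false

universe u

open IsLocalRing

namespace Groth.Agent.Lib.Unram.SmoothCompletion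

section

variable (A B : Type u) [CommRing A] [CommRing B] [IsLocalRing A] [IsLocalRing B]
  [IsNoetherianRing A] [IsNoetherianRing B] [Algebra A B] [IsLocalHom (algebraMap A B)]

local notation "Ah" => AdicCompletion (maximalIdeal A) A
local notation "Bh" => AdicCompletion (maximalIdeal B) B

omit [IsLocalRing A] [IsNoetherianRing A] in
theorem mem_pow_iff {R : Type u} [CommRing R] [IsLocalRing R] [IsNoetherianRing R] (n : ℕ)
    (x : AdicCompletion (maximalIdeal R) R) :
    AdicCompletion.evalₐ (maximalIdeal R) n x = 0 ↔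
      x ∈ maximalIdeal (AdicCompletion (maximalIdeal R) R) ^ n := by
  rw [AdicCompletion.maximalIdeal_eq_map]
  exact FSAdic.Completion.evalₐ_eq_zero_iff (IsNoetherian.noetherian _) n x

theorem exists_sub_mem {R : Type u} [CommRing R] [IsLocalRing R] [IsNoetherianRing R] (n : ℕ)
    (x : AdicCompletion (maximalIdeal R) R) :
    ∃ r : R, AdicCompletion.evalₐ (maximalIdeal R) n x = Ideal.Quotient.mk _ r ∧
      x - algebraMap R _ r ∈ maximalIdeal (AdicCompletion (maximalIdeal R) R) ^ n := by
  obtain ⟨r, hr⟩ := Ideal.Quotient.mk_surjective (AdicCompletion.evalₐ (maximalIdeal R) n x)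
  refine ⟨r, hr.symm, (mem_pow_iff n _).mp ?_⟩
  rw [map_sub, AlgHom.commutes, Ideal.Quotient.algebraMap_eq, hr, sub_self]

/-- The induced map on completions. -/
theorem exists_map : ∃ ψ : Ah →+* Bh,
    ψ.comp (algebraMap A Ah) = (algebraMap B Bh).comp (algebraMap A B) := by
  have hle : ∀ n, maximalIdeal A ^ n ≤ (maximalIdeal B ^ n).comap (algebraMap A B) := fun n =>
    (Ideal.pow_right_mono ((((IsLocalRing.local_hom_TFAE (algebraMap A B)).out 0 3).mp ‹_›)) n).trans
      (Ideal.le_comap_pow _ n)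
  let f : (n : ℕ) → Ah →+* B ⧸ maximalIdeal B ^ n := fun n =>
    (Ideal.quotientMap _ (algebraMap A B) (hle n)).comp
      (AdicCompletion.evalₐ (maximalIdeal A) n).toRingHom
  have hf : ∀ (n : ℕ) (x : Ah) (a : A),
      AdicCompletion.evalₐ (maximalIdeal A) n x = Ideal.Quotient.mk _ a →
      f n x = Ideal.Quotient.mk _ (algebraMap A B a) := fun n x a ha => by
    change Ideal.quotientMap _ (algebraMap A B) (hle n) (AdicCompletion.evalₐ _ n x) = _
    rw [ha, Ideal.quotientMap_mk]
  have hcompat : ∀ {m n : ℕ} (h : m ≤ n), (Ideal.Quotient.factorPow (maximalIdeal B) h).comp (f n) = f m := by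
    intro m n h
    refine RingHom.ext fun x => ?_
    obtain ⟨a, ha, hx⟩ := exists_sub_mem n x
    have hm : AdicCompletion.evalₐ (maximalIdeal A) m x = Ideal.Quotient.mk _ a := by
      have := (mem_pow_iff m _).mpr (Ideal.pow_le_pow_right h hx)
      rwa [map_sub, AlgHom.commutes, Ideal.Quotient.algebraMap_eq, sub_eq_zero] at this
    rw [RingHom.comp_apply, hf n x a ha, hf m x a hm]
    rfl
  refine ⟨AdicCompletion.liftRingHom _ f hcompat, RingHom.ext fun a => AdicCompletion.ext_evalₐ fun n => ?_⟩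
  rw [RingHom.comp_apply, AdicCompletion.evalₐ_liftRingHom]
  refine (hf n _ a (by rw [AlgHom.commutes, Ideal.Quotient.algebraMap_eq])).trans ?_
  rw [RingHom.comp_apply, AlgHom.commutes, Ideal.Quotient.algebraMap_eq]

/-- A formally smooth local algebra with trivial residue extension has a power series ring as its
completion. -/
theorem exists_powerSeries [Algebra.FormallySmooth A B]
    (hres : ∀ b : B, ∃ a : A, b - algebraMap A B a ∈ maximalIdeal B) :
    ∃ (n : ℕ) (e : Bh ≃+* MvPowerSeries (Fin n) Ah),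
      ∀ a : A, e (algebraMap B Bh (algebraMap A B a)) = MvPowerSeries.C (algebraMap A Ah a) := by
  obtain ⟨ψ, hψ⟩ := exists_map A B
  let : Algebra Ah Bh := ψ.toAlgebra
  have hψa : ∀ a : A, algebraMap Ah Bh (algebraMap A Ah a) = algebraMap B Bh (algebraMap A B a) :=
    fun a => RingHom.congr_fun hψ a
  have hψm : ∀ l ∈ maximalIdeal Ah, algebraMap Ah Bh l ∈ maximalIdeal Bh := fun l hl => by
    rw [AdicCompletion.maximalIdeal_eq_map] at hl ⊢
    have := Ideal.mem_map_of_mem (algebraMap Ah Bh) hl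
    rw [Ideal.map_map, show (algebraMap Ah Bh).comp (algebraMap A Ah) = _ from hψ,
      ← Ideal.map_map] at this
    exact Ideal.map_mono ((((IsLocalRing.local_hom_TFAE (algebraMap A B)).out 0 2).mp ‹_›)) this
  let k := ResidueField Bh
  have hk : Function.Surjective (algebraMap Ah k) := fun z => by
    obtain ⟨x, rfl⟩ := IsLocalRing.residue_surjective z
    obtain ⟨b, -, hb⟩ := exists_sub_mem 1 x
    obtain ⟨a, ha⟩ := hres b
    refine ⟨algebraMap A Ah a, (Ideal.Quotient.eq.mpr ?_).symm⟩
    rw [hψa]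
    have h2 : algebraMap B Bh (b - algebraMap A B a) ∈ maximalIdeal Bh := by
      rw [AdicCompletion.maximalIdeal_eq_map]; exact Ideal.mem_map_of_mem _ ha
    rw [pow_one] at hb
    have := add_mem hb h2
    rwa [map_sub, sub_add_sub_cancel] at this
  have : IsNoetherianRing Ah := inferInstance
  have : IsNoetherianRing Bh := inferInstance
  have : Module.Finite Ah k := Module.Finite.of_surjective (Algebra.linearMap Ah k) hk
  let Rc : ArtFun.CRing Ah k :=
    { carrier := Bh
      res := IsScalarTower.toAlgHom Ah Bh k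
      res_surjective := IsLocalRing.residue_surjective
      isAdicComplete := inferInstance }
  have hadic : CAlgX.IsAdicFormallySmooth Ah Rc.carrier (maximalIdeal Rc.carrier) := by
    change CAlgX.IsAdicFormallySmooth Ah Bh (maximalIdeal Bh)
    intro C _ _ J hJ ψ' ⟨N, hN⟩
    let : Algebra A C := ((algebraMap Ah C).comp (algebraMap A Ah)).toAlgebra
    have hJJ : ∀ x ∈ J, ∀ y ∈ J, x * y = 0 := fun x hx y hy =>
      Ideal.mem_bot.mp (hJ ▸ (pow_two J).symm ▸ Ideal.mul_mem_mul hx hy)
    let g₀ : B →ₐ[A] C ⧸ J :=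
      { toRingHom := ψ'.toRingHom.comp (algebraMap B Bh)
        commutes' := fun a => by
          change ψ' (algebraMap B Bh (algebraMap A B a)) = _
          rw [← hψa, AlgHom.commutes]
          rfl }
    obtain ⟨v₀, hv₀⟩ := Algebra.FormallySmooth.comp_surjective A B J hJ g₀
    have hv₀' : ∀ b, Ideal.Quotient.mk J (v₀ b) = ψ' (algebraMap B Bh b) := fun b =>
      AlgHom.congr_fun hv₀ b
    have hvJ : ∀ b ∈ maximalIdeal B ^ N, v₀ b ∈ J := fun b hb => by
      rw [← Ideal.Quotient.eq_zero_iff_mem, hv₀']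
      refine hN _ ?_
      rw [AdicCompletion.maximalIdeal_eq_map, ← Ideal.map_pow]
      exact Ideal.mem_map_of_mem _ hb
    have hv2 : maximalIdeal B ^ (N + N) ≤ RingHom.ker v₀.toRingHom := by
      rw [pow_add, Ideal.mul_le]
      intro x hx y hy
      change v₀ (x * y) = 0
      rw [map_mul]
      exact hJJ _ (hvJ x hx) _ (hvJ y hy)
    let w : B ⧸ maximalIdeal B ^ (N + N) →+* C := Ideal.Quotient.lift _ v₀.toRingHom hv2
    let χ₀ : Bh →+* C := w.comp (AdicCompletion.evalₐ (maximalIdeal B) (N + N)).toRingHom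
    have hχb : ∀ b, χ₀ (algebraMap B Bh b) = v₀ b := fun b => by
      change w (AdicCompletion.evalₐ _ _ (algebraMap B Bh b)) = _
      rw [AlgHom.commutes]
      rfl
    have hχ0 : ∀ x ∈ maximalIdeal Bh ^ (N + N), χ₀ x = 0 := fun x hx => by
      change w (AdicCompletion.evalₐ _ _ x) = 0
      rw [(mem_pow_iff (N + N) x).mpr hx, map_zero]
    have hl0 : ∀ l ∈ maximalIdeal Ah ^ (N + N), algebraMap Ah C l = 0 := by
      intro l hl
      have hle : maximalIdeal Ah ^ N ≤ J.comap (algebraMap Ah C) := fun m hm => by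
        have h1 : algebraMap Ah Bh m ∈ maximalIdeal Bh ^ N := by
          have h2 := Ideal.mem_map_of_mem (algebraMap Ah Bh) hm
          rw [Ideal.map_pow] at h2
          exact Ideal.pow_right_mono (Ideal.map_le_iff_le_comap.mpr hψm) N h2
        have := hN _ h1
        rw [AlgHom.commutes] at this
        change algebraMap Ah C m ∈ J
        exact Ideal.Quotient.eq_zero_iff_mem.mp (this : Ideal.Quotient.mk J (algebraMap Ah C m) = 0)
      rw [pow_add] at hl
      refine Submodule.mul_induction_on hl (fun x hx y hy => ?_) (fun x y hx hy => ?_)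
      · rw [map_mul]; exact hJJ _ (hle hx) _ (hle hy)
      · rw [map_add, hx, hy, add_zero]
    refine ⟨⟨χ₀, fun l => ?_⟩, AlgHom.ext fun x => ?_⟩
    · obtain ⟨a, -, hl⟩ := exists_sub_mem (N + N) l
      have h1 : algebraMap Ah Bh (l - algebraMap A Ah a) ∈ maximalIdeal Bh ^ (N + N) := by
        have h2 := Ideal.mem_map_of_mem (algebraMap Ah Bh) hl
        rw [Ideal.map_pow] at h2
        exact Ideal.pow_right_mono (Ideal.map_le_iff_le_comap.mpr hψm) _ h2
      have h3 := hχ0 _ h1
      have h4 := hl0 _ hl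
      rw [map_sub, sub_eq_zero] at h4
      rw [map_sub, map_sub, sub_eq_zero, hψa, hχb, AlgHom.commutes] at h3
      exact h3.trans h4.symm
    · obtain ⟨b, -, hx⟩ := exists_sub_mem (N + N) x
      change Ideal.Quotient.mk J (χ₀ x) = ψ' x
      have h1 := hχ0 _ hx
      rw [map_sub, sub_eq_zero, hχb] at h1
      have h2 := hN _ (Ideal.pow_le_pow_right (Nat.le_add_left N N) hx)
      rw [map_sub, sub_eq_zero] at h2
      rw [h1, hv₀', h2]
  obtain ⟨n, ⟨e⟩⟩ := (ArtinFun.isSmoothFunctor_iff_powerSeries hk Rc).mp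
    (ArtinFun.isSmoothFunctor_hR_of_adic Rc hadic)
  refine ⟨n, e.toRingEquiv, fun a => ?_⟩
  rw [← hψa]
  exact (e.commutes _).trans (MvPowerSeries.algebraMap_apply.trans rfl)

/-- A local algebra whose completion is a power series ring has the lifting property. -/
theorem exists_lift (n : ℕ) (e : Bh ≃+* MvPowerSeries (Fin n) Ah)
    (he : ∀ a : A, e (algebraMap B Bh (algebraMap A B a)) = MvPowerSeries.C (algebraMap A Ah a))
    {A' : Type u} [CommRing A'] [IsLocalRing A'] [IsArtinianRing A'] (h : A →+* A') [IsLocalHom h]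
    (I : Ideal A') (hI : I ≠ ⊤) (g₀ : B →+* A' ⧸ I)
    (hc : g₀.comp (algebraMap A B) = (Ideal.Quotient.mk I).comp h)
    (hm : ∀ b ∈ maximalIdeal B, g₀ b ∈ (maximalIdeal A').map (Ideal.Quotient.mk I)) :
    ∃ g : B →+* A', g.comp (algebraMap A B) = h ∧ (Ideal.Quotient.mk I).comp g = g₀ := by
  obtain ⟨N, hN⟩ := (isArtinianRing_iff_isNilpotent_maximalIdeal A').mp inferInstance
  have hhN : maximalIdeal A ^ N ≤ RingHom.ker h := fun a ha => by
    have h1 : h a ∈ ((maximalIdeal A).map h) ^ N := by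
      rw [← Ideal.map_pow]; exact Ideal.mem_map_of_mem _ ha
    have h2 := Ideal.pow_right_mono (IsLocalRing.map_maximalIdeal_le h) N h1
    rw [hN] at h2
    exact h2
  have hgN : maximalIdeal B ^ N ≤ RingHom.ker g₀ := fun b hb => by
    have h1 : g₀ b ∈ ((maximalIdeal B).map g₀) ^ N := by
      rw [← Ideal.map_pow]; exact Ideal.mem_map_of_mem _ hb
    have h2 := Ideal.pow_right_mono ((Ideal.map_le_iff_le_comap (K := (maximalIdeal A').map (Ideal.Quotient.mk I))).mpr
      fun c hcm => hm c hcm) N h1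
    rw [← Ideal.map_pow, hN, Ideal.zero_eq_bot, Ideal.map_bot] at h2
    exact h2
  let hh : Ah →+* A' :=
    (Ideal.Quotient.lift _ h hhN).comp (AdicCompletion.evalₐ (maximalIdeal A) N).toRingHom
  have hh0 : ∀ l ∈ maximalIdeal Ah ^ N, hh l = 0 := fun l hl => by
    change Ideal.Quotient.lift _ h hhN (AdicCompletion.evalₐ _ N l) = 0
    rw [(mem_pow_iff N l).mpr hl, map_zero]
  have hha : ∀ a, hh (algebraMap A Ah a) = h a := fun a => by
    change Ideal.Quotient.lift _ h hhN (AdicCompletion.evalₐ _ N (algebraMap A Ah a)) = _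
    rw [AlgHom.commutes]
    rfl
  let : Algebra Ah A' := hh.toAlgebra
  let gh : Bh →+* A' ⧸ I :=
    (Ideal.Quotient.lift _ g₀ hgN).comp (AdicCompletion.evalₐ (maximalIdeal B) N).toRingHom
  have hghb : ∀ b, gh (algebraMap B Bh b) = g₀ b := fun b => by
    change Ideal.Quotient.lift _ g₀ hgN (AdicCompletion.evalₐ _ N (algebraMap B Bh b)) = _
    rw [AlgHom.commutes]
    rfl
  have hgh0 : ∀ x ∈ maximalIdeal Bh ^ N, gh x = 0 := fun x hx => by
    change Ideal.Quotient.lift _ g₀ hgN (AdicCompletion.evalₐ _ N x) = 0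
    rw [(mem_pow_iff N x).mpr hx, map_zero]
  have hsymm : ∀ f ∈ maximalIdeal (MvPowerSeries (Fin n) Ah) ^ N, e.symm f ∈ maximalIdeal Bh ^ N := by
    intro f hf
    have h1 := Ideal.mem_map_of_mem (e.symm : MvPowerSeries (Fin n) Ah →+* Bh) hf
    rw [Ideal.map_pow] at h1
    exact Ideal.pow_right_mono (IsLocalRing.map_maximalIdeal_le _) N h1
  have hu : ∀ l : Ah, gh (e.symm (MvPowerSeries.C l)) = Ideal.Quotient.mk I (hh l) := by
    intro l
    obtain ⟨a, -, hl⟩ := exists_sub_mem N l
    have hC : MvPowerSeries.C (σ := Fin n) (l - algebraMap A Ah a) ∈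
        maximalIdeal (MvPowerSeries (Fin n) Ah) ^ N := by
      have h1 := Ideal.mem_map_of_mem (MvPowerSeries.C (σ := Fin n) : Ah →+* _) hl
      rw [Ideal.map_pow] at h1
      refine Ideal.pow_right_mono ((Ideal.map_le_iff_le_comap (K := maximalIdeal (MvPowerSeries (Fin n) Ah))).mpr
        fun m hm' hu => (IsLocalRing.mem_maximalIdeal m).mp hm' ?_) N h1
      simpa using hu.map (MvPowerSeries.constantCoeff (σ := Fin n))
    have h2 := hgh0 _ (hsymm _ hC)
    have h3 := congrArg (Ideal.Quotient.mk I) (hh0 _ hl)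
    simp only [map_sub, map_zero, sub_eq_zero] at h2 h3
    rw [h2, h3, hha, ← he, RingEquiv.symm_apply_apply, hghb]
    exact RingHom.congr_fun hc a
  let u : MvPowerSeries (Fin n) Ah →ₐ[Ah] A' ⧸ I :=
    { toRingHom := gh.comp (e.symm : MvPowerSeries (Fin n) Ah →+* Bh)
      commutes' := hu }
  have hX : ∀ i, MvPowerSeries.X i ∈ maximalIdeal (MvPowerSeries (Fin n) Ah) := fun i hu' => by
    simpa using hu'.map (MvPowerSeries.constantCoeff (σ := Fin n) (R := Ah))
  have hInil : IsNilpotent I := by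
    refine ⟨N, le_bot_iff.mp ?_⟩
    exact (Ideal.pow_right_mono (IsLocalRing.le_maximalIdeal hI) N).trans hN.le
  obtain ⟨v, hv⟩ := FSAdic.PowerSeries.isFormallySmoothAdic (maximalIdeal Ah)
    (maximalIdeal (MvPowerSeries (Fin n) Ah)) hX A' I hInil
    ⟨N, by
      rw [Ideal.map_eq_bot_iff_le_ker]
      exact fun l hl => hh0 l hl⟩
    u ⟨N, fun f hf => hgh0 _ (hsymm f hf)⟩
  refine ⟨(v.toRingHom.comp (e : Bh →+* MvPowerSeries (Fin n) Ah)).comp (algebraMap B Bh),
    RingHom.ext fun a => ?_, RingHom.ext fun b => ?_⟩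
  · change v (e (algebraMap B Bh (algebraMap A B a))) = h a
    rw [he, show MvPowerSeries.C (algebraMap A Ah a) =
      algebraMap Ah (MvPowerSeries (Fin n) Ah) (algebraMap A Ah a) from rfl, AlgHom.commutes]
    exact hha a
  · change Ideal.Quotient.mk I (v (e (algebraMap B Bh b))) = g₀ b
    have := AlgHom.congr_fun hv (e (algebraMap B Bh b))
    change Ideal.Quotient.mk I (v (e (algebraMap B Bh b))) = gh (e.symm (e (algebraMap B Bh b))) at this
    rw [this, RingEquiv.symm_apply_apply, hghb]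

end

section Scheme

open AlgebraicGeometry CategoryTheory

variable {X Y : Scheme.{u}}

theorem smooth_iff (f : X ⟶ Y) [LocallyOfFiniteType f] [IsLocallyNoetherian Y] (x : X)
    (hk : Function.Surjective (f.residueFieldMap x)) :
    (∃ U : X.Opens, x ∈ U ∧ Smooth (U.ι ≫ f)) ↔
      ∃ (n : ℕ) (e : AdicCompletion (IsLocalRing.maximalIdeal (X.presheaf.stalk x)) (X.presheaf.stalk x) ≃+*
          MvPowerSeries (Fin n) (AdicCompletion (IsLocalRing.maximalIdeal (Y.presheaf.stalk (f.base x))) (Y.presheaf.stalk (f.base x)))),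
        ∀ a : Y.presheaf.stalk (f.base x),
          e (algebraMap _ _ ((f.stalkMap x).hom a)) = MvPowerSeries.C (algebraMap _ _ a) := by
  have := Groth.Agent.H34.EtaleAt.locallyOfFinitePresentation f
  have : IsLocallyNoetherian X := LocallyOfFiniteType.isLocallyNoetherian f
  let := (f.stalkMap x).hom.toAlgebra
  have : IsLocalHom (algebraMap (Y.presheaf.stalk (f x)) (X.presheaf.stalk x)) :=
    inferInstanceAs <| IsLocalHom (f.stalkMap x).hom
  constructor
  · intro hsm
    have : Algebra.FormallySmooth (Y.presheaf.stalk (f x)) (X.presheaf.stalk x) :=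
      (ArtinianLifting.exists_smooth_nhd_iff f x).mp hsm
    refine exists_powerSeries (Y.presheaf.stalk (f x)) (X.presheaf.stalk x) fun b => ?_
    obtain ⟨c, hc⟩ := hk (X.residue x b)
    obtain ⟨a, rfl⟩ := Scheme.residue_surjective Y _ c
    refine ⟨a, (residue_eq_zero_iff _).mp ?_⟩
    rw [map_sub, sub_eq_zero]
    exact hc.symm.trans congr($(Scheme.residue_residueFieldMap f x).hom a)
  · rintro ⟨n, e, he⟩
    rw [ArtinianLifting.smooth_iff]
    intro A' _ _ _ h _ I hI hI0 g₀ hc hm hs
    exact exists_lift (Y.presheaf.stalk (f x)) (X.presheaf.stalk x) n e he h I hI g₀ hc hm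

end Scheme

end Groth.Agent.Lib.Unram.SmoothCompletion
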