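import Groth.Agent.Lib.Unram.SplitNhd
import Mathlib.AlgebraicGeometry.Morphisms.FlatMono
import Mathlib.AlgebraicGeometry.Morphisms.Separated

/-!
# Splitting an unramified morphism at finitely many points
-/

set_option autoImplicit false

universe u

open CategoryTheory CategoryTheory.Limits AlgebraicGeometry

namespace Groth.Agent.Lib.Unram.SplitFamily

open SplitNhd

/-- Finitely many pointed étale neighbourhoods have a common refinement. -/
theorem exists_common_nhd {S : Scheme.{u}} (s : S) {ι : Type} [Finite ι] (U : ι → Scheme.{u})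
    (g : ∀ i, U i ⟶ S) (u : ∀ i, U i) (hg : ∀ i, Etale (g i)) (hu : ∀ i, g i (u i) = s) :
    ∃ (T : Scheme.{u}) (q : T ⟶ S) (t : T), Etale q ∧ q t = s ∧
      ∀ i, ∃ h : T ⟶ U i, h ≫ g i = q ∧ h t = u i := by
  classical
  cases nonempty_fintype ι
  suffices H : ∀ a : Finset ι, ∃ (T : Scheme.{u}) (q : T ⟶ S) (t : T), Etale q ∧ q t = s ∧
      ∀ i ∈ a, ∃ h : T ⟶ U i, h ≫ g i = q ∧ h t = u i by
    obtain ⟨T, q, t, h1, h2, h3⟩ := H Finset.univ
    exact ⟨T, q, t, h1, h2, fun i => h3 i (Finset.mem_univ i)⟩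
  intro a
  induction a using Finset.induction_on with
  | empty => exact ⟨S, 𝟙 S, s, inferInstance, rfl, fun i hi => absurd hi (Finset.notMem_empty i)⟩
  | @insert b a _ ih =>
    obtain ⟨T, q, t, hq, hqt, H⟩ := ih
    have := hg b
    obtain ⟨z, hz1, hz2⟩ :=
      Scheme.Pullback.exists_preimage_pullback t (u b) (show q t = g b (u b) by rw [hqt, hu b])
    refine ⟨pullback q (g b), pullback.fst q (g b) ≫ q, z,
      MorphismProperty.comp_mem @Etale _ _ inferInstance hq, ?_, fun i hi => ?_⟩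
    · rw [Scheme.Hom.comp_apply, hz1, hqt]
    · rcases Finset.mem_insert.mp hi with rfl | hi
      · exact ⟨pullback.snd q (g i), pullback.condition.symm, hz2⟩
      · obtain ⟨h, hh, hht⟩ := H i hi
        exact ⟨pullback.fst q (g b) ≫ h, by rw [Category.assoc, hh],
          by rw [Scheme.Hom.comp_apply, hz1, hht]⟩

/-- An unramified morphism splits over an étale neighbourhood at finitely many given points. -/
theorem exists_family {X S : Scheme.{u}} (f : X ⟶ S) (s : S) {ι : Type} [Finite ι] (x : ι → X)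
    (O : ι → X.Opens) (hxO : ∀ i, x i ∈ O i) (hs : ∀ i, f (x i) = s)
    (hft : ∀ i, LocallyOfFiniteType ((O i).ι ≫ f)) (hfu : ∀ i, FormallyUnramified ((O i).ι ≫ f)) :
    ∃ (U : Scheme.{u}) (g : U ⟶ S) (u : U), Etale g ∧ g u = s ∧
      ∃ (K : ι → Type) (_ : ∀ i, Finite (K i)) (V : ∀ i, K i → (pullback f g).Opens),
        ∀ i, IsSplit f g u (x i) (O i) (V i) := by
  choose U g u hg hu K hK V hV using fun i =>
    have := hft i
    have := hfu i
    exists_isSplit f (x i) (O i) (hxO i)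
  obtain ⟨T, q, t, hq, hqt, H⟩ := exists_common_nhd s U g u hg (fun i => (hu i).trans (hs i))
  choose h hh ht using H
  have hW : ∀ i, ∃ W : K i → (pullback f q).Opens, IsSplit f q t (x i) (O i) W := fun i => by
    have key := (hV i).comp (h i) t (ht i)
    have : ∀ q' : T ⟶ S, h i ≫ g i = q' →
        ∃ W : K i → (pullback f q').Opens, IsSplit f q' t (x i) (O i) W := by
      rintro _ rfl
      exact ⟨_, key⟩
    exact this q (hh i)
  choose W hW using hW
  exact ⟨T, q, t, hq, hqt, K, hK, W, hW⟩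

/-- Disjointness at `u` of the opens belonging to different points. -/
theorem sigma_eq {X S U : Scheme.{u}} {f : X ⟶ S} {g : U ⟶ S} {u : U} {ι : Type} {x : ι → X}
    (hinj : Function.Injective x) {O : ι → X.Opens} {K : ι → Type}
    {V : ∀ i, K i → (pullback f g).Opens} (hV : ∀ i, IsSplit f g u (x i) (O i) (V i))
    (k k' : Σ i, K i) {w : ↑(pullback f g)} (hw : w ∈ V k.1 k.2) (hw' : w ∈ V k'.1 k'.2)
    (hwu : pullback.snd f g w = u) : k = k' := by
  obtain ⟨i, a⟩ := k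
  obtain ⟨i', a'⟩ := k'
  obtain rfl : i = i' := hinj (((hV i).unique a hw hwu).symm.trans ((hV i').unique a' hw' hwu))
  exact Sigma.ext rfl (heq_of_eq ((hV i).disj a a' w hw hw' hwu))

/-- For a separated morphism the opens become pairwise disjoint after shrinking. -/
theorem exists_disjoint {X S U : Scheme.{u}} (f : X ⟶ S) [IsSeparated f] (g : U ⟶ S) (u : U)
    {ι : Type} [Finite ι] {x : ι → X} (hinj : Function.Injective x) {O : ι → X.Opens}
    {K : ι → Type} [∀ i, Finite (K i)] {V : ∀ i, K i → (pullback f g).Opens}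
    (hV : ∀ i, IsSplit f g u (x i) (O i) (V i)) :
    ∃ (U' : Scheme.{u}) (h : U' ⟶ U) (u' : U'), Etale h ∧ h u' = u ∧
      ∀ k k' : Σ i, K i, k ≠ k' →
        Disjoint (refineMap f g h ⁻¹ᵁ V k.1 k.2) (refineMap f g h ⁻¹ᵁ V k'.1 k'.2) := by
  have hcl : ∀ k : Σ i, K i, IsClosed (V k.1 k.2 : Set ↑(pullback f g)) := fun k => by
    have := (hV k.1).closed k.2
    have := IsClosedImmersion.of_comp (V k.1 k.2).ι (pullback.snd f g)
    rw [← Scheme.Opens.range_ι]
    exact (V k.1 k.2).ι.isClosedEmbedding.isClosed_range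
  let P := {p : (Σ i, K i) × (Σ i, K i) // p.1 ≠ p.2}
  let Z : P → Set U := fun p => ((V p.1.1.1 p.1.1.2).ι ≫ pullback.snd f g) ''
    ((V p.1.1.1 p.1.1.2).ι ⁻¹' (V p.1.2.1 p.1.2.2 : Set ↑(pullback f g)))
  have hZ : ∀ p, IsClosed (Z p) := fun p => by
    have := (hV p.1.1.1).closed p.1.1.2
    exact ((V p.1.1.1 p.1.1.2).ι ≫ pullback.snd f g).isClosedEmbedding.isClosedMap _
      ((hcl p.1.2).preimage (V p.1.1.1 p.1.1.2).ι.continuous)
  let U₀ : U.Opens := ⟨(⋃ p, Z p)ᶜ, (isClosed_iUnion_of_finite hZ).isOpen_compl⟩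
  have hu : u ∈ U₀ := by
    intro hm
    obtain ⟨⟨⟨k, k'⟩, hne⟩, w, hw, hwu⟩ := Set.mem_iUnion.mp hm
    exact hne (sigma_eq hinj hV k k' w.2 hw hwu)
  refine ⟨_, U₀.ι, ⟨u, hu⟩, inferInstance, rfl, fun k k' hne => ?_⟩
  rw [disjoint_iff, eq_bot_iff]
  rintro w ⟨hw, hw'⟩
  exfalso
  have h1 : pullback.snd f g (refineMap f g U₀.ι w) ∈ U₀ := by
    rw [snd_refineMap]; exact (pullback.snd f (U₀.ι ≫ g) w).2
  exact h1 (Set.mem_iUnion.mpr ⟨⟨(k, k'), hne⟩, ⟨_, hw⟩, hw', rfl⟩)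

theorem etale_restrict {X S U : Scheme.{u}} {f : X ⟶ S} {g : U ⟶ S} (O : X.Opens)
    [Etale (O.ι ≫ f)] (V : (pullback f g).Opens) (hle : V ≤ pullback.fst f g ⁻¹ᵁ O) :
    Etale (V.ι ≫ pullback.snd f g) := by
  have h := (isPullback_morphismRestrict (pullback.fst f g) O).paste_vert
    (IsPullback.of_hasPullback f g)
  have : Etale ((pullback.fst f g ⁻¹ᵁ O).ι ≫ pullback.snd f g) :=
    MorphismProperty.of_isPullback h inferInstance
  rw [← Scheme.homOfLE_ι _ hle, Category.assoc]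
  exact MorphismProperty.comp_mem @Etale _ _ inferInstance inferInstance

/-- In the étale case the opens become isomorphic to the base after shrinking. -/
theorem exists_isIso {X S U : Scheme.{u}} (f : X ⟶ S) (g : U ⟶ S) (u : U) {ι : Type} [Finite ι]
    {x : ι → X} {O : ι → X.Opens} (hO : ∀ i, Etale ((O i).ι ≫ f))
    {K : ι → Type} [∀ i, Finite (K i)] {V : ∀ i, K i → (pullback f g).Opens}
    (hV : ∀ i, IsSplit f g u (x i) (O i) (V i)) :
    ∃ (U' : Scheme.{u}) (h : U' ⟶ U) (u' : U'), Etale h ∧ h u' = u ∧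
      ∀ i k, IsIso ((refineMap f g h ⁻¹ᵁ V i k).ι ≫ pullback.snd f (h ≫ g)) := by
  have hop : ∀ k : Σ i, K i, IsOpenImmersion ((V k.1 k.2).ι ≫ pullback.snd f g) := fun k => by
    have := hO k.1
    have := (hV k.1).closed k.2
    have := etale_restrict (O k.1) (V k.1 k.2) ((hV k.1).le k.2)
    exact IsOpenImmersion.of_flat_of_mono _
  let U₀ : U.Opens := ⟨⋂ k : Σ i, K i, Set.range ((V k.1 k.2).ι ≫ pullback.snd f g),
    isOpen_iInter_of_finite fun k =>
      have := hop k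
      ((V k.1 k.2).ι ≫ pullback.snd f g).isOpenEmbedding.isOpen_range⟩
  have hu : u ∈ U₀ := Set.mem_iInter.mpr fun k => by
    obtain ⟨w, hw, hwu, -⟩ := (hV k.1).point k.2
    exact ⟨⟨w, hw⟩, hwu⟩
  refine ⟨_, U₀.ι, ⟨u, hu⟩, inferInstance, rfl, fun i k => ?_⟩
  have hsq := isPullback_restrict f g U₀.ι (V i k)
  have : IsOpenImmersion ((refineMap f g U₀.ι ⁻¹ᵁ V i k).ι ≫ pullback.snd f (U₀.ι ≫ g)) :=
    MorphismProperty.of_isPullback hsq (hop ⟨i, k⟩)
  refine isIso_of_isOpenImmersion_of_opensRange_eq_top _ (eq_top_iff.mpr fun t _ => ?_)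
  obtain ⟨a, ha⟩ := Set.mem_iInter.mp t.2 ⟨i, k⟩
  obtain ⟨z, -, hz⟩ := Scheme.exists_preimage_of_isPullback hsq a t ha
  exact ⟨z, hz⟩

end Groth.Agent.Lib.Unram.SplitFamily
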