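import Groth.Agent.Lib.Unram.GeomCount
import Groth.Agent.Lib.Unram.SplitFamily
import Groth.Agent.Lib.TorsorSch.Descent
import Mathlib.AlgebraicGeometry.ZariskisMainTheorem
import Mathlib.AlgebraicGeometry.Morphisms.Proper
import Mathlib.AlgebraicGeometry.Morphisms.FlatDescent

/-!
# Counting the geometric points of separated étale morphisms
-/

set_option autoImplicit false

universe u

open CategoryTheory CategoryTheory.Limits AlgebraicGeometry

namespace Groth.Agent.Lib.Unram.FibreCount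

open Groth.Agent.H54.GeomLift SplitNhd SplitFamily

/-- Étale morphisms are locally quasi-finite. -/
instance (priority := 900) locallyQuasiFinite_of_etale {X Y : Scheme.{u}} (f : X ⟶ Y) [Etale f] :
    LocallyQuasiFinite f := by
  refine ⟨fun {U} hU {V} hV e ↦ ?_⟩
  have h1 := HasRingHomProperty.appLE @FormallyUnramified f inferInstance ⟨U, hU⟩ ⟨V, hV⟩ e
  have h2 := HasRingHomProperty.appLE @LocallyOfFiniteType f inferInstance ⟨U, hU⟩ ⟨V, hV⟩ e
  algebraize [(f.appLE U V e).hom]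
  have : Algebra.FormallyUnramified Γ(Y, U) Γ(X, V) := h1
  have : Algebra.FiniteType Γ(Y, U) Γ(X, V) := h2
  exact (inferInstance : Algebra.QuasiFinite Γ(Y, U) Γ(X, V))

/-- An étale neighbourhood over which all the points of the fibre are split off. -/
structure Chart {X Y U : Scheme.{u}} (f : X ⟶ Y) (g : U ⟶ Y) (u : U) {K : Type}
    (V : K → (pullback f g).Opens) : Prop where
  iso : ∀ k, IsIso ((V k).ι ≫ pullback.snd f g)
  disj : ∀ k k', k ≠ k' → Disjoint (V k) (V k')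
  cover : ∀ w, pullback.snd f g w = u → ∃ k, w ∈ V k

theorem exists_chart {X Y : Scheme.{u}} (f : X ⟶ Y) [Etale f] [IsSeparated f] [QuasiCompact f]
    (y : Y) : ∃ (U : Scheme.{u}) (g : U ⟶ Y) (u : U), Etale g ∧ g u = y ∧
      ∃ (K : Type) (_ : Finite K) (V : K → (pullback f g).Opens), Chart f g u V := by
  have : Finite (f ⁻¹' {y}) := (f.finite_preimage_singleton y).to_subtype
  obtain ⟨n, ⟨e⟩⟩ := Finite.exists_equiv_fin (f ⁻¹' {y})
  let x : Fin n → X := fun i => (e.symm i).1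
  have hs : ∀ i, f (x i) = y := fun i => (e.symm i).2
  have hinj : Function.Injective x := Subtype.val_injective.comp e.symm.injective
  have hEt : ∀ _i : Fin n, Etale ((⊤ : X.Opens).ι ≫ f) := fun _ =>
    MorphismProperty.comp_mem @Etale _ _ inferInstance inferInstance
  obtain ⟨U, g, u, hg, hgu, K, hK, V, hV⟩ := exists_family f y x (fun _ => (⊤ : X.Opens))
    (fun _ => trivial) hs (fun i => have := hEt i; inferInstance)
    (fun i => have := hEt i; inferInstance)
  obtain ⟨U1, h1, u1, hh1, hu1, hdisj⟩ := exists_disjoint f g u hinj hV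
  have hV1 := fun i => (hV i).comp h1 u1 hu1
  obtain ⟨U2, h2, u2, hh2, hu2, hiso⟩ := exists_isIso f (h1 ≫ g) u1 hEt hV1
  have hV2 := fun i => (hV1 i).comp h2 u2 hu2
  refine ⟨U2, h2 ≫ h1 ≫ g, u2,
    MorphismProperty.comp_mem @Etale _ _ hh2 (MorphismProperty.comp_mem @Etale _ _ hh1 hg), ?_,
    Σ i, K i, inferInstance,
    fun k => refineMap f (h1 ≫ g) h2 ⁻¹ᵁ (refineMap f g h1 ⁻¹ᵁ V k.1 k.2), ⟨?_, ?_, ?_⟩⟩
  · rw [Scheme.Hom.comp_apply, hu2, Scheme.Hom.comp_apply, hu1, hgu]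
  · exact fun k => hiso k.1 k.2
  · intro k k' hne
    rw [disjoint_iff, eq_bot_iff]
    rintro w ⟨hw, hw'⟩
    exact absurd (show refineMap f (h1 ≫ g) h2 w ∈
      (refineMap f g h1 ⁻¹ᵁ V k.1 k.2) ⊓ (refineMap f g h1 ⁻¹ᵁ V k'.1 k'.2) from ⟨hw, hw'⟩)
      (by rw [disjoint_iff.mp (hdisj k k' hne)]; exact fun h => h.elim)
  · intro w hw
    have hfx : f (pullback.fst f (h2 ≫ h1 ≫ g) w) = y := by
      rw [← Scheme.Hom.comp_apply, pullback.condition, Scheme.Hom.comp_apply, hw,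
        Scheme.Hom.comp_apply, hu2, Scheme.Hom.comp_apply, hu1, hgu]
    obtain ⟨k, hk⟩ := (hV2 (e ⟨_, hfx⟩)).cover w hw (by simp [x])
    exact ⟨⟨_, k⟩, hk⟩

section

variable {X Y U : Scheme.{u}} {f : X ⟶ Y} [LocallyQuasiFinite f] {g : U ⟶ Y} {u : U} {K : Type}
  [Finite K] {V : K → (pullback f g).Opens}

theorem Chart.card_le (h : Chart f g u V) (u' : U) :
    (Nat.card K : ℕ∞) ≤ ENat.card ↥(MoreMor.geomFiber f (g u')) ∧
    ((∀ w, pullback.snd f g w = u' → ∃ k, w ∈ V k) →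
      ENat.card ↥(MoreMor.geomFiber f (g u')) = Nat.card K) ∧
    ((f ⁻¹' {g u'}).Finite → ENat.card ↥(MoreMor.geomFiber f (g u')) = Nat.card K →
      ∀ w, pullback.snd f g w = u' → ∃ k, w ∈ V k) := by
  obtain ⟨k₀, _, _, ξ, rfl⟩ := exists_pt_eq u'
  have := h.iso
  let F : K → Lift (pullback.snd f g) ξ := fun k =>
    ⟨ξ ≫ inv ((V k).ι ≫ pullback.snd f g) ≫ (V k).ι, by
      rw [Category.assoc, Category.assoc, IsIso.inv_hom_id, Category.comp_id]⟩
  have hF : ∀ k, pt (F k).1 ∈ V k := fun k =>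
    (pt (ξ ≫ inv ((V k).ι ≫ pullback.snd f g))).2
  have hinj : Function.Injective F := fun k k' hkk => by
    by_contra hne
    have := disjoint_iff.mp (h.disj k k' hne)
    exact (this.le ⟨hF k, hkk ▸ hF k'⟩ : pt (F k).1 ∈ (⊥ : (pullback f g).Opens)).elim
  have hsurj : ∀ (s : Lift (pullback.snd f g) ξ) (k : K), pt s.1 ∈ V k → F k = s := by
    intro s k hk
    have hr : Set.range s.1 ⊆ Set.range (V k).ι := by
      rintro _ ⟨a, rfl⟩
      rw [Scheme.Opens.range_ι, Subsingleton.elim a (IsLocalRing.closedPoint k₀)]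
      exact hk
    refine Subtype.ext ?_
    change ξ ≫ inv ((V k).ι ≫ pullback.snd f g) ≫ (V k).ι = s.1
    obtain ⟨t, ht⟩ : ∃ t, t ≫ (V k).ι = s.1 := ⟨_, IsOpenImmersion.lift_fac (V k).ι s.1 hr⟩
    have h2 : t ≫ (V k).ι ≫ pullback.snd f g = ξ := by rw [reassoc_of% ht, s.2]
    have h3 : ξ ≫ inv ((V k).ι ≫ pullback.snd f g) = t := (IsIso.comp_inv_eq _).mpr h2.symm
    rw [← Category.assoc, h3, ht]
  have hcard : ENat.card ↥(MoreMor.geomFiber f (g (pt ξ))) =
      ENat.card (Lift (pullback.snd f g) ξ) := by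
    rw [← pt_comp ξ g, GeomCount.card_geomFiber,
      ENat.card_congr (baseChangeEquiv (IsPullback.of_hasPullback f g) ξ)]
  rw [hcard, ← ENat.card_eq_coe_natCard K]
  refine ⟨ENat.card_le_card_of_injective hinj, fun hcov => (ENat.card_congr
    (Equiv.ofBijective F ⟨hinj, fun s => ?_⟩)).symm, fun hfin heq w hw => ?_⟩
  · obtain ⟨k, hk⟩ := hcov (pt s.1) (apply_pt s)
    exact ⟨k, hsurj s k hk⟩
  · have : LocallyQuasiFinite (pullback.snd f g) := inferInstance
    have := finite_lift f (ξ ≫ g) (by rwa [pt_comp])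
    have := Finite.of_equiv _ (baseChangeEquiv (IsPullback.of_hasPullback f g) ξ).symm
    obtain ⟨s, hs⟩ := exists_lift (pullback.snd f g) ξ w hw
    rw [ENat.card_eq_coe_natCard, ENat.card_eq_coe_natCard, Nat.cast_inj] at heq
    obtain ⟨k, hk⟩ := (hinj.bijective_of_nat_card_le heq.le).2 s
    exact ⟨k, by rw [← hs, ← hk]; exact hF k⟩

/-- A base change which is covered by finitely many copies of the base is universally closed. -/
theorem Chart.universallyClosed (h : Chart f g u V) (hcov : ∀ w, ∃ k, w ∈ V k) :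
    UniversallyClosed (pullback.snd f g) := by
  constructor
  intro P T i₁ i₂ f' H Z hZ
  have hiso : ∀ k, IsIso ((i₁ ⁻¹ᵁ V k).ι ≫ f') := fun k =>
    MorphismProperty.of_isPullback (P := MorphismProperty.isomorphisms Scheme)
      ((isPullback_morphismRestrict i₁ (V k)).paste_vert H.flip) (h.iso k)
  have hZk : ∀ k, IsClosed (((i₁ ⁻¹ᵁ V k).ι ≫ f') '' ((i₁ ⁻¹ᵁ V k).ι ⁻¹' Z)) := fun k =>
    have := hiso k
    ((i₁ ⁻¹ᵁ V k).ι ≫ f').homeomorph.isClosedMap _ (hZ.preimage (i₁ ⁻¹ᵁ V k).ι.continuous)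
  convert isClosed_iUnion_of_finite hZk using 1
  ext t
  simp only [Set.mem_iUnion, Set.mem_image]
  constructor
  · rintro ⟨z, hz, rfl⟩
    obtain ⟨k, hk⟩ := hcov (i₁ z)
    exact ⟨k, ⟨z, hk⟩, hz, rfl⟩
  · rintro ⟨k, z, hz, rfl⟩
    exact ⟨_, hz, rfl⟩

end

/-- If a chart exhausts the whole inverse image, the morphism is finite over the image. -/
theorem Chart.exists_isFinite {X Y U : Scheme.{u}} {f : X ⟶ Y} [Etale f] [IsSeparated f]
    [QuasiCompact f] {g : U ⟶ Y} [Etale g] {u : U} {K : Type} [Finite K]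
    {V : K → (pullback f g).Opens} (h : Chart f g u V) (hcov : ∀ w, ∃ k, w ∈ V k) :
    ∃ O : Y.Opens, g u ∈ O ∧ IsFinite (f ∣_ O) := by
  let O : Y.Opens := ⟨Set.range g, g.isOpenMap.isOpen_range⟩
  refine ⟨O, ⟨u, rfl⟩, ?_⟩
  let g' : U ⟶ O := IsOpenImmersion.lift O.ι g (by rw [Scheme.Opens.range_ι]; exact subset_rfl)
  have hg' : g' ≫ O.ι = g := IsOpenImmersion.lift_fac _ _ _
  have : Surjective g' := ⟨fun o => by
    obtain ⟨t, ht⟩ := o.2
    refine ⟨t, Subtype.ext ?_⟩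
    rw [← ht]
    exact congr($hg' t)⟩
  have : Etale g' := by
    have : Etale (g' ≫ O.ι) := hg' ▸ ‹Etale g›
    exact MorphismProperty.of_isPullback
      (IsPullback.of_horiz_isIso_mono (fst := 𝟙 _) (snd := g') (f := g' ≫ O.ι) (g := O.ι) ⟨by simp⟩)
      this
  have : UniversallyClosed (pullback.snd f g) := h.universallyClosed hcov
  have : IsProper (pullback.snd f g) := {}
  have hfin : IsFinite (pullback.snd f g) := IsFinite.of_isProper_of_locallyQuasiFinite _
  let q : pullback f g ⟶ (f ⁻¹ᵁ O : Scheme.{u}) := IsOpenImmersion.lift (f ⁻¹ᵁ O).ι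
    (pullback.fst f g) (by
      rw [Scheme.Opens.range_ι]
      rintro _ ⟨a, rfl⟩
      exact ⟨pullback.snd f g a, (congr($(pullback.condition (f := f) (g := g)) a)).symm⟩)
  have hq : q ≫ (f ⁻¹ᵁ O).ι = pullback.fst f g := IsOpenImmersion.lift_fac _ _ _
  have hsq : IsPullback q (pullback.snd f g) (f ∣_ O) g' := by
    refine IsPullback.of_right ?_ ?_ (isPullback_morphismRestrict f O).flip
    · rw [hq, hg']; exact IsPullback.of_hasPullback f g
    · rw [← cancel_mono O.ι, Category.assoc, Category.assoc, morphismRestrict_ι, reassoc_of% hq,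
        hg', pullback.condition]
  exact MorphismProperty.of_isPullback_of_descendsAlong (P := @IsFinite)
    (Q := @Surjective ⊓ @Flat ⊓ @LocallyOfFinitePresentation) hsq.flip
    ⟨⟨inferInstance, inferInstance⟩, inferInstance⟩ hfin

/-- The cardinality of the geometric fibre is, near each point, at least its value there. -/
theorem exists_nhd_le {X Y : Scheme.{u}} (f : X ⟶ Y) [Etale f] [IsSeparated f] [QuasiCompact f]
    (y : Y) : ∃ W : Y.Opens, y ∈ W ∧ ∀ y' ∈ W,
      ENat.card ↥(MoreMor.geomFiber f y) ≤ ENat.card ↥(MoreMor.geomFiber f y') := by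
  obtain ⟨U, g, u, hg, rfl, K, hK, V, h⟩ := exists_chart f y
  refine ⟨⟨Set.range g, g.isOpenMap.isOpen_range⟩, ⟨u, rfl⟩, ?_⟩
  rintro _ ⟨u', rfl⟩
  rw [(h.card_le u).2.1 h.cover]
  exact (h.card_le u').1

/-- The cardinality of the geometric fibre is locally constant exactly where the morphism is finite. -/
theorem exists_nhd_eq_iff {X Y : Scheme.{u}} (f : X ⟶ Y) [Etale f] [IsSeparated f] [QuasiCompact f]
    (y : Y) :
    (∃ W : Y.Opens, y ∈ W ∧ ∀ y' : Y, y' ∈ W →
      ENat.card ↥(MoreMor.geomFiber f y') = ENat.card ↥(MoreMor.geomFiber f y)) ↔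
      ∃ W : Y.Opens, y ∈ W ∧ IsFinite (f ∣_ W) := by
  obtain ⟨U, g, u, hg, rfl, K, hK, V, h⟩ := exists_chart f y
  constructor
  · rintro ⟨W, huW, hW⟩
    let U₁ : U.Opens := g ⁻¹ᵁ W
    let V₁ : K → (pullback f (U₁.ι ≫ g)).Opens := fun k => refineMap f g U₁.ι ⁻¹ᵁ V k
    have hcov : ∀ w, ∃ k, w ∈ V₁ k := fun w => by
      have h1 := hW _ ((pullback.snd f (U₁.ι ≫ g) w).2)
      rw [(h.card_le u).2.1 h.cover] at h1
      obtain ⟨k, hk⟩ := (h.card_le (U₁.ι (pullback.snd f (U₁.ι ≫ g) w))).2.2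
        (f.finite_preimage_singleton _) h1 (refineMap f g U₁.ι w) (snd_refineMap f g U₁.ι w)
      exact ⟨k, hk⟩
    have h' : Chart f (U₁.ι ≫ g) ⟨u, huW⟩ V₁ := by
      refine ⟨fun k => ?_, fun k k' hne => ?_, fun w _ => hcov w⟩
      · exact MorphismProperty.of_isPullback (P := MorphismProperty.isomorphisms Scheme)
          (isPullback_restrict f g U₁.ι (V k)) (h.iso k)
      · rw [disjoint_iff, eq_bot_iff]
        rintro w ⟨hw, hw'⟩
        exact ((disjoint_iff.mp (h.disj k k' hne)).le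
          (show refineMap f g U₁.ι w ∈ V k ⊓ V k' from ⟨hw, hw'⟩)).elim
    have : Etale (U₁.ι ≫ g) := MorphismProperty.comp_mem @Etale _ _ inferInstance hg
    exact h'.exists_isFinite hcov
  · rintro ⟨W, huW, hW⟩
    let U₁ : U.Opens := g ⁻¹ᵁ W
    let P₁ : (pullback f g).Opens := pullback.snd f g ⁻¹ᵁ U₁
    have hf1 : IsFinite (pullback.snd f g ∣_ U₁) := by
      let g₁ : (U₁ : Scheme.{u}) ⟶ W := g ∣_ W
      let q : (P₁ : Scheme.{u}) ⟶ (f ⁻¹ᵁ W : Scheme.{u}) :=
        IsOpenImmersion.lift (f ⁻¹ᵁ W).ι (P₁.ι ≫ pullback.fst f g) (by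
          rw [Scheme.Opens.range_ι]
          rintro _ ⟨a, rfl⟩
          change f (pullback.fst f g a.1) ∈ W
          rw [← Scheme.Hom.comp_apply, pullback.condition]
          exact a.2)
      have hq : q ≫ (f ⁻¹ᵁ W).ι = P₁.ι ≫ pullback.fst f g := IsOpenImmersion.lift_fac _ _ _
      refine MorphismProperty.of_isPullback (P := @IsFinite) (f' := q) (g := f ∣_ W) ?_ hW
        (f := g₁)
      refine IsPullback.of_right ?_ ?_ (isPullback_morphismRestrict f W).flip
      · rw [hq, morphismRestrict_ι]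
        exact (isPullback_morphismRestrict (pullback.snd f g) U₁).flip.paste_horiz
          (IsPullback.of_hasPullback f g)
      · rw [← cancel_mono W.ι, Category.assoc, Category.assoc, morphismRestrict_ι,
          morphismRestrict_ι, reassoc_of% hq, morphismRestrict_ι_assoc, pullback.condition]
    let Z : Set ↥(P₁ : Scheme.{u}) := {w | ∀ k, w.1 ∉ V k}
    have hZ : IsClosed Z := by
      have : Z = (⋃ k, P₁.ι ⁻¹' (V k : Set ↑(pullback f g)))ᶜ := by
        ext w; simp [Z]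
      rw [this]
      exact (isOpen_iUnion fun k => (V k).2.preimage P₁.ι.continuous).isClosed_compl
    have hcl := (pullback.snd f g ∣_ U₁).isClosedMap _ hZ
    let O₁ : U₁.toScheme.Opens := ⟨_, hcl.isOpen_compl⟩
    let U₂ : U.Opens := U₁.ι ''ᵁ O₁
    have hu₂ : u ∈ U₂ := by
      refine ⟨⟨u, huW⟩, ?_, rfl⟩
      rintro ⟨w, hw, hwu⟩
      obtain ⟨k, hk⟩ := h.cover w.1
        ((congr($(morphismRestrict_ι (pullback.snd f g) U₁) w)).symm.trans (congrArg Subtype.val hwu))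
      exact hw k hk
    refine ⟨⟨g '' U₂, g.isOpenMap _ U₂.2⟩, ⟨u, hu₂, rfl⟩, ?_⟩
    rintro _ ⟨u', ⟨⟨u'', hu''⟩, hO, rfl⟩, rfl⟩
    rw [(h.card_le u).2.1 h.cover]
    refine (h.card_le u'').2.1 fun w hw => ?_
    by_contra hne
    push Not at hne
    have hwP : w ∈ P₁ := by change pullback.snd f g w ∈ U₁; rw [hw]; exact hu''
    exact hO ⟨⟨w, hwP⟩, hne, Subtype.ext
      ((congr($(morphismRestrict_ι (pullback.snd f g) U₁) (⟨w, hwP⟩ : P₁))).trans hw)⟩

end Groth.Agent.Lib.Unram.FibreCount
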