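import Groth.Agent.Lib.Unram.UnibranchEtale
import Groth.Agent.Lib.SourceDescent.Scheme
import Mathlib.RingTheory.Etale.StandardEtale

/-!
# Étaleness at a point of an unramified morphism to an integral scheme
-/

set_option autoImplicit false

universe u

open CategoryTheory AlgebraicGeometry IsLocalRing
open scoped TensorProduct

namespace Groth.Agent.Lib.Unram.UnibranchEtaleLocal

/-- Over a domain, an algebra of finite type which is unramified and flat at a prime is étale near it. -/
theorem exists_etale_away (A B : Type u) [CommRing A] [IsDomain A] [CommRing B] [Algebra A B]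
    [Algebra.FiniteType A B] (q : Ideal B) [q.IsPrime] [Algebra.IsUnramifiedAt A q]
    (hflat : Module.Flat A (Localization.AtPrime q)) :
    ∃ g : B, g ∉ q ∧ Algebra.Etale A (Localization.Away g) := by
  classical
  obtain ⟨f, hf, P, φ, hφ⟩ := Algebra.IsUnramifiedAt.exists_hasStandardEtaleSurjectionOn (R := A) q
  let C := P.Ring
  let Bf := Localization.Away f
  let Bq := Localization.AtPrime q
  let θ : Bf →ₐ[A] Bq :=
    IsLocalization.liftAlgHom (M := Submonoid.powers f) (f := IsScalarTower.toAlgHom A B Bq) (by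
      rintro ⟨_, n, rfl⟩
      change IsUnit (algebraMap B Bq (f ^ n))
      rw [map_pow]
      exact (IsLocalization.map_units Bq (⟨f, hf⟩ : q.primeCompl)).pow n)
  have hθ : ∀ x, θ (algebraMap B Bf x) = algebraMap B Bq x := fun x => IsLocalization.lift_eq _ x
  let ψ : C →ₐ[A] Bq := θ.comp φ
  let 𝔮 : Ideal C := (maximalIdeal Bq).comap ψ.toRingHom
  let Cq := Localization.AtPrime 𝔮
  let Ψ : Cq →ₐ[A] Bq := IsLocalization.liftAlgHom (M := 𝔮.primeCompl) (f := ψ)
    fun y => IsLocalRing.notMem_maximalIdeal.mp y.2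
  have hΨ : ∀ x, Ψ (algebraMap C Cq x) = ψ x := fun x => IsLocalization.lift_eq _ x
  let : Algebra Cq Bq := Ψ.toRingHom.toAlgebra
  have : IsScalarTower A Cq Bq := IsScalarTower.of_algebraMap_eq fun a => (Ψ.commutes a).symm
  have : Algebra.FormallyUnramified C Cq := Algebra.FormallyUnramified.of_isLocalization 𝔮.primeCompl
  have : Algebra.FormallyUnramified A Cq := Algebra.FormallyUnramified.comp A C Cq
  have : Algebra.EssFiniteType A Cq := .comp A C Cq
  have : Module.Flat Cq Bq := Algebra.FormallyUnramified.flat_of_restrictScalars A Cq Bq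
  have : IsLocalHom (algebraMap Cq Bq) := ⟨fun z hz => by
    obtain ⟨a, t, rfl⟩ := IsLocalization.exists_mk'_eq 𝔮.primeCompl z
    rw [IsLocalization.AtPrime.isUnit_mk'_iff Cq 𝔮]
    intro ha
    have h1 : Ψ (IsLocalization.mk' Cq a t) * ψ t ∈ maximalIdeal Bq := by
      rw [← hΨ, ← map_mul, IsLocalization.mk'_spec, hΨ]
      exact ha
    rcases (inferInstance : (maximalIdeal Bq).IsPrime).mem_or_mem h1 with h | h
    · exact (IsLocalRing.mem_maximalIdeal _).mp h hz
    · exact t.2 h⟩
  have : Module.FaithfullyFlat Cq Bq := Module.FaithfullyFlat.of_flat_of_isLocalHom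
  have hker0 : ∀ z, φ z = 0 → algebraMap C Cq z = 0 := fun z hz =>
    FaithfulSMul.algebraMap_injective Cq Bq (by
      rw [map_zero]
      change Ψ (algebraMap C Cq z) = 0
      rw [hΨ, AlgHom.comp_apply, hz, map_zero])
  -- a single element kills the kernel
  let K := FractionRing A
  let CK := K ⊗[A] C
  let ι : C →ₐ[A] CK := Algebra.TensorProduct.includeRight
  have hι : Function.Injective ι :=
    Algebra.TensorProduct.includeRight_injective (IsFractionRing.injective A K)
  have : Module.Finite K CK := Algebra.FormallyUnramified.finite_of_free K _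
  have : IsNoetherianRing CK := isNoetherian_of_tower K inferInstance
  obtain ⟨T, hTsub, hTspan⟩ := (Submodule.fg_span_iff_fg_span_finset_subset
    (ι '' (RingHom.ker φ : Set C))).mp (IsNoetherian.noetherian (R := CK) _)
  have hT : ∀ t ∈ T, ∃ s : C, s ∉ 𝔮 ∧ ι s * t = 0 := by
    intro t ht
    obtain ⟨z, hz, rfl⟩ := hTsub ht
    obtain ⟨⟨s, hs⟩, hs0⟩ := (IsLocalization.map_eq_zero_iff 𝔮.primeCompl Cq z).mp (hker0 z hz)
    exact ⟨s, hs, by rw [← map_mul, hs0, map_zero]⟩
  choose! σ hσ hσ0 using hT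
  let s := ∏ t ∈ T, σ t
  have hs : s ∈ 𝔮.primeCompl := prod_mem fun t ht => hσ t ht
  have hsker : ∀ z, φ z = 0 → s * z = 0 := by
    intro z hz
    refine hι ?_
    rw [map_mul, map_zero]
    suffices h : ∀ w ∈ Submodule.span CK (T : Set CK), ι s * w = 0 from
      h _ (hTspan ▸ Submodule.subset_span ⟨z, hz, rfl⟩)
    intro w hmem
    induction hmem using Submodule.span_induction with
    | mem t ht =>
      obtain ⟨c, hc⟩ := Finset.dvd_prod_of_mem σ (Finset.mem_coe.mp ht)
      change ι s * t = 0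
      rw [show s = σ t * c from hc, map_mul, mul_right_comm, hσ0 t (Finset.mem_coe.mp ht), zero_mul]
    | zero => rw [mul_zero]
    | add a b _ _ ha hb => rw [mul_add, ha, hb, add_zero]
    | smul c a _ ha => rw [smul_eq_mul, mul_left_comm, ha, mul_zero]
  -- `C_s` is a localization of `B`
  obtain ⟨n, b, hb⟩ := IsLocalization.Away.surj f (φ s)
  let T' := Localization.Away (φ s)
  have hassoc : Associated (algebraMap B Bf b) (φ s) := by
    have hu : IsUnit (algebraMap B Bf f ^ n) := IsLocalization.Away.algebraMap_pow_isUnit f n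
    exact ⟨hu.unit⁻¹, by rw [← hb, mul_assoc, IsUnit.mul_val_inv, mul_one]⟩
  have : IsLocalization.Away (f * b) T' := IsLocalization.Away.mul_of_associated f b (φ s) hassoc
  have hgq : f * b ∉ q := by
    refine fun hmem => (Ideal.IsPrime.mem_or_mem ‹_› hmem).elim hf fun hbq => ?_
    have h1 : θ (φ s) * algebraMap B Bq f ^ n = algebraMap B Bq b := by
      rw [← hθ f, ← map_pow, ← map_mul, hb, hθ]
    have h2 : IsUnit (algebraMap B Bq b) := by
      rw [← h1]
      exact (IsLocalRing.notMem_maximalIdeal.mp hs).mul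
        ((IsLocalization.map_units Bq (⟨f, hf⟩ : q.primeCompl)).pow n)
    exact (IsLocalization.AtPrime.isUnit_to_map_iff Bq q b).mp h2 hbq
  let F : Localization.Away s →ₐ[A] T' := IsLocalization.Away.mapₐ (Localization.Away s) T' φ s
  have hF : Function.Bijective F := by
    refine ⟨?_, IsLocalization.Away.mapₐ_surjective_of_surjective s hφ⟩
    rw [injective_iff_map_eq_zero]
    intro z hz
    obtain ⟨m, c, hc⟩ := IsLocalization.Away.surj s z
    have hc0 : algebraMap Bf T' (φ c) = 0 := by
      have h1 : F (algebraMap C (Localization.Away s) c) = algebraMap Bf T' (φ c) :=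
        IsLocalization.map_eq (g := φ.toRingHom) (M := Submonoid.powers s) (T := Submonoid.powers (φ s))
          (Q := T') (fun a ha => by obtain ⟨k, rfl⟩ := ha; exact ⟨k, (map_pow φ s k).symm⟩) c
      rw [← h1, ← hc, map_mul, hz, zero_mul]
    obtain ⟨⟨_, k, rfl⟩, hk⟩ := (IsLocalization.map_eq_zero_iff (Submonoid.powers (φ s)) T' _).mp hc0
    have hk' : φ (s ^ k * c) = 0 := by rw [map_mul, map_pow]; exact hk
    have hc' : algebraMap C (Localization.Away s) c = 0 :=
      (IsLocalization.map_eq_zero_iff (Submonoid.powers s) _ _).mpr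
        ⟨⟨s ^ (k + 1), _, rfl⟩, by change s ^ (k + 1) * c = 0; rw [pow_succ', mul_assoc, hsker _ hk']⟩
    rw [hc'] at hc
    exact ((IsLocalization.Away.algebraMap_pow_isUnit (S := Localization.Away s) s m).mul_left_eq_zero).mp hc
  have : Algebra.Etale C (Localization.Away s) := Algebra.Etale.of_isLocalizationAway s
  have : Algebra.Etale A (Localization.Away s) := Algebra.Etale.comp A C _
  exact ⟨f * b, hgq, Algebra.Etale.of_equiv ((AlgEquiv.ofBijective F hF).trans
    ((IsLocalization.algEquiv (Submonoid.powers (f * b)) T' (Localization.Away (f * b))).restrictScalars A))⟩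

/-- The algebraic form: unramified with injective local map over a geometrically unibranch point of a domain. -/
theorem exists_etale_away_of_injective (A B : Type u) [CommRing A] [IsDomain A] [CommRing B]
    [Algebra A B] [Algebra.FiniteType A B] (q : Ideal B) [q.IsPrime] (p : Ideal A) [p.IsPrime]
    [q.LiesOver p] (hA : CAlg2.IsGeomUnibranch (Localization.AtPrime p)) [Algebra.IsUnramifiedAt A q]
    (hinj : Function.Injective (Localization.localRingHom p q (algebraMap A B) (q.over_def p))) :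
    ∃ g : B, g ∉ q ∧ Algebra.Etale A (Localization.Away g) := by
  let := Localization.AtPrime.algebraOfLiesOver p q
  let Ap := Localization.AtPrime p
  let Bq := Localization.AtPrime q
  have : Algebra.EssFiniteType A Bq := .comp A B Bq
  have : Algebra.EssFiniteType Ap Bq := .of_comp A Ap Bq
  have : Algebra.FormallyUnramified A Bq := ‹Algebra.IsUnramifiedAt A q›
  have : Algebra.FormallyUnramified Ap Bq := Algebra.FormallyUnramified.of_restrictScalars A Ap Bq
  have : IsDomain Ap := IsLocalization.isDomain_of_atPrime Ap p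
  have : Module.Flat Ap Bq := UnibranchEtaleAlg.flat_of_injective Ap Bq hA hinj
  exact exists_etale_away A B q (Module.Flat.trans A Ap Bq)

variable {X Y : Scheme.{u}}

/-- An unramified morphism to an integral scheme, flat at a point, is étale near it. -/
theorem exists_etale_nhd_of_flat [IsIntegral Y] (f : X ⟶ Y) [LocallyOfFiniteType f] (x : X)
    (hflat : (f.stalkMap x).hom.Flat) (hu : (f.stalkMap x).hom.FormallyUnramified) :
    ∃ U : X.Opens, x ∈ U ∧ Etale (U.ι ≫ f) := by
  obtain ⟨_, ⟨U, hU, rfl⟩, hxU, -⟩ :=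
    Y.isBasis_affineOpens.exists_subset_of_mem_open (Set.mem_univ (f x)) isOpen_univ
  obtain ⟨_, ⟨V, hV, rfl⟩, hxV, hVU⟩ :=
    X.isBasis_affineOpens.exists_subset_of_mem_open hxU (U.2.preimage f.continuous)
  have : Nonempty U := ⟨⟨f x, hxU⟩⟩
  have := f.finiteType_appLE hU hV hVU
  algebraize [(f.appLE U V hVU).hom]
  let p := (hU.primeIdealOf ⟨f x, hVU hxV⟩).asIdeal
  let q := (hV.primeIdealOf ⟨x, hxV⟩).asIdeal
  have : q.LiesOver p :=
    ⟨congr($(IsAffineOpen.comap_primeIdealOf_appLE U hU V hV hVU hxV).1).symm⟩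
  let := Localization.AtPrime.algebraOfLiesOver p q
  have h1 : Algebra.FormallyUnramified (Localization.AtPrime p) (Localization.AtPrime q) := by
    rw [← RingHom.formallyUnramified_algebraMap]
    exact (RingHom.FormallyUnramified.respectsIso.arrow_mk_iso_iff
      (IsAffineOpen.arrowStalkMapIso f U hU V hV hVU hxV)).1 hu
  have h2 : Module.Flat (Localization.AtPrime p) (Localization.AtPrime q) := by
    rw [← RingHom.flat_algebraMap_iff]
    exact (RingHom.Flat.respectsIso.arrow_mk_iso_iff
      (IsAffineOpen.arrowStalkMapIso f U hU V hV hVU hxV)).mp hflat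
  have : Algebra.IsUnramifiedAt Γ(Y, U) q :=
    (AtPrime.isUnramifiedAt_iff_formallyUnramified_localization _ _ p q).mpr h1
  obtain ⟨r, hr, hre⟩ := exists_etale_away Γ(Y, U) Γ(X, V) q
    (Module.Flat.trans Γ(Y, U) (Localization.AtPrime p) (Localization.AtPrime q))
  refine ⟨X.basicOpen r, ?_, ?_⟩
  · have h3 : hV.primeIdealOf ⟨x, hxV⟩ ∈ hV.fromSpec ⁻¹ᵁ X.basicOpen r := by
      rw [hV.fromSpec_preimage_basicOpen]
      exact hr
    change hV.fromSpec (hV.primeIdealOf ⟨x, hxV⟩) ∈ X.basicOpen r at h3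
    rw [hV.fromSpec_primeIdealOf] at h3
    exact h3
  · have e : X.basicOpen r ≤ f ⁻¹ᵁ U := (X.basicOpen_le r).trans hVU
    have := hV.isLocalization_basicOpen r
    have h2 : (f.appLE U (X.basicOpen r) e).hom.Etale := by
      rw [← RingHom.etale_algebraMap] at hre
      convert! RingHom.Etale.respectsIso.1 _
        (IsLocalization.algEquiv (.powers r) _ Γ(X, X.basicOpen r)).toRingEquiv hre
      ext z
      dsimp
      rw [IsScalarTower.algebraMap_apply Γ(Y, U) Γ(X, V) (Localization.Away r), AlgEquiv.commutes,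
        RingHom.algebraMap_toAlgebra, RingHom.algebraMap_toAlgebra, ← ConcreteCategory.comp_apply,
        Scheme.Hom.appLE_map]
    have : IsAffine (U : Scheme.{u}) := hU
    have : IsAffine (X.basicOpen r : Scheme.{u}) := hV.basicOpen r
    have : Etale (f.resLE U (X.basicOpen r) e) := by
      rw [HasRingHomProperty.iff_of_isAffine (P := @Etale)]
      exact (RingHom.Etale.respectsIso.arrow_mk_iso_iff
        (arrowResLEAppIso f U (X.basicOpen r) e)).mpr h2
    rw [← Scheme.Hom.resLE_comp_ι f e]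
    exact MorphismProperty.comp_mem @Etale _ _ this inferInstance

/-- The pointwise criterion. -/
theorem etaleAt [IsIntegral Y] (f : X ⟶ Y) [LocallyOfFiniteType f] (x : X)
    (hY : CAlg2.IsGeomUnibranch (Y.presheaf.stalk (f x)))
    (hsp : ∃ x' : X, x' ⤳ x ∧ f x' = genericPoint ↥Y)
    (hunr : ∃ U : X.Opens, x ∈ U ∧ FormallyUnramified (U.ι ≫ f)) :
    ∃ U : X.Opens, x ∈ U ∧ Etale (U.ι ≫ f) := by
  obtain ⟨z, hzx, hz⟩ := hsp
  have hu := AtPrime.formallyUnramified_stalkMap_of_nhd f x hunr
  exact exists_etale_nhd_of_flat f x (UnibranchEtale.flat_stalkMap_of_injective f x hu inferInstance hY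
    (UnibranchEtale.injective_stalkMap_of_generalization f hzx hz)) hu

theorem etaleAt_of_comp {Z : Scheme.{u}} [IsIntegral Y] (f : X ⟶ Y) (g : Y ⟶ Z) (x : X)
    (hY : CAlg2.IsGeomUnibranch (Y.presheaf.stalk (f x)))
    (het : ∃ U : X.Opens, x ∈ U ∧ Etale (U.ι ≫ f ≫ g))
    (hsp : ∃ x' : X, x' ⤳ x ∧ f x' = genericPoint ↥Y) :
    (∃ U : X.Opens, x ∈ U ∧ Etale (U.ι ≫ f)) ∧ ∃ V : Y.Opens, f x ∈ V ∧ Etale (V.ι ≫ g) := by
  obtain ⟨U, hxU, hU⟩ := het
  have : Etale ((U.ι ≫ f) ≫ g) := by rwa [Category.assoc]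
  have : LocallyOfFiniteType (U.ι ≫ f) := locallyOfFiniteType_of_comp (U.ι ≫ f) g
  have : FormallyUnramified (U.ι ≫ f) := FormallyUnramified.of_comp (U.ι ≫ f) g
  obtain ⟨z, hzx, hz⟩ := hsp
  obtain ⟨O, hxO, hO⟩ := etaleAt (U.ι ≫ f) ⟨x, hxU⟩ hY
    ⟨⟨z, hzx.mem_open U.isOpen hxU⟩, (U.isOpen.isOpenEmbedding_subtypeVal.isInducing.specializes_iff).mp hzx, hz⟩
    ⟨⊤, trivial, MorphismProperty.comp_mem @FormallyUnramified _ _ inferInstance inferInstance⟩
  let e := O.ι ≫ U.ι ≫ f
  let W : X.Opens := U.ι ''ᵁ O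
  have hW : Etale (W.ι ≫ f) := by
    have : W.ι ≫ f = (U.ι.isoImage O).inv ≫ O.ι ≫ U.ι ≫ f := by
      rw [Scheme.Hom.isoImage_inv_ι_assoc]
    rw [this]
    exact MorphismProperty.comp_mem @Etale _ _ inferInstance hO
  refine ⟨⟨W, ⟨⟨x, hxU⟩, hxO, rfl⟩, hW⟩, ?_⟩
  have : Etale e := hO
  let V : Y.Opens := ⟨Set.range e, e.isOpenMap.isOpen_range⟩
  refine ⟨V, ⟨⟨⟨x, hxU⟩, hxO⟩, rfl⟩, ?_⟩
  let e' := IsOpenImmersion.lift V.ι e (by rw [Scheme.Opens.range_ι]; exact le_rfl)
  have he' : e' ≫ V.ι = e := IsOpenImmersion.lift_fac _ _ _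
  have : Etale (e' ≫ V.ι) := he'.symm ▸ inferInstance
  have : Etale e' := MorphismProperty.of_postcomp (W := @Etale) (W' := @Etale) e' V.ι inferInstance inferInstance
  have : Surjective e' := ⟨fun v => by
    obtain ⟨o, ho⟩ := v.2
    refine ⟨o, V.ι.isOpenEmbedding.injective ?_⟩
    rw [← Scheme.Hom.comp_apply, he']
    exact ho⟩
  refine SourceDescent.Scheme.EtaleLocalST.descends SourceDescent.Scheme.etale e' (V.ι ≫ g) inferInstance inferInstance ?_
  rw [← Category.assoc, he']
  have : Etale (O.ι ≫ (U.ι ≫ f) ≫ g) := MorphismProperty.comp_mem @Etale _ _ inferInstance inferInstance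
  simpa [e, Category.assoc] using this

end Groth.Agent.Lib.Unram.UnibranchEtaleLocal
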