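import Groth.Agent.Lib.Unram.SepDegreeEq
import Groth.Agent.Lib.Unram.UnibranchEtaleLocal
import Groth.Agent.Lib.Unram.FibreCount
import Groth.Agent.Lib.Unram.OneBranch
import Mathlib.AlgebraicGeometry.FunctionField

/-!
# Equality of separable degrees and finite étale neighbourhoods
-/

set_option autoImplicit false

universe u

open CategoryTheory CategoryTheory.Limits AlgebraicGeometry IsLocalRing

namespace Groth.Agent.Lib.Unram.SepDegreeEtale

open Groth.Agent.H54.GeomLift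

variable {X Y : Scheme.{u}}

/-- Fibre sums of separable degrees over an open containing all quasi-finite points of the fibre. -/
theorem finsum_eq_card (f : X ⟶ Y) (E : X.Opens) [LocallyQuasiFinite (E.ι ≫ f)]
    (hEq : ∀ x ∈ E, f.QuasiFiniteAt x) {k : Type u} [Field k] [IsAlgClosed k]
    (ξ : Spec (CommRingCat.of k) ⟶ Y) (v : Y) (hξ : pt ξ = v)
    (hfin : {x : X | f.base x = v ∧ f.QuasiFiniteAt x}.Finite)
    (hall : ∀ x, f x = v → f.QuasiFiniteAt x → x ∈ E) :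
    Finite (Lift (E.ι ≫ f) ξ) ∧
    (∑ᶠ x ∈ {x : X | f.base x = v ∧ f.QuasiFiniteAt x}, EGA4loc.residueSepDegree f x) =
      Nat.card (Lift (E.ι ≫ f) ξ) := by
  subst hξ
  let g := E.ι ≫ f
  have hset : E.ι '' (g ⁻¹' {pt ξ}) = {x : X | f.base x = pt ξ ∧ f.QuasiFiniteAt x} := by
    ext x
    constructor
    · rintro ⟨u, hu, rfl⟩; exact ⟨hu, hEq u.1 u.2⟩
    · rintro ⟨h1, h2⟩; exact ⟨⟨x, hall x h1 h2⟩, h1, rfl⟩
  have : Finite (Lift g ξ) := finite_lift g ξ
    ((hfin.preimage E.ι.isOpenEmbedding.injective.injOn).subset fun u hu => hset.le ⟨u, hu, rfl⟩)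
  refine ⟨this, ?_⟩
  rw [← SepDegreeBound.finsum_residueSepDegree g ξ, ← hset,
    finsum_mem_image E.ι.isOpenEmbedding.injective.injOn]
  exact finsum_mem_congr rfl fun u _ => (SepDegreeBound.residueSepDegree_ι_comp f E u).symm

theorem residueFieldMap_finite_of_quasiFiniteAt (f : X ⟶ Y) [LocallyOfFiniteType f] (x : X)
    (hx : f.QuasiFiniteAt x) : (f.residueFieldMap x).hom.Finite := by
  let u : f.quasiFiniteLocus := ⟨x, hx⟩
  have h1 := residueFieldMap_finite (f.quasiFiniteLocus.ι ≫ f) u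
  rw [Scheme.residueFieldMap_comp] at h1
  let e := RingEquiv.ofBijective (f.quasiFiniteLocus.ι.residueFieldMap u).hom
    (Radicial.bijective_residueFieldMap f.quasiFiniteLocus.ι u)
  have h3 := (RingHom.Finite.of_surjective e.symm.toRingHom e.symm.surjective).comp h1
  have heq : e.symm.toRingHom.comp
      (f.residueFieldMap x ≫ f.quasiFiniteLocus.ι.residueFieldMap u).hom =
      (f.residueFieldMap x).hom := RingHom.ext fun r => e.symm_apply_apply _
  exact heq ▸ h3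

/-- Separable points of a finite generic fibre of a reduced scheme are unramified. -/
theorem formallyUnramified_stalkMap_generic [IsIntegral Y] [IsReduced X] (f : X ⟶ Y)
    [LocallyOfFiniteType f] (hfin : (f.base ⁻¹' {genericPoint Y}).Finite) (x : X)
    (hx : f x = genericPoint Y)
    (hsep : EGA4loc.residueSepDegree f x = EGA4loc.residueDegree f x) :
    (f.stalkMap x).hom.FormallyUnramified := by
  have hqη : ∀ z, f z = genericPoint Y → f.QuasiFiniteAt z := fun z hz =>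
    FinitePartNhd.quasiFiniteAt_of_finite_fibre f z (by rw [hz]; exact hfin)
  let U := f.quasiFiniteLocus
  let g := U.ι ≫ f
  have hmax : maximalIdeal (X.presheaf.stalk x) = ⊥ := by
    rw [← Ideal.zero_eq_bot, ← nilradical_eq_zero (X.presheaf.stalk x), nilradical_eq_sInf]
    refine le_antisymm (le_sInf fun P hP => ?_) (sInf_le (maximalIdeal.isMaximal _).isPrime)
    let Pp : Spec (X.presheaf.stalk x) := (⟨P, hP⟩ : PrimeSpectrum (X.presheaf.stalk x))
    have hζ : X.fromSpecStalk x Pp ⤳ x := by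
      have h := Set.mem_range_self (f := X.fromSpecStalk x) Pp
      rwa [Scheme.range_fromSpecStalk] at h
    have hfζ : f (X.fromSpecStalk x Pp) = genericPoint Y := by
      have h := hζ.map f.continuous
      rw [hx] at h
      exact (h.antisymm (genericPoint_specializes _)).eq
    let a : U := ⟨_, hqη _ hfζ⟩
    let b : U := ⟨x, hqη _ hx⟩
    have hab : a ⤳ b := U.ι.isOpenEmbedding.isInducing.specializes_iff.mp hζ
    have := (g.isDiscrete_preimage_singleton (genericPoint Y)).to_subtype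
    have hab' : (⟨a, hfζ⟩ : g ⁻¹' {genericPoint Y}) ⤳ ⟨b, hx⟩ :=
      Topology.IsInducing.subtypeVal.specializes_iff.mp hab
    have heq : X.fromSpecStalk x Pp = x := congrArg (fun z => z.1.1) hab'.eq
    have hP' : Pp = closedPoint (X.presheaf.stalk x) := by
      apply (X.fromSpecStalk x).isEmbedding.injective
      rw [heq, Scheme.fromSpecStalk_closedPoint]
    exact (congrArg PrimeSpectrum.asIdeal hP').ge
  algebraize [(f.stalkMap x).hom]
  have : IsLocalHom (algebraMap (Y.presheaf.stalk (f x)) (X.presheaf.stalk x)) :=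
    inferInstanceAs <| IsLocalHom (f.stalkMap x).hom
  have : Algebra.EssFiniteType (Y.presheaf.stalk (f x)) (X.presheaf.stalk x) :=
    LocallyOfFiniteType.stalkMap f x
  have : Algebra.IsSeparable (ResidueField (Y.presheaf.stalk (f x)))
      (ResidueField (X.presheaf.stalk x)) := by
    have hfinr := residueFieldMap_finite_of_quasiFiniteAt f x (hqη x hx)
    let := (f.residueFieldMap x).hom.toAlgebra
    have : Module.Finite (Y.residueField (f x)) (X.residueField x) := hfinr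
    have := (Field.finSepDegree_eq_finrank_iff (Y.residueField (f x)) (X.residueField x)).mp hsep
    exact Algebra.IsSeparable.of_equiv_equiv (RingEquiv.refl (Y.residueField (f x)))
      (RingEquiv.refl (X.residueField x)) (RingHom.ext fun r => by
        obtain ⟨r, rfl⟩ := residue_surjective r
        rfl)
  change Algebra.FormallyUnramified (Y.presheaf.stalk (f x)) (X.presheaf.stalk x)
  refine Algebra.FormallyUnramified.of_map_maximalIdeal (le_antisymm ?_ (hmax ▸ bot_le))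
  rw [Ideal.map_le_iff_le_comap]
  exact (((IsLocalRing.local_hom_TFAE (algebraMap (Y.presheaf.stalk (f x))
    (X.presheaf.stalk x))).out 0 4 rfl rfl).mp inferInstance).ge

theorem etale_nhd_sup {ι : Type*} (f : X ⟶ Y) (V : ι → X.Opens) (hV : ∀ i, Etale ((V i).ι ≫ f)) :
    Etale ((⨆ i, V i).ι ≫ f) := by
  let E := ⨆ i, V i
  refine (IsZariskiLocalAtSource.iff_of_iSup_eq_top (P := @Etale)
    (fun i => E.ι ⁻¹ᵁ V i) ?_).mpr fun i => ?_
  · rw [← Scheme.Hom.preimage_iSup, Scheme.Opens.ι_preimage_self]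
  · have hle : V i ≤ E := le_iSup V i
    let j : (E.ι ⁻¹ᵁ V i : Scheme.{u}) ⟶ V i := E.ι ∣_ V i
    have : IsIso j := by
      have : Surjective j := ⟨fun v => ⟨⟨⟨v.1, hle v.2⟩, v.2⟩, (V i).ι.isOpenEmbedding.injective
        (congr($(morphismRestrict_ι E.ι (V i)) (⟨⟨v.1, hle v.2⟩, v.2⟩ : (E.ι ⁻¹ᵁ V i : Scheme.{u}))))⟩⟩
      exact (isIso_iff_isOpenImmersion_and_surjective _).mpr ⟨inferInstance, inferInstance⟩
    have h : (E.ι ⁻¹ᵁ V i).ι ≫ E.ι ≫ f = j ≫ (V i).ι ≫ f := by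
      rw [morphismRestrict_ι_assoc]
    rw [h]
    exact MorphismProperty.comp_mem @Etale _ _ inferInstance (hV i)

theorem forward [IsIntegral Y] [IsReduced X] (f : X ⟶ Y) [LocallyOfFiniteType f] [IsSeparated f]
    (hdom : ∀ Z ∈ irreducibleComponents ↥X, genericPoint Y ∈ f.base '' Z)
    (hfin : (f.base ⁻¹' {genericPoint Y}).Finite)
    (y : Y) (hy : IsIntegrallyClosed (Y.presheaf.stalk y))
    (heq : (∑ᶠ x ∈ {x : X | f.base x = y ∧ f.QuasiFiniteAt x}, EGA4loc.residueSepDegree f x) =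
        ∑ x ∈ hfin.toFinset, EGA4loc.residueDegree f x) :
    ∃ U : Y.Opens, y ∈ U ∧ IsFinite (f ∣_ U) ∧ Etale (f ∣_ U) := by
  have hyu : CAlg2.IsGeomUnibranch (Y.presheaf.stalk y) :=
    OneBranch.isGeomUnibranch_of_isIntegrallyClosed _
  obtain ⟨hfiny, hle1, hle2⟩ := SepDegreeBound.bound f hdom hfin y hyu
  have hsum : (∑ x ∈ hfin.toFinset, EGA4loc.residueSepDegree f x) =
      ∑ x ∈ hfin.toFinset, EGA4loc.residueDegree f x := le_antisymm hle2 (heq ▸ hle1)
  let U := f.quasiFiniteLocus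
  let g := U.ι ≫ f
  have hqη : ∀ x, f x = genericPoint Y → f.QuasiFiniteAt x := fun x hx =>
    FinitePartNhd.quasiFiniteAt_of_finite_fibre f x (by rw [hx]; exact hfin)
  have hsepη : ∀ x, f x = genericPoint Y →
      EGA4loc.residueSepDegree f x = EGA4loc.residueDegree f x := fun x hx =>
    (Finset.sum_eq_sum_iff_of_le fun z hz =>
      SepDegreeBound.residueSepDegree_le f z (hqη z (by simpa using hz))).mp hsum x
      (by simpa using hx)
  have hηset : {x : X | f.base x = genericPoint Y ∧ f.QuasiFiniteAt x} = ↑hfin.toFinset := by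
    ext x
    simp only [Set.Finite.coe_toFinset, Set.mem_preimage, Set.mem_singleton_iff, Set.mem_setOf_eq]
    exact ⟨fun h => h.1, fun h => ⟨h, hqη x h⟩⟩
  have hfinη : {x : X | f.base x = genericPoint Y ∧ f.QuasiFiniteAt x}.Finite :=
    hfin.subset fun x hx => hx.1
  obtain ⟨k, _, _, ξ, hξ⟩ := exists_pt_eq y
  obtain ⟨k', _, _, ξ', hξ'⟩ := exists_pt_eq (genericPoint Y)
  obtain ⟨hLξ, hcξ⟩ := finsum_eq_card f U (fun _ h => h) ξ y hξ hfiny fun _ _ h => h
  obtain ⟨hLξ', hcξ'⟩ := finsum_eq_card f U (fun _ h => h) ξ' _ hξ' hfinη fun _ _ h => h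
  have hηsum : (∑ᶠ x ∈ {x : X | f.base x = genericPoint Y ∧ f.QuasiFiniteAt x},
      EGA4loc.residueSepDegree f x) = ∑ x ∈ hfin.toFinset, EGA4loc.residueDegree f x := by
    rw [hηset, finsum_mem_coe_finset, hsum]
  have hgen : ∀ x : U, ∃ ζ : U, ζ ⤳ x ∧ g ζ = genericPoint Y := fun x => by
    obtain ⟨ζ, hζ, hfζ⟩ := SepDegreeBound.exists_generization f hdom (U.ι x)
    exact ⟨⟨ζ, hqη ζ hfζ⟩, U.ι.isOpenEmbedding.isInducing.specializes_iff.mp hζ, hfζ⟩
  have hunrη : ∀ u : U, g u = genericPoint Y →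
      ∃ O : U.toScheme.Opens, u ∈ O ∧ FormallyUnramified (O.ι ≫ g) := fun u hu => by
    refine (AtPrime.exists_formallyUnramified_nhd_iff g u).mpr ?_
    exact (AtPrime.stalkMap_restrict_iff RingHom.FormallyUnramified.respectsIso f U u.1 u.2).mpr
      (formallyUnramified_stalkMap_generic f hfin u.1 hu (hsepη u.1 hu))
  have het : ∀ x, (f x = y ∨ f x = genericPoint Y) → f.QuasiFiniteAt x →
      ∃ V : X.Opens, x ∈ V ∧ V ≤ U ∧ Etale (V.ι ≫ f) := by
    intro x hxv hxq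
    let u : U := ⟨x, hxq⟩
    obtain ⟨hY, hun⟩ : CAlg2.IsGeomUnibranch (Y.presheaf.stalk (g u)) ∧
        ∃ O : U.toScheme.Opens, u ∈ O ∧ FormallyUnramified (O.ι ≫ g) := by
      rcases hxv with h | h
      · refine ⟨?_, SepDegreeEq.exists_unramified_nhd g hgen hunrη y hy ξ hξ ξ' hξ'
          (hcξ.symm.trans (heq.trans (hηsum.symm.trans hcξ'))) u h⟩
        rw [show g u = y from h]; exact hyu
      · refine ⟨?_, hunrη u h⟩
        rw [show g u = genericPoint Y from h]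
        exact OneBranch.isGeomUnibranch_of_isIntegrallyClosed (Y.functionField)
    obtain ⟨O, huO, hO⟩ := UnibranchEtaleLocal.etaleAt g u hY (hgen u) hun
    refine ⟨U.ι ''ᵁ O, ⟨u, huO, rfl⟩, fun z => ?_, ?_⟩
    · rintro ⟨z, -, rfl⟩; exact z.2
    · have : (U.ι ''ᵁ O).ι ≫ f = (U.ι.isoImage O).inv ≫ O.ι ≫ g := by
        rw [Scheme.Hom.isoImage_inv_ι_assoc]
      rw [this]
      exact MorphismProperty.comp_mem @Etale _ _ inferInstance hO
  obtain ⟨Y₀, hY₀, hyY₀, -⟩ := exists_isAffineOpen_mem_and_subset (x := y) (U := (⊤ : Y.Opens)) trivial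
  have hηY₀ : genericPoint Y ∈ Y₀ := (genericPoint_specializes y).mem_open Y₀.isOpen hyY₀
  -- a quasi-compact open containing the relevant points
  let I := {x : X // (f x = y ∨ f x = genericPoint Y) ∧ f.QuasiFiniteAt x}
  have : Finite I := by
    refine Set.Finite.to_subtype ((hfiny.union hfinη).subset ?_)
    rintro x ⟨h | h, hq⟩
    · exact Or.inl ⟨h, hq⟩
    · exact Or.inr ⟨h, hq⟩
  have hV : ∀ i : I, ∃ V : X.Opens, IsAffineOpen V ∧ i.1 ∈ V ∧ V ≤ U ∧ V ≤ f ⁻¹ᵁ Y₀ ∧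
      Etale (V.ι ≫ f) := fun i => by
    obtain ⟨V₁, hi, hV₁U, hV₁⟩ := het i.1 i.2.1 i.2.2
    have hiY : i.1 ∈ f ⁻¹ᵁ Y₀ := by
      change f i.1 ∈ Y₀
      rcases i.2.1 with h | h <;> rw [h] <;> assumption
    obtain ⟨V, hV, hiV, hle⟩ := exists_isAffineOpen_mem_and_subset (x := i.1)
      (U := V₁ ⊓ f ⁻¹ᵁ Y₀) ⟨hi, hiY⟩
    refine ⟨V, hV, hiV, fun z hz => hV₁U (hle hz).1, fun z hz => (hle hz).2, ?_⟩
    rw [← Scheme.homOfLE_ι X (fun z hz => (hle hz).1 : V ≤ V₁), Category.assoc]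
    exact MorphismProperty.comp_mem @Etale _ _ inferInstance hV₁
  choose V hVaff hVi hVU hVY₀ hVet using hV
  let E : X.Opens := ⨆ i, V i
  have hEet : Etale (E.ι ≫ f) := etale_nhd_sup f V hVet
  have hEU : E ≤ U := iSup_le hVU
  have hEY : E ≤ f ⁻¹ᵁ Y₀ := iSup_le hVY₀
  have hEmem : ∀ x, (f x = y ∨ f x = genericPoint Y) → f.QuasiFiniteAt x → x ∈ E := fun x h1 h2 =>
    le_iSup V ⟨x, h1, h2⟩ (hVi ⟨x, h1, h2⟩)
  have : CompactSpace ↥E := isCompact_iff_compactSpace.mp (by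
    rw [TopologicalSpace.Opens.coe_iSup]
    exact isCompact_iUnion fun i => (hVaff i).isCompact)
  let e : (E : Scheme.{u}) ⟶ Y₀ := f.resLE Y₀ E hEY
  have he : e ≫ Y₀.ι = E.ι ≫ f := Scheme.Hom.resLE_comp_ι f hEY
  have : IsAffine (Y₀ : Scheme.{u}) := hY₀
  have : QuasiCompact e := HasAffineProperty.iff_of_isAffine.mpr ‹_›
  have : Etale e := by
    have : Etale (e ≫ Y₀.ι) := he.symm ▸ hEet
    exact MorphismProperty.of_postcomp (W := @Etale) (W' := @Etale) e Y₀.ι inferInstance inferInstance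
  have : IsSeparated (e ≫ Y₀.ι) := by rw [he]; infer_instance
  have : IsSeparated e := IsSeparated.of_comp e Y₀.ι
  have : IsIntegral (Y₀ : Scheme.{u}) :=
    have : Nonempty Y₀ := ⟨⟨y, hyY₀⟩⟩
    inferInstance
  have hcount : ∀ (K : Type u) [Field K] [IsAlgClosed K] (ζ : Spec (CommRingCat.of K) ⟶ Y₀),
      ENat.card ↥(MoreMor.geomFiber e (pt ζ)) = ENat.card (Lift (E.ι ≫ f) (ζ ≫ Y₀.ι)) := by
    intro K _ _ ζ
    rw [GeomCount.card_geomFiber]
    refine ENat.card_congr (Equiv.subtypeEquivRight fun s => ?_)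
    rw [← cancel_mono Y₀.ι, Category.assoc, he]
  obtain ⟨ka, _, _, ζy, hζy⟩ := exists_pt_eq (V := (Y₀ : Scheme.{u})) ⟨y, hyY₀⟩
  obtain ⟨kb, _, _, ζη, hζη⟩ := exists_pt_eq (V := (Y₀ : Scheme.{u})) ⟨genericPoint Y, hηY₀⟩
  obtain ⟨hFy, hny⟩ := finsum_eq_card f E (fun x hx => hEU hx) (ζy ≫ Y₀.ι) y
    (by rw [pt_comp, hζy]; rfl) hfiny fun x h1 h2 => hEmem x (Or.inl h1) h2
  obtain ⟨hFη, hnη⟩ := finsum_eq_card f E (fun x hx => hEU hx) (ζη ≫ Y₀.ι) (genericPoint Y)
    (by rw [pt_comp, hζη]; rfl) hfinη fun x h1 h2 => hEmem x (Or.inr h1) h2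
  have hsame : ENat.card ↥(MoreMor.geomFiber e (pt ζy)) = ENat.card ↥(MoreMor.geomFiber e (pt ζη)) := by
    rw [hcount, hcount, ENat.card_eq_coe_natCard, ENat.card_eq_coe_natCard, Nat.cast_inj]
    exact hny.symm.trans (heq.trans (hηsum.symm.trans hnη))
  rw [hζy, hζη] at hsame
  obtain ⟨W₀, hyW₀, hW₀⟩ := FibreCount.exists_nhd_le e ⟨y, hyY₀⟩
  obtain ⟨W, hyW, hWfin⟩ := (FibreCount.exists_nhd_eq_iff e ⟨y, hyY₀⟩).mp ⟨W₀, hyW₀, fun v hv =>
    le_antisymm (by
      obtain ⟨W₁, hvW₁, hW₁⟩ := FibreCount.exists_nhd_le e v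
      rw [hsame]
      refine hW₁ _ ?_
      have hs : (⟨genericPoint Y, hηY₀⟩ : Y₀) ⤳ v :=
        Y₀.ι.isOpenEmbedding.isInducing.specializes_iff.mp (genericPoint_specializes _)
      exact hs.mem_open W₁.isOpen hvW₁) (hW₀ v hv)⟩
  let W' : Y.Opens := Y₀.ι ''ᵁ W
  refine ⟨W', ⟨_, hyW, rfl⟩, ?_⟩
  let P : X.Opens := f ⁻¹ᵁ W'
  let iW : (W : Scheme.{u}) ⟶ W' := (Y₀.ι.isoImage W).hom
  have hiW : iW ≫ W'.ι = W.ι ≫ Y₀.ι := Scheme.Hom.isoImage_hom_ι ..
  let c : (e ⁻¹ᵁ W : Scheme.{u}) ⟶ P := IsOpenImmersion.lift P.ι ((e ⁻¹ᵁ W).ι ≫ E.ι) (by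
    rw [Scheme.Opens.range_ι]
    rintro _ ⟨z, rfl⟩
    change f (((e ⁻¹ᵁ W).ι ≫ E.ι) z) ∈ W'
    rw [← Scheme.Hom.comp_apply, Category.assoc, ← he, Scheme.Hom.comp_apply, Scheme.Hom.comp_apply]
    exact ⟨_, z.2, rfl⟩)
  have hc : c ≫ P.ι = (e ⁻¹ᵁ W).ι ≫ E.ι := IsOpenImmersion.lift_fac _ _ _
  have hcW : c ≫ f ∣_ W' = e ∣_ W ≫ iW := by
    rw [← cancel_mono W'.ι, Category.assoc, Category.assoc, morphismRestrict_ι, hiW,
      morphismRestrict_ι_assoc, reassoc_of% hc, he]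
  have : IsFinite (e ∣_ W) := hWfin
  have : IsFinite (c ≫ f ∣_ W') := by rw [hcW]; infer_instance
  have : IsFinite c := IsFinite.of_comp c (f ∣_ W')
  have : IsOpenImmersion (c ≫ P.ι) := by rw [hc]; infer_instance
  have : IsOpenImmersion c := IsOpenImmersion.of_comp c P.ι
  have : Surjective c := ⟨fun p => by
    obtain ⟨ζ, hζ, hfζ⟩ := SepDegreeBound.exists_generization f hdom p.1
    have hζP : ζ ∈ P := hζ.mem_open P.isOpen p.2
    have hζE : ζ ∈ E := hEmem ζ (Or.inr hfζ) (hqη ζ hfζ)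
    have hmem : (⟨ζ, hζP⟩ : P) ∈ Set.range c := by
      have hz : (⟨ζ, hζE⟩ : E) ∈ e ⁻¹ᵁ W := by
        change e ⟨ζ, hζE⟩ ∈ W
        obtain ⟨w, hw, hwe⟩ := hζP
        have : Y₀.ι (e ⟨ζ, hζE⟩) = Y₀.ι w := by
          rw [← Scheme.Hom.comp_apply, he]
          exact hwe.symm
        rwa [Y₀.ι.isOpenEmbedding.injective this]
      refine ⟨⟨_, hz⟩, P.ι.isOpenEmbedding.injective ?_⟩
      rw [← Scheme.Hom.comp_apply, hc]
      rfl
    have hsp : (⟨ζ, hζP⟩ : P) ⤳ p := P.ι.isOpenEmbedding.isInducing.specializes_iff.mp hζ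
    exact hsp.mem_closed c.isClosedMap.isClosed_range hmem⟩
  have : IsIso c := (isIso_iff_isOpenImmersion_and_surjective _).mpr ⟨inferInstance, inferInstance⟩
  have hfW : f ∣_ W' = inv c ≫ e ∣_ W ≫ iW := by rw [← hcW, IsIso.inv_hom_id_assoc]
  rw [hfW]
  exact ⟨inferInstance, inferInstance⟩

theorem backward [IsIntegral Y] (f : X ⟶ Y) [LocallyOfFiniteType f]
    (hfin : (f.base ⁻¹' {genericPoint Y}).Finite)
    (y : Y) (U : Y.Opens) (hyU : y ∈ U) [IsFinite (f ∣_ U)] [Etale (f ∣_ U)] :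
    {x : X | f.base x = y ∧ f.QuasiFiniteAt x}.Finite ∧
      (∑ᶠ x ∈ {x : X | f.base x = y ∧ f.QuasiFiniteAt x}, EGA4loc.residueSepDegree f x) =
        ∑ x ∈ hfin.toFinset, EGA4loc.residueDegree f x := by
  let P : X.Opens := f ⁻¹ᵁ U
  have hηU : genericPoint Y ∈ U := (genericPoint_specializes y).mem_open U.isOpen hyU
  have hP : P.ι ≫ f = f ∣_ U ≫ U.ι := (morphismRestrict_ι f U).symm
  have : Etale (P.ι ≫ f) := by rw [hP]; infer_instance
  have hfib : ∀ v ∈ U, (f ⁻¹' {v}).Finite := fun v hv => by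
    refine (((f ∣_ U).finite_preimage_singleton ⟨v, hv⟩).image P.ι).subset fun x hx => ?_
    have hxP : x ∈ P := by change f x ∈ U; rw [show f x = v from hx]; exact hv
    refine ⟨⟨x, hxP⟩, Subtype.ext ?_, rfl⟩
    exact (congr($(morphismRestrict_ι f U) (⟨x, hxP⟩ : P))).trans hx
  have hq : ∀ x ∈ P, f.QuasiFiniteAt x := fun x hx =>
    FinitePartNhd.quasiFiniteAt_of_finite_fibre f x (hfib _ hx)
  have hfy : {x : X | f.base x = y ∧ f.QuasiFiniteAt x}.Finite :=
    (hfib y hyU).subset fun x hx => hx.1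
  have hfinη : {x : X | f.base x = genericPoint Y ∧ f.QuasiFiniteAt x}.Finite :=
    hfin.subset fun x hx => hx.1
  obtain ⟨k, _, _, ζ, hζ⟩ := exists_pt_eq (V := (U : Scheme.{u})) ⟨y, hyU⟩
  obtain ⟨k', _, _, ζ', hζ'⟩ := exists_pt_eq (V := (U : Scheme.{u})) ⟨genericPoint Y, hηU⟩
  obtain ⟨_, hny⟩ := finsum_eq_card f P hq (ζ ≫ U.ι) y (by rw [pt_comp, hζ]; rfl) hfy
    fun x h _ => by change f x ∈ U; rw [h]; exact hyU
  obtain ⟨_, hnη⟩ := finsum_eq_card f P hq (ζ' ≫ U.ι) (genericPoint Y) (by rw [pt_comp, hζ']; rfl)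
    hfinη fun x h _ => by change f x ∈ U; rw [h]; exact hηU
  refine ⟨hfy, ?_⟩
  rw [hny]
  obtain ⟨W, hyW, hW⟩ := (FibreCount.exists_nhd_eq_iff (f ∣_ U) ⟨y, hyU⟩).mpr
    ⟨⊤, trivial, IsZariskiLocalAtTarget.restrict (P := @IsFinite) ‹_› _⟩
  have hs : (⟨genericPoint Y, hηU⟩ : U) ⤳ ⟨y, hyU⟩ :=
    U.ι.isOpenEmbedding.isInducing.specializes_iff.mp (genericPoint_specializes _)
  have h := hW _ (hs.mem_open W.isOpen hyW)
  rw [← hζ, ← hζ', GeomCount.card_geomFiber, GeomCount.card_geomFiber] at h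
  have hc : ∀ (K : Type u) [Field K] [IsAlgClosed K] (χ : Spec (CommRingCat.of K) ⟶ U),
      ENat.card (Lift (f ∣_ U) χ) = ENat.card (Lift (P.ι ≫ f) (χ ≫ U.ι)) := fun K _ _ χ =>
    ENat.card_congr (Equiv.subtypeEquivRight fun s => by
      rw [← cancel_mono U.ι, Category.assoc, hP])
  rw [hc, hc, ENat.card_eq_coe_natCard, ENat.card_eq_coe_natCard, Nat.cast_inj] at h
  rw [← h, ← hnη]
  refine (finsum_mem_congr (t := ↑hfin.toFinset) ?_ fun x hx => ?_).trans
    (finsum_mem_coe_finset _ _)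
  · ext x
    simp only [Set.Finite.coe_toFinset, Set.mem_preimage, Set.mem_singleton_iff, Set.mem_setOf_eq]
    exact ⟨fun h => h.1, fun h => ⟨h, hq x (by change f x ∈ U; rw [h]; exact hηU)⟩⟩
  · have hx' : f x = genericPoint Y := by simpa using hx
    have hxP : x ∈ P := by change f x ∈ U; rw [hx']; exact hηU
    have hu := AtPrime.formallyUnramified_stalkMap_of_nhd f x ⟨P, hxP, inferInstance⟩
    algebraize [(f.stalkMap x).hom]
    have : IsLocalHom (algebraMap (Y.presheaf.stalk (f x)) (X.presheaf.stalk x)) :=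
      inferInstanceAs <| IsLocalHom (f.stalkMap x).hom
    have : Algebra.EssFiniteType (Y.presheaf.stalk (f x)) (X.presheaf.stalk x) :=
      LocallyOfFiniteType.stalkMap f x
    have hs : Algebra.IsSeparable (ResidueField (Y.presheaf.stalk (f x)))
        (ResidueField (X.presheaf.stalk x)) := inferInstance
    let := (f.residueFieldMap x).hom.toAlgebra
    have : Algebra.IsSeparable (Y.residueField (f x)) (X.residueField x) :=
      Algebra.IsSeparable.of_equiv_equiv (RingEquiv.refl (ResidueField (Y.presheaf.stalk (f x))))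
        (RingEquiv.refl (ResidueField (X.presheaf.stalk x))) (RingHom.ext fun r => by
          obtain ⟨r, rfl⟩ := residue_surjective r
          rfl)
    exact Field.finSepDegree_eq_finrank_of_isSeparable (Y.residueField (f x)) (X.residueField x)

end Groth.Agent.Lib.Unram.SepDegreeEtale
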