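import Groth.Agent.Lib.Unram.UnibranchEtaleAlg
import Groth.Agent.Lib.Unram.FlatUnramified
import Groth.Agent.Lib.Unram.AtPrime
import Mathlib.AlgebraicGeometry.FunctionField
import Mathlib.AlgebraicGeometry.Morphisms.Flat

/-!
# Étale and unramified morphisms over geometrically unibranch schemes
-/

set_option autoImplicit false

universe u

open CategoryTheory CategoryTheory.Limits AlgebraicGeometry IsLocalRing TopologicalSpace

namespace Groth.Agent.Lib.Unram.UnibranchEtale

variable {X Y : Scheme.{u}}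

/-- Stalks of étale morphisms over geometrically unibranch points. -/
theorem stalk_props (f : X ⟶ Y) [LocallyOfFiniteType f] (x : X)
    (hflat : (f.stalkMap x).hom.Flat) (hu : (f.stalkMap x).hom.FormallyUnramified)
    (hY : CAlg2.IsGeomUnibranch (Y.presheaf.stalk (f x))) :
    CAlg2.IsGeomUnibranch (X.presheaf.stalk x) ∧
      (IsDomain (Y.presheaf.stalk (f x)) → IsDomain (X.presheaf.stalk x)) := by
  algebraize [(f.stalkMap x).hom]
  have : IsLocalHom (algebraMap (Y.presheaf.stalk (f x)) (X.presheaf.stalk x)) :=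
    inferInstanceAs <| IsLocalHom (f.stalkMap x).hom
  have : Algebra.EssFiniteType (Y.presheaf.stalk (f x)) (X.presheaf.stalk x) :=
    LocallyOfFiniteType.stalkMap f x
  have hind := UnibranchEtaleAlg.isIndEtale_of_flat_unramified (Y.presheaf.stalk (f x)) (X.presheaf.stalk x)
  exact ⟨UnibranchEtaleAlg.isGeomUnibranch _ _ hind hY,
    fun h => UnibranchEtaleAlg.isDomain _ _ hind hY⟩

theorem isDomain_and_isGeomUnibranch (f : X ⟶ Y) [LocallyOfFinitePresentation f] (x : X)
    (hY : IsDomain (Y.presheaf.stalk (f x))) (hY' : CAlg2.IsGeomUnibranch (Y.presheaf.stalk (f x)))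
    (hf : ∃ U : X.Opens, x ∈ U ∧ Etale (U.ι ≫ f)) :
    IsDomain (X.presheaf.stalk x) ∧ CAlg2.IsGeomUnibranch (X.presheaf.stalk x) := by
  obtain ⟨hflat, hu⟩ := (AtPrime.exists_etale_nhd_iff f x).mp hf
  obtain ⟨h1, h2⟩ := stalk_props f x hflat hu hY'
  exact ⟨h2 hY, h1⟩

theorem flat_stalkMap_of_injective (f : X ⟶ Y) [LocallyOfFiniteType f] (x : X)
    (hu : (f.stalkMap x).hom.FormallyUnramified) (hY : IsDomain (Y.presheaf.stalk (f x)))
    (hY' : CAlg2.IsGeomUnibranch (Y.presheaf.stalk (f x)))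
    (hinj : Function.Injective (f.stalkMap x).hom) : (f.stalkMap x).hom.Flat := by
  algebraize [(f.stalkMap x).hom]
  have : IsLocalHom (algebraMap (Y.presheaf.stalk (f x)) (X.presheaf.stalk x)) :=
    inferInstanceAs <| IsLocalHom (f.stalkMap x).hom
  have : Algebra.EssFiniteType (Y.presheaf.stalk (f x)) (X.presheaf.stalk x) :=
    LocallyOfFiniteType.stalkMap f x
  exact UnibranchEtaleAlg.flat_of_injective _ _ hY' hinj

theorem etale_nhd_iff (f : X ⟶ Y) [LocallyOfFinitePresentation f] (x : X)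
    (hY : IsDomain (Y.presheaf.stalk (f x))) (hY' : CAlg2.IsGeomUnibranch (Y.presheaf.stalk (f x))) :
    (∃ U : X.Opens, x ∈ U ∧ Etale (U.ι ≫ f)) ↔
      (∃ U : X.Opens, x ∈ U ∧ FormallyUnramified (U.ι ≫ f)) ∧ Function.Injective (f.stalkMap x) := by
  constructor
  · intro h
    obtain ⟨hflat, -⟩ := (AtPrime.exists_etale_nhd_iff f x).mp h
    obtain ⟨U, hx, hU⟩ := h
    exact ⟨⟨U, hx, inferInstance⟩, (StalkTower.faithfullyFlat_stalkMap f x hflat).injective⟩
  · rintro ⟨hun, hinj⟩
    have hu := AtPrime.formallyUnramified_stalkMap_of_nhd f x hun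
    exact (AtPrime.exists_etale_nhd_iff f x).mpr ⟨flat_stalkMap_of_injective f x hu hY hY' hinj, hu⟩

/-- A point whose local ring has a unique minimal prime lies on a unique component. -/
theorem existsUnique_component (x : X) (hx : CAlg2.IsGeomUnibranch (X.presheaf.stalk x)) :
    ∃! Z, Z ∈ irreducibleComponents ↥X ∧ x ∈ Z := by
  have hd : IsDomain (CAlg2.red (X.presheaf.stalk x)) := hx.1.1
  have hnp : (nilradical (X.presheaf.stalk x)).IsPrime := (Ideal.Quotient.isDomain_iff_prime _).mp hd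
  let ξ₀ : X := X.fromSpecStalk x ⟨nilradical (X.presheaf.stalk x), hnp⟩
  refine ⟨irreducibleComponent x, ⟨irreducibleComponent_mem_irreducibleComponents x,
    mem_irreducibleComponent⟩, ?_⟩
  suffices h : ∀ Z ∈ irreducibleComponents ↥X, x ∈ Z → Z = closure {ξ₀} by
    exact fun Z hZ => (h Z hZ.1 hZ.2).trans
      (h _ (irreducibleComponent_mem_irreducibleComponents x) mem_irreducibleComponent).symm
  intro Z hZ hxZ
  obtain ⟨ζ, hζ⟩ := QuasiSober.sober hZ.1 (isClosed_of_mem_irreducibleComponents Z hZ)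
  have hspec : ζ ⤳ x := hζ.specializes hxZ
  have hmem : ζ ∈ Set.range (X.fromSpecStalk x) := by
    rw [Scheme.range_fromSpecStalk]
    exact hspec
  obtain ⟨P, rfl⟩ := hmem
  have hle : (⟨nilradical (X.presheaf.stalk x), hnp⟩ : PrimeSpectrum (X.presheaf.stalk x)) ⤳ P := by
    rw [← PrimeSpectrum.le_iff_specializes]
    exact nilradical_le_prime P.asIdeal
  have h1 : ξ₀ ⤳ X.fromSpecStalk x P := hle.map (X.fromSpecStalk x).continuous
  have hsub : Z ⊆ closure {ξ₀} := by
    rw [← hζ.def]
    exact closure_minimal (Set.singleton_subset_iff.mpr (specializes_iff_mem_closure.mp h1)) isClosed_closure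
  exact subset_antisymm hsub (hZ.2 isIrreducible_singleton.closure hsub)

theorem finite_components_of_irreducible [IrreducibleSpace Y] (U : Y.Opens) :
    (irreducibleComponents (U : Type u)).Finite := by
  rcases isEmpty_or_nonempty (U : Type u) with h | h
  · exact Set.toFinite _
  · have : IrreducibleSpace (U : Type u) := by
      refine @IrreducibleSpace.mk _ _ ?_ h
      exact Subtype.preirreducibleSpace
        ((PreirreducibleSpace.isPreirreducible_univ (X := Y)).open_subset U.isOpen (Set.subset_univ _))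
    rw [irreducibleComponents_eq_singleton]
    exact Set.finite_singleton _

/-- All components are open when each point lies on one component and there are locally finitely many. -/
theorem isOpen_component (f : X ⟶ Y) [Etale f] [IrreducibleSpace Y]
    (huniq : ∀ x : X, ∃! Z, Z ∈ irreducibleComponents ↥X ∧ x ∈ Z)
    (Z : Set X) (hZ : Z ∈ irreducibleComponents ↥X) : IsOpen Z := by
  refine isOpen_iff_forall_mem_open.mpr fun x hx => ?_
  obtain ⟨U, hU, hxU, -⟩ := exists_isAffineOpen_mem_and_subset (x := x) (U := (⊤ : X.Opens)) trivial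
  have hfin : (irreducibleComponents (U : Type u)).Finite :=
    EtaPt.FlatComponents.finite_components_of_flat f (fun W _ => finite_components_of_irreducible W) U
      hU.isCompact
  let bad : Set (U : Type u) := ⋃ C ∈ {C ∈ irreducibleComponents (U : Type u) | (⟨x, hxU⟩ : U) ∉ C}, C
  have hbad : IsClosed bad := Set.Finite.isClosed_biUnion (hfin.subset fun C hC => hC.1)
    fun C hC => isClosed_of_mem_irreducibleComponents C hC.1
  refine ⟨Subtype.val '' badᶜ, ?_, U.isOpen.isOpenEmbedding_subtypeVal.isOpenMap _ hbad.isOpen_compl,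
    ⟨⟨x, hxU⟩, ?_, rfl⟩⟩
  · rintro _ ⟨y, hy, rfl⟩
    let C := irreducibleComponent y
    have hxC : (⟨x, hxU⟩ : U) ∈ C := by
      by_contra h
      exact hy (Set.mem_iUnion₂.mpr ⟨C, ⟨irreducibleComponent_mem_irreducibleComponents y, h⟩,
        mem_irreducibleComponent⟩)
    obtain ⟨Z'', hZ'', hsub⟩ : ∃ Z'' ∈ irreducibleComponents ↥X, Subtype.val '' C ⊆ Z'' :=
      exists_mem_irreducibleComponents_subset_of_isIrreducible (Subtype.val '' C)
        (isIrreducible_irreducibleComponent.image _ continuous_subtype_val.continuousOn)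
    obtain ⟨Z₀, -, hZ₀⟩ := huniq x
    have : Z'' = Z := (hZ₀ Z'' ⟨hZ'', hsub ⟨_, hxC, rfl⟩⟩).trans (hZ₀ Z ⟨hZ, hx⟩).symm
    exact this ▸ hsub ⟨y, mem_irreducibleComponent, rfl⟩
  · intro hb
    obtain ⟨C, ⟨-, hC⟩, hxC⟩ := Set.mem_iUnion₂.mp hb
    exact hC hxC

theorem eq_closedPoint_of_generic [IrreducibleSpace Y] {y : Y} (hy : y = genericPoint Y)
    (P : PrimeSpectrum (Y.presheaf.stalk y)) : P = closedPoint (Y.presheaf.stalk y) := by
  apply (Y.fromSpecStalk y).isEmbedding.injective
  have h1 : Y.fromSpecStalk y P ⤳ y := by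
    have : Y.fromSpecStalk y P ∈ Set.range (Y.fromSpecStalk y) := ⟨P, rfl⟩
    rwa [Scheme.range_fromSpecStalk] at this
  have h2 : y ⤳ Y.fromSpecStalk y P :=
    (specializes_of_eq hy).trans (genericPoint_specializes _)
  rw [Scheme.fromSpecStalk_closedPoint]
  exact (h1.antisymm h2).eq

/-- No specializations in the generic fibre of an étale morphism. -/
theorem eq_of_specializes_generic (f : X ⟶ Y) [LocallyOfFiniteType f] [IrreducibleSpace Y] {x z : X}
    (hu : (f.stalkMap x).hom.FormallyUnramified) (hx : f x = genericPoint Y) (hzx : z ⤳ x) : z = x := by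
  algebraize [(f.stalkMap x).hom]
  have : IsLocalHom (algebraMap (Y.presheaf.stalk (f x)) (X.presheaf.stalk x)) :=
    inferInstanceAs <| IsLocalHom (f.stalkMap x).hom
  have : Algebra.EssFiniteType (Y.presheaf.stalk (f x)) (X.presheaf.stalk x) :=
    LocallyOfFiniteType.stalkMap f x
  obtain ⟨P, rfl⟩ : z ∈ Set.range (X.fromSpecStalk x) := by
    rw [Scheme.range_fromSpecStalk]; exact hzx
  have hP : P = closedPoint (X.presheaf.stalk x) := by
    refine PrimeSpectrum.ext (le_antisymm (le_maximalIdeal P.isPrime.ne_top) ?_)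
    change maximalIdeal _ ≤ P.asIdeal
    rw [← Algebra.FormallyUnramified.map_maximalIdeal (R := Y.presheaf.stalk (f x)), Ideal.map_le_iff_le_comap]
    exact (congrArg PrimeSpectrum.asIdeal
      (eq_closedPoint_of_generic hx ⟨P.asIdeal.comap (algebraMap _ _), Ideal.comap_isPrime _ _⟩)).ge
  rw [hP, Scheme.fromSpecStalk_closedPoint]

theorem components (f : X ⟶ Y) [Etale f] [IrreducibleSpace Y]
    (hY : ∀ y : Y, CAlg2.IsGeomUnibranch (Y.presheaf.stalk y)) :
    (∀ x : X, ∃! Z, Z ∈ irreducibleComponents ↥X ∧ x ∈ Z) ∧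
    (∀ Z ∈ irreducibleComponents ↥X, IsOpen Z ∧ ∃! x : X, x ∈ Z ∧ f x = genericPoint Y) := by
  have huniq : ∀ x : X, ∃! Z, Z ∈ irreducibleComponents ↥X ∧ x ∈ Z := fun x =>
    existsUnique_component x
      (stalk_props f x (Flat.stalkMap f x) (FormallyUnramified.stalkMap f x) (hY _)).1
  refine ⟨huniq, fun Z hZ => ⟨isOpen_component f huniq Z hZ, ?_⟩⟩
  obtain ⟨ζ, hζ⟩ := QuasiSober.sober hZ.1 (isClosed_of_mem_irreducibleComponents Z hZ)
  have hfζ : f ζ = genericPoint Y := by
    obtain ⟨ξ, hξ, hfξ⟩ := Flat.generalizingMap f (genericPoint_specializes (f ζ))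
    have hsub : Z ⊆ closure {ξ} := by
      rw [← hζ.def]
      exact closure_minimal (Set.singleton_subset_iff.mpr (specializes_iff_mem_closure.mp hξ)) isClosed_closure
    have hZξ : Z = closure {ξ} := subset_antisymm hsub (hZ.2 isIrreducible_singleton.closure hsub)
    have hξζ : ζ ⤳ ξ := hζ.specializes (hZξ ▸ subset_closure (Set.mem_singleton ξ))
    rw [← (hξ.antisymm hξζ).eq, hfξ]
  refine ⟨ζ, ⟨hζ.def ▸ subset_closure (Set.mem_singleton ζ), hfζ⟩, fun x ⟨hxZ, hfx⟩ => ?_⟩
  exact (eq_of_specializes_generic f (FormallyUnramified.stalkMap f x) hfx (hζ.specializes hxZ)).symm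

theorem stalkSpecializes_injective [IsIntegral Y] {y y' : Y} (hy' : y' = genericPoint Y) (h : y' ⤳ y) :
    Function.Injective (Y.presheaf.stalkSpecializes h).hom := by
  subst hy'
  exact IsFractionRing.injective (Y.presheaf.stalk y) Y.functionField

theorem injective_stalkMap_of_generalization [IsIntegral Y] (f : X ⟶ Y) {x z : X} (hzx : z ⤳ x)
    (hz : f z = genericPoint Y) : Function.Injective (f.stalkMap x).hom := by
  have hF : IsField (Y.presheaf.stalk (f z)) := by
    rw [hz]
    exact Field.toIsField Y.functionField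
  let := hF.toField
  have h1 : Function.Injective (f.stalkMap z).hom := (f.stalkMap z).hom.injective
  have h2 := stalkSpecializes_injective hz (f.base.hom.map_specializes hzx)
  intro a b hab
  refine h2 (h1 ?_)
  exact (Scheme.Hom.stalkSpecializes_stalkMap_apply f z x hzx a).trans
    ((congrArg (X.presheaf.stalkSpecializes hzx) hab).trans
      (Scheme.Hom.stalkSpecializes_stalkMap_apply f z x hzx b).symm)

theorem etale_and_isIntegral (f : X ⟶ Y) [IsIntegral Y]
    (hY : ∀ y : Y, CAlg2.IsGeomUnibranch (Y.presheaf.stalk y))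
    [ConnectedSpace X] [LocallyOfFiniteType f] [FormallyUnramified f]
    (hη : ∃ x : X, f x = genericPoint Y) :
    Etale f ∧ IsIntegral X ∧ ∀ x : X, CAlg2.IsGeomUnibranch (X.presheaf.stalk x) := by
  let W : Set X := {x | ∃ z, z ⤳ x ∧ f z = genericPoint Y}
  have hchart : ∀ x : X, ∃ O : Set X, IsOpen O ∧ x ∈ O ∧ ((O ⊆ W) ∨ (O ⊆ Wᶜ)) := by
    intro x
    have : FormallyUnramified ((⊤ : X.Opens).ι ≫ f) :=
      MorphismProperty.comp_mem @FormallyUnramified _ _ inferInstance inferInstance
    obtain ⟨U, g, u, hg, hgu, K, hK, V, hV⟩ := SplitNhd.exists_isSplit f x ⊤ trivial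
    obtain ⟨w, hw1, hw2⟩ := Scheme.Pullback.exists_preimage_pullback x u hgu.symm
    obtain ⟨k, hk⟩ := hV.cover w hw2 hw1
    have := hV.closed k
    let i := (V k).ι ≫ pullback.snd f g
    let c := (V k).ι ≫ pullback.fst f g
    have : Etale c := MorphismProperty.comp_mem @Etale _ _ inferInstance inferInstance
    have hsq : ∀ z, f (c z) = g (i z) := fun z => by
      simp only [← Scheme.Hom.comp_apply, c, i, Category.assoc, pullback.condition]
    obtain ⟨huniq, hopen⟩ := components g hY
    obtain ⟨C, ⟨hC, huC⟩, -⟩ := huniq u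
    obtain ⟨hCo, cg, ⟨hcgC, hcg⟩, hcguniq⟩ := hopen C hC
    have hgen : ∀ y ∈ C, cg ⤳ y := by
      obtain ⟨ζ, hζ⟩ := QuasiSober.sober hC.1 (isClosed_of_mem_irreducibleComponents C hC)
      have hζC : ζ ∈ C := hζ.def ▸ subset_closure (Set.mem_singleton ζ)
      have : ζ = cg := eq_of_specializes_generic g (FormallyUnramified.stalkMap g cg) hcg (hζ.specializes hcgC)
      exact fun y hy => this ▸ hζ.specializes hy
    have key : ∀ z, i z ∈ C → (c z ∈ W ↔ cg ∈ Set.range i) := by
      intro z hz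
      constructor
      · rintro ⟨o, ho, hfo⟩
        obtain ⟨z', hz', rfl⟩ := Flat.generalizingMap c ho
        refine ⟨z', hcguniq _ ⟨?_, by rw [← hsq]; exact hfo⟩⟩
        exact (hz'.map i.continuous).mem_open hCo hz
      · rintro ⟨z', hz'⟩
        refine ⟨c z', ?_, by rw [hsq, hz', hcg]⟩
        have : z' ⤳ z := i.isClosedEmbedding.isInducing.specializes_iff.mp (hz' ▸ hgen _ hz)
        exact this.map c.continuous
    refine ⟨c '' (i ⁻¹' C), c.isOpenMap _ (hCo.preimage i.continuous), ⟨⟨w, hk⟩, ?_, hw1⟩, ?_⟩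
    · change i ⟨w, hk⟩ ∈ C
      rw [show i ⟨w, hk⟩ = u from hw2]
      exact huC
    · by_cases h : cg ∈ Set.range i
      · left
        rintro _ ⟨z, hz, rfl⟩
        exact (key z hz).mpr h
      · right
        rintro _ ⟨z, hz, rfl⟩
        exact fun hW => h ((key z hz).mp hW)
  have hclopen : IsClopen W := by
    refine ⟨⟨?_⟩, ?_⟩
    · refine isOpen_iff_forall_mem_open.mpr fun x hx => ?_
      obtain ⟨O, hO, hxO, h | h⟩ := hchart x
      · exact absurd (h hxO) hx
      · exact ⟨O, h, hO, hxO⟩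
    · refine isOpen_iff_forall_mem_open.mpr fun x hx => ?_
      obtain ⟨O, hO, hxO, h | h⟩ := hchart x
      · exact ⟨O, h, hO, hxO⟩
      · exact absurd hx (h hxO)
  obtain ⟨x₀, hx₀⟩ := hη
  have hW : W = Set.univ := hclopen.eq_univ ⟨x₀, x₀, specializes_rfl, hx₀⟩
  have hflat : Flat f := by
    rw [Flat.iff_flat_stalkMap]
    intro x
    obtain ⟨z, hzx, hz⟩ : x ∈ W := hW ▸ trivial
    exact flat_stalkMap_of_injective f x (FormallyUnramified.stalkMap f x) inferInstance (hY _)
      (injective_stalkMap_of_generalization f hzx hz)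
  have het : Etale f := FlatUnramified.etale f fun y => ⟨⊤, trivial, finite_components_of_irreducible ⊤⟩
  have hstalk : ∀ x : X, IsDomain (X.presheaf.stalk x) ∧ CAlg2.IsGeomUnibranch (X.presheaf.stalk x) := fun x => by
    obtain ⟨h1, h2⟩ := stalk_props f x (Flat.stalkMap f x) (FormallyUnramified.stalkMap f x) (hY _)
    exact ⟨h2 inferInstance, h1⟩
  refine ⟨het, ?_, fun x => (hstalk x).2⟩
  have : ∀ x : X, _root_.IsReduced (X.presheaf.stalk x) := fun x => by
    have := (hstalk x).1
    infer_instance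
  have : IsReduced X := isReduced_of_isReduced_stalk X
  have : IrreducibleSpace X := by
    obtain ⟨huniq, hopen⟩ := components f hY
    obtain ⟨Z, ⟨hZ, hxZ⟩, -⟩ := huniq x₀
    have hZu : Z = Set.univ := IsClopen.eq_univ
      ⟨isClosed_of_mem_irreducibleComponents Z hZ, (hopen Z hZ).1⟩ ⟨x₀, hxZ⟩
    exact (irreducibleSpace_def _).mpr (by rw [Set.top_eq_univ, ← hZu]; exact hZ.1)
  exact isIntegral_of_irreducibleSpace_of_isReduced X

end Groth.Agent.Lib.Unram.UnibranchEtale
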