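import Mathlib.RingTheory.Kaehler.TensorProduct
import Mathlib.RingTheory.Extension.Cotangent.BaseChange
import Mathlib.RingTheory.Smooth.Locus
import Mathlib.RingTheory.Etale.Locus
import Mathlib.RingTheory.Unramified.Locus
import Mathlib.RingTheory.Flat.FaithfullyFlat.Algebra
import Mathlib.RingTheory.Flat.Stability
import Mathlib.RingTheory.Localization.BaseChange

/-!
# Smooth, unramified and étale at a prime descend along flat base change
-/

set_option autoImplicit false

universe u

open scoped TensorProduct

attribute [local instance] Algebra.TensorProduct.rightAlgebra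

namespace Groth.Agent.Lib.Unram.BaseChangeDescend

open TensorProduct in
theorem flat_of_faithfullyFlat_baseChange (B C M : Type u) [CommRing B] [CommRing C] [Algebra B C]
    [Module.FaithfullyFlat B C] [AddCommGroup M] [Module B M] [Module.Flat C (C ⊗[B] M)] :
    Module.Flat B M := by
  have : Module.Flat B (C ⊗[B] M) := Module.Flat.trans B C _
  rw [Module.Flat.iff_lTensor_preserves_injective_linearMap]
  intro N P _ _ _ _ φ hφ
  rw [← Module.FaithfullyFlat.lTensor_injective_iff_injective B C (φ.lTensor M)]
  have h := Module.Flat.lTensor_preserves_injective_linearMap (M := C ⊗[B] M) φ hφ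
  intro a b hab
  apply (TensorProduct.assoc B C M N).symm.injective
  apply h
  have key : ∀ z, φ.lTensor (C ⊗[B] M) ((TensorProduct.assoc B C M N).symm z) =
      (TensorProduct.assoc B C M P).symm ((φ.lTensor M).lTensor C z) := by
    intro z
    induction z using TensorProduct.induction_on with
    | zero => simp
    | tmul c w =>
      induction w using TensorProduct.induction_on with
      | zero => simp
      | tmul m n => simp
      | add _ _ h1 h2 => simp only [tmul_add, map_add, h1, h2]
    | add _ _ h1 h2 => simp only [map_add, h1, h2]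
  rw [key, key, hab]

variable {R S T : Type u} [CommRing R] [CommRing S] [Algebra R S] [CommRing T] [Algebra R T]
  [Module.Flat R T] (P : Ideal (T ⊗[R] S)) [P.IsPrime] (q : Ideal S) [q.IsPrime] [P.LiesOver q]

/-- The comparison of the localisations of a module and of its base change. -/
theorem exists_localized_baseChange (M : Type u) [AddCommGroup M] [Module S M]
    (M' : Type u) [AddCommGroup M'] [Module (T ⊗[R] S) M']
    (e : (T ⊗[R] S) ⊗[S] M ≃ₗ[T ⊗[R] S] M') :
    ∃ (_ : Algebra (Localization.AtPrime q) (Localization.AtPrime P)),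
      Module.FaithfullyFlat (Localization.AtPrime q) (Localization.AtPrime P) ∧
      Nonempty (LocalizedModule P.primeCompl M' ≃ₗ[Localization.AtPrime P]
        Localization.AtPrime P ⊗[Localization.AtPrime q] LocalizedModule q.primeCompl M) := by
  let := Localization.AtPrime.algebraOfLiesOver q P
  refine ⟨inferInstance, ?_, ?_⟩
  · have : Module.Flat S (T ⊗[R] S) :=
      Module.Flat.of_linearEquiv
        ({ (Algebra.TensorProduct.comm R T S).toLinearEquiv with
            map_smul' := fun s x => by
              induction x using TensorProduct.induction_on with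
              | zero => simp
              | tmul t a => simp [Algebra.smul_def, RingHom.algebraMap_toAlgebra, TensorProduct.smul_tmul']
              | add a b ha hb => simp_all [smul_add] } : T ⊗[R] S ≃ₗ[S] S ⊗[R] T)
    have : Module.Flat (T ⊗[R] S) (Localization.AtPrime P) := IsLocalization.flat _ P.primeCompl
    have : Module.Flat S (Localization.AtPrime P) := Module.Flat.trans S (T ⊗[R] S) _
    have : Module.Flat (Localization.AtPrime q) (Localization.AtPrime P) :=
      (Module.flat_iff_of_isLocalization (Localization.AtPrime q) q.primeCompl _).mpr this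
    have : IsLocalHom (algebraMap (Localization.AtPrime q) (Localization.AtPrime P)) :=
      inferInstance
    exact Module.FaithfullyFlat.of_flat_of_isLocalHom
  · let LP := Localization.AtPrime P
    let Lq := Localization.AtPrime q
    exact ⟨(LocalizedModule.equivTensorProduct P.primeCompl M').trans
      ((TensorProduct.AlgebraTensorModule.congr (LinearEquiv.refl LP LP) e.symm).trans
        ((TensorProduct.AlgebraTensorModule.cancelBaseChange S (T ⊗[R] S) LP LP M).trans
          ((TensorProduct.AlgebraTensorModule.cancelBaseChange S Lq LP LP M).symm.trans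
            (TensorProduct.AlgebraTensorModule.congr (LinearEquiv.refl LP LP)
              (LocalizedModule.equivTensorProduct q.primeCompl M).symm))))⟩

theorem notMem_support_of_baseChange (M : Type u) [AddCommGroup M] [Module S M]
    (M' : Type u) [AddCommGroup M'] [Module (T ⊗[R] S) M']
    (e : (T ⊗[R] S) ⊗[S] M ≃ₗ[T ⊗[R] S] M')
    (h : (⟨P, inferInstance⟩ : PrimeSpectrum (T ⊗[R] S)) ∉ Module.support (T ⊗[R] S) M') :
    (⟨q, inferInstance⟩ : PrimeSpectrum S) ∉ Module.support S M := by
  rw [Module.notMem_support_iff] at h ⊢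
  obtain ⟨_, hff, ⟨ε⟩⟩ := exists_localized_baseChange P q M M' e
  have := ε.symm.toEquiv.subsingleton
  exact Module.FaithfullyFlat.lTensor_reflects_triviality (Localization.AtPrime q)
    (Localization.AtPrime P) _

theorem mem_freeLocus_of_baseChange (M : Type u) [AddCommGroup M] [Module S M] [Module.Finite S M]
    (M' : Type u) [AddCommGroup M'] [Module (T ⊗[R] S) M']
    (e : (T ⊗[R] S) ⊗[S] M ≃ₗ[T ⊗[R] S] M')
    (h : (⟨P, inferInstance⟩ : PrimeSpectrum (T ⊗[R] S)) ∈ Module.freeLocus (T ⊗[R] S) M') :
    Module.Flat (Localization.AtPrime q) (LocalizedModule q.primeCompl M) := by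
  rw [Module.mem_freeLocus] at h
  obtain ⟨_, hff, ⟨ε⟩⟩ := exists_localized_baseChange P q M M' e
  have : Module.Flat (Localization.AtPrime P)
      (Localization.AtPrime P ⊗[Localization.AtPrime q] LocalizedModule q.primeCompl M) :=
    Module.Flat.of_linearEquiv ε.symm
  exact flat_of_faithfullyFlat_baseChange _ (Localization.AtPrime P) _

/-- Base change of the first cotangent homology along a flat map, linearly over the new algebra. -/
theorem bijective_liftBaseChange_h1Cotangent :
    Function.Bijective (LinearMap.liftBaseChange (T ⊗[R] S)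
      (Algebra.H1Cotangent.map R T S (T ⊗[R] S))) := by
  let φ := Algebra.H1Cotangent.map R T S (T ⊗[R] S)
  let Φ := LinearMap.liftBaseChange (T ⊗[R] S) φ
  let ψ : T ⊗[R] Algebra.H1Cotangent R S →ₗ[T] (T ⊗[R] S) ⊗[S] Algebra.H1Cotangent R S :=
    LinearMap.liftBaseChange T
      (((TensorProduct.mk S (T ⊗[R] S) (Algebra.H1Cotangent R S)) 1).restrictScalars R)
  have hψ : ∀ t x, ψ (t ⊗ₜ x) = (t ⊗ₜ[R] (1 : S)) ⊗ₜ[S] x := fun t x => by
    simp [ψ, TensorProduct.smul_tmul', Algebra.smul_def, Algebra.TensorProduct.algebraMap_apply]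
  have hψs : Function.Surjective ψ := fun z => by
    induction z using TensorProduct.induction_on with
    | zero => exact ⟨0, map_zero _⟩
    | tmul a x =>
      induction a using TensorProduct.induction_on with
      | zero => exact ⟨0, by simp⟩
      | tmul t s =>
        refine ⟨t ⊗ₜ (s • x), ?_⟩
        rw [hψ, ← TensorProduct.smul_tmul]
        congr 1
        simp [Algebra.smul_def, RingHom.algebraMap_toAlgebra]
      | add a b ha hb =>
        obtain ⟨u, hu⟩ := ha
        obtain ⟨v, hv⟩ := hb
        exact ⟨u + v, by rw [map_add, hu, hv, TensorProduct.add_tmul]⟩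
    | add a b ha hb =>
      obtain ⟨u, hu⟩ := ha
      obtain ⟨v, hv⟩ := hb
      exact ⟨u + v, by rw [map_add, hu, hv]⟩
  have hE : ∀ z, Φ (ψ z) = Algebra.tensorH1CotangentOfFlat R S T z := fun z => by
    induction z using TensorProduct.induction_on with
    | zero => simp
    | tmul t x =>
      rw [hψ, Algebra.tensorH1CotangentOfFlat_tmul, LinearMap.liftBaseChange_tmul,
        show t ⊗ₜ[R] (1 : S) = algebraMap T (T ⊗[R] S) t from rfl, algebraMap_smul]
    | add a b ha hb => simp only [map_add, ha, hb]
  refine ⟨fun a b hab => ?_, fun y => ⟨ψ ((Algebra.tensorH1CotangentOfFlat R S T).symm y), ?_⟩⟩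
  · obtain ⟨a, rfl⟩ := hψs a
    obtain ⟨b, rfl⟩ := hψs b
    change Φ (ψ a) = Φ (ψ b) at hab
    rw [hE, hE] at hab
    rw [(Algebra.tensorH1CotangentOfFlat R S T).injective hab]
  · change Φ (ψ _) = y
    rw [hE, LinearEquiv.apply_symm_apply]

/-- Unramified at a prime descends along a flat base change. -/
theorem isUnramifiedAt [Algebra.EssFiniteType R S] (h : Algebra.IsUnramifiedAt T P) :
    Algebra.IsUnramifiedAt R q := by
  have h' : (⟨P, inferInstance⟩ : PrimeSpectrum (T ⊗[R] S)) ∈ Algebra.unramifiedLocus T (T ⊗[R] S) := h
  rw [Algebra.unramifiedLocus_eq_compl_support] at h'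
  have := notMem_support_of_baseChange P q _ _
    (KaehlerDifferential.tensorKaehlerEquiv R T S (T ⊗[R] S)) h'
  change (⟨q, inferInstance⟩ : PrimeSpectrum S) ∈ Algebra.unramifiedLocus R S
  rwa [Algebra.unramifiedLocus_eq_compl_support]

/-- Smooth at a prime descends along a flat base change. -/
theorem isSmoothAt [Algebra.FinitePresentation R S] (h : Algebra.IsSmoothAt T P) :
    Algebra.IsSmoothAt R q := by
  have h' : (⟨P, inferInstance⟩ : PrimeSpectrum (T ⊗[R] S)) ∈ Algebra.smoothLocus T (T ⊗[R] S) := h
  rw [Algebra.smoothLocus_eq_compl_support_inter] at h'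
  change (⟨q, inferInstance⟩ : PrimeSpectrum S) ∈ Algebra.smoothLocus R S
  rw [Algebra.smoothLocus_eq_compl_support_inter]
  refine ⟨notMem_support_of_baseChange P q _ _
    (LinearEquiv.ofBijective _ bijective_liftBaseChange_h1Cotangent) h'.1, ?_⟩
  rw [Module.mem_freeLocus]
  have := mem_freeLocus_of_baseChange P q _ _
    (KaehlerDifferential.tensorKaehlerEquiv R T S (T ⊗[R] S)) h'.2
  exact Module.free_of_flat_of_isLocalRing

/-- Étale at a prime descends along a flat base change. -/
theorem isEtaleAt [Algebra.FinitePresentation R S] (h : Algebra.IsEtaleAt T P) :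
    Algebra.IsEtaleAt R q := by
  obtain ⟨h1, h2⟩ := Algebra.FormallyEtale.iff_formallyUnramified_and_formallySmooth.mp h
  exact Algebra.FormallyEtale.iff_formallyUnramified_and_formallySmooth.mpr
    ⟨isUnramifiedAt P q h1, isSmoothAt P q h2⟩

end Groth.Agent.Lib.Unram.BaseChangeDescend
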