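import Groth.Agent.Lib.Unram.BaseChangeNhd
import Mathlib.AlgebraicGeometry.Morphisms.FormallyUnramified

/-!
# Unramified at a point descends along flat base change
-/

set_option autoImplicit false

universe u

open scoped TensorProduct

attribute [local instance] Algebra.TensorProduct.rightAlgebra

namespace Groth.Agent.Lib.Unram.BaseChangeNhdUnram

theorem unramified_at_descend_ring (R S T : Type u) [CommRing R] [CommRing S] [CommRing T]
    [Algebra R S] [Algebra R T] [Module.Flat R T] [Algebra.FinitePresentation R S]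
    (p : Ideal (T ⊗[R] S)) [p.IsPrime] (h : T ⊗[R] S) (hh : h ∉ p)
    (hQ : (algebraMap T (Localization.Away h)).FormallyUnramified) :
    ∃ f ∉ p.comap (algebraMap S (T ⊗[R] S)),
      (algebraMap R (Localization.Away f)).FormallyUnramified := by
  rw [RingHom.formallyUnramified_algebraMap] at hQ
  have hp : Algebra.IsUnramifiedAt T p :=
    (Algebra.basicOpen_subset_unramifiedLocus_iff (R := T) (f := h)).mpr hQ
      (show (⟨p, inferInstance⟩ : PrimeSpectrum _) ∈ PrimeSpectrum.basicOpen h from hh)
  have : p.LiesOver (p.comap (algebraMap S (T ⊗[R] S))) := ⟨rfl⟩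
  have := BaseChangeDescend.isUnramifiedAt p (p.comap (algebraMap S (T ⊗[R] S))) hp
  obtain ⟨f, hf, hf'⟩ := Algebra.exists_formallyUnramified_of_isUnramifiedAt (R := R)
    (p.comap (algebraMap S (T ⊗[R] S)))
  exact ⟨f, hf, RingHom.formallyUnramified_algebraMap.mpr hf'⟩

end Groth.Agent.Lib.Unram.BaseChangeNhdUnram
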