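import Groth.Agent.Lib.Unram.BaseChangeNhd
import Mathlib.AlgebraicGeometry.Morphisms.FormallyUnramified

/-!
# Unramified at a point descends along flat base change: finite type morphisms
-/

set_option autoImplicit false

universe u

open CategoryTheory CategoryTheory.Limits AlgebraicGeometry

open scoped TensorProduct

namespace Groth.Agent.Lib.Unram.BaseChangeNhdFT

attribute [local instance] Algebra.TensorProduct.rightAlgebra

theorem exists_nhd_descend_of_flat (P : MorphismProperty Scheme.{u})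
    {Q : ∀ {R S : Type u} [CommRing R] [CommRing S], (R →+* S) → Prop} [HasRingHomProperty P Q]
    [P.IsStableUnderBaseChange] [P.IsStableUnderComposition]
    (hP : ∀ {A B : Scheme.{u}} (i : A ⟶ B) [IsOpenImmersion i], P i)
    (hQ : ∀ (R S T : Type u) [CommRing R] [CommRing S] [CommRing T] [Algebra R S] [Algebra R T]
      [Module.Flat R T] [Algebra.FiniteType R S] (p : Ideal (T ⊗[R] S)) [p.IsPrime]
      (h : T ⊗[R] S), h ∉ p → Q (algebraMap T (Localization.Away h)) →
      ∃ f ∉ p.comap (algebraMap S (T ⊗[R] S)), Q (algebraMap R (Localization.Away f)))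
    {X Y Y' : Scheme.{u}} (f : X ⟶ Y) [LocallyOfFiniteType f] (g : Y' ⟶ Y) [Flat g]
    (w : ↑(pullback f g))
    (hw : ∃ W : (pullback f g).Opens, w ∈ W ∧ P (W.ι ≫ pullback.snd f g)) :
    ∃ O : X.Opens, pullback.fst f g w ∈ O ∧ P (O.ι ≫ f) := by
  obtain ⟨W, hwW, hW⟩ := hw
  obtain ⟨U, hU, hyU, -⟩ := exists_isAffineOpen_mem_and_subset
    (x := g (pullback.snd f g w)) (U := (⊤ : Y.Opens)) trivial
  obtain ⟨U', hU', hyU', hle'⟩ := exists_isAffineOpen_mem_and_subset
    (x := pullback.snd f g w) (U := g ⁻¹ᵁ U) hyU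
  have hfx : f (pullback.fst f g w) ∈ U := by
    rw [← Scheme.Hom.comp_apply, pullback.condition, Scheme.Hom.comp_apply]; exact hyU
  obtain ⟨V, hV, hxV, hle⟩ := exists_isAffineOpen_mem_and_subset
    (x := pullback.fst f g w) (U := f ⁻¹ᵁ U) hfx
  let φ : Γ(Y, U) ⟶ Γ(X, V) := f.appLE U V hle
  let ψ : Γ(Y, U) ⟶ Γ(Y', U') := g.appLE U U' hle'
  have hψ : ψ.hom.Flat := g.flat_appLE hU hU' hle'
  have hφ : φ.hom.FiniteType := f.finiteType_appLE hU hV hle
  let _ : Algebra Γ(Y, U) Γ(X, V) := φ.hom.toAlgebra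
  let _ : Algebra Γ(Y, U) Γ(Y', U') := ψ.hom.toAlgebra
  have : Module.Flat Γ(Y, U) Γ(Y', U') := hψ
  have : Algebra.FiniteType Γ(Y, U) Γ(X, V) := hφ
  have h1 : Spec.map φ ≫ hU.fromSpec = hV.fromSpec ≫ f := hU.SpecMap_appLE_fromSpec f hV hle
  have h2 : Spec.map ψ ≫ hU.fromSpec = hU'.fromSpec ≫ g := hU.SpecMap_appLE_fromSpec g hU' hle'
  let T := Γ(Y', U') ⊗[Γ(Y, U)] Γ(X, V)
  let a : Spec (CommRingCat.of T) ⟶ Spec Γ(X, V) :=
    Spec.map (CommRingCat.ofHom (Algebra.TensorProduct.includeRight :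
      Γ(X, V) →ₐ[Γ(Y, U)] T).toRingHom)
  let b : Spec (CommRingCat.of T) ⟶ Spec Γ(Y', U') :=
    Spec.map (CommRingCat.ofHom (Algebra.TensorProduct.includeLeftRingHom : Γ(Y', U') →+* T))
  have hsq : IsPullback a b (Spec.map φ) (Spec.map ψ) := by
    refine (IsPullback.of_iso_pullback ⟨?_⟩ (pullbackSpecIso Γ(Y, U) Γ(Y', U') Γ(X, V)).symm
      (pullbackSpecIso_inv_fst Γ(Y, U) Γ(Y', U') Γ(X, V))
      (pullbackSpecIso_inv_snd Γ(Y, U) Γ(Y', U') Γ(X, V))).flip
    rw [← Spec.map_comp, ← Spec.map_comp]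
    congr 1
    ext r
    change (algebraMap Γ(Y, U) Γ(Y', U') r) ⊗ₜ[Γ(Y, U)] (1 : Γ(X, V)) =
      1 ⊗ₜ[Γ(Y, U)] (algebraMap Γ(Y, U) Γ(X, V) r)
    exact Algebra.TensorProduct.tmul_one_eq_one_tmul r
  let j : Spec (CommRingCat.of T) ⟶ pullback f g :=
    hsq.isoPullback.hom ≫ pullback.map _ _ f g hV.fromSpec hU'.fromSpec hU.fromSpec h1 h2
  have hjo : IsOpenImmersion j := inferInstance
  have hjfst : j ≫ pullback.fst f g = a ≫ hV.fromSpec := by
    simp only [j, pullback.map, Category.assoc, pullback.lift_fst]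
    rw [← Category.assoc, hsq.isoPullback_hom_fst]
  have hjsnd : j ≫ pullback.snd f g = b ≫ hU'.fromSpec := by
    simp only [j, pullback.map, Category.assoc, pullback.lift_snd]
    rw [← Category.assoc, hsq.isoPullback_hom_snd]
  have hwr : w ∈ Set.range
      (pullback.map _ _ f g hV.fromSpec hU'.fromSpec hU.fromSpec h1 h2) := by
    rw [Scheme.Pullback.range_map, hV.range_fromSpec, hU'.range_fromSpec]
    exact ⟨hxV, hyU'⟩
  obtain ⟨z, rfl⟩ := hwr
  obtain ⟨z, rfl⟩ : ∃ z', hsq.isoPullback.hom z' = z :=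
    ⟨hsq.isoPullback.inv z, by rw [← Scheme.Hom.comp_apply, Iso.inv_hom_id]; rfl⟩
  have hzW : z ∈ j ⁻¹ᵁ W := hwW
  obtain ⟨_, ⟨_, ⟨h, rfl⟩, rfl⟩, hzh, hsub⟩ :=
    PrimeSpectrum.isBasis_basic_opens.exists_subset_of_mem_open hzW (j ⁻¹ᵁ W).2
  let ι₁ : Spec (CommRingCat.of (Localization.Away h)) ⟶ Spec (CommRingCat.of T) :=
    Spec.map (CommRingCat.ofHom (algebraMap T (Localization.Away h)))
  have hι₁o : IsOpenImmersion ι₁ := IsOpenImmersion.of_isLocalization h
  have hr : Set.range (ι₁ ≫ j) ⊆ Set.range W.ι := by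
    rw [Scheme.Opens.range_ι]
    rintro _ ⟨t, rfl⟩
    exact hsub ((PrimeSpectrum.localization_away_comap_range (Localization.Away h) h).le ⟨t, rfl⟩)
  have hPl : P (ι₁ ≫ b) := by
    have : P ((ι₁ ≫ b) ≫ hU'.fromSpec) := by
      rw [Category.assoc, ← hjsnd, ← Category.assoc ι₁, ← IsOpenImmersion.lift_fac W.ι (ι₁ ≫ j) hr,
        Category.assoc]
      exact MorphismProperty.comp_mem P _ _ (hP _) hW
    exact MorphismProperty.of_isPullback
      (IsPullback.of_horiz_isIso_mono (fst := 𝟙 _) (snd := ι₁ ≫ b) (f := (ι₁ ≫ b) ≫ hU'.fromSpec)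
        (g := hU'.fromSpec) ⟨by rw [Category.id_comp]⟩) this
  have hQ' : Q (algebraMap Γ(Y', U') (Localization.Away h)) := by
    have := HasRingHomProperty.Spec_iff.mp (show P (Spec.map (CommRingCat.ofHom
      ((algebraMap T (Localization.Away h)).comp (algebraMap Γ(Y', U') T)))) by
        rw [CommRingCat.ofHom_comp, Spec.map_comp]; exact hPl)
    exact this
  obtain ⟨e, he, hQe⟩ := hQ Γ(Y, U) Γ(X, V) Γ(Y', U') z.asIdeal h hzh hQ'
  let ι₂ : Spec (CommRingCat.of (Localization.Away e)) ⟶ X :=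
    Spec.map (CommRingCat.ofHom (algebraMap Γ(X, V) (Localization.Away e))) ≫ hV.fromSpec
  have : IsOpenImmersion (Spec.map (CommRingCat.ofHom (algebraMap Γ(X, V) (Localization.Away e)))) :=
    IsOpenImmersion.of_isLocalization e
  refine ⟨ι₂.opensRange, ?_, ?_⟩
  · have hz2 : a z ∈ Set.range (Spec.map (CommRingCat.ofHom
        (algebraMap Γ(X, V) (Localization.Away e)))) :=
      (PrimeSpectrum.localization_away_comap_range (Localization.Away e) e).ge he
    obtain ⟨t, ht⟩ := hz2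
    refine ⟨t, ?_⟩
    rw [Scheme.Hom.comp_apply, ht]
    change hV.fromSpec (a z) = pullback.fst f g (j z)
    rw [← Scheme.Hom.comp_apply, ← Scheme.Hom.comp_apply, hjfst]
  · rw [← ι₂.isoOpensRange_inv_comp, Category.assoc]
    refine MorphismProperty.comp_mem P _ _ (hP _) ?_
    rw [Category.assoc, ← h1, ← Category.assoc, ← Spec.map_comp]
    exact MorphismProperty.comp_mem P _ _ (HasRingHomProperty.Spec_iff.mpr hQe) (hP _)

theorem unramified_descend_ring (R S T : Type u) [CommRing R] [CommRing S] [CommRing T]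
    [Algebra R S] [Algebra R T] [Module.Flat R T] [Algebra.FiniteType R S]
    (p : Ideal (T ⊗[R] S)) [p.IsPrime] (h : T ⊗[R] S) (hh : h ∉ p)
    (hQ : (algebraMap T (Localization.Away h)).FormallyUnramified) :
    ∃ f ∉ p.comap (algebraMap S (T ⊗[R] S)),
      (algebraMap R (Localization.Away f)).FormallyUnramified := by
  rw [RingHom.formallyUnramified_algebraMap] at hQ
  have hp : Algebra.IsUnramifiedAt T p :=
    (Algebra.basicOpen_subset_unramifiedLocus_iff (R := T) (f := h)).mpr hQ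
      (show (⟨p, inferInstance⟩ : PrimeSpectrum _) ∈ PrimeSpectrum.basicOpen h from hh)
  have : p.LiesOver (p.comap (algebraMap S (T ⊗[R] S))) := ⟨rfl⟩
  have := BaseChangeDescend.isUnramifiedAt p (p.comap (algebraMap S (T ⊗[R] S))) hp
  obtain ⟨f, hf, hf'⟩ := Algebra.exists_formallyUnramified_of_isUnramifiedAt (R := R)
    (p.comap (algebraMap S (T ⊗[R] S)))
  exact ⟨f, hf, RingHom.formallyUnramified_algebraMap.mpr hf'⟩

/-- Unramified near a point descends along flat base change. -/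
theorem exists_unramified_nhd {X Y Y' : Scheme.{u}} (f : X ⟶ Y) [LocallyOfFiniteType f]
    (g : Y' ⟶ Y) [Flat g] (w : ↑(pullback f g))
    (hw : ∃ W : (pullback f g).Opens, w ∈ W ∧ FormallyUnramified (W.ι ≫ pullback.snd f g)) :
    ∃ O : X.Opens, pullback.fst f g w ∈ O ∧ FormallyUnramified (O.ι ≫ f) :=
  exists_nhd_descend_of_flat @FormallyUnramified (fun i => inferInstance)
    (fun R S T _ _ _ _ _ _ _ p _ h hh hQ => unramified_descend_ring R S T p h hh hQ) f g w hw

end Groth.Agent.Lib.Unram.BaseChangeNhdFT
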