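import Groth.Agent.Lib.Unram.SepDegreeBound
import Groth.Agent.Lib.Unram.BaseChangeNhdFT
import Groth.Agent.Lib.Unram.OneBranch
import Groth.Agent.Lib.Henselian.Normal
import Groth.Agent.Lib.IndEtale.Basic
import Groth.Agent.H56.AbsFlat
import Groth.Agent.Lib.AlgSpRed.Stalk
import Groth.Agent.S4366

/-!
# Unramifiedness from equality of separable degrees over a normal point
-/

set_option autoImplicit false

universe u

open CategoryTheory CategoryTheory.Limits AlgebraicGeometry IsLocalRing
open scoped TensorProduct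

namespace Groth.Agent.Lib.Unram.SepDegreeEq

open Groth.Agent.H54.GeomLift
open Henselian.StrictHenselization (StrictHenselization)

/-- Reducedness is kept by weakly étale affine base change. -/
theorem isReduced_pullback_weaklyEtale {Z : Scheme.{u}} [IsReduced Z] (O S : Type u) [CommRing O]
    [CommRing S] [Algebra O S] [Algebra.WeaklyEtale O S] (q : Z ⟶ Spec (CommRingCat.of O)) :
    IsReduced (pullback q (Spec.map (CommRingCat.ofHom (algebraMap O S)))) := by
  let a := Spec.map (CommRingCat.ofHom (algebraMap O S))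
  let 𝒰 := Scheme.Pullback.openCoverOfLeft Z.affineCover q a
  have h𝒰 : ∀ i, IsReduced (𝒰.X i) := fun i => by
    obtain ⟨A, j, hj, hr⟩ : ∃ (A : CommRingCat.{u}) (j : Spec A ⟶ Z) (_ : IsOpenImmersion j),
        𝒰.X i = pullback (j ≫ q) a :=
      ⟨_, Z.affineCover.f i, Z.affineCover.map_prop i, rfl⟩
    rw [hr]
    obtain ⟨φ, hφ⟩ := Spec.map_surjective (j ≫ q)
    rw [← hφ]
    algebraize [φ.hom]
    have : IsReduced (Spec A) := isReduced_of_isOpenImmersion j
    have : _root_.IsReduced A := (affine_isReduced_iff A).mp this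
    have : _root_.IsReduced (A ⊗[O] S) := H56.AbsFlat.isReduced_of_weaklyEtale A (A ⊗[O] S)
    exact isReduced_of_isOpenImmersion (pullbackSpecIso O A S).hom
  have : ∀ w : ↥(pullback q a), _root_.IsReduced ((pullback q a).presheaf.stalk w) := fun w => by
    obtain ⟨i, z, rfl⟩ := 𝒰.exists_eq w
    have := h𝒰 i
    exact isReduced_of_injective ((𝒰.f i).stalkMap z).hom
      (ConcreteCategory.bijective_of_isIso ((𝒰.f i).stalkMap z)).1
  exact isReduced_of_isReduced_stalk _

theorem isReduced_pullback_strict {Z : Scheme.{u}} [IsReduced Z] (O : Type u) [CommRing O]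
    [IsLocalRing O] (q : Z ⟶ Spec (CommRingCat.of O)) :
    IsReduced (pullback q (Spec.map (CommRingCat.ofHom (algebraMap O (StrictHenselization O))))) :=
  have : Algebra.WeaklyEtale O (StrictHenselization O) :=
    IndEtale.Basic.weaklyEtale Henselian.IndEtale.isIndEtale_lim
  isReduced_pullback_weaklyEtale O (StrictHenselization O) q

/-- A finite domain over a normal domain which is generically unramified with a single geometric
generic point is trivial. -/
theorem surjective_algebraMap (S B : Type u) [CommRing S] [IsDomain S] [IsIntegrallyClosed S]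
    [CommRing B] [IsDomain B] [Algebra S B] [Module.Finite S B]
    (hinj : Function.Injective (algebraMap S B)) (b : B) (hb : b ≠ 0)
    [Algebra.FormallyUnramified S (Localization.Away b)]
    (hone : ∀ σ τ : FractionRing B →+* AlgebraicClosure (FractionRing S),
      σ.comp (algebraMap S (FractionRing B)) = algebraMap S _ →
      τ.comp (algebraMap S (FractionRing B)) = algebraMap S _ → σ = τ) :
    Function.Surjective (algebraMap S B) := by
  let K := FractionRing S
  let L := FractionRing B
  have : FaithfulSMul S L := (faithfulSMul_iff_algebraMap_injective S L).mpr (by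
    rw [IsScalarTower.algebraMap_eq S B L]
    exact (IsFractionRing.injective B L).comp hinj)
  let : Algebra K L := FractionRing.liftAlgebra S L
  -- generic separability
  have : Algebra.FormallyUnramified S L := by
    let θ : Localization.Away b →+* L := IsLocalization.Away.lift b
      (g := algebraMap B L) (isUnit_iff_ne_zero.mpr
        ((map_ne_zero_iff _ (IsFractionRing.injective B L)).mpr hb))
    let : Algebra (Localization.Away b) L := θ.toAlgebra
    have : IsScalarTower B (Localization.Away b) L :=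
      IsScalarTower.of_algebraMap_eq fun x => (IsLocalization.Away.lift_eq b _ x).symm
    have : IsScalarTower S (Localization.Away b) L := .to₁₃₄ S B (Localization.Away b) L
    have : IsLocalization (Algebra.algebraMapSubmonoid (Localization.Away b) (nonZeroDivisors B)) L :=
      .isLocalization_of_submonoid_le _ _ (Submonoid.powers b) _
        (Submonoid.powers_le.mpr (mem_nonZeroDivisors_of_ne_zero hb))
    have : Algebra.FormallyUnramified (Localization.Away b) L :=
      Algebra.FormallyUnramified.of_isLocalization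
        (Algebra.algebraMapSubmonoid (Localization.Away b) (nonZeroDivisors B))
    exact Algebra.FormallyUnramified.comp S (Localization.Away b) L
  have : Algebra.FormallyUnramified K L := Algebra.FormallyUnramified.of_restrictScalars S K L
  have : Algebra.EssFiniteType S L := .comp S B L
  have : Algebra.EssFiniteType K L := .of_comp S K L
  have : Module.Finite K L := Algebra.FormallyUnramified.finite_of_free K L
  have : Algebra.IsSeparable K L := Algebra.FormallyUnramified.isSeparable K L
  have hcard : Subsingleton (L →ₐ[K] AlgebraicClosure K) := ⟨fun σ τ => by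
    have h : σ.toRingHom = τ.toRingHom := hone _ _
      (RingHom.ext fun s => by
        rw [RingHom.comp_apply, IsScalarTower.algebraMap_apply S K L]
        exact (σ.commutes _).trans (IsScalarTower.algebraMap_apply S K (AlgebraicClosure K) s).symm)
      (RingHom.ext fun s => by
        rw [RingHom.comp_apply, IsScalarTower.algebraMap_apply S K L]
        exact (τ.commutes _).trans (IsScalarTower.algebraMap_apply S K (AlgebraicClosure K) s).symm)
    exact AlgHom.coe_ringHom_injective h⟩
  have hdeg : Module.finrank K L = 1 := by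
    rw [← Field.finSepDegree_eq_finrank_of_isSeparable K L,
      Field.finSepDegree_eq_of_isAlgClosed K L (AlgebraicClosure K)]
    refine le_antisymm (Finite.card_le_one_iff_subsingleton.mpr hcard) ?_
    have : Nonempty (L →ₐ[K] AlgebraicClosure K) := ⟨IsAlgClosed.lift⟩
    exact Nat.card_pos
  have hsurj : Function.Surjective (algebraMap K L) := fun x => by
    have h := (finrank_eq_one_iff_of_nonzero' (1 : L) one_ne_zero).mp hdeg x
    obtain ⟨c, hc⟩ := h
    exact ⟨c, by rw [Algebra.algebraMap_eq_smul_one]; exact hc⟩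
  intro x
  obtain ⟨c, hc⟩ := hsurj (algebraMap B L x)
  have hci : IsIntegral S (algebraMap K L c) := hc ▸ (Algebra.IsIntegral.isIntegral x).map
    (IsScalarTower.toAlgHom S B L)
  obtain ⟨s, rfl⟩ := IsIntegrallyClosed.isIntegral_iff.mp
    ((isIntegral_algebraMap_iff (algebraMap K L).injective).mp hci)
  refine ⟨s, IsFractionRing.injective B L ?_⟩
  rw [← hc, ← IsScalarTower.algebraMap_apply, ← IsScalarTower.algebraMap_apply]

/-- A finite morphism from an integral affine scheme which is generically unramified and has a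
single geometric generic point is a closed immersion. -/
theorem isClosedImmersion_specMap (S : Type u) [CommRing S] [IsDomain S] [IsIntegrallyClosed S]
    {B : CommRingCat.{u}} [IsDomain B] (φ : CommRingCat.of S ⟶ B) (hfin : φ.hom.Finite)
    (hinj : Function.Injective φ.hom) (V : (Spec B).Opens)
    (hV : (⟨⊥, Ideal.isPrime_bot⟩ : PrimeSpectrum B) ∈ V)
    [FormallyUnramified (V.ι ≫ Spec.map φ)]
    (hone : ∀ s t : Spec (CommRingCat.of (AlgebraicClosure (FractionRing S))) ⟶ Spec B,
      s ≫ Spec.map φ = Spec.map (CommRingCat.ofHom (algebraMap S (AlgebraicClosure (FractionRing S)))) →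
      t ≫ Spec.map φ = Spec.map (CommRingCat.ofHom (algebraMap S (AlgebraicClosure (FractionRing S)))) →
      s = t) :
    IsClosedImmersion (Spec.map φ) := by
  let : Algebra S B := φ.hom.toAlgebra
  have : Module.Finite S B := hfin
  obtain ⟨_, ⟨_, ⟨b, rfl⟩, rfl⟩, hβb, hsub⟩ :=
    PrimeSpectrum.isBasis_basic_opens.exists_subset_of_mem_open hV V.2
  have hb : b ≠ 0 := fun h => hβb (show b ∈ (⊥ : Ideal B) by rw [h]; exact zero_mem _)
  let ι₁ : Spec (CommRingCat.of (Localization.Away b)) ⟶ Spec B :=
    Spec.map (CommRingCat.ofHom (algebraMap B (Localization.Away b)))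
  have : IsOpenImmersion ι₁ := IsOpenImmersion.of_isLocalization b
  have hr : Set.range ι₁ ⊆ Set.range V.ι := by
    rw [Scheme.Opens.range_ι]
    rintro _ ⟨t, rfl⟩
    exact hsub ((PrimeSpectrum.localization_away_comap_range (Localization.Away b) b).le ⟨t, rfl⟩)
  have : Algebra.FormallyUnramified S (Localization.Away b) := by
    have h1 : FormallyUnramified (ι₁ ≫ Spec.map φ) := by
      rw [← IsOpenImmersion.lift_fac V.ι ι₁ hr, Category.assoc]
      exact MorphismProperty.comp_mem @FormallyUnramified _ _ inferInstance inferInstance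
    rw [← Spec.map_comp, HasRingHomProperty.Spec_iff (P := @FormallyUnramified)] at h1
    rw [← RingHom.formallyUnramified_algebraMap]
    exact h1
  have hsurj : Function.Surjective (algebraMap S B) := by
    refine surjective_algebraMap S B hinj b hb fun σ τ hσ hτ => ?_
    have key : ∀ σ : FractionRing B →+* AlgebraicClosure (FractionRing S),
        σ.comp (algebraMap S (FractionRing B)) = algebraMap S _ →
        Spec.map (CommRingCat.ofHom (σ.comp (algebraMap B (FractionRing B)))) ≫ Spec.map φ =
          Spec.map (CommRingCat.ofHom (algebraMap S (AlgebraicClosure (FractionRing S)))) := fun σ hσ => by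
      rw [← Spec.map_comp]
      congr 1
      exact CommRingCat.hom_ext (RingHom.ext fun r => congr($hσ r))
    have h1 := hone _ _ (key σ hσ) (key τ hτ)
    rw [Spec.map_inj] at h1
    exact IsLocalization.ringHom_ext (nonZeroDivisors B) (RingHom.ext fun r => congr($h1 r))
  exact IsClosedImmersion.spec_of_surjective φ hsurj

/-- Basic properties of the strictly henselian point above a geometrically unibranch point. -/
theorem strict_props {Y : Scheme.{u}} [IsIntegral Y] (y : Y)
    [IsDomain (StrictHenselization (Y.presheaf.stalk y))]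
    (p : Spec (CommRingCat.of (StrictHenselization (Y.presheaf.stalk y))) ⟶ Y)
    (hp : p = Spec.map (CommRingCat.ofHom
      (algebraMap (Y.presheaf.stalk y) (StrictHenselization (Y.presheaf.stalk y)))) ≫
        Y.fromSpecStalk y) :
    Flat p ∧ p (closedPoint _) = y ∧
      ∀ P, p P = genericPoint Y ↔ P = (⟨⊥, Ideal.isPrime_bot⟩ : PrimeSpectrum _) := by
  subst hp
  let O := Y.presheaf.stalk y
  let S := StrictHenselization O
  have : Module.FaithfullyFlat O S := Henselian.StrictHenselization.faithfullyFlat O S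
  let a : Spec (CommRingCat.of S) ⟶ Spec O := Spec.map (CommRingCat.ofHom (algebraMap O S))
  have : Flat a := by
    rw [HasRingHomProperty.Spec_iff (P := @Flat)]
    exact (RingHom.flat_algebraMap_iff (R := O) (S := S)).mpr inferInstance
  have : Flat (Y.fromSpecStalk y) := BaseChangeNhd.flat_fromSpecStalk y
  let g₀ : Spec (CommRingCat.of S) := (⟨⊥, Ideal.isPrime_bot⟩ : PrimeSpectrum S)
  have hinj : Function.Injective (algebraMap O S) := FaithfulSMul.algebraMap_injective O S
  have hpg : (a ≫ Y.fromSpecStalk y) g₀ = genericPoint Y := by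
    obtain ⟨q, hq⟩ : genericPoint Y ∈ Set.range (Y.fromSpecStalk y) := by
      rw [Scheme.range_fromSpecStalk]
      exact genericPoint_specializes y
    have h0 : a g₀ ⤳ q := by
      refine (PrimeSpectrum.le_iff_specializes (a g₀ : PrimeSpectrum O) q).mp ?_
      intro x hx
      have h1 : algebraMap O S x = 0 := Ideal.mem_bot.mp hx
      rw [(injective_iff_map_eq_zero _).mp hinj x h1]
      exact zero_mem _
    have h1 := h0.map (Y.fromSpecStalk y).continuous
    rw [hq] at h1
    exact (h1.antisymm (genericPoint_specializes _)).eq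
  refine ⟨inferInstanceAs (Flat (a ≫ Y.fromSpecStalk y)), ?_, fun P => ⟨fun hP => ?_, ?_⟩⟩
  · have h0 : a (closedPoint S) = closedPoint O := IsLocalRing.comap_closedPoint (algebraMap O S)
    rw [Scheme.Hom.comp_apply]
    exact (congrArg (Y.fromSpecStalk y) h0).trans Scheme.fromSpecStalk_closedPoint
  · refine PrimeSpectrum.ext (SepDegreeBound.eq_bot_of_comap_eq_bot O P.asIdeal ?_)
    have h1 : a P = a g₀ := (Y.fromSpecStalk y).isEmbedding.injective (hP.trans hpg.symm)
    have h2 : P.asIdeal.comap (algebraMap O S) = (⊥ : Ideal S).comap (algebraMap O S) :=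
      congrArg PrimeSpectrum.asIdeal h1
    rw [h2, ← RingHom.ker_eq_comap_bot, (RingHom.injective_iff_ker_eq_bot _).mp hinj]
  · rintro rfl; exact hpg

/-- If the geometric fibres at a normal point and at the generic point have the same number of
points, the morphism is unramified along the fibre. -/
theorem exists_unramified_nhd {X Y : Scheme.{u}} [IsIntegral Y] [IsReduced X] (f : X ⟶ Y)
    [LocallyQuasiFinite f] [LocallyOfFiniteType f] [IsSeparated f]
    (hgen : ∀ x : X, ∃ ζ : X, ζ ⤳ x ∧ f ζ = genericPoint Y)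
    (hunr : ∀ x : X, f x = genericPoint Y → ∃ U : X.Opens, x ∈ U ∧ FormallyUnramified (U.ι ≫ f))
    (y : Y) (hy : IsIntegrallyClosed (Y.presheaf.stalk y))
    {k k' : Type u} [Field k] [IsAlgClosed k] [Field k'] [IsAlgClosed k']
    (ξ : Spec (CommRingCat.of k) ⟶ Y) (hξ : pt ξ = y)
    (ξ' : Spec (CommRingCat.of k') ⟶ Y) (hξ' : pt ξ' = genericPoint Y)
    [Finite (Lift f ξ')] [Finite (Lift f ξ)] (hcard : Nat.card (Lift f ξ) = Nat.card (Lift f ξ'))
    (x : X) (hx : f x = y) : ∃ U : X.Opens, x ∈ U ∧ FormallyUnramified (U.ι ≫ f) := by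
  let O := Y.presheaf.stalk y
  have hyu : CAlg2.IsGeomUnibranch O := OneBranch.isGeomUnibranch_of_isIntegrallyClosed O
  have : IsDomain (StrictHenselization O) := SepDegreeBound.isDomain_strict O hyu
  let S := StrictHenselization O
  have : Module.FaithfullyFlat O S := Henselian.StrictHenselization.faithfullyFlat O S
  have : ∀ i : Henselian.Pointed.Pt O (Henselian.StrictHenselization.SK O), IsLocalRing i.Loc :=
    fun i => RingHom.domain_isLocalRing (i.α : i.Loc →+* Henselian.StrictHenselization.SK O)
  have : IsIntegrallyClosed S := Henselian.Normal.isIntegrallyClosed_lim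
  have hS : Hensel.IsStrictHenselization O S := inferInstance
  have := hS.isSepClosure.sep_closed
  let a : Spec (CommRingCat.of S) ⟶ Spec (CommRingCat.of O) :=
    Spec.map (CommRingCat.ofHom (algebraMap O S))
  let p : Spec (CommRingCat.of S) ⟶ Y := a ≫ Y.fromSpecStalk y
  obtain ⟨hflat, hpc, hpg⟩ := strict_props y p rfl
  let g₀ : Spec (CommRingCat.of S) := (⟨⊥, Ideal.isPrime_bot⟩ : PrimeSpectrum S)
  let fT : pullback f p ⟶ Spec (CommRingCat.of S) := pullback.snd f p
  have hc : IsPullback (pullback.fst f p) fT f p := IsPullback.of_hasPullback f p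
  have : LocallyQuasiFinite fT := MorphismProperty.pullback_snd _ _ ‹LocallyQuasiFinite f›
  have : Flat (pullback.fst f p) := inferInstance
  have hz : ∀ w : ↥(pullback f p), ∃ z, z ⤳ w ∧ fT z = g₀ := fun w => by
    obtain ⟨ζ, hζ, hfζ⟩ := hgen (pullback.fst f p w)
    obtain ⟨z, hzw, hzζ⟩ := Flat.generalizingMap (pullback.fst f p) hζ
    refine ⟨z, hzw, (hpg _).mp ?_⟩
    rw [← Scheme.Hom.comp_apply, ← pullback.condition, Scheme.Hom.comp_apply, hzζ, hfζ]
  choose z hzw hzg using hz
  -- the base change is reduced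
  have hloc : IsLocalRing (Y.presheaf.stalk y) := inferInstance
  have : IsReduced (pullback f p) := by
    let XO := pullback f (Y.fromSpecStalk y)
    have : ∀ t : ↥XO, _root_.IsReduced (XO.presheaf.stalk t) := fun t => by
      have := S4366.result f y t
      exact isReduced_of_injective (inv ((pullback.fst f (Y.fromSpecStalk y)).stalkMap t)).hom
        (ConcreteCategory.bijective_of_isIso _).1
    have : IsReduced XO := isReduced_of_isReduced_stalk _
    have : IsReduced (pullback (pullback.snd f (Y.fromSpecStalk y)) a) :=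
      @isReduced_pullback_strict XO ‹AlgebraicGeometry.IsReduced XO› (Y.presheaf.stalk y) _ hloc (pullback.snd f (Y.fromSpecStalk y))
    exact isReduced_of_isOpenImmersion (pullbackLeftPullbackSndIso f (Y.fromSpecStalk y) a).inv
  -- geometric points of `S`
  let K := AlgebraicClosure (ResidueField S)
  let ρ : Spec (CommRingCat.of (ResidueField S)) ⟶ Spec (CommRingCat.of S) :=
    Spec.map (CommRingCat.ofHom (residue S))
  let χ₀ : Spec (CommRingCat.of K) ⟶ Spec (CommRingCat.of (ResidueField S)) :=
    Spec.map (CommRingCat.ofHom (algebraMap (ResidueField S) K))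
  have hχ₀ : pt (χ₀ ≫ ρ) = closedPoint S := by
    rw [pt_comp, Subsingleton.elim (α := PrimeSpectrum (ResidueField S)) (pt χ₀) (closedPoint _)]
    exact IsLocalRing.comap_closedPoint (residue S)
  let χ' : Spec (CommRingCat.of (AlgebraicClosure (FractionRing S))) ⟶ Spec (CommRingCat.of S) :=
    Spec.map (CommRingCat.ofHom (algebraMap S (AlgebraicClosure (FractionRing S))))
  have hχ' : pt χ' = g₀ := by
    refine PrimeSpectrum.ext ?_
    change (maximalIdeal _).comap (algebraMap S (AlgebraicClosure (FractionRing S))) = ⊥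
    rw [IsLocalRing.maximalIdeal_eq_bot, ← RingHom.ker_eq_comap_bot]
    refine (RingHom.injective_iff_ker_eq_bot _).mp ?_
    rw [IsScalarTower.algebraMap_eq S (FractionRing S) (AlgebraicClosure (FractionRing S))]
    rw [RingHom.coe_comp]
    exact (algebraMap (FractionRing S) (AlgebraicClosure (FractionRing S))).injective.comp
      (IsFractionRing.injective S (FractionRing S))
  have e1 : ENat.card (Lift fT χ') = ENat.card (Lift f ξ') :=
    (ENat.card_congr (baseChangeEquiv hc χ')).trans
      (GeomCount.card_lift_congr f _ _ (by rw [pt_comp, hχ', (hpg g₀).mpr rfl, hξ']))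
  have e0 : ENat.card (Lift fT (χ₀ ≫ ρ)) = ENat.card (Lift f ξ) :=
    (ENat.card_congr (baseChangeEquiv hc (χ₀ ≫ ρ))).trans
      (GeomCount.card_lift_congr f _ _ (by rw [pt_comp, hχ₀, hpc, hξ]))
  have : Finite (Lift fT χ') := ENat.card_lt_top.mp (e1 ▸ ENat.card_lt_top.mpr inferInstance)
  have : Finite (Lift fT (χ₀ ≫ ρ)) := ENat.card_lt_top.mp (e0 ▸ ENat.card_lt_top.mpr inferInstance)
  rw [ENat.card_eq_coe_natCard, ENat.card_eq_coe_natCard, Nat.cast_inj] at e0 e1
  have : IsClosedImmersion ρ := IsClosedImmersion.spec_of_surjective _ residue_surjective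
  let q : pullback fT ρ ⟶ Spec (CommRingCat.of (ResidueField S)) := pullback.snd fT ρ
  have hcq : IsPullback (pullback.fst fT ρ) q fT ρ := IsPullback.of_hasPullback fT ρ
  have : LocallyQuasiFinite q := MorphismProperty.pullback_snd _ _ ‹LocallyQuasiFinite fT›
  have hptinj : Function.Injective fun s : Lift fT (χ₀ ≫ ρ) => pt s.1 := by
    intro s t hst
    obtain ⟨s, rfl⟩ := (baseChangeEquiv hcq χ₀).surjective s
    obtain ⟨t, rfl⟩ := (baseChangeEquiv hcq χ₀).surjective t
    refine congrArg _ ((GeomCount.bijective_pt q).1 ?_)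
    exact (pullback.fst fT ρ).isClosedEmbedding.injective hst
  choose F hF using fun s : Lift fT (χ₀ ≫ ρ) =>
    exists_lift fT χ' _ ((hzg (pt s.1)).trans hχ'.symm)
  have hFinj : Function.Injective F := by
    intro s t hst
    apply hptinj
    have hz' : z (pt s.1) = z (pt t.1) := by rw [← hF s, ← hF t, hst]
    exact SepDegreeBound.eq_of_specializes fT ((apply_pt s).trans hχ₀) ((apply_pt t).trans hχ₀)
      (hzw (pt s.1)) (hz' ▸ hzw (pt t.1))
  have hFbij : Function.Bijective F := by
    have := Fintype.ofFinite (Lift fT (χ₀ ≫ ρ))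
    have := Fintype.ofFinite (Lift fT χ')
    rw [Fintype.bijective_iff_injective_and_card, ← Nat.card_eq_fintype_card,
      ← Nat.card_eq_fintype_card, e0, e1]
    exact ⟨hFinj, hcard⟩
  -- at most one geometric generic point specializes to a given closed point
  have huniq : ∀ w, fT w = closedPoint S → ∀ t t' : Lift fT χ', pt t.1 ⤳ w → pt t'.1 ⤳ w → t = t' := by
    intro w hw t t' ht ht'
    obtain ⟨s, rfl⟩ := hFbij.2 t
    obtain ⟨s', rfl⟩ := hFbij.2 t'
    rw [hF] at ht ht'
    have h1 := SepDegreeBound.eq_of_specializes fT ((apply_pt s).trans hχ₀) hw (hzw (pt s.1)) ht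
    have h2 := SepDegreeBound.eq_of_specializes fT ((apply_pt s').trans hχ₀) hw (hzw (pt s'.1)) ht'
    rw [hptinj (h1.trans h2.symm)]
  -- a point above `x`
  obtain ⟨w, hwx, hwc⟩ := Scheme.Pullback.exists_preimage_pullback (f := f) (g := p) x
    (closedPoint S) (hx.trans hpc.symm)
  change fT w = closedPoint S at hwc
  subst hwx
  refine BaseChangeNhdFT.exists_unramified_nhd f p w ?_
  -- an affine neighbourhood with a single point in the closed fibre
  have hfib : (fT ⁻¹' {closedPoint S}).Finite := by
    rw [← hχ₀]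
    exact finite_fibre fT (χ₀ ≫ ρ)
  have hclosed : ∀ v, fT v = closedPoint S → IsClosed ({v} : Set ↑(pullback f p)) := fun v hv => by
    rw [← closure_subset_iff_isClosed]
    intro v' hv'
    have h : v ⤳ v' := specializes_iff_mem_closure.mpr hv'
    have hv'c : fT v' = closedPoint S := by
      have h1 := h.map fT.continuous
      rw [hv] at h1
      exact ((IsLocalRing.specializes_closedPoint (fT v')).antisymm h1).eq
    exact (SepDegreeBound.eq_of_specializes fT hv hv'c specializes_rfl h).symm
  let bad : Set ↑(pullback f p) := (fT ⁻¹' {closedPoint S}) \ {w}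
  have hbad : IsClosed bad := by
    rw [← Set.biUnion_of_singleton bad]
    exact Set.Finite.isClosed_biUnion (hfib.subset fun v hv => hv.1) fun v hv => hclosed v hv.1
  obtain ⟨U, hU, hwU, hUbad⟩ := exists_isAffineOpen_mem_and_subset (x := w)
    (U := (⟨badᶜ, hbad.isOpen_compl⟩ : (pullback f p).Opens)) (fun h => h.2 rfl)
  have : CompactSpace ↥U := isCompact_iff_compactSpace.mp hU.isCompact
  have : QuasiCompact (U.ι ≫ fT) := HasAffineProperty.iff_of_isAffine.mpr this
  obtain ⟨W₀, ⟨-, hW₀fin, hW₀⟩, -⟩ := Henselian.FinitePart.existsUnique_finitePart (U.ι ≫ fT)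
  let W : (pullback f p).Opens := U.ι ''ᵁ W₀
  have hWfin : IsFinite (W.ι ≫ fT) := by
    have : W.ι ≫ fT = (U.ι.isoImage W₀).inv ≫ W₀.ι ≫ U.ι ≫ fT := by
      rw [Scheme.Hom.isoImage_inv_ι_assoc]
    rw [this]
    exact (MorphismProperty.cancel_left_of_respectsIso @IsFinite _ _).mpr hW₀fin
  have hwW : w ∈ W := ⟨⟨w, hwU⟩, hW₀ _ hwc, rfl⟩
  refine ⟨W, hwW, ?_⟩
  suffices IsClosedImmersion (W.ι ≫ fT) from inferInstance
  have honly : ∀ v : W, fT v.1 = closedPoint S → v.1 = w := fun v hv => by
    obtain ⟨⟨v', hv'U⟩, -, hv'⟩ := v.2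
    by_contra hne
    have hv'' : v' = v.1 := hv'
    exact hUbad (hv'' ▸ hv'U) ⟨hv, hne⟩
  -- every point of `W` specializes to `w`
  have hspec : ∀ c : W, c.1 ⤳ w := fun c => by
    obtain ⟨v, hv, hvc⟩ : closedPoint S ∈ (W.ι ≫ fT) '' closure {c} :=
      (IsLocalRing.specializes_closedPoint ((W.ι ≫ fT) c)).mem_closed
        ((W.ι ≫ fT).isClosedMap _ isClosed_closure) ⟨c, subset_closure rfl, rfl⟩
    have h := (specializes_iff_mem_closure.mpr hv).map W.ι.continuous
    rwa [show W.ι v = w from honly v hvc] at h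
  obtain ⟨t₀, ht₀⟩ := exists_lift fT χ' (z w) ((hzg w).trans hχ'.symm)
  let c₀ : W := ⟨z w, (hzw w).mem_open W.isOpen hwW⟩
  have hgenW : ∀ c : W, c₀ ⤳ c := fun c => by
    obtain ⟨t, ht⟩ := exists_lift fT χ' (z c.1) ((hzg c.1).trans hχ'.symm)
    have := huniq w hwc t₀ t (ht₀ ▸ hzw w) (ht ▸ (hzw c.1).trans (hspec c))
    refine W.ι.isOpenEmbedding.isInducing.specializes_iff.mp ?_
    change z w ⤳ c.1
    rw [← ht₀, this, ht]
    exact hzw c.1
  have : IrreducibleSpace (W : Scheme.{u}) := by
    have hcl : closure ({c₀} : Set (W : Scheme.{u})) = ⊤ :=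
      Set.eq_univ_of_forall fun c => specializes_iff_mem_closure.mp (hgenW c)
    refine (irreducibleSpace_def _).mpr ?_
    rw [← hcl]
    exact isIrreducible_singleton.closure
  have : IsReduced (W : Scheme.{u}) := inferInstance
  have : IsIntegral (W : Scheme.{u}) := isIntegral_of_irreducibleSpace_of_isReduced _
  have : IsAffine (W : Scheme.{u}) := isAffine_of_isAffineHom (W.ι ≫ fT)
  let e := (W : Scheme.{u}).isoSpec
  let B := Γ((W : Scheme.{u}), ⊤)
  obtain ⟨φ, hφ⟩ := Spec.map_surjective (e.inv ≫ W.ι ≫ fT)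
  suffices IsClosedImmersion (Spec.map φ) by
    have h : W.ι ≫ fT = e.hom ≫ Spec.map φ := by rw [hφ, Iso.hom_inv_id_assoc]
    rw [h]; infer_instance
  have hfin : φ.hom.Finite := by
    rw [← IsFinite.SpecMap_iff, hφ]
    infer_instance
  let : Algebra S B := φ.hom.toAlgebra
  have : Module.Finite S B := hfin
  have : Nonempty (⊤ : (W : Scheme.{u}).Opens) := ⟨⟨c₀, trivial⟩⟩
  have : IsDomain B := inferInstance
  -- the generic point
  let β : Spec B := (⟨⊥, Ideal.isPrime_bot⟩ : PrimeSpectrum B)
  have hβ : e.inv β = c₀ := by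
    have h1 : β ⤳ e.hom c₀ := (PrimeSpectrum.le_iff_specializes (β : PrimeSpectrum B) _).mp bot_le
    have h2 := h1.map e.inv.continuous
    rw [← Scheme.Hom.comp_apply, Iso.hom_inv_id] at h2
    exact (h2.antisymm (hgenW _)).eq
  have hφinj : Function.Injective (algebraMap S B) := by
    rw [RingHom.injective_iff_ker_eq_bot, RingHom.ker_eq_comap_bot]
    have h1 : Spec.map φ β = g₀ := by
      rw [hφ, Scheme.Hom.comp_apply, hβ]
      exact hzg w
    exact congrArg PrimeSpectrum.asIdeal h1
  obtain ⟨U₁, hxU₁, hU₁⟩ := hunr (pullback.fst f p (z w)) (by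
    rw [← Scheme.Hom.comp_apply, pullback.condition, Scheme.Hom.comp_apply]
    exact (hpg _).mpr (hzg w))
  let P₁ : (pullback f p).Opens := pullback.fst f p ⁻¹ᵁ U₁
  have hP₁ : FormallyUnramified (P₁.ι ≫ fT) :=
    MorphismProperty.of_isPullback
      ((isPullback_morphismRestrict (pullback.fst f p) U₁).paste_vert (IsPullback.of_hasPullback f p))
      hU₁
  have hβP : β ∈ (e.inv ≫ W.ι) ⁻¹ᵁ P₁ := by
    change (e.inv ≫ W.ι) β ∈ P₁
    rw [Scheme.Hom.comp_apply, hβ]
    exact hxU₁
  let V : (Spec B).Opens := (e.inv ≫ W.ι) ⁻¹ᵁ P₁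
  have hr : Set.range (V.ι ≫ e.inv ≫ W.ι) ⊆ Set.range P₁.ι := by
    rw [Scheme.Opens.range_ι]
    rintro _ ⟨t, rfl⟩
    exact t.2
  have : FormallyUnramified (V.ι ≫ Spec.map φ) := by
    rw [hφ, ← Category.assoc e.inv, ← Category.assoc V.ι,
      ← IsOpenImmersion.lift_fac P₁.ι (V.ι ≫ e.inv ≫ W.ι) hr, Category.assoc]
    exact MorphismProperty.comp_mem @FormallyUnramified _ _ inferInstance hP₁
  refine isClosedImmersion_specMap S φ hfin hφinj V hβP fun s t hs ht => ?_
  let mk : ∀ s : Spec (CommRingCat.of (AlgebraicClosure (FractionRing S))) ⟶ Spec B,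
      s ≫ Spec.map φ = χ' → Lift fT χ' := fun s hs =>
    ⟨(s ≫ e.inv) ≫ W.ι, by rw [Category.assoc, Category.assoc, ← hφ, hs]⟩
  have hmk : ∀ s hs, pt (mk s hs).1 ⤳ w := fun s hs => hspec _
  have h := congrArg Subtype.val (huniq w hwc (mk s hs) (mk t ht) (hmk s hs) (hmk t ht))
  exact (cancel_mono e.inv).mp ((cancel_mono W.ι).mp h)

end Groth.Agent.Lib.Unram.SepDegreeEq
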