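import Groth.Agent.Lib.FEt.NormalAlg
import Mathlib.RingTheory.Etale.Basic
import Mathlib.RingTheory.QuasiFinite.Basic
import Mathlib.RingTheory.Flat.Stability
import Mathlib.RingTheory.Ideal.GoingDown
import Mathlib.RingTheory.Algebraic.Integral
import Mathlib.RingTheory.LocalProperties.IntegrallyClosed

/-!
# Integral closure in a compositum with an unramified extension
-/

set_option autoImplicit false

universe u

open scoped TensorProduct

namespace Groth.Agent.Lib.Unram.Compositum

variable {R T : Type u} [CommRing R] [IsDomain R] [IsIntegrallyClosed R] [CommRing T] [Algebra R T]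
  [Algebra.Etale R T]

/-- In an étale algebra over a normal domain, a prime over zero is generated by an idempotent. -/
theorem exists_idempotent (P : Ideal T) [P.IsPrime] (hP : P.comap (algebraMap R T) = ⊥) :
    ∃ e : T, IsIdempotentElem e ∧ P = Ideal.span {1 - e} := by
  classical
  have hQF : Algebra.QuasiFinite R T := inferInstance
  have hbot : ∀ Q ∈ minimalPrimes T, Q.comap (algebraMap R T) = ⊥ := fun Q hQ => by
    have := hQ.1.1
    obtain ⟨Q', hQ', hQ'p, hcomap⟩ := Ideal.exists_ideal_le_liesOver_of_le (S := T)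
      (p := (⊥ : Ideal R)) (q := Q.comap (algebraMap R T)) Q bot_le
    have hle : Q ≤ Q' := hQ.2 ⟨hQ'p, bot_le⟩ hQ'
    rw [le_antisymm hle hQ']
    exact hcomap.over.symm
  have hfin : (minimalPrimes T).Finite := by
    have h1 := Algebra.QuasiFinite.finite_primesOver (R := R) (S := T) (⊥ : Ideal R)
    exact h1.subset fun Q hQ => ⟨hQ.1.1, ⟨(hbot Q hQ).symm⟩⟩
  have hPmin : P ∈ minimalPrimes T := by
    refine ⟨⟨‹_›, bot_le⟩, fun Q hQ hle => ?_⟩
    have := hQ.1
    have hQ0 : Q.comap (algebraMap R T) = ⊥ := le_bot_iff.mp (hP ▸ Ideal.comap_mono hle)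
    exact (Algebra.QuasiFinite.eq_of_le_of_under_eq (R := R) Q P hle (hQ0.trans hP.symm)).ge
  have hdom : ∀ (m : Ideal T) [m.IsPrime], IsDomain (Localization.AtPrime m) := fun m _ =>
    (FEt.NormalAlg.normal_localization (R := R) T m (Localization.AtPrime m)).1
  have huniq : ∀ (m : Ideal T) [m.IsPrime], ∀ Q ∈ minimalPrimes T, Q ≤ m →
      Q = RingHom.ker (algebraMap T (Localization.AtPrime m)) := by
    intro m _ Q hQ hle
    have := hdom m
    have h2 : RingHom.ker (algebraMap T (Localization.AtPrime m)) ≤ Q := fun c hc => by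
      obtain ⟨s, hs⟩ := (IsLocalization.map_eq_zero_iff m.primeCompl _ c).mp hc
      exact (hQ.1.1.mem_or_mem (by rw [hs]; exact Q.zero_mem)).resolve_left fun h => s.2 (hle h)
    exact le_antisymm (hQ.2 ⟨RingHom.ker_isPrime _, bot_le⟩ h2) h2
  have hred : nilradical T = ⊥ := by
    refine le_bot_iff.mp fun x hx => ?_
    by_contra hne
    rw [Ideal.mem_bot] at hne
    have hann : (Submodule.span T {x}).annihilator ≠ ⊤ := fun h => by
      have h1 : (1 : T) ∈ (Submodule.span T {x}).annihilator := h ▸ trivial
      rw [Submodule.mem_annihilator_span_singleton, one_smul] at h1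
      exact hne h1
    obtain ⟨m, hm, hle⟩ := Ideal.exists_le_maximal _ hann
    have := hdom m
    have h0 : algebraMap T (Localization.AtPrime m) x = 0 :=
      ((mem_nilradical.mp hx).map _).eq_zero
    obtain ⟨s, hs⟩ := (IsLocalization.map_eq_zero_iff m.primeCompl _ x).mp h0
    exact s.2 (hle ((Submodule.mem_annihilator_span_singleton x (s : T)).mpr hs))
  let S := hfin.toFinset.erase P
  have hcop : P ⊔ ⨅ Q ∈ S, Q = ⊤ := by
    refine Ideal.sup_iInf_eq_top fun Q hQ => ?_
    simp only [S, Finset.mem_erase, Set.Finite.mem_toFinset] at hQ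
    by_contra hne
    obtain ⟨m, hm, hle⟩ := Ideal.exists_le_maximal _ hne
    exact hQ.1 ((huniq m Q hQ.2 (le_sup_right.trans hle)).trans
      (huniq m P hPmin (le_sup_left.trans hle)).symm)
  obtain ⟨a, ha, e, he, hae⟩ := Submodule.mem_sup.mp ((Ideal.eq_top_iff_one _).mp hcop)
  have hzero : ∀ x ∈ P, x * e = 0 := fun x hx => by
    have : x * e ∈ nilradical T := by
      rw [nilradical, Ideal.radical_eq_sInf, Submodule.mem_sInf]
      rintro Q ⟨-, hQ⟩
      obtain ⟨Q', hQ', hQ'Q⟩ := Ideal.exists_minimalPrimes_le (bot_le : (⊥ : Ideal T) ≤ Q)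
      refine hQ'Q ?_
      by_cases h : Q' = P
      · exact h ▸ Ideal.mul_mem_right _ _ hx
      · refine Ideal.mul_mem_left _ _ ?_
        simp only [Submodule.mem_iInf] at he
        exact he Q' (by simp only [S, Finset.mem_erase, Set.Finite.mem_toFinset]; exact ⟨h, hQ'⟩)
    rwa [hred, Ideal.mem_bot] at this
  have hidem : IsIdempotentElem e := by
    have h := hzero a ha
    have h1 : e = (a + e) * e := by rw [hae, one_mul]
    rw [add_mul, h, zero_add] at h1
    exact h1.symm
  refine ⟨e, hidem, le_antisymm (fun x hx => ?_) ?_⟩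
  · rw [Ideal.mem_span_singleton]
    exact ⟨x, by rw [sub_mul, one_mul, mul_comm e x, hzero x hx, sub_zero]⟩
  · rw [Ideal.span_le, Set.singleton_subset_iff, ← hae, add_sub_cancel_right]
    exact ha

/-- The integral component cut out by a prime over zero is étale. -/
theorem etale_quotient (P : Ideal T) [P.IsPrime] (hP : P.comap (algebraMap R T) = ⊥) :
    Algebra.Etale R (T ⧸ P) := by
  obtain ⟨e, hidem, hPe⟩ := exists_idempotent (R := R) P hP
  have : IsLocalization.Away e (T ⧸ P) := by
    refine IsLocalization.away_of_isIdempotentElem hidem ?_ Ideal.Quotient.mk_surjective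
    rw [Ideal.Quotient.algebraMap_eq, Ideal.mk_ker, hPe]
  have : Algebra.Etale T (T ⧸ P) := Algebra.Etale.of_isLocalizationAway e
  exact Algebra.Etale.comp R T (T ⧸ P)

theorem isIntegrallyClosed_of_etale (R T : Type u) [CommRing R] [IsDomain R] [IsIntegrallyClosed R]
    [CommRing T] [Algebra R T] [Algebra.Etale R T] [IsDomain T] : IsIntegrallyClosed T :=
  IsIntegrallyClosed.of_localization_maximal fun m _ _ =>
    (FEt.NormalAlg.normal_localization (R := R) T m (Localization.AtPrime m)).2

section Main

variable (A A' L L₁ : Type u) [CommRing A] [IsDomain A]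
    [IsIntegrallyClosed A] [CommRing A'] [IsDomain A'] [IsIntegrallyClosed A'] [Algebra A A']
    [Field L] [Algebra A L] [Algebra.IsAlgebraic A L]
    [Algebra.Etale A ↥(integralClosure A L)]
    [Field L₁] [Algebra A' L₁] [Algebra L L₁] [Algebra A L₁] [IsScalarTower A A' L₁] [IsScalarTower A L L₁]

theorem main (hinj : Function.Injective (algebraMap A L))
    (hinj' : Function.Injective (algebraMap A' L₁))
    (hgen : Subfield.closure (Set.range (algebraMap A' L₁) ∪ Set.range (algebraMap L L₁)) = ⊤) :
    Algebra.Etale A' ↥(integralClosure A' L₁) ∧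
      integralClosure A' L₁ = Algebra.adjoin A' ((algebraMap L L₁) '' {x : L | IsIntegral A x}) := by
  classical
  let C := integralClosure A L
  let j : C →ₐ[A] L₁ := (IsScalarTower.toAlgHom A L L₁).comp C.val
  let Φ : A' ⊗[A] C →ₐ[A'] L₁ :=
    Algebra.TensorProduct.lift (Algebra.ofId A' L₁) j fun _ _ => Commute.all _ _
  let P : Ideal (A' ⊗[A] C) := RingHom.ker Φ
  have : P.IsPrime := RingHom.ker_isPrime _
  have hP : P.comap (algebraMap A' (A' ⊗[A] C)) = ⊥ := by
    refine le_bot_iff.mp fun a ha => ?_
    have h1 : Φ (algebraMap A' _ a) = 0 := ha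
    rw [AlgHom.commutes] at h1
    exact hinj' (h1.trans (map_zero _).symm)
  have hetq : Algebra.Etale A' ((A' ⊗[A] C) ⧸ P) := etale_quotient P hP
  have hDeq : Φ.range = Algebra.adjoin A' ((algebraMap L L₁) '' {x : L | IsIntegral A x}) := by
    refine le_antisymm ?_ (Algebra.adjoin_le ?_)
    · rintro _ ⟨t, rfl⟩
      induction t using TensorProduct.induction_on with
      | zero => exact (map_zero Φ).symm ▸ Subalgebra.zero_mem _
      | add x y hx hy => exact (map_add Φ x y).symm ▸ Subalgebra.add_mem _ hx hy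
      | tmul a c =>
        change Φ (a ⊗ₜ c) ∈ _
        rw [Algebra.TensorProduct.lift_tmul]
        exact Subalgebra.mul_mem _ (Subalgebra.algebraMap_mem _ a)
          (Algebra.subset_adjoin ⟨c.1, c.2, rfl⟩)
    · rintro _ ⟨x, hx, rfl⟩
      refine ⟨1 ⊗ₜ ⟨x, hx⟩, ?_⟩
      change Φ _ = _
      rw [Algebra.TensorProduct.lift_tmul, map_one, one_mul]
      rfl
  have hker : P = RingHom.ker Φ.rangeRestrict := by
    ext t
    exact (RingHom.mem_ker).trans ((Subtype.ext_iff (a1 := Φ.rangeRestrict t) (a2 := 0)).symm.trans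
      RingHom.mem_ker.symm)
  let eqv : ((A' ⊗[A] C) ⧸ P) ≃ₐ[A'] Φ.range :=
    (Ideal.quotientEquivAlgOfEq A' hker).trans
      (Ideal.quotientKerAlgEquivOfSurjective (f := Φ.rangeRestrict) Φ.rangeRestrict_surjective)
  have hetD : Algebra.Etale A' Φ.range := Algebra.Etale.of_equiv (A := (A' ⊗[A] C) ⧸ P) eqv
  have : IsIntegrallyClosed Φ.range := isIntegrallyClosed_of_etale A' Φ.range
  have hint : ∀ d : Φ.range, IsIntegral A' (d : L₁) := by
    rintro ⟨_, t, rfl⟩
    change IsIntegral A' (Φ t)
    induction t using TensorProduct.induction_on with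
    | zero => rw [map_zero]; exact isIntegral_zero
    | add x y hx hy => rw [map_add]; exact hx.add hy
    | tmul a c =>
      rw [Algebra.TensorProduct.lift_tmul]
      exact isIntegral_algebraMap.mul ((c.2.map (IsScalarTower.toAlgHom A L L₁)).tower_top)
  have hinjD : Function.Injective (Φ.range.val : Φ.range →+* L₁) := Subtype.val_injective
  let F : FractionRing Φ.range →+* L₁ := IsFractionRing.lift hinjD
  have hFsurj : Function.Surjective F := by
    have htop : (⊤ : Subfield L₁) ≤ F.fieldRange := by
      rw [← hgen, Subfield.closure_le]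
      rintro z (⟨a, rfl⟩ | ⟨l, rfl⟩)
      · exact ⟨algebraMap Φ.range _ (algebraMap A' Φ.range a),
          IsFractionRing.lift_algebraMap hinjD _⟩
      · obtain ⟨a, ha, hint'⟩ := (Algebra.IsAlgebraic.isAlgebraic (R := A) l).exists_integral_multiple
        have hmem : algebraMap L L₁ (a • l) ∈ Φ.range :=
          hDeq ▸ Algebra.subset_adjoin ⟨a • l, hint', rfl⟩
        refine ⟨algebraMap Φ.range _ ⟨_, hmem⟩ /
          algebraMap Φ.range _ (algebraMap A' Φ.range (algebraMap A A' a)), ?_⟩
        rw [map_div₀, IsFractionRing.lift_algebraMap, IsFractionRing.lift_algebraMap]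
        change algebraMap L L₁ (a • l) / algebraMap A' L₁ (algebraMap A A' a) = _
        have h0 : algebraMap L L₁ (algebraMap A L a) ≠ 0 :=
          (map_ne_zero _).mpr fun h => ha (hinj (h.trans (map_zero _).symm))
        rw [← IsScalarTower.algebraMap_apply A A' L₁, IsScalarTower.algebraMap_apply A L L₁,
          Algebra.smul_def, map_mul, mul_div_cancel_left₀ _ h0]
    exact fun z => htop trivial
  have heq : integralClosure A' L₁ = Φ.range := by
    refine le_antisymm (fun x hx => ?_) fun x hx => hint ⟨x, hx⟩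
    obtain ⟨z, rfl⟩ := hFsurj x
    let Fa : FractionRing Φ.range →ₐ[A'] L₁ :=
      { toRingHom := F
        commutes' := fun a => by
          change F (algebraMap A' (FractionRing Φ.range) a) = _
          rw [IsScalarTower.algebraMap_apply A' Φ.range (FractionRing Φ.range)]
          exact IsFractionRing.lift_algebraMap hinjD _ }
    have hz : IsIntegral A' z := (isIntegral_algHom_iff Fa Fa.injective).mp hx
    obtain ⟨d, rfl⟩ := IsIntegrallyClosed.isIntegral_iff.mp (hz.tower_top (A := Φ.range))
    have hd : F (algebraMap Φ.range _ d) = (d : L₁) := IsFractionRing.lift_algebraMap hinjD d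
    rw [hd]
    exact d.2
  refine ⟨?_, heq.trans hDeq⟩
  rw [heq]
  exact hetD

end Main

end Groth.Agent.Lib.Unram.Compositum
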