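import Groth.Agent.Lib.Unram.UnibranchEtaleAlg
import Groth.Agent.Lib.Unram.UnibranchBirational
import Groth.Agent.Lib.Henselian.Permanence
import Groth.Agent.Lib.WeaklyEt.OverField
import Mathlib.AlgebraicGeometry.Noetherian

/-!
# Geometric unibranchness and punctured spectra of strict henselizations
-/

set_option autoImplicit false

universe u

open IsLocalRing CategoryTheory AlgebraicGeometry
open scoped TensorProduct

namespace Groth.Agent.Lib.Unram.PuncturedStrict

open Henselian.StrictHenselization (StrictHenselization)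

/-- Residue extensions of local ind-étale algebras are separable. -/
theorem isSeparable_residue (A B : Type u) [CommRing A] [IsLocalRing A] [CommRing B] [IsLocalRing B]
    [Algebra A B] [IsLocalHom (algebraMap A B)] (hind : EtPBC.IsIndEtale A B) :
    Algebra.IsSeparable (ResidueField A) (ResidueField B) := by
  let F := ResidueField A ⊗[A] B
  have : Algebra.WeaklyEtale (ResidueField A) F :=
    IndEtale.Basic.weaklyEtale (IndEtale.Basic.baseChange (ResidueField A) hind)
  let φ : F →ₐ[ResidueField A] ResidueField B := Algebra.TensorProduct.lift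
    (Algebra.ofId (ResidueField A) (ResidueField B))
    (IsScalarTower.toAlgHom A B (ResidueField B)) fun _ _ => Commute.all _ _
  have hφ : Function.Surjective φ := fun x => by
    obtain ⟨b, rfl⟩ := residue_surjective x
    refine ⟨1 ⊗ₜ b, ?_⟩
    refine (Algebra.TensorProduct.lift_tmul _ _ _ (1 : ResidueField A) b).trans ?_
    rw [map_one, one_mul]
    rfl
  have := WeaklyEt.OverField.of_surjective (ResidueField A) φ hφ
  exact WeaklyEt.OverField.isSeparable_field (ResidueField A) (ResidueField B)

/-- One branch: the punctured spectrum is connected. -/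
theorem connectedSpace_punctured (A : Type u) [CommRing A] [IsLocalRing A]
    (hA : CAlg2.IsGeomUnibranch A) (hdim : maximalIdeal A ∉ minimalPrimes A)
    (S : Type u) [CommRing S] [IsLocalRing S] [Algebra A S] [IsLocalHom (algebraMap A S)]
    [Hensel.IsStrictHenselization A S] :
    ConnectedSpace ↥({closedPoint S}ᶜ : Set (PrimeSpectrum S)) := by
  have h1 := BranchHenselian.card_minimalPrimes_strictHenselization A S
  rw [(OneBranch.numGeomBranches_eq_one_iff A).mpr hA, ENat.card_coe_set_eq, Set.encard_eq_one] at h1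
  obtain ⟨P, hP⟩ := h1
  have hPm : P ∈ minimalPrimes S := hP ▸ rfl
  let η : PrimeSpectrum S := ⟨P, hPm.1.1⟩
  have hη : η ≠ closedPoint S := by
    intro h
    have hP' : P = maximalIdeal S := congrArg PrimeSpectrum.asIdeal h
    have := Henselian.StrictHenselization.flat A S
    have h2 := BranchHenselian.comap_minimalPrime_mem A S hPm
    rw [hP', ((local_hom_TFAE (algebraMap A S)).out 0 4 rfl rfl).mp inferInstance] at h2
    exact hdim h2
  have hspec : ∀ x : PrimeSpectrum S, η ⤳ x := fun x => by
    have := x.isPrime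
    obtain ⟨Q, hQ, hQx⟩ := Ideal.exists_minimalPrimes_le (I := (⊥ : Ideal S)) (J := x.asIdeal) bot_le
    have hQ' : Q ∈ minimalPrimes S := hQ
    rw [hP, Set.mem_singleton_iff] at hQ'
    subst hQ'
    exact (PrimeSpectrum.le_iff_specializes η x).mp hQx
  exact isConnected_iff_connectedSpace.mp ⟨⟨η, hη⟩,
    isPreconnected_singleton.subset_closure (Set.singleton_subset_iff.mpr hη)
      fun x _ => (hspec x).mem_closure⟩

/-- Connectedness of the punctured spectrum, given unibranchness at proper generizations. -/
theorem isGeomUnibranch_of_connected (R : Type u) [CommRing R] [IsNoetherianRing R] (p : Ideal R) [p.IsPrime]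
    (A : Type u) [CommRing A] [IsLocalRing A] [Algebra R A] [IsLocalization.AtPrime A p]
    (S : Type u) [CommRing S] [IsLocalRing S] [Algebra A S] [IsLocalHom (algebraMap A S)]
    [Hensel.IsStrictHenselization A S]
    (hind : EtPBC.IsIndEtale A S)
    (hlt : ∀ (q : Ideal R) [q.IsPrime], q < p → CAlg2.IsGeomUnibranch (Localization.AtPrime q))
    (hc : _root_.IsPreconnected ({closedPoint S}ᶜ : Set (PrimeSpectrum S))) :
    CAlg2.IsGeomUnibranch A := by
  classical
  have : IsNoetherianRing A := IsLocalization.isNoetherianRing p.primeCompl A inferInstance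
  have : IsNoetherianRing S := Henselian.Permanence.strict_isNoetherianRing A S
  rw [← OneBranch.numGeomBranches_eq_one_iff, ← BranchHenselian.card_minimalPrimes_strictHenselization A S,
    ENat.card_coe_set_eq, Set.encard_eq_one]
  obtain ⟨P, hP, -⟩ := Ideal.exists_minimalPrimes_le (I := (⊥ : Ideal S)) (J := maximalIdeal S) bot_le
  refine ⟨P, subset_antisymm (fun Q hQ => by_contra fun hQP => ?_) (Set.singleton_subset_iff.mpr hP)⟩
  rw [Set.mem_singleton_iff] at hQP
  have hnmax : ∀ M ∈ minimalPrimes S, M ≠ maximalIdeal S := fun M hM hMmax => hQP <| by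
    have hall : ∀ N ∈ minimalPrimes S, N = M := fun N hN =>
      le_antisymm ((le_maximalIdeal hN.1.1.ne_top).trans hMmax.ge)
        (hM.2 ⟨hN.1.1, bot_le⟩ ((le_maximalIdeal hN.1.1.ne_top).trans hMmax.ge))
    rw [hall Q hQ, hall P hP]
  have hfin := minimalPrimes.finite_of_isNoetherianRing S
  let Z₁ : Set (PrimeSpectrum S) := PrimeSpectrum.zeroLocus (P : Set S)
  let Z₂ : Set (PrimeSpectrum S) := ⋃ M ∈ minimalPrimes S \ {P}, PrimeSpectrum.zeroLocus ((M : Ideal S) : Set S)
  have hZ₂ : IsClosed Z₂ :=
    Set.Finite.isClosed_biUnion (hfin.subset Set.sdiff_subset) fun M _ => PrimeSpectrum.isClosed_zeroLocus _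
  let ηP : PrimeSpectrum S := ⟨P, hP.1.1⟩
  let ηQ : PrimeSpectrum S := ⟨Q, hQ.1.1⟩
  have hηP : ηP ∈ ({closedPoint S}ᶜ : Set (PrimeSpectrum S)) :=
    fun h => hnmax P hP (congrArg PrimeSpectrum.asIdeal h)
  have hηQ : ηQ ∈ ({closedPoint S}ᶜ : Set (PrimeSpectrum S)) :=
    fun h => hnmax Q hQ (congrArg PrimeSpectrum.asIdeal h)
  have hηP' : ηP ∈ Z₁ := fun _ h => h
  have hηQ' : ηQ ∈ Z₂ := Set.mem_biUnion (x := Q) ⟨hQ, hQP⟩ fun _ h => h
  obtain ⟨⟨r, hr⟩, hr₀, hrP, hrZ⟩ := (isPreconnected_closed_iff.mp hc) Z₁ Z₂
    (PrimeSpectrum.isClosed_zeroLocus _) hZ₂ (fun x _ => by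
      have := x.isPrime
      obtain ⟨M, hM, hMx⟩ := Ideal.exists_minimalPrimes_le (I := (⊥ : Ideal S)) (J := x.asIdeal) bot_le
      by_cases hMP : M = P
      · left
        subst hMP
        exact hMx
      · exact Or.inr (Set.mem_biUnion ⟨hM, hMP⟩ hMx))
    ⟨ηP, hηP, hηP'⟩ ⟨ηQ, hηQ, hηQ'⟩
  obtain ⟨M, ⟨hM, hMP⟩, hrM⟩ := Set.mem_iUnion₂.mp hrZ
  -- `r` lies over a proper generization
  let : Algebra R S := ((algebraMap A S).comp (algebraMap R A)).toAlgebra
  have : IsScalarTower R A S := IsScalarTower.of_algebraMap_eq fun _ => rfl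
  let q := r.comap (algebraMap R S)
  have hqp : q < p := by
    refine lt_of_le_of_ne ?_ fun h => hr₀ (PrimeSpectrum.ext (le_antisymm (le_maximalIdeal hr.ne_top) ?_))
    · refine (Ideal.comap_mono (le_maximalIdeal hr.ne_top)).trans (le_of_eq ?_)
      rw [IsScalarTower.algebraMap_eq R A S, ← Ideal.comap_comap,
        ((local_hom_TFAE (algebraMap A S)).out 0 4 rfl rfl).mp inferInstance]
      exact IsLocalization.AtPrime.comap_maximalIdeal A p
    · change maximalIdeal S ≤ r
      rw [← Henselian.StrictHenselization.map_maximalIdeal A S, ← IsLocalization.AtPrime.map_eq_maximalIdeal p A,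
        Ideal.map_map, ← IsScalarTower.algebraMap_eq, Ideal.map_le_iff_le_comap]
      exact h.ge
  let D := Localization.AtPrime q
  let T := Localization.AtPrime r
  let : Algebra D T := (Localization.localRingHom q r (algebraMap R S) rfl).toAlgebra
  have : IsLocalHom (algebraMap D T) := Localization.isLocalHom_localRingHom q r (algebraMap R S) rfl
  have : IsScalarTower R D T := IsScalarTower.of_algebraMap_eq fun a =>
    (IsScalarTower.algebraMap_apply R S T a).trans (Localization.localRingHom_to_map q r (algebraMap R S) rfl a).symm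
  have hRA : EtPBC.IsIndEtale R A := IndEtale.Basic.of_factors
    (IndEtale.Zariski.factors_localization (IndEtale.Basic.impliesFP R) IndEtale.Zariski.stableAway_etale
      (IndEtale.Basic.factors IndEtale.Basic.of_etale) p.primeCompl A)
  have hRD : EtPBC.IsIndEtale R D := IndEtale.Basic.of_factors
    (IndEtale.Zariski.factors_localization (IndEtale.Basic.impliesFP R) IndEtale.Zariski.stableAway_etale
      (IndEtale.Basic.factors IndEtale.Basic.of_etale) q.primeCompl D)
  have hST : EtPBC.IsIndEtale S T := IndEtale.Basic.of_factors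
    (IndEtale.Zariski.factors_localization (IndEtale.Basic.impliesFP S) IndEtale.Zariski.stableAway_etale
      (IndEtale.Basic.factors IndEtale.Basic.of_etale) r.primeCompl T)
  have hDT : EtPBC.IsIndEtale D T :=
    IndEtale.Basic.cancel hRD (IndEtale.Basic.trans (IndEtale.Basic.trans hRA hind) hST)
  have := isSeparable_residue D T hDT
  obtain ⟨N, hN⟩ := (UnibranchEtaleAlg.minimalPrimes_strict_subsingleton_iff T).mpr
    (UnibranchEtaleAlg.isGeomUnibranch D T hDT (hlt q hqp))
  have hcard : ENat.card (minimalPrimes T) ≤ 1 := by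
    have := Henselian.StrictHenselization.faithfullyFlat T (StrictHenselization T)
    refine (CompletionBranch.card_le T (StrictHenselization T)).trans ?_
    rw [ENat.card_coe_set_eq, hN, Set.encard_singleton]
  have hmap : ∀ M' ∈ minimalPrimes S, M' ≤ r → (M'.map (algebraMap S T) ∈ minimalPrimes T ∧
      (M'.map (algebraMap S T)).comap (algebraMap S T) = M') := fun M' hM' hle => by
    have hd : Disjoint (r.primeCompl : Set S) (M' : Set S) :=
      Set.disjoint_left.mpr fun x hx hxM => hx (hle hxM)
    have hcm := IsLocalization.comap_map_of_isPrime_disjoint r.primeCompl T hM'.1.1 hd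
    refine ⟨⟨⟨IsLocalization.isPrime_of_isPrime_disjoint r.primeCompl T M' hM'.1.1 hd, bot_le⟩,
      fun N' hN' hle' => ?_⟩, hcm⟩
    rw [Ideal.map_le_iff_le_comap]
    exact hM'.2 ⟨hN'.1.comap _, bot_le⟩ ((Ideal.comap_mono hle').trans hcm.le)
  rw [ENat.card_coe_set_eq] at hcard
  have h := Set.encard_le_one_iff.mp hcard _ _ (hmap P hP hrP).1 (hmap M hM hrM).1
  exact hMP ((hmap M hM hrM).2.symm.trans ((congrArg (Ideal.comap _) h.symm).trans (hmap P hP hrP).2))

variable (X : Scheme.{u})

theorem forall_iff [IsNoetherian X] :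
    (∀ x : X, CAlg2.IsGeomUnibranch (X.presheaf.stalk x)) ↔
      ∀ (x : X), closure ({x} : Set X) ∉ irreducibleComponents X →
        ∀ (Ash : Type u) [CommRing Ash] [IsLocalRing Ash] [Algebra (X.presheaf.stalk x) Ash]
          [IsLocalHom (algebraMap (X.presheaf.stalk x) Ash)]
          [Hensel.IsStrictHenselization (X.presheaf.stalk x) Ash],
          ConnectedSpace ↥({IsLocalRing.closedPoint Ash}ᶜ : Set (PrimeSpectrum Ash)) := by
  have hmin : ∀ {U : X.Opens} (hU : IsAffineOpen U) (x : X) (hx : x ∈ U),
      maximalIdeal (X.presheaf.stalk x) ∈ minimalPrimes (X.presheaf.stalk x) ↔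
        x ∈ genericPoints X := by
    intro U hU x hx
    rw [← UnibranchBirational.primeIdealOf_mem_minimalPrimes_iff hU hx]
    let := (X.presheaf.germ U x hx).hom.toAlgebra
    let p := (hU.primeIdealOf ⟨x, hx⟩).asIdeal
    have : IsLocalization.AtPrime (X.presheaf.stalk x) p := hU.isLocalization_stalk ⟨x, hx⟩
    have hcm : (maximalIdeal (X.presheaf.stalk x)).comap (algebraMap Γ(X, U) _) = p :=
      IsLocalization.AtPrime.comap_maximalIdeal _ p
    refine ⟨fun h => ?_, fun h => ?_⟩
    · have := UnibranchBirational.comap_minimalPrimes p.primeCompl _ h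
      rwa [hcm] at this
    · refine ⟨⟨inferInstance, bot_le⟩, fun N hN hle => ?_⟩
      have hN' := h.2 ⟨hN.1.comap _, bot_le⟩ ((Ideal.comap_mono hle).trans hcm.le)
      exact (IsLocalization.map_comap p.primeCompl (X.presheaf.stalk x) (maximalIdeal _)).symm.le.trans
        ((congrArg (Ideal.map _) hcm).le.trans (Ideal.map_le_iff_le_comap.mpr hN'))
  refine ⟨fun h x hx Ash _ _ _ _ _ => ?_, fun h x => ?_⟩
  · obtain ⟨U, hU, hxU, -⟩ := exists_isAffineOpen_mem_and_subset (x := x) (U := (⊤ : X.Opens)) trivial
    exact connectedSpace_punctured _ (h x) (fun hm => hx ((hmin hU x hxU).mp hm)) Ash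
  · obtain ⟨U, hU, hxU, -⟩ := exists_isAffineOpen_mem_and_subset (x := x) (U := (⊤ : X.Opens)) trivial
    have : IsNoetherianRing Γ(X, U) := IsLocallyNoetherian.component_noetherian (X := X) ⟨U, hU⟩
    suffices key : ∀ (n : ℕ∞) (y : X) (hy : y ∈ U), (hU.primeIdealOf ⟨y, hy⟩).asIdeal.height = n →
        CAlg2.IsGeomUnibranch (X.presheaf.stalk y) from key _ x hxU rfl
    intro n
    induction n using WellFoundedLT.induction with
    | ind n ih =>
      intro y hy hn
      let := (X.presheaf.germ U y hy).hom.toAlgebra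
      let p := (hU.primeIdealOf ⟨y, hy⟩).asIdeal
      have : IsLocalization.AtPrime (X.presheaf.stalk y) p := hU.isLocalization_stalk ⟨y, hy⟩
      refine isGeomUnibranch_of_connected Γ(X, U) p (X.presheaf.stalk y)
        (StrictHenselization (X.presheaf.stalk y)) Henselian.IndEtale.isIndEtale_lim (fun q _ hq => ?_) ?_
      · obtain ⟨z, hz, hzq⟩ := UnibranchBirational.exists_point hU q
        subst hzq
        exact (UnibranchBirational.isGeomUnibranch_stalk_iff hU hz).mp
          (ih _ (hn ▸ Ideal.height_strict_mono_of_isPrime_of_isPrime hq) z hz rfl)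
      · by_cases hgen : y ∈ genericPoints X
        · convert isPreconnected_empty
          refine Set.eq_empty_of_forall_notMem fun w hw => ?_
          have hmm := (hmin hU y hy).mpr hgen
          let S := StrictHenselization (X.presheaf.stalk y)
          have : (maximalIdeal (X.presheaf.stalk y)).map (algebraMap _ S) ≤ w.asIdeal := by
            rw [Ideal.map_le_iff_le_comap]
            exact hmm.2 ⟨w.isPrime.comap _, bot_le⟩ (le_maximalIdeal (Ideal.comap_ne_top _ w.isPrime.ne_top))
          rw [Henselian.StrictHenselization.map_maximalIdeal] at this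
          exact hw (PrimeSpectrum.ext (le_antisymm (le_maximalIdeal w.isPrime.ne_top) this))
        · exact (isConnected_iff_connectedSpace.mpr (h y hgen _)).isPreconnected

end Groth.Agent.Lib.Unram.PuncturedStrict
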