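import Groth.Agent.Lib.Unram.OneBranch
import Groth.Agent.Lib.Henselian.StrictHenselization
import Mathlib.RingTheory.Jacobson.Ring
import Mathlib.RingTheory.LocalRing.ResidueField.Ideal

/-!
# Unibranch closed points over separably closed fields
-/

set_option autoImplicit false

universe u

open IsLocalRing

namespace Groth.Agent.Lib.Unram.UnibranchSepClosed

theorem of_isSepClosed (A : Type u) [CommRing A] [IsLocalRing A] [IsSepClosed (ResidueField A)]
    (h : CAlg2.IsUnibranch A) : CAlg2.IsGeomUnibranch A := by
  refine ⟨h, fun m hm => ?_⟩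
  let := Ideal.Quotient.field m
  obtain ⟨φ, hφ, hint⟩ := OneBranch.emb_spec A ⟨m, hm⟩
  let : Algebra (ResidueField A) (CAlg2.normRed A ⧸ m) := φ.toAlgebra
  have : Algebra.IsIntegral (ResidueField A) (CAlg2.normRed A ⧸ m) := ⟨hint⟩
  have : IsPurelyInseparable (ResidueField A) (CAlg2.normRed A ⧸ m) :=
    Algebra.IsAlgebraic.isPurelyInseparable_of_isSepClosed
  intro x
  have := expChar_of_injective_ringHom φ.injective (ringExpChar (ResidueField A))
  have hq : ringExpChar (CAlg2.normRed A ⧸ m) = ringExpChar (ResidueField A) := ringExpChar.eq _ _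
  obtain ⟨n, c, hc⟩ := (isPurelyInseparable_iff_pow_mem (ResidueField A) (ringExpChar (ResidueField A))
    (E := CAlg2.normRed A ⧸ m)).mp inferInstance x
  obtain ⟨a, rfl⟩ := residue_surjective c
  refine ⟨n, a, ?_⟩
  rw [hq, ← hc]
  exact (RingHom.congr_fun hφ a).symm

theorem isGeomUnibranch (k S : Type u) [Field k] [IsSepClosed k] [CommRing S] [Algebra k S]
    [Algebra.FiniteType k S] (m : Ideal S) [m.IsMaximal]
    (h : CAlg2.IsUnibranch (Localization.AtPrime m)) :
    CAlg2.IsGeomUnibranch (Localization.AtPrime m) := by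
  have : IsSepClosed (ResidueField (Localization.AtPrime m)) := by
    let := Ideal.Quotient.field m
    have : Module.Finite k (S ⧸ m) := finite_of_finite_type_of_isJacobsonRing k (S ⧸ m)
    have : IsSepClosed (S ⧸ m) := Algebra.IsAlgebraic.isSepClosed (F := k)
    let e : (S ⧸ m) ≃+* m.ResidueField :=
      RingEquiv.ofBijective _ (Ideal.bijective_algebraMap_quotient_residueField m)
    exact Henselian.StrictHenselization.isSepClosed_of_ringEquiv e
  exact of_isSepClosed _ h

end Groth.Agent.Lib.Unram.UnibranchSepClosed
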