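import Groth.Agent.Lib.Unram.UnibranchEtaleAlg
import Groth.Agent.Lib.Unram.UnibranchSepClosed
import Groth.Agent.Lib.Unram.PuncturedStrict
import Groth.Agent.Lib.Unram.BranchFibre
import Groth.Agent.Lib.Henselian.Unibranch
import Groth.Agent.H46.UnibranchPoly
import Mathlib.RingTheory.Unramified.LocalStructure
import Mathlib.RingTheory.TensorProduct.MvPolynomial

/-!
# Geometric branches of smooth algebras
-/

set_option autoImplicit false

universe u

open IsLocalRing
open scoped TensorProduct
open Groth.Agent.Lib
open Henselian.StrictHenselization (StrictHenselization)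

namespace Groth.Agent.Lib.Unram.SmoothBranches

/-- A strictly henselian local domain is geometrically unibranch. -/
theorem isGeomUnibranch_henselian (S : Type u) [CommRing S] [HenselianLocalRing S] [IsDomain S]
    [IsSepClosed (ResidueField S)] : CAlg2.IsGeomUnibranch S := by
  have : (nilradical S).IsPrime := by
    rw [nilradical_eq_zero S]
    exact Ideal.isPrime_bot
  have hd : IsDomain (CAlg2.red S) := Ideal.Quotient.isDomain _
  let : Algebra S (CAlg2.normRed S) := (BranchSum.toNorm S).toAlgebra
  have : Algebra.IsIntegral S (CAlg2.normRed S) := ⟨fun x => BranchSum.toNorm_isIntegral S x⟩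
  exact UnibranchSepClosed.of_isSepClosed S ⟨hd, Henselian.Unibranch.isLocalRing_of_isDomain S _⟩

theorem henselianLocalRing_quotient (S : Type u) [CommRing S] [HenselianLocalRing S] (I : Ideal S)
    [IsLocalRing (S ⧸ I)] : HenselianLocalRing (S ⧸ I) := by
  have hI : I ≤ maximalIdeal S :=
    le_maximalIdeal (Ideal.Quotient.nontrivial_iff.mp inferInstance)
  have hmap : (maximalIdeal S).map (Ideal.Quotient.mk I) = maximalIdeal (S ⧸ I) := by
    have : ((maximalIdeal S).map (Ideal.Quotient.mk I)).IsMaximal :=
      (Ideal.map_eq_top_or_isMaximal_of_surjective _ Ideal.Quotient.mk_surjective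
        (maximalIdeal.isMaximal S)).resolve_left fun h => by
          have h' := congrArg (Ideal.comap (Ideal.Quotient.mk I)) h
          rw [Ideal.comap_map_of_surjective _ Ideal.Quotient.mk_surjective, Ideal.comap_top,
            ← RingHom.ker_eq_comap_bot, Ideal.mk_ker, sup_eq_left.mpr hI] at h'
          exact (maximalIdeal.isMaximal S).ne_top h'
    exact IsLocalRing.eq_maximalIdeal this
  have h := Henselian.Basic.henselianRing_quotient (I := I) hI
  rw [hmap] at h
  exact { is_henselian := fun f hf a h1 h2 =>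
    h.is_henselian f hf a h1 (h2.map (Ideal.Quotient.mk _)) }

section Count

variable (A T : Type u) [CommRing A] [CommRing T] [Algebra A T] [Module.Flat A T]

/-- If every minimal prime has one minimal prime over it, the minimal primes correspond. -/
theorem card_eq_of_unique
    (h : ∀ P ∈ minimalPrimes A, ENat.card (minimalPrimes (T ⧸ P.map (algebraMap A T))) = 1) :
    ENat.card (minimalPrimes T) = ENat.card (minimalPrimes A) := by
  have huniq : ∀ P ∈ minimalPrimes A,
      ∃! Q : Ideal T, Q ∈ (P.map (algebraMap A T)).minimalPrimes := by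
    intro P hP
    have h1 := h P hP
    rw [ENat.card_coe_set_eq, Set.encard_eq_one] at h1
    obtain ⟨Q₀, hQ₀⟩ := h1
    rw [Ideal.minimalPrimes_eq_comap]
    refine ⟨_, ⟨Q₀, (hQ₀ ▸ rfl : Q₀ ∈ minimalPrimes (T ⧸ P.map (algebraMap A T))), rfl⟩, ?_⟩
    rintro _ ⟨Q, hQ, rfl⟩
    have hQ' : Q ∈ ({Q₀} : Set (Ideal (T ⧸ P.map (algebraMap A T)))) := hQ₀ ▸ hQ
    rw [Set.mem_singleton_iff.mp hQ']
  refine ENat.card_congr (Equiv.ofBijective
    (fun q => ⟨q.1.comap (algebraMap A T), BranchHenselian.comap_minimalPrime_mem A T q.2⟩) ⟨?_, ?_⟩)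
  · intro q₁ q₂ he
    have he' : q₁.1.comap (algebraMap A T) = q₂.1.comap (algebraMap A T) := congrArg Subtype.val he
    have key : ∀ q : minimalPrimes T,
        q.1 ∈ ((q.1.comap (algebraMap A T)).map (algebraMap A T)).minimalPrimes := fun q =>
      ⟨⟨q.2.1.1, Ideal.map_comap_le⟩, fun y hy hle => q.2.2 ⟨hy.1, bot_le⟩ hle⟩
    have k2 := key q₂
    rw [← he'] at k2
    exact Subtype.ext ((huniq _ (BranchHenselian.comap_minimalPrime_mem A T q₁.2)).unique (key q₁) k2)
  · rintro ⟨P, hP⟩
    have hPp := hP.1.1
    obtain ⟨Q, hQ, -⟩ := huniq P hP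
    have hQp := hQ.1.1
    have hle : P ≤ Q.comap (algebraMap A T) := Ideal.map_le_iff_le_comap.mp hQ.1.2
    have : Q.LiesOver (Q.comap (algebraMap A T)) := ⟨rfl⟩
    obtain ⟨Q', hQ'Q, hQ'p, hQ'P⟩ := Q.exists_ideal_le_liesOver_of_le (p := P)
      (q := Q.comap (algebraMap A T)) hle
    obtain rfl : Q' = Q := le_antisymm hQ'Q
      (hQ.2 ⟨hQ'p, Ideal.map_le_iff_le_comap.mpr hQ'P.over.le⟩ hQ'Q)
    obtain ⟨R₀, hR₀, hR₀Q⟩ := Ideal.exists_minimalPrimes_le (I := (⊥ : Ideal T)) (J := Q') bot_le
    refine ⟨⟨R₀, hR₀⟩, Subtype.ext ?_⟩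
    have h' : R₀.comap (algebraMap A T) ≤ P := (Ideal.comap_mono hR₀Q).trans hQ'P.over.ge
    exact le_antisymm h' (hP.2 ⟨(BranchHenselian.comap_minimalPrime_mem A T hR₀).1.1, bot_le⟩ h')

end Count

/-- Over a strictly henselian local ring, localized polynomial rings have the same geometric
branches. -/
theorem card_minimalPrimes_poly (S : Type u) [CommRing S] [HenselianLocalRing S]
    [IsSepClosed (ResidueField S)] (n : ℕ) (Q : Ideal (MvPolynomial (Fin n) S)) [Q.IsPrime]
    (hQ : Q.comap MvPolynomial.C = maximalIdeal S) :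
    ENat.card (minimalPrimes (StrictHenselization (Localization.AtPrime Q))) =
      ENat.card (minimalPrimes S) := by
  let Pn := MvPolynomial (Fin n) S
  let L := Localization.AtPrime Q
  let T := StrictHenselization L
  have : Module.Flat S L := by
    have : Module.Flat Pn L := IsLocalization.flat L Q.primeCompl
    exact Module.Flat.trans S Pn L
  let : Algebra S T := ((algebraMap L T).comp (algebraMap S L)).toAlgebra
  have : IsScalarTower S L T := IsScalarTower.of_algebraMap_eq fun _ => rfl
  have : Module.Flat L T := Henselian.StrictHenselization.flat L T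
  have : Module.Flat S T := Module.Flat.trans S L T
  refine card_eq_of_unique S T fun P hP => ?_
  have hPp := hP.1.1
  let S₁ := S ⧸ P
  have : IsLocalRing S₁ := IsLocalRing.of_surjective' (Ideal.Quotient.mk P) Ideal.Quotient.mk_surjective
  have : HenselianLocalRing S₁ := henselianLocalRing_quotient S P
  have : IsSepClosed (ResidueField S₁) := by
    have : IsLocalHom (Ideal.Quotient.mk P) := IsLocalHom.of_surjective _ Ideal.Quotient.mk_surjective
    refine Henselian.StrictHenselization.isSepClosed_of_ringEquiv (RingEquiv.ofBijective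
      (ResidueField.map (Ideal.Quotient.mk P)) ⟨RingHom.injective _, fun z => ?_⟩)
    obtain ⟨t, rfl⟩ := residue_surjective z
    obtain ⟨s, rfl⟩ := Ideal.Quotient.mk_surjective t
    exact ⟨residue S s, rfl⟩
  have hG := isGeomUnibranch_henselian S₁
  let π : Pn →+* MvPolynomial (Fin n) S₁ := MvPolynomial.map (Ideal.Quotient.mk P)
  have hπ : Function.Surjective π := MvPolynomial.map_surjective _ Ideal.Quotient.mk_surjective
  have hker : RingHom.ker π = P.map MvPolynomial.C := by
    ext x
    rw [RingHom.mem_ker, MvPolynomial.mem_map_C_iff, MvPolynomial.ext_iff]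
    refine forall_congr' fun e => ?_
    rw [show MvPolynomial.coeff e (π x) = Ideal.Quotient.mk P (MvPolynomial.coeff e x) from
      MvPolynomial.coeff_map _ _ _, MvPolynomial.coeff_zero, Ideal.Quotient.eq_zero_iff_mem]
  have hkerQ : RingHom.ker π ≤ Q := hker.le.trans
    (Ideal.map_le_iff_le_comap.mpr ((le_maximalIdeal hPp.ne_top).trans hQ.ge))
  let Q₁ := Q.map π
  have : Q₁.IsPrime := Ideal.map_isPrime_of_surjective hπ hkerQ
  have hQQ : Q = Q₁.comap π := by
    rw [Ideal.comap_map_of_surjective _ hπ, ← RingHom.ker_eq_comap_bot, sup_eq_left.mpr hkerQ]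
  let B := Localization.AtPrime Q₁
  have hQ₁C : Q₁.comap MvPolynomial.C = maximalIdeal S₁ := by
    apply Ideal.comap_injective_of_surjective (Ideal.Quotient.mk P) Ideal.Quotient.mk_surjective
    rw [Ideal.comap_comap, show MvPolynomial.C.comp (Ideal.Quotient.mk P) = π.comp MvPolynomial.C from
      RingHom.ext fun a => (MvPolynomial.map_C _ a).symm, ← Ideal.comap_comap, ← hQQ, hQ]
    have : IsLocalHom (Ideal.Quotient.mk P) := IsLocalHom.of_surjective _ Ideal.Quotient.mk_surjective
    exact (((local_hom_TFAE (Ideal.Quotient.mk P)).out 0 4 rfl rfl).mp this).symm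
  have : IsLocalization.AtPrime S₁ (maximalIdeal S₁) :=
    IsLocalization.self fun x hx => notMem_maximalIdeal.mp hx
  have hB : CAlg2.IsGeomUnibranch B :=
    H46.UnibranchPoly.isGeomUnibranch_mvPolynomial (R₀ := S₁) (O := S₁) (maximalIdeal S₁) hG n Q₁ hQ₁C
  let φ : L →+* B := Localization.localRingHom Q Q₁ π hQQ
  let : Algebra L B := φ.toAlgebra
  have hφ : Function.Surjective (algebraMap L B) := fun z => by
    obtain ⟨x, ⟨s, hs⟩, rfl⟩ := IsLocalization.exists_mk'_eq Q₁.primeCompl z
    obtain ⟨a, rfl⟩ := hπ x
    obtain ⟨t, rfl⟩ := hπ s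
    exact ⟨IsLocalization.mk' L a (⟨t, fun ht => hs (Ideal.mem_map_of_mem π ht)⟩ : Q.primeCompl),
      Localization.localRingHom_mk' _ _ _ _ _ _⟩
  have hJ : BranchFibre.J L B T = P.map (algebraMap S T) := by
    rw [IsScalarTower.algebraMap_eq S L T, ← Ideal.map_map]
    refine congrArg (Ideal.map (algebraMap L T)) ?_
    rw [IsScalarTower.algebraMap_eq S Pn L, ← Ideal.map_map]
    refine le_antisymm (fun z hz => ?_) ?_
    · obtain ⟨a, ⟨s, hs⟩, rfl⟩ := IsLocalization.exists_mk'_eq Q.primeCompl z
      have h1 : algebraMap (MvPolynomial (Fin n) S₁) B (π a) = 0 := by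
        have h2 := congrArg (algebraMap L B) (IsLocalization.mk'_spec L a (⟨s, hs⟩ : Q.primeCompl))
        rw [map_mul, show algebraMap L B (IsLocalization.mk' L a (⟨s, hs⟩ : Q.primeCompl)) = 0 from hz,
          zero_mul] at h2
        exact (Localization.localRingHom_to_map Q Q₁ π hQQ a).symm.trans h2.symm
      have h3 : π a = 0 :=
        (IsLocalization.to_map_eq_zero_iff B Q₁.primeCompl_le_nonZeroDivisors).mp h1
      rw [IsLocalization.mk'_mem_map_algebraMap_iff]
      exact ⟨1, one_mem _, by rw [one_mul]; exact hker.le h3⟩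
    · rw [Ideal.map_le_iff_le_comap, Ideal.map_le_iff_le_comap]
      intro a ha
      change φ (algebraMap Pn L (MvPolynomial.C a)) = 0
      rw [Localization.localRingHom_to_map, show π (MvPolynomial.C a) = 0 from
        hker.ge (Ideal.mem_map_of_mem _ ha), map_zero]
  rw [← hJ, ← BranchFibre.card_strict_quot L B hφ]
  exact (OneBranch.numGeomBranches_eq_one_iff B).mpr hB

/-- A smooth algebra is locally ind-étale over a polynomial algebra. -/
theorem exists_model (R S : Type u) [CommRing R] [CommRing S] [Algebra R S] [Algebra.Smooth R S]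
    (q : Ideal S) [q.IsPrime] :
    ∃ (n : ℕ) (r : Ideal (MvPolynomial (Fin n) R)) (_ : r.IsPrime)
      (_ : Algebra (Localization.AtPrime r) (Localization.AtPrime q)),
      r.comap MvPolynomial.C = q.comap (algebraMap R S) ∧
      IsLocalHom (algebraMap (Localization.AtPrime r) (Localization.AtPrime q)) ∧
      EtPBC.IsIndEtale (Localization.AtPrime r) (Localization.AtPrime q) := by
  obtain ⟨f, hfq, n, _, _, _⟩ := Algebra.IsSmoothAt.exists_isStandardEtale_mvPolynomial (R := R) (p := q)
  let Pn := MvPolynomial (Fin n) R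
  let E := Localization.Away f
  let Sq := Localization.AtPrime q
  let φ : E →+* Sq := IsLocalization.Away.lift f (g := algebraMap S Sq)
    (IsLocalization.map_units Sq (⟨f, hfq⟩ : q.primeCompl))
  let : Algebra E Sq := φ.toAlgebra
  have : IsScalarTower S E Sq := IsScalarTower.of_algebraMap_eq fun x =>
    (IsLocalization.Away.lift_eq f _ x).symm
  have : IsLocalization (Submonoid.map (algebraMap S E) q.primeCompl) Sq :=
    IsLocalization.isLocalization_of_submonoid_le E Sq (Submonoid.powers f) q.primeCompl
      (Submonoid.powers_le.mpr hfq)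
  let : Algebra Pn Sq := ((algebraMap E Sq).comp (algebraMap Pn E)).toAlgebra
  have : IsScalarTower Pn E Sq := IsScalarTower.of_algebraMap_eq fun _ => rfl
  have hind : EtPBC.IsIndEtale Pn Sq :=
    IndEtale.Basic.of_factors (IndEtale.Zariski.factors_localization (IndEtale.Basic.impliesFP Pn)
      IndEtale.Zariski.stableAway_etale (IndEtale.Basic.factors IndEtale.Basic.of_etale)
      (Submonoid.map (algebraMap S E) q.primeCompl) Sq)
  let r := (maximalIdeal Sq).comap (algebraMap Pn Sq)
  let Pr := Localization.AtPrime r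
  let ψ : Pr →+* Sq := IsLocalization.lift (M := r.primeCompl) (g := algebraMap Pn Sq)
    fun y => notMem_maximalIdeal.mp y.2
  let : Algebra Pr Sq := ψ.toAlgebra
  have : IsScalarTower Pn Pr Sq := IsScalarTower.of_algebraMap_eq fun x =>
    (IsLocalization.lift_eq _ x).symm
  refine ⟨n, r, inferInstance, inferInstance, ?_, ?_, ?_⟩
  · change ((maximalIdeal Sq).comap (algebraMap Pn Sq)).comap MvPolynomial.C = _
    rw [Ideal.comap_comap,
      show (algebraMap Pn Sq).comp MvPolynomial.C = (algebraMap S Sq).comp (algebraMap R S) from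
        RingHom.ext fun a => by
          change algebraMap E Sq (algebraMap Pn E (algebraMap R Pn a)) = _
          rw [← IsScalarTower.algebraMap_apply R Pn E, IsScalarTower.algebraMap_apply R S E,
            ← IsScalarTower.algebraMap_apply S E Sq]
          rfl,
      ← Ideal.comap_comap]
    exact congrArg (Ideal.comap (algebraMap R S)) Localization.AtPrime.comap_maximalIdeal
  · refine ⟨fun x hx => ?_⟩
    obtain ⟨a, ⟨s, hs⟩, rfl⟩ := IsLocalization.exists_mk'_eq r.primeCompl x
    rw [IsLocalization.AtPrime.isUnit_mk'_iff]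
    intro ha
    have h2 : IsUnit (algebraMap Pn Sq a) := by
      have h3 := congrArg ψ (IsLocalization.mk'_spec Pr a (⟨s, hs⟩ : r.primeCompl))
      rw [map_mul] at h3
      have h4 : IsUnit (algebraMap Pn Sq s) := notMem_maximalIdeal.mp hs
      rw [IsLocalization.lift_eq, IsLocalization.lift_eq] at h3
      rw [← h3]
      exact hx.mul h4
    exact (mem_maximalIdeal _).mp (Ideal.mem_comap.mp ha) h2
  · exact IndEtale.Basic.cancel (IndEtale.Basic.of_factors
      (IndEtale.Zariski.factors_localization (IndEtale.Basic.impliesFP Pn)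
        IndEtale.Zariski.stableAway_etale (IndEtale.Basic.factors IndEtale.Basic.of_etale)
        r.primeCompl Pr)) hind

/-- Geometric branches of a smooth algebra at a point. -/
theorem card_smooth (R S : Type u) [CommRing R] [CommRing S] [Algebra R S] [Algebra.Smooth R S]
    (q : Ideal S) [q.IsPrime] (p : Ideal R) [p.IsPrime] (hp : q.comap (algebraMap R S) = p) :
    ENat.card (minimalPrimes (StrictHenselization (Localization.AtPrime q))) =
      ENat.card (minimalPrimes (StrictHenselization (Localization.AtPrime p))) := by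
  obtain ⟨n, r, _, _, hr, _, hind⟩ := exists_model R S q
  have := PuncturedStrict.isSeparable_residue _ _ hind
  obtain ⟨e₁⟩ := UnibranchEtaleAlg.exists_strict_equiv _ _ hind
  rw [← BranchNbhd.card_congr e₁]
  rw [hp] at hr
  let Pn := MvPolynomial (Fin n) R
  let A := Localization.AtPrime p
  let Sh := StrictHenselization A
  have hSh : Hensel.IsStrictHenselization A Sh := inferInstance
  have := hSh.henselian
  have := hSh.isSepClosure.sep_closed
  have := hSh.isSepClosure.separable
  let : Algebra R Sh := ((algebraMap A Sh).comp (algebraMap R A)).toAlgebra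
  have : IsScalarTower R A Sh := IsScalarTower.of_algebraMap_eq fun _ => rfl
  let P' := MvPolynomial (Fin n) Sh
  let mp : Pn →+* P' := MvPolynomial.map (algebraMap R Sh)
  let : Algebra Pn P' := mp.toAlgebra
  have hRSh : EtPBC.IsIndEtale R Sh :=
    IndEtale.Basic.trans (IndEtale.Basic.of_factors
      (IndEtale.Zariski.factors_localization (IndEtale.Basic.impliesFP R)
        IndEtale.Zariski.stableAway_etale (IndEtale.Basic.factors IndEtale.Basic.of_etale)
        p.primeCompl A)) Henselian.IndEtale.isIndEtale_lim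
  have hP' : EtPBC.IsIndEtale Pn P' := by
    let e : Pn ⊗[R] Sh ≃+* P' := (Algebra.TensorProduct.comm R Pn Sh).toRingEquiv.trans
      (MvPolynomial.algebraTensorAlgEquiv R Sh).toRingEquiv
    refine IndEtale.Basic.of_algEquiv (IndEtale.Basic.baseChange Pn hRSh)
      (AlgEquiv.ofRingEquiv (f := e) fun x => ?_)
    change MvPolynomial.algebraTensorAlgEquiv R Sh ((1 : Sh) ⊗ₜ[R] x) = mp x
    rw [MvPolynomial.algebraTensorAlgEquiv_tmul, one_smul]
  let Ω := AlgebraicClosure r.ResidueField
  let c : R →+* Ω := (algebraMap r.ResidueField Ω).comp ((algebraMap Pn r.ResidueField).comp MvPolynomial.C)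
  have hc : ∀ a, c a = 0 ↔ a ∈ p := fun a => by
    rw [← hr, Ideal.mem_comap, ← Ideal.algebraMap_residueField_eq_zero (I := r)]
    exact map_eq_zero_iff _ (algebraMap r.ResidueField Ω).injective
  let cA : A →+* Ω := IsLocalization.lift (M := p.primeCompl) (g := c)
    fun y => isUnit_iff_ne_zero.mpr fun h => y.2 ((hc _).mp h)
  have hcA : ∀ x ∈ maximalIdeal A, cA x = 0 := by
    rw [← Localization.AtPrime.map_eq_maximalIdeal]
    intro x hx
    refine (Ideal.map_le_iff_le_comap.mpr (fun a ha => ?_) : _ ≤ RingHom.ker cA) hx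
    rw [Ideal.mem_comap, RingHom.mem_ker, IsLocalization.lift_eq]
    exact (hc a).mpr ha
  let : Algebra (ResidueField A) Ω := (Ideal.Quotient.lift (maximalIdeal A) cA hcA).toAlgebra
  let τ : ResidueField Sh →ₐ[ResidueField A] Ω := IsAlgClosed.lift
  let χ : Sh →+* Ω := τ.toRingHom.comp (residue Sh)
  have hχ : ∀ a : R, χ (algebraMap R Sh a) = c a := fun a => by
    refine (τ.commutes (residue A (algebraMap R A a))).trans ?_
    exact IsLocalization.lift_eq _ a
  let x : Fin n → Ω := fun i => algebraMap r.ResidueField Ω (algebraMap Pn r.ResidueField (MvPolynomial.X i))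
  let ev : P' →+* Ω := MvPolynomial.eval₂Hom χ x
  let Q := RingHom.ker ev
  have : Q.IsPrime := RingHom.ker_isPrime ev
  have hev : ev.comp mp = (algebraMap r.ResidueField Ω).comp (algebraMap Pn r.ResidueField) := by
    refine MvPolynomial.ringHom_ext (fun a => ?_) (fun i => ?_)
    · change ev (mp (MvPolynomial.C a)) = _
      rw [show mp (MvPolynomial.C a) = MvPolynomial.C (algebraMap R Sh a) from MvPolynomial.map_C _ _,
        show ev (MvPolynomial.C (algebraMap R Sh a)) = χ (algebraMap R Sh a) from
          MvPolynomial.eval₂Hom_C _ _ _, hχ]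
      rfl
    · change ev (mp (MvPolynomial.X i)) = _
      rw [show mp (MvPolynomial.X i) = MvPolynomial.X i from MvPolynomial.map_X _ _]
      exact MvPolynomial.eval₂Hom_X' _ _ _
  have hQr : r = Q.comap mp := by
    rw [show Q.comap mp = RingHom.ker (ev.comp mp) from RingHom.comap_ker ev mp, hev,
      RingHom.ker_comp_of_injective _ (algebraMap r.ResidueField Ω).injective,
      Ideal.ker_algebraMap_residueField]
  have hQC : Q.comap MvPolynomial.C = maximalIdeal Sh := by
    rw [show Q.comap MvPolynomial.C = RingHom.ker (ev.comp MvPolynomial.C) from RingHom.comap_ker _ _,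
      show ev.comp MvPolynomial.C = χ from RingHom.ext fun a => MvPolynomial.eval₂Hom_C _ _ a,
      RingHom.ker_comp_of_injective _ τ.toRingHom.injective, ker_residue]
  let Pr := Localization.AtPrime r
  let L := Localization.AtPrime Q
  let : Algebra Pr L := (Localization.localRingHom r Q mp hQr).toAlgebra
  have : IsLocalHom (algebraMap Pr L) := Localization.isLocalHom_localRingHom r Q mp hQr
  have : IsScalarTower Pn Pr L := IsScalarTower.of_algebraMap_eq fun a =>
    (Localization.localRingHom_to_map r Q mp hQr a).symm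
  have hPL : EtPBC.IsIndEtale Pr L :=
    IndEtale.Basic.cancel (A := Pn) (IndEtale.Basic.of_factors
      (IndEtale.Zariski.factors_localization (IndEtale.Basic.impliesFP Pn)
        IndEtale.Zariski.stableAway_etale (IndEtale.Basic.factors IndEtale.Basic.of_etale)
        r.primeCompl Pr))
      (IndEtale.Basic.of_factors
      (IndEtale.Zariski.factors_localization (IndEtale.Basic.impliesFP Pn)
        IndEtale.Zariski.stableAway_etale (IndEtale.Basic.factors hP') Q.primeCompl L))
  have := PuncturedStrict.isSeparable_residue _ _ hPL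
  obtain ⟨e₂⟩ := UnibranchEtaleAlg.exists_strict_equiv Pr L hPL
  rw [BranchNbhd.card_congr e₂]
  exact card_minimalPrimes_poly Sh n Q hQC

/-- Geometric unibranchness and integrality ascend along smooth algebras. -/
theorem isGeomUnibranch_smooth (R S : Type u) [CommRing R] [CommRing S] [Algebra R S]
    [Algebra.Smooth R S] (q : Ideal S) [q.IsPrime] (p : Ideal R) [p.IsPrime]
    (hp : q.comap (algebraMap R S) = p) (hR : CAlg2.IsGeomUnibranch (Localization.AtPrime p)) :
    CAlg2.IsGeomUnibranch (Localization.AtPrime q) := by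
  rw [← OneBranch.numGeomBranches_eq_one_iff] at hR ⊢
  rw [← BranchHenselian.card_minimalPrimes_strictHenselization _
    (StrictHenselization (Localization.AtPrime p))] at hR
  rw [← BranchHenselian.card_minimalPrimes_strictHenselization _
    (StrictHenselization (Localization.AtPrime q)), card_smooth R S q p hp, hR]

theorem isDomain_smooth (R S : Type u) [CommRing R] [IsDomain R] [CommRing S] [Algebra R S]
    [Algebra.Smooth R S] (q : Ideal S) [q.IsPrime] (p : Ideal R) [p.IsPrime]
    (hp : q.comap (algebraMap R S) = p) (hR : CAlg2.IsGeomUnibranch (Localization.AtPrime p)) :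
    IsDomain (Localization.AtPrime q) := by
  obtain ⟨n, r, _, _, hr, _, hind⟩ := exists_model R S q
  have := PuncturedStrict.isSeparable_residue _ _ hind
  have : IsDomain (Localization.AtPrime r) :=
    IsLocalization.isDomain_localization r.primeCompl_le_nonZeroDivisors
  exact UnibranchEtaleAlg.isDomain _ _ hind
    (H46.UnibranchPoly.isGeomUnibranch_mvPolynomial (O := Localization.AtPrime p) p hR n r (hr.trans hp))

end Groth.Agent.Lib.Unram.SmoothBranches
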