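import Groth.Agent.Lib.Unram.LocalStandardEtale
import Groth.Agent.Lib.Dim.LocalDim
import Groth.Agent.Lib.FEt.NormalAlg
import Mathlib.RingTheory.Kaehler.Polynomial
import Mathlib.RingTheory.Etale.Locus
import Mathlib.RingTheory.Ideal.KrullsHeightTheorem
import Mathlib.RingTheory.Polynomial.UniqueFactorization
import Mathlib.RingTheory.Jacobson.Ring
import Mathlib.RingTheory.UniqueFactorizationDomain.Ideal
import Mathlib.RingTheory.Localization.AtPrime.Basic

/-!
# Étale maps to affine space over a field
-/

set_option autoImplicit false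

universe u

open IsLocalRing
open scoped TensorProduct

namespace Groth.Agent.Lib.Unram.EtaleOverAffineSpace

variable (k : Type u) [Field k] (n : ℕ) (L : Type u) [CommRing L] [Algebra k L]
  [Algebra (MvPolynomial (Fin n) k) L] [IsScalarTower k (MvPolynomial (Fin n) k) L]

local notation "P" => MvPolynomial (Fin n) k

theorem span_eq_top_iff :
    Submodule.span L (Set.range fun i : Fin n =>
      KaehlerDifferential.D k L (algebraMap P L (MvPolynomial.X i))) = ⊤ ↔
      Algebra.FormallyUnramified P L := by
  have hex := KaehlerDifferential.exact_mapBaseChange_map k P L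
  have hs := KaehlerDifferential.map_surjective k P L
  have hrange : LinearMap.range (KaehlerDifferential.mapBaseChange k P L) =
      Submodule.span L (Set.range fun i : Fin n =>
        KaehlerDifferential.D k L (algebraMap P L (MvPolynomial.X i))) := by
    let b := Algebra.TensorProduct.basis L (KaehlerDifferential.mvPolynomialBasis k (Fin n))
    rw [← Submodule.map_top, ← b.span_eq, Submodule.map_span, ← Set.range_comp]
    congr 2
    funext i
    rw [Function.comp_apply, Algebra.TensorProduct.basis_apply, KaehlerDifferential.mapBaseChange_tmul,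
      one_smul]
    have h2 : KaehlerDifferential.mvPolynomialBasis k (Fin n) i =
        KaehlerDifferential.D k P (MvPolynomial.X i) := by
      apply (KaehlerDifferential.mvPolynomialBasis k (Fin n)).repr.injective
      rw [Module.Basis.repr_self, KaehlerDifferential.mvPolynomialBasis_repr_D_X]
    rw [h2, KaehlerDifferential.map_D]
  rw [Algebra.formallyUnramified_iff, ← hrange]
  constructor
  · intro h
    refine subsingleton_of_forall_eq 0 fun x => ?_
    obtain ⟨y, rfl⟩ := hs x
    exact (hex y).mpr (by rw [← LinearMap.coe_range, h]; trivial)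
  · intro h
    rw [eq_top_iff]
    exact fun y _ => (hex y).mp (Subsingleton.elim _ _)

variable {L}

theorem height_add_dimQ (r : Ideal P) [r.IsPrime] : r.height + (Dim.Basic.dimQ k r : ℕ∞) = n := by
  rw [Dim.Basic.height_add_dimQ]
  have h1 := Dim.Basic.ringKrullDim_eq_trdegNat k P
  have h2 := MvPolynomial.ringKrullDim_of_isNoetherianRing (R := k) (ι := Fin n)
  rw [h1, ringKrullDim_eq_zero_of_field, zero_add, Nat.card_fin] at h2
  exact_mod_cast h2

variable (A : Type u) [CommRing A] [Algebra k A] [Algebra.FiniteType k A]
  [Algebra (MvPolynomial (Fin n) k) A] [IsScalarTower k (MvPolynomial (Fin n) k) A]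

theorem isEtaleAt_of_dimAt (p : Ideal A) [p.IsPrime]
    (hu : Algebra.FormallyUnramified P (Localization.AtPrime p))
    (hn : Dim.Local.dimAt k p = n) : Algebra.IsEtaleAt P p := by
  let r := p.under P
  let := Localization.AtPrime.algebraOfLiesOver r p
  let Pr := Localization.AtPrime r
  let Ap := Localization.AtPrime p
  have : Algebra.FiniteType P A := Algebra.FiniteType.of_restrictScalars_finiteType k P A
  have : IsNoetherianRing A := Algebra.FiniteType.isNoetherianRing k A
  have : IsNoetherianRing Pr := IsLocalization.isNoetherianRing r.primeCompl _ inferInstance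
  have : Algebra.EssFiniteType P Ap := .comp P A Ap
  have : Algebra.EssFiniteType Pr Ap := .of_comp P Pr Ap
  have hu' : Algebra.FormallyUnramified Pr Ap := Algebra.FormallyUnramified.of_restrictScalars P Pr Ap
  have : IsIntegrallyClosed Pr :=
    isIntegrallyClosed_of_isLocalization Pr r.primeCompl r.primeCompl_le_nonZeroDivisors
  obtain ⟨S, 𝔮, _, Ψ, hΨ, hloc⟩ := LocalStandardEtale.exists_surjection Pr Ap
  let E := Localization.AtPrime 𝔮
  obtain ⟨hdom, -⟩ := FEt.NormalAlg.normal_localization (R := Pr) S.Ring 𝔮 E
  have : Algebra.EssFiniteType Pr E := .comp Pr S.Ring E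
  have : IsNoetherianRing E := Algebra.EssFiniteType.isNoetherianRing Pr E
  have : Algebra.FormallyEtale S.Ring E := Algebra.FormallyEtale.of_isLocalization 𝔮.primeCompl
  have hetE : Algebra.FormallyEtale Pr E := Algebra.FormallyEtale.comp Pr S.Ring E
  have hlE : IsLocalHom (algebraMap Pr E) := by
    refine ⟨fun a ha => ?_⟩
    have h1 := ha.map Ψ.toRingHom
    rw [show Ψ.toRingHom (algebraMap Pr E a) = algebraMap Pr Ap a from Ψ.commutes a] at h1
    exact isUnit_of_map_unit (algebraMap Pr Ap) a h1
  have hmE : (maximalIdeal Pr).map (algebraMap Pr E) = maximalIdeal E :=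
    Algebra.FormallyUnramified.map_maximalIdeal
  -- `dim E ≤ dim Pr`
  have hdimE : ringKrullDim E ≤ ringKrullDim Pr := by
    rw [← IsLocalRing.maximalIdeal_height_eq_ringKrullDim,
      ← IsLocalRing.maximalIdeal_height_eq_ringKrullDim]
    have : (maximalIdeal E).LiesOver (maximalIdeal Pr) :=
      ⟨(((IsLocalRing.local_hom_TFAE (algebraMap Pr E)).out 0 4 rfl rfl).mp hlE).symm⟩
    have h := Ideal.height_le_height_add_of_liesOver (maximalIdeal Pr) (maximalIdeal E)
    have h0 : ((maximalIdeal E).map (Ideal.Quotient.mk ((maximalIdeal Pr).map (algebraMap Pr E)))).height = 0 := by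
      rw [hmE, Ideal.map_quotient_self]
      have : Nontrivial (E ⧸ maximalIdeal E) :=
        Ideal.Quotient.nontrivial_iff.mpr (maximalIdeal.isMaximal E).ne_top
      exact Ideal.height_bot
    rw [h0, add_zero] at h
    exact_mod_cast h
  -- `dim A_p = dim Pr`
  have hres : Dim.Basic.dimQ k r = Dim.Basic.dimQ k p := by
    have hr := Dim.Basic.trdeg_residueField k r
    have hp := Dim.Basic.trdeg_residueField k p
    let : Algebra r.ResidueField p.ResidueField :=
      (inferInstance : Algebra (ResidueField Pr) (ResidueField Ap))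
    have hfin : Module.Finite r.ResidueField p.ResidueField :=
      (inferInstance : Module.Finite (ResidueField Pr) (ResidueField Ap))
    have : IsScalarTower k r.ResidueField p.ResidueField := by
      refine IsScalarTower.of_algebraMap_eq fun c => ?_
      rw [IsScalarTower.algebraMap_apply k A p.ResidueField,
        IsScalarTower.algebraMap_apply k P A, IsScalarTower.algebraMap_apply k P r.ResidueField]
      change residue Ap (algebraMap A Ap (algebraMap P A _)) =
        residue Ap (algebraMap Pr Ap (algebraMap P Pr _))
      rw [← IsScalarTower.algebraMap_apply P A Ap, ← IsScalarTower.algebraMap_apply P Pr Ap]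
    have : Algebra.IsAlgebraic r.ResidueField p.ResidueField :=
      Algebra.IsAlgebraic.of_finite r.ResidueField p.ResidueField
    have h := trdeg_add_eq k r.ResidueField (A := p.ResidueField)
    rw [trdeg_eq_zero (R := r.ResidueField), add_zero, hr, hp] at h
    exact_mod_cast h
  have hdim : ringKrullDim Ap = ringKrullDim Pr := by
    have h1 : ringKrullDim Ap + (Dim.Basic.dimQ k p : WithBot ℕ∞) = (n : WithBot ℕ∞) := by
      rw [Dim.Local.ringKrullDim_localization, hn]
    have h2 : ringKrullDim Pr + (Dim.Basic.dimQ k p : WithBot ℕ∞) = (n : WithBot ℕ∞) := by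
      rw [IsLocalization.AtPrime.ringKrullDim_eq_height r, ← hres]
      exact_mod_cast height_add_dimQ k n r
    rw [IsLocalization.AtPrime.ringKrullDim_eq_height p] at h1 ⊢
    rw [IsLocalization.AtPrime.ringKrullDim_eq_height r] at h2 ⊢
    have h3 : p.height + (Dim.Basic.dimQ k p : ℕ∞) = r.height + (Dim.Basic.dimQ k p : ℕ∞) := by
      exact_mod_cast h1.trans h2.symm
    rw [WithTop.add_right_cancel (ENat.natCast_ne_top _) h3]
  -- `Ψ` is injective
  have hinj : Function.Injective Ψ := by
    rw [injective_iff_map_eq_zero]
    intro x hx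
    by_contra hx0
    have h := ringKrullDim_succ_le_of_surjective Ψ.toRingHom hΨ (mem_nonZeroDivisors_of_ne_zero hx0) hx
    have h' := h.trans (hdimE.trans hdim.ge)
    have hp : p.height ≠ ⊤ := Dim.Local.height_ne_top k p
    rw [IsLocalization.AtPrime.ringKrullDim_eq_height p] at h'
    have h'' : p.height + 1 ≤ p.height := by exact_mod_cast h'
    exact (lt_irrefl _) ((ENat.lt_add_one_iff hp).mpr le_rfl |>.trans_le h'')
  have hetAp : Algebra.FormallyEtale Pr Ap :=
    Algebra.FormallyEtale.of_equiv (AlgEquiv.ofBijective Ψ ⟨hinj, hΨ⟩)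
  have : Algebra.FormallyEtale P Pr := Algebra.FormallyEtale.of_isLocalization r.primeCompl
  exact Algebra.FormallyEtale.comp P Pr Ap

theorem isEtaleAt_iff_span (p : Ideal A) [p.IsPrime]
    (hn : FlatMor.localDim (PrimeSpectrum A) ⟨p, inferInstance⟩ = (n : WithBot ℕ∞)) :
    Algebra.IsEtaleAt P p ↔
      Submodule.span (Localization.AtPrime p)
        (Set.range fun i : Fin n => KaehlerDifferential.D k (Localization.AtPrime p)
          (algebraMap A (Localization.AtPrime p) (algebraMap P A (MvPolynomial.X i)))) = ⊤ := by
  simp only [← IsScalarTower.algebraMap_apply P A (Localization.AtPrime p)]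
  rw [span_eq_top_iff k n (Localization.AtPrime p)]
  refine ⟨fun _ => inferInstance, fun hu => isEtaleAt_of_dimAt k n A p hu ?_⟩
  rw [Dim.LocalDim.localDim_eq_dimAt k p] at hn
  exact_mod_cast hn

theorem etale_iff :
    Algebra.Etale P A ↔
      (∀ (m : Ideal A) [m.IsMaximal], ringKrullDim (Localization.AtPrime m) = n) ∧
        Submodule.span A (Set.range fun i : Fin n =>
          KaehlerDifferential.D k A (algebraMap P A (MvPolynomial.X i))) = ⊤ := by
  have : Algebra.FiniteType P A := Algebra.FiniteType.of_restrictScalars_finiteType k P A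
  have : Algebra.FinitePresentation P A := Algebra.FinitePresentation.of_finiteType.mp ‹_›
  rw [span_eq_top_iff k n A]
  constructor
  · intro het
    refine ⟨fun m hm => ?_, inferInstance⟩
    let r := m.under P
    have : IsJacobsonRing P := inferInstance
    have hr : r.IsMaximal := by
      let : Field (A ⧸ m) := Ideal.Quotient.field m
      have : Algebra.FiniteType k (A ⧸ m) := inferInstance
      have : Module.Finite k (A ⧸ m) := finite_of_finite_type_of_isJacobsonRing k (A ⧸ m)
      have : Module.Finite P (A ⧸ m) := Module.Finite.of_restrictScalars_finite k P (A ⧸ m)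
      have h1 : (RingHom.ker (algebraMap P (A ⧸ m))).IsMaximal :=
        Ideal.isMaximal_comap_of_isIntegral_of_isMaximal (R := P) (S := A ⧸ m) ⊥
      rwa [IsScalarTower.algebraMap_eq P A (A ⧸ m), ← RingHom.comap_ker,
        Ideal.Quotient.algebraMap_eq, Ideal.mk_ker] at h1
    let := Localization.AtPrime.algebraOfLiesOver r m
    let Pr := Localization.AtPrime r
    let Am := Localization.AtPrime m
    have : IsNoetherianRing A := Algebra.FiniteType.isNoetherianRing k A
    have : Algebra.EssFiniteType P Am := .comp P A Am
    have : Algebra.EssFiniteType Pr Am := .of_comp P Pr Am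
    have : Algebra.FormallyUnramified P Am := inferInstance
    have : Algebra.FormallyUnramified Pr Am := Algebra.FormallyUnramified.of_restrictScalars P Pr Am
    have : Module.Flat P Am := Module.Flat.trans P A Am
    have : Module.Flat Pr Am :=
      (Module.flat_iff_of_isLocalization Pr r.primeCompl _).mpr inferInstance
    have hm' : (maximalIdeal Pr).map (algebraMap Pr Am) = maximalIdeal Am :=
      Algebra.FormallyUnramified.map_maximalIdeal
    have : (maximalIdeal Am).LiesOver (maximalIdeal Pr) :=
      ⟨(((IsLocalRing.local_hom_TFAE (algebraMap Pr Am)).out 0 4 rfl rfl).mp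
        (inferInstance : IsLocalHom (algebraMap Pr Am))).symm⟩
    rw [← IsLocalRing.maximalIdeal_height_eq_ringKrullDim,
      Ideal.height_eq_height_add_of_liesOver_of_hasGoingDown (maximalIdeal Pr) (maximalIdeal Am),
      hm', Ideal.map_quotient_self]
    have : Nontrivial (Am ⧸ maximalIdeal Am) :=
      Ideal.Quotient.nontrivial_iff.mpr (maximalIdeal.isMaximal Am).ne_top
    rw [Ideal.height_bot, add_zero, IsLocalRing.maximalIdeal_height_eq_ringKrullDim,
      IsLocalization.AtPrime.ringKrullDim_eq_height r]
    have := height_add_dimQ k n r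
    rw [Dim.Basic.dimQ_eq_zero_of_isMaximal k r, Nat.cast_zero, add_zero] at this
    rw [this]
    norm_num
  · rintro ⟨hdim, hu⟩
    have : Algebra.FormallyUnramified P A := hu
    rw [← Algebra.etaleLocus_eq_univ_iff_etale]
    by_contra hne
    obtain ⟨x, hx⟩ := (Set.ne_univ_iff_exists_notMem _).mp hne
    obtain ⟨m, hm, hle⟩ := Ideal.exists_le_maximal x.asIdeal x.isPrime.ne_top
    have hdimAt : Dim.Local.dimAt k m = n := by
      have h := hdim m
      rw [IsLocalization.AtPrime.ringKrullDim_eq_height m, Dim.Local.height_maximal_eq_dimAt k m] at h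
      exact_mod_cast h
    have hmem : (⟨m, hm.isPrime⟩ : PrimeSpectrum A) ∈ Algebra.etaleLocus P A :=
      isEtaleAt_of_dimAt k n A m inferInstance hdimAt
    exact hx ((Algebra.isOpen_etaleLocus (R := P) (A := A)).stableUnderGeneralization
      ((PrimeSpectrum.le_iff_specializes x ⟨m, hm.isPrime⟩).mp hle) hmem)

end Groth.Agent.Lib.Unram.EtaleOverAffineSpace
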