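import Mathlib.AlgebraicGeometry.Stalk
import Mathlib.AlgebraicGeometry.Morphisms.Smooth
import Mathlib.AlgebraicGeometry.Morphisms.FormallyUnramified
import Mathlib.RingTheory.Smooth.Basic
import Groth.Agent.Lib.Unram.AtPrime

/-!
# Smooth / unramified at a point, by lifting along square-zero surjections of local rings
-/

universe u

open AlgebraicGeometry CategoryTheory

namespace Groth.Agent.Lib.Unram.LocalLifting

variable {X Y : Scheme.{u}}

theorem exists_hom {R : CommRingCat.{u}} [IsLocalRing R] (γ : Spec R ⟶ X) {x : X}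
    (h : γ (IsLocalRing.closedPoint R) = x) :
    ∃ g : X.presheaf.stalk x ⟶ R, IsLocalHom g.hom ∧ Spec.map g ≫ X.fromSpecStalk x = γ := by
  subst h
  exact ⟨Scheme.stalkClosedPointTo γ, inferInstance, Scheme.Spec_stalkClosedPointTo_fromSpecStalk γ⟩

theorem hom_inj {R : CommRingCat.{u}} [IsLocalRing R] {x : X} (a a' : X.presheaf.stalk x ⟶ R)
    [ha : IsLocalHom a.hom] [ha' : IsLocalHom a'.hom]
    (h : Spec.map a ≫ X.fromSpecStalk x = Spec.map a' ≫ X.fromSpecStalk x) : a = a' := by
  have := (SpecToEquivOfLocalRing X R).symm.injective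
    (a₁ := ⟨x, a, ha⟩) (a₂ := ⟨x, a', ha'⟩) h
  simpa using this

theorem comp_eq {R : CommRingCat.{u}} (f : X ⟶ Y) {x : X} (a : X.presheaf.stalk x ⟶ R) :
    (Spec.map a ≫ X.fromSpecStalk x) ≫ f = Spec.map (f.stalkMap x ≫ a) ≫ Y.fromSpecStalk (f x) := by
  rw [Category.assoc, ← Scheme.SpecMap_stalkMap_fromSpecStalk, ← Category.assoc, ← Spec.map_comp]

theorem isLocalHom_of_comp_surjective {A B B' : Type u} [CommRing A] [CommRing B] [CommRing B']
    (g : A →+* B') (φ : B' →+* B) [IsLocalHom (φ.comp g)] : IsLocalHom g :=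
  ⟨fun a ha => IsLocalHom.map_nonunit (f := φ.comp g) a (ha.map φ)⟩

theorem isLocalHom_surjective {B B' : Type u} [CommRing B] [CommRing B'] [IsLocalRing B] [IsLocalRing B']
    (φ : B' →+* B) (hφ : Function.Surjective φ) : IsLocalHom φ :=
  IsLocalHom.of_surjective φ hφ

/-- Square-zero surjections onto a local ring come from local rings. -/
theorem isLocalRing_of_sq_zero {B B' : Type u} [CommRing B] [CommRing B'] [IsLocalRing B] (φ : B' →+* B)
    (hφ : Function.Surjective φ) (h : RingHom.ker φ ^ 2 = ⊥) : IsLocalRing B' := by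
  haveI : Nontrivial B' := φ.domain_nontrivial
  refine IsLocalRing.of_isUnit_or_isUnit_one_sub_self fun a => ?_
  have key : ∀ b, IsUnit (φ b) → IsUnit b := fun b hb => by
    obtain ⟨c, hc⟩ := hφ hb.unit⁻¹.1
    have h1 : 1 - b * c ∈ RingHom.ker φ := by
      rw [RingHom.mem_ker, map_sub, map_one, map_mul, hc, IsUnit.mul_val_inv, sub_self]
    have h2 : (1 - b * c) ^ 2 = 0 := by
      rw [← Ideal.mem_bot, ← h]
      exact Ideal.pow_mem_pow h1 2
    exact IsUnit.of_mul_eq_one (c * (2 - b * c)) (by linear_combination -h2)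
  rcases IsLocalRing.isUnit_or_isUnit_one_sub_self (φ a) with h1 | h1
  · exact Or.inl (key a h1)
  · exact Or.inr (key _ (by rwa [map_sub, map_one]))

variable (f : X ⟶ Y) (x : X)

theorem formallySmooth_iff : (f.stalkMap x).hom.FormallySmooth ↔
    ∀ (B B' : Type u) [CommRing B] [CommRing B'] [IsLocalRing B] [IsLocalRing B'] (φ : B' →+* B),
      Function.Surjective φ → RingHom.ker φ ^ 2 = ⊥ →
      ∀ (α : Spec (CommRingCat.of B) ⟶ X) (β : Spec (CommRingCat.of B') ⟶ Y),
        α.base (IsLocalRing.closedPoint B) = x → Spec.map (CommRingCat.ofHom φ) ≫ β = α ≫ f →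
        ∃ γ : Spec (CommRingCat.of B') ⟶ X, Spec.map (CommRingCat.ofHom φ) ≫ γ = α ∧ γ ≫ f = β := by
  letI : Algebra (Y.presheaf.stalk (f x)) (X.presheaf.stalk x) := (f.stalkMap x).hom.toAlgebra
  constructor
  · intro hs B B' _ _ _ _ φ hφ hker α β hα hc
    haveI : Algebra.FormallySmooth (Y.presheaf.stalk (f x)) (X.presheaf.stalk x) := hs
    haveI : IsLocalHom φ := isLocalHom_surjective φ hφ
    haveI : IsLocalHom (CommRingCat.ofHom φ).hom := ‹IsLocalHom φ›
    obtain ⟨a, ha, rfl⟩ := exists_hom α hα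
    have hβ : β (IsLocalRing.closedPoint B') = f x := by
      have := congrArg (fun m : Spec (CommRingCat.of B) ⟶ Y => m (IsLocalRing.closedPoint B)) hc
      simp only [Scheme.Hom.comp_apply] at this
      rw [Spec_closedPoint, ← Scheme.Hom.comp_apply (Spec.map a)] at this
      exact this.trans (congrArg f hα)
    obtain ⟨b, hb, rfl⟩ := exists_hom β hβ
    haveI : IsLocalHom (b ≫ CommRingCat.ofHom φ).hom := RingHom.isLocalHom_comp φ b.hom
    haveI : IsLocalHom (f.stalkMap x ≫ a).hom := RingHom.isLocalHom_comp a.hom (f.stalkMap x).hom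
    have hab : b ≫ CommRingCat.ofHom φ = f.stalkMap x ≫ a := hom_inj _ _ (by
      rw [Spec.map_comp, Category.assoc, hc, comp_eq])
    letI : Algebra (Y.presheaf.stalk (f x)) B' := b.hom.toAlgebra
    letI : Algebra (Y.presheaf.stalk (f x)) B := (φ.comp b.hom).toAlgebra
    let φ' : B' →ₐ[Y.presheaf.stalk (f x)] B := { φ with commutes' := fun _ => rfl }
    let a' : X.presheaf.stalk x →ₐ[Y.presheaf.stalk (f x)] B :=
      { a.hom with commutes' := fun r => (RingHom.congr_fun (congrArg CommRingCat.Hom.hom hab) r).symm }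
    let g := Algebra.FormallySmooth.liftOfSurjective a' φ' hφ ⟨2, hker⟩
    have hg : φ'.comp g = a' := Algebra.FormallySmooth.comp_liftOfSurjective a' φ' hφ ⟨2, hker⟩
    refine ⟨Spec.map (CommRingCat.ofHom g.toRingHom) ≫ X.fromSpecStalk x, ?_, ?_⟩
    · rw [← Category.assoc, ← Spec.map_comp]
      congr 2
      ext z
      exact AlgHom.congr_fun hg z
    · rw [comp_eq]
      congr 2
      ext z
      exact g.commutes z
  · intro H
    let A := X.presheaf.stalk x
    let R := Y.presheaf.stalk (f x)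
    let π : MvPolynomial A R →ₐ[R] A := MvPolynomial.aeval id
    have hπ : Function.Surjective π := fun z => ⟨MvPolynomial.X z, by simp [π]⟩
    let q := π.kerSquareLift
    have hq : Function.Surjective q := fun z => by
      obtain ⟨w, rfl⟩ := hπ z
      exact ⟨Ideal.Quotient.mk _ w, rfl⟩
    have hqk : RingHom.ker q.toRingHom ^ 2 = ⊥ := by
      rw [AlgHom.ker_kerSquareLift]
      exact Ideal.cotangentIdeal_square _
    haveI : IsLocalRing (MvPolynomial A R ⧸ RingHom.ker π.toRingHom ^ 2) :=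
      isLocalRing_of_sq_zero q.toRingHom hq hqk
    let b : R ⟶ CommRingCat.of (MvPolynomial A R ⧸ RingHom.ker π.toRingHom ^ 2) :=
      CommRingCat.ofHom (algebraMap R _)
    have hqb : b ≫ CommRingCat.ofHom q.toRingHom = f.stalkMap x ≫ 𝟙 _ := by
      ext r
      exact q.commutes r
    haveI : IsLocalHom b.hom := by
      haveI : IsLocalHom ((q.toRingHom).comp b.hom) := by
        rw [show (q.toRingHom).comp b.hom = (f.stalkMap x).hom from RingHom.ext q.commutes]
        infer_instance
      exact isLocalHom_of_comp_surjective b.hom q.toRingHom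
    obtain ⟨γ, hγ₁, hγ₂⟩ := H A _ q.toRingHom hq hqk (X.fromSpecStalk x)
      (Spec.map b ≫ Y.fromSpecStalk (f x)) Scheme.fromSpecStalk_closedPoint (by
        rw [← Category.assoc, ← Spec.map_comp, hqb, Category.comp_id,
          Scheme.SpecMap_stalkMap_fromSpecStalk])
    haveI : IsLocalHom q.toRingHom := isLocalHom_surjective _ hq
    haveI : IsLocalHom (CommRingCat.ofHom q.toRingHom).hom := ‹IsLocalHom q.toRingHom›
    obtain ⟨g, hg, rfl⟩ := exists_hom γ (x := x) (by
      rw [← Spec_closedPoint (f := CommRingCat.ofHom q.toRingHom)]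
      exact (Scheme.Hom.comp_apply _ _ _).symm.trans
        ((congrArg (fun m : Spec _ ⟶ X => m (IsLocalRing.closedPoint A)) hγ₁).trans
          Scheme.fromSpecStalk_closedPoint))
    haveI : IsLocalHom (g ≫ CommRingCat.ofHom q.toRingHom).hom := RingHom.isLocalHom_comp q.toRingHom g.hom
    haveI : IsLocalHom (f.stalkMap x ≫ g).hom := RingHom.isLocalHom_comp g.hom (f.stalkMap x).hom
    have h1 : g ≫ CommRingCat.ofHom q.toRingHom = 𝟙 _ := hom_inj _ _ (by
      rw [Spec.map_comp, Category.assoc, hγ₁]; exact ((congrArg (· ≫ X.fromSpecStalk x) (Spec.map_id _)).trans (Category.id_comp _)).symm)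
    have h2 : f.stalkMap x ≫ g = b := hom_inj _ _ (by rw [← comp_eq, hγ₂])
    exact Algebra.FormallySmooth.of_split π
      { g.hom with commutes' := fun r => RingHom.congr_fun (congrArg CommRingCat.Hom.hom h2) r }
      (AlgHom.ext fun z => RingHom.congr_fun (congrArg CommRingCat.Hom.hom h1) z)

theorem formallyUnramified_iff : (f.stalkMap x).hom.FormallyUnramified ↔
    ∀ (B B' : Type u) [CommRing B] [CommRing B'] [IsLocalRing B] [IsLocalRing B'] (φ : B' →+* B),
      Function.Surjective φ → RingHom.ker φ ^ 2 = ⊥ →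
      ∀ (α : Spec (CommRingCat.of B) ⟶ X) (β : Spec (CommRingCat.of B') ⟶ Y),
        α.base (IsLocalRing.closedPoint B) = x → Spec.map (CommRingCat.ofHom φ) ≫ β = α ≫ f →
        ∀ γ₁ γ₂ : Spec (CommRingCat.of B') ⟶ X,
          Spec.map (CommRingCat.ofHom φ) ≫ γ₁ = α → γ₁ ≫ f = β →
          Spec.map (CommRingCat.ofHom φ) ≫ γ₂ = α → γ₂ ≫ f = β → γ₁ = γ₂ := by
  letI : Algebra (Y.presheaf.stalk (f x)) (X.presheaf.stalk x) := (f.stalkMap x).hom.toAlgebra
  constructor
  · intro hu B B' _ _ _ _ φ hφ hker α β hα _ γ₁ γ₂ h₁ h₁' h₂ h₂'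
    haveI : Algebra.FormallyUnramified (Y.presheaf.stalk (f x)) (X.presheaf.stalk x) := hu
    haveI : IsLocalHom φ := isLocalHom_surjective φ hφ
    haveI : IsLocalHom (CommRingCat.ofHom φ).hom := ‹IsLocalHom φ›
    have hx : ∀ γ, Spec.map (CommRingCat.ofHom φ) ≫ γ = α → γ (IsLocalRing.closedPoint B') = x :=
      fun γ hγ => by
        rw [← Spec_closedPoint (f := CommRingCat.ofHom φ), ← Scheme.Hom.comp_apply, hγ]
        exact hα
    obtain ⟨g₁, _, rfl⟩ := exists_hom γ₁ (hx γ₁ h₁)
    obtain ⟨g₂, _, rfl⟩ := exists_hom γ₂ (hx γ₂ h₂)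
    haveI : IsLocalHom (g₁ ≫ CommRingCat.ofHom φ).hom := RingHom.isLocalHom_comp φ g₁.hom
    haveI : IsLocalHom (g₂ ≫ CommRingCat.ofHom φ).hom := RingHom.isLocalHom_comp φ g₂.hom
    haveI : IsLocalHom (f.stalkMap x ≫ g₁).hom := RingHom.isLocalHom_comp g₁.hom (f.stalkMap x).hom
    haveI : IsLocalHom (f.stalkMap x ≫ g₂).hom := RingHom.isLocalHom_comp g₂.hom (f.stalkMap x).hom
    have e₁ : g₁ ≫ CommRingCat.ofHom φ = g₂ ≫ CommRingCat.ofHom φ := hom_inj _ _ (by
      rw [Spec.map_comp, Spec.map_comp, Category.assoc, Category.assoc, h₁, h₂])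
    have e₂ : f.stalkMap x ≫ g₁ = f.stalkMap x ≫ g₂ := hom_inj _ _ (by
      rw [← comp_eq, ← comp_eq, h₁', h₂'])
    letI : Algebra (Y.presheaf.stalk (f x)) B' := (f.stalkMap x ≫ g₁).hom.toAlgebra
    let a₁ : X.presheaf.stalk x →ₐ[Y.presheaf.stalk (f x)] B' := { g₁.hom with commutes' := fun _ => rfl }
    let a₂ : X.presheaf.stalk x →ₐ[Y.presheaf.stalk (f x)] B' :=
      { g₂.hom with commutes' := fun r => (RingHom.congr_fun (congrArg CommRingCat.Hom.hom e₂) r).symm }
    have : a₁ = a₂ := Algebra.FormallyUnramified.ext' φ ⟨2, hker⟩ _ _ fun z =>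
      RingHom.congr_fun (congrArg CommRingCat.Hom.hom e₁) z
    congr 2
    ext z
    exact AlgHom.congr_fun this z
  · intro H
    let A := X.presheaf.stalk x
    let R := Y.presheaf.stalk (f x)
    let q : TensorProduct R A A ⧸ KaehlerDifferential.ideal R A ^ 2 →ₐ[R] A :=
      Ideal.Quotient.liftₐ _ (Algebra.TensorProduct.lmul' R) fun z hz => Ideal.pow_le_self two_ne_zero hz
    have hq : Function.Surjective q := fun z => ⟨Ideal.Quotient.mk _ (z ⊗ₜ[R] 1), by simp [q]⟩
    have hqk : RingHom.ker q.toRingHom ^ 2 = ⊥ := by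
      rw [show RingHom.ker q.toRingHom = (KaehlerDifferential.ideal R A).cotangentIdeal from
        Ideal.ext fun w => by
          obtain ⟨w, rfl⟩ := Ideal.Quotient.mk_surjective w
          exact (Ideal.mk_mem_cotangentIdeal (I := KaehlerDifferential.ideal R A) (x := w)).symm]
      exact Ideal.cotangentIdeal_square _
    haveI : IsLocalRing (TensorProduct R A A ⧸ KaehlerDifferential.ideal R A ^ 2) :=
      isLocalRing_of_sq_zero q.toRingHom hq hqk
    haveI : IsLocalHom q.toRingHom := isLocalHom_surjective _ hq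
    let g₁ : A →+* TensorProduct R A A ⧸ KaehlerDifferential.ideal R A ^ 2 :=
      (Ideal.Quotient.mk _).comp Algebra.TensorProduct.includeLeftRingHom
    let g₂ : A →+* TensorProduct R A A ⧸ KaehlerDifferential.ideal R A ^ 2 :=
      (Ideal.Quotient.mk _).comp (Algebra.TensorProduct.includeRight (R := R) (A := A) (B := A)).toRingHom
    have hq₁ : q.toRingHom.comp g₁ = RingHom.id A := RingHom.ext fun z => by simp [q, g₁]
    have hq₂ : q.toRingHom.comp g₂ = RingHom.id A := RingHom.ext fun z => by simp [q, g₂]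
    haveI : IsLocalHom (q.toRingHom.comp g₁) := by rw [hq₁]; exact ⟨fun _ h => h⟩
    haveI : IsLocalHom (q.toRingHom.comp g₂) := by rw [hq₂]; exact ⟨fun _ h => h⟩
    haveI : IsLocalHom (CommRingCat.ofHom g₁).hom := isLocalHom_of_comp_surjective g₁ q.toRingHom
    haveI : IsLocalHom (CommRingCat.ofHom g₂).hom := isLocalHom_of_comp_surjective g₂ q.toRingHom
    have hθ : f.stalkMap x ≫ CommRingCat.ofHom g₁ = f.stalkMap x ≫ CommRingCat.ofHom g₂ := by
      ext r
      simp only [g₁, g₂, CommRingCat.hom_comp, CommRingCat.hom_ofHom, RingHom.comp_apply]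
      exact congrArg (Ideal.Quotient.mk _) (RingHom.congr_fun
        (Algebra.TensorProduct.includeLeftRingHom_comp_algebraMap (R := R) (A := A) (B := A)) r)
    have hid : ∀ g : A →+* TensorProduct R A A ⧸ KaehlerDifferential.ideal R A ^ 2,
        q.toRingHom.comp g = RingHom.id A →
        Spec.map (CommRingCat.ofHom q.toRingHom) ≫ Spec.map (CommRingCat.ofHom g) ≫ X.fromSpecStalk x =
          X.fromSpecStalk x := fun g hg => by
      rw [← Category.assoc, ← Spec.map_comp, ← CommRingCat.ofHom_comp, hg]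
      exact (congrArg (· ≫ X.fromSpecStalk x) (Spec.map_id _)).trans (Category.id_comp _)
    have e := H A _ q.toRingHom hq hqk (X.fromSpecStalk x)
      ((Spec.map (CommRingCat.ofHom g₁) ≫ X.fromSpecStalk x) ≫ f) Scheme.fromSpecStalk_closedPoint
      (by rw [← Category.assoc, hid g₁ hq₁]) _ (Spec.map (CommRingCat.ofHom g₂) ≫ X.fromSpecStalk x)
      (hid g₁ hq₁) rfl (hid g₂ hq₂) (by
        rw [comp_eq, comp_eq]
        exact congrArg (fun m => Spec.map m ≫ Y.fromSpecStalk (f x)) hθ.symm)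
    have e' : CommRingCat.ofHom g₁ = CommRingCat.ofHom g₂ := hom_inj _ _ e
    refine ⟨(Ideal.cotangent_subsingleton_iff _).mpr ?_⟩
    refine le_antisymm (Ideal.mul_le_left) ?_
    conv_lhs => rw [← KaehlerDifferential.span_range_eq_ideal]
    rw [Ideal.span_le]
    rintro _ ⟨z, rfl⟩
    rw [SetLike.mem_coe, ← pow_two, ← Ideal.Quotient.eq_zero_iff_mem, map_sub, sub_eq_zero]
    exact (RingHom.congr_fun (congrArg CommRingCat.Hom.hom e') z).symm

end Groth.Agent.Lib.Unram.LocalLifting
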