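import Groth.Agent.Lib.Henselian.EtaleLift

/-!
# Standard smooth algebras lift along quotient maps
-/

universe u

open TensorProduct MvPolynomial

namespace Groth.Agent.Lib.Unram.SmoothLift

variable {A : Type u} [CommRing A] (I : Ideal A)

/-- Standard smooth algebras over a quotient lift. -/
theorem exists_standardSmooth_lift (C : Type u) [CommRing C] [Algebra A C] [Algebra (A ⧸ I) C]
    [IsScalarTower A (A ⧸ I) C] [Algebra.IsStandardSmooth (A ⧸ I) C] :
    ∃ (L : Type u) (_ : CommRing L) (_ : Algebra A L) (_ : Algebra.Smooth A L) (ψ : L →ₐ[A] C),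
      Function.Surjective ψ ∧ RingHom.ker ψ.toRingHom = I.map (algebraMap A L) := by
  classical
  obtain ⟨ι, σ, _, _, ⟨P⟩⟩ := Algebra.IsStandardSmooth.out (R := A ⧸ I) (S := C)
  have : Fintype ι := Fintype.ofFinite ι
  have : Fintype σ := Fintype.ofFinite σ
  let μ : MvPolynomial ι A →+* MvPolynomial ι (A ⧸ I) := MvPolynomial.map (Ideal.Quotient.mk I)
  have hμ : Function.Surjective μ := MvPolynomial.map_surjective _ Ideal.Quotient.mk_surjective
  choose r hr using fun j => hμ (P.relation j)
  let K : Ideal (MvPolynomial ι A) := Ideal.span (Set.range r)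
  let S := MvPolynomial ι A ⧸ K
  let P₀ : Algebra.PreSubmersivePresentation A S ι σ :=
    Algebra.PreSubmersivePresentation.naive P.map P.map_inj
  let Δ : S := P₀.jacobian
  let L := Localization.Away Δ
  have hΔ : IsUnit (algebraMap S L Δ) := IsLocalization.Away.algebraMap_isUnit _
  have hL : Algebra.Smooth A L := by
    let Q : Algebra.SubmersivePresentation A L _ _ :=
      { toPreSubmersivePresentation := .comp (.localizationAway L Δ) P₀
        jacobian_isUnit := by simpa [Algebra.smul_def, -isUnit_map_iff, Δ] using hΔ }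
    have : Algebra.IsStandardSmooth A L := Q.isStandardSmooth
    infer_instance
  let ev : MvPolynomial ι A →ₐ[A] C := MvPolynomial.aeval P.val
  have hev : ∀ z, ev z = algebraMap P.Ring C (μ z) := by
    intro z
    rw [Algebra.Generators.algebraMap_apply]
    show _ = MvPolynomial.aeval P.val (MvPolynomial.map (Ideal.Quotient.mk I) z)
    rw [← Ideal.Quotient.algebraMap_eq, MvPolynomial.aeval_map_algebraMap]
  have hkerev : ∀ z, ev z = 0 ↔ z ∈ K ⊔ I.map MvPolynomial.C := by
    intro z
    have h1 : RingHom.ker μ = I.map MvPolynomial.C := by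
      rw [MvPolynomial.ker_map, Ideal.mk_ker]
    have h2 : μ z ∈ P.ker ↔ z ∈ (P.ker).comap μ := Iff.rfl
    have h3 : P.ker = K.map μ := by
      rw [← P.span_range_relation_eq_ker, Ideal.map_span, ← Set.range_comp]
      congr 1
      exact congrArg Set.range (funext fun j => (hr j).symm)
    rw [hev, ← RingHom.mem_ker]
    show μ z ∈ P.ker ↔ _
    rw [h2, h3,
      Ideal.comap_map_of_surjective _ hμ, ← RingHom.ker_eq_comap_bot, h1]
  let σ₀ : S →ₐ[A] C := Ideal.Quotient.liftₐ K ev fun z hz => (hkerev z).mpr (Ideal.mem_sup_left hz)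
  have hσΔ : IsUnit (σ₀ Δ) := by
    have hval : ∀ x : MvPolynomial ι A, algebraMap P₀.Ring S x = Ideal.Quotient.mk K x := fun x => by
      rw [Algebra.Generators.algebraMap_apply]
      have h : MvPolynomial.aeval P₀.val = Ideal.Quotient.mkₐ A K :=
        MvPolynomial.algHom_ext fun j => by simp [P₀, K]; rfl
      exact AlgHom.congr_fun h x
    have hΔ' : Δ = Ideal.Quotient.mk K P₀.jacobiMatrix.det :=
      (Algebra.PreSubmersivePresentation.jacobian_eq_jacobiMatrix_det P₀).trans (hval _)
    rw [hΔ']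
    show IsUnit (ev P₀.jacobiMatrix.det)
    rw [hev, RingHom.map_det]
    convert P.jacobian_isUnit using 1
    rw [Algebra.PreSubmersivePresentation.jacobian_eq_jacobiMatrix_det]
    congr 2
    ext i j : 1
    rw [RingHom.mapMatrix_apply, Matrix.map_apply,
      Algebra.PreSubmersivePresentation.jacobiMatrix_naive,
      Algebra.PreSubmersivePresentation.jacobiMatrix_apply]
    show MvPolynomial.map _ (MvPolynomial.pderiv (P.map i) (r j)) = _
    rw [← MvPolynomial.pderiv_map]
    exact congrArg _ (hr j)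
  let ψ : L →ₐ[A] C := IsLocalization.Away.liftAlgHom Δ (f := σ₀) hσΔ
  have hψ : ∀ s, ψ (algebraMap S L s) = σ₀ s := fun s => IsLocalization.lift_eq _ s
  refine ⟨L, inferInstance, inferInstance, hL, ψ, fun c => ?_, le_antisymm ?_ ?_⟩
  · obtain ⟨p, hp⟩ := P.algebraMap_surjective c
    obtain ⟨z, rfl⟩ := hμ p
    exact ⟨algebraMap S L (Ideal.Quotient.mk K z), (hψ _).trans ((hev z).trans hp)⟩
  · intro y hy
    obtain ⟨s, ⟨_, n, rfl⟩, rfl⟩ := IsLocalization.exists_mk'_eq (Submonoid.powers Δ) y
    obtain ⟨z, rfl⟩ := Ideal.Quotient.mk_surjective s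
    have h0 : ψ (algebraMap S L (Ideal.Quotient.mk K z)) = 0 := by
      rw [← IsLocalization.mk'_spec L _ (⟨Δ ^ n, n, rfl⟩ : Submonoid.powers Δ), map_mul,
        show ψ (IsLocalization.mk' L _ _) = 0 from hy, zero_mul]
    rw [hψ] at h0
    have h1 := Ideal.mem_map_of_mem ((algebraMap S L).comp (Ideal.Quotient.mk K)) ((hkerev z).mp h0)
    rw [← Ideal.map_map, Ideal.map_sup, Ideal.map_quotient_self, bot_sup_eq, Ideal.map_map,
      Ideal.map_map, show ((algebraMap S L).comp (Ideal.Quotient.mk K)).comp MvPolynomial.C =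
        algebraMap A L from (IsScalarTower.algebraMap_eq A S L).symm] at h1
    refine (Ideal.mul_unit_mem_iff_mem _ (hΔ.pow n)).mp ?_
    rw [← map_pow, IsLocalization.mk'_spec L _ (⟨Δ ^ n, n, rfl⟩ : Submonoid.powers Δ)]
    exact h1
  · refine Ideal.map_le_iff_le_comap.mpr fun a ha => ?_
    rw [Ideal.mem_comap, RingHom.mem_ker]
    show ψ (algebraMap A L a) = 0
    rw [AlgHom.commutes, IsScalarTower.algebraMap_apply A (A ⧸ I) C, Ideal.Quotient.algebraMap_eq,
      Ideal.Quotient.eq_zero_iff_mem.mpr ha, map_zero]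

end Groth.Agent.Lib.Unram.SmoothLift
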