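import Groth.Agent.Lib.Unram.BranchHenselian
import Groth.Agent.Lib.Unram.OneBranch
import Groth.Agent.Lib.Unram.LocalStandardEtale
import Groth.Agent.Lib.Unram.CompletionBranch
import Groth.Agent.Lib.Henselian.Permanence
import Groth.Agent.Lib.Henselian.EtaleHom
import Groth.Agent.Lib.IndEtale.Zariski
import Mathlib.RingTheory.Unramified.LocalRing

/-!
# Local algebras essentially étale over geometrically unibranch rings
-/

set_option autoImplicit false

universe u

open IsLocalRing
open scoped TensorProduct nonZeroDivisors

namespace Groth.Agent.Lib.Unram.UnibranchEtaleAlg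

open Henselian.StrictHenselization (StrictHenselization)

/-- A residually trivial local ind-étale algebra over a henselian local ring is trivial. -/
theorem bijective_of_indEtale (S T : Type u) [CommRing S] [HenselianLocalRing S] [CommRing T]
    [IsLocalRing T] [Algebra S T] [IsLocalHom (algebraMap S T)] (hind : EtPBC.IsIndEtale S T)
    (hres : Function.Surjective (ResidueField.map (algebraMap S T))) :
    Function.Bijective (algebraMap S T) := by
  have hf := IndEtale.Basic.factors hind
  have : Module.Flat S T := IndEtale.Basic.flat hf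
  have : Module.FaithfullyFlat S T := Module.FaithfullyFlat.of_flat_of_isLocalHom
  refine ⟨FaithfulSMul.algebraMap_injective S T, fun x => ?_⟩
  classical
  obtain ⟨E, _, _, hE, v, hv⟩ := IndEtale.Basic.exists_lift hf {x}
  have : Algebra.Etale S E := hE
  obtain ⟨e, he⟩ := hv (Finset.mem_coe.mpr (Finset.mem_singleton_self x))
  let η := RingEquiv.ofBijective (ResidueField.map (algebraMap S T)) ⟨RingHom.injective _, hres⟩
  let π : S →ₐ[S] ResidueField S := Algebra.ofId S (ResidueField S)
  have hker : RingHom.ker π = maximalIdeal S := by
    ext s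
    exact residue_eq_zero_iff s
  have : HenselianRing S (RingHom.ker π) := by
    rw [hker]; infer_instance
  let σ : E →ₐ[S] ResidueField S :=
    { η.symm.toRingHom.comp ((residue T).comp v.toRingHom) with
      commutes' := fun s => by
        change η.symm (residue T (v (algebraMap S E s))) = residue S s
        rw [v.commutes, RingEquiv.symm_apply_eq]
        rfl }
  obtain ⟨τ, hτ, -⟩ := Henselian.EtaleHom.existsUnique_algHom_lift_of_surjective π
    (fun y => residue_surjective y) σ
  have hvτ : v = (Algebra.ofId S T).comp τ := by
    refine Henselian.Etale.algHom_ext_of_isLocalHom (residue T) _ _ fun y => ?_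
    have h1 : η.symm (residue T (v y)) = residue S (τ y) := (AlgHom.congr_fun hτ y).symm
    rw [RingEquiv.symm_apply_eq] at h1
    exact h1
  exact ⟨τ e, by rw [← he, hvτ]; rfl⟩

section Local

variable (A B : Type u) [CommRing A] [IsLocalRing A] [CommRing B] [IsLocalRing B] [Algebra A B]
  [IsLocalHom (algebraMap A B)]

theorem isIndEtale_of_flat_unramified [Algebra.EssFiniteType A B] [Algebra.FormallyUnramified A B]
    [Module.Flat A B] : EtPBC.IsIndEtale A B := by
  obtain ⟨P, 𝔮, _, ⟨e⟩⟩ := LocalStandardEtale.exists_equiv A B
  exact IndEtale.Basic.of_algEquiv (IndEtale.Basic.of_factors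
    (IndEtale.Zariski.factors_localization (IndEtale.Basic.impliesFP A) IndEtale.Zariski.stableAway_etale
      (IndEtale.Basic.factors IndEtale.Basic.of_etale) 𝔮.primeCompl (Localization.AtPrime 𝔮))) e.symm

variable [Algebra.IsSeparable (ResidueField A) (ResidueField B)]

/-- Strict henselizations of local ind-étale algebras. -/
theorem exists_strict_equiv (hind : EtPBC.IsIndEtale A B) :
    Nonempty (StrictHenselization A ≃+* StrictHenselization B) := by
  let S := StrictHenselization A
  let T := StrictHenselization B
  have hS : Hensel.IsStrictHenselization A S := inferInstance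
  have hT : Hensel.IsStrictHenselization B T := inferInstance
  have := hS.isSepClosure.sep_closed
  have := hS.isSepClosure.separable
  have := hT.isSepClosure.sep_closed
  have := hT.isSepClosure.separable
  let f : A →+* T := (algebraMap B T).comp (algebraMap A B)
  have : IsLocalHom f := RingHom.isLocalHom_comp _ _
  let : Algebra (ResidueField A) (ResidueField T) := (ResidueField.map f).toAlgebra
  have : IsScalarTower (ResidueField A) (ResidueField B) (ResidueField T) :=
    IsScalarTower.of_algebraMap_eq fun y => by
      obtain ⟨a, rfl⟩ := residue_surjective y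
      rfl
  have : Algebra.IsSeparable (ResidueField A) (ResidueField T) :=
    Algebra.IsSeparable.trans (ResidueField A) (ResidueField B) (ResidueField T)
  let τ : ResidueField S →ₐ[ResidueField A] ResidueField T := IsSepClosed.lift
  obtain ⟨g, ⟨hg, hgτ⟩, -⟩ := hS.universal T f τ.toRingHom (RingHom.ext fun x => τ.commutes x)
  have : IsLocalHom g := ⟨fun x hx => by
    by_contra hu
    have h := hgτ x
    rw [(residue_eq_zero_iff x).mpr hu, map_zero] at h
    exact (hx.map (residue T)).ne_zero h⟩
  let : Algebra S T := g.toAlgebra
  have : IsLocalHom (algebraMap S T) := ‹IsLocalHom g›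
  let : Algebra A T := f.toAlgebra
  have : IsScalarTower A B T := IsScalarTower.of_algebraMap_eq fun a => rfl
  have : IsScalarTower A S T := IsScalarTower.of_algebraMap_eq fun a => (RingHom.congr_fun hg a).symm
  have hST : EtPBC.IsIndEtale S T :=
    IndEtale.Basic.cancel Henselian.IndEtale.isIndEtale_lim
      (IndEtale.Basic.trans hind Henselian.IndEtale.isIndEtale_lim)
  have hmap : ResidueField.map (algebraMap S T) = τ.toRingHom := RingHom.ext fun y => by
    obtain ⟨s, rfl⟩ := residue_surjective y
    exact hgτ s
  have hres : Function.Surjective (ResidueField.map (algebraMap S T)) := by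
    rw [hmap]
    let : Algebra (ResidueField S) (ResidueField T) := τ.toRingHom.toAlgebra
    have : IsScalarTower (ResidueField A) (ResidueField S) (ResidueField T) :=
      IsScalarTower.of_algebraMap_eq fun y => (τ.commutes y).symm
    have : Algebra.IsSeparable (ResidueField S) (ResidueField T) :=
      Algebra.isSeparable_tower_top_of_isSeparable (ResidueField A) _ _
    exact IsSepClosed.algebraMap_surjective (ResidueField S) (ResidueField T)
  exact ⟨RingEquiv.ofBijective _ (bijective_of_indEtale S T hST hres)⟩

omit [IsLocalHom (algebraMap A B)] [Algebra.IsSeparable (ResidueField A) (ResidueField B)] [Algebra A B]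
  [CommRing B] [IsLocalRing B] in
theorem minimalPrimes_strict_subsingleton_iff :
    (∃ P, minimalPrimes (StrictHenselization A) = {P}) ↔ CAlg2.IsGeomUnibranch A := by
  rw [← OneBranch.numGeomBranches_eq_one_iff,
    ← BranchHenselian.card_minimalPrimes_strictHenselization A (StrictHenselization A), ENat.card_coe_set_eq,
    Set.encard_eq_one]

/-- Geometric unibranchness ascends to local ind-étale algebras. -/
theorem isGeomUnibranch (hind : EtPBC.IsIndEtale A B) (hA : CAlg2.IsGeomUnibranch A) :
    CAlg2.IsGeomUnibranch B := by
  obtain ⟨e⟩ := exists_strict_equiv A B hind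
  obtain ⟨P, hP⟩ := (minimalPrimes_strict_subsingleton_iff A).mpr hA
  refine (minimalPrimes_strict_subsingleton_iff B).mp ⟨P.comap e.symm.toRingHom, ?_⟩
  let F := PrimeSpectrum.comapEquiv e
  ext Q
  refine ⟨fun hQ => ?_, ?_⟩
  · have := hQ.1.1
    have h1 : Q.comap e.toRingHom ∈ minimalPrimes (StrictHenselization A) := by
      refine ⟨⟨Ideal.comap_isPrime _ _, bot_le⟩, fun R hR hle => ?_⟩
      have := hR.1
      have h2 : Q ≤ R.comap e.symm.toRingHom := hQ.2 ⟨Ideal.comap_isPrime _ _, bot_le⟩ fun b hb => by
        have : e (e.symm b) ∈ Q := hle hb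
        rwa [RingEquiv.apply_symm_apply] at this
      intro a ha
      have h3 : e.symm (e a) ∈ R := h2 ha
      rwa [RingEquiv.symm_apply_apply] at h3
    rw [hP, Set.mem_singleton_iff] at h1
    rw [Set.mem_singleton_iff, ← h1, Ideal.comap_comap]
    ext b
    simp
  · intro hQ
    rw [Set.mem_singleton_iff] at hQ
    subst hQ
    have hPm : P ∈ minimalPrimes (StrictHenselization A) := hP ▸ rfl
    have := hPm.1.1
    refine ⟨⟨Ideal.comap_isPrime _ _, bot_le⟩, fun R hR hle => ?_⟩
    have := hR.1
    have h2 : P ≤ R.comap e.toRingHom := hPm.2 ⟨Ideal.comap_isPrime _ _, bot_le⟩ fun a ha => by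
      have h4 : e.symm (e a) ∈ P := hle ha
      rwa [RingEquiv.symm_apply_apply] at h4
    intro b hb
    have h3 : e (e.symm b) ∈ R := h2 hb
    rwa [RingEquiv.apply_symm_apply] at h3

/-- Over a geometrically unibranch domain, local ind-étale algebras are domains. -/
theorem isDomain [IsDomain A] (hind : EtPBC.IsIndEtale A B) (hA : CAlg2.IsGeomUnibranch A) :
    IsDomain B := by
  obtain ⟨e⟩ := exists_strict_equiv A B hind
  obtain ⟨P, hP⟩ := (minimalPrimes_strict_subsingleton_iff A).mpr hA
  have : IsReduced (StrictHenselization A) :=
    (Henselian.Permanence.strict_isReduced_iff A (StrictHenselization A)).mp inferInstance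
  have hPp : P.IsPrime := (show P ∈ minimalPrimes (StrictHenselization A) from hP ▸ rfl).1.1
  have hbot : P = ⊥ := by
    rw [← Ideal.zero_eq_bot, ← nilradical_eq_zero (StrictHenselization A)]
    refine Eq.symm (Ideal.ext fun x => ?_)
    rw [OneBranch.mem_nilradical_iff_forall, hP]
    simp
  have : (⊥ : Ideal (StrictHenselization A)).IsPrime := hbot ▸ hPp
  have : IsDomain (StrictHenselization A) := IsDomain.of_bot_isPrime _
  have : IsDomain (StrictHenselization B) := e.symm.toMulEquiv.isDomain _
  have := Henselian.StrictHenselization.faithfullyFlat B (StrictHenselization B)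
  exact (FaithfulSMul.algebraMap_injective B (StrictHenselization B)).isDomain

end Local

/-- An unramified local algebra over a geometrically unibranch domain with injective structure map
is étale. -/
theorem flat_of_injective (A B : Type u) [CommRing A] [IsLocalRing A] [IsDomain A] [CommRing B]
    [IsLocalRing B] [Algebra A B] [IsLocalHom (algebraMap A B)] [Algebra.EssFiniteType A B]
    [Algebra.FormallyUnramified A B] (hA : CAlg2.IsGeomUnibranch A)
    (hinj : Function.Injective (algebraMap A B)) : Module.Flat A B := by
  obtain ⟨P, 𝔮, _, Ψ, hΨ, hloc⟩ := LocalStandardEtale.exists_surjection A B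
  let E := Localization.AtPrime 𝔮
  have : IsLocalHom (algebraMap A E) := ⟨fun a ha => by
    have h1 := ha.map Ψ.toRingHom
    rw [show Ψ.toRingHom (algebraMap A E a) = algebraMap A B a from Ψ.commutes a] at h1
    exact isUnit_of_map_unit (algebraMap A B) a h1⟩
  have : Algebra.FormallyUnramified P.Ring E := Algebra.FormallyUnramified.of_isLocalization 𝔮.primeCompl
  have : Algebra.FormallyUnramified A E := Algebra.FormallyUnramified.comp A P.Ring E
  have : Algebra.EssFiniteType A E := .comp A P.Ring E
  have : Module.Flat A E := Module.Flat.trans A P.Ring E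
  have hind := isIndEtale_of_flat_unramified A E
  have := isDomain A E hind hA
  have : Module.FaithfullyFlat A E := Module.FaithfullyFlat.of_flat_of_isLocalHom
  have hAE : Function.Injective (algebraMap A E) := FaithfulSMul.algebraMap_injective A E
  -- elements of `P.Ring` are algebraic over `A` in `E`
  let K := FractionRing A
  let L := FractionRing E
  have : FaithfulSMul A L := (faithfulSMul_iff_algebraMap_injective A L).mpr (by
    rw [IsScalarTower.algebraMap_eq A E L]
    exact (IsFractionRing.injective E L).comp hAE)
  let : Algebra K L := FractionRing.liftAlgebra A L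
  have : Module.Finite K (K ⊗[A] P.Ring) := Algebra.FormallyUnramified.finite_of_free K _
  have halg : ∀ r : P.Ring, IsAlgebraic A (algebraMap P.Ring E r) := fun r => by
    let χ : K ⊗[A] P.Ring →ₐ[K] L :=
      Algebra.TensorProduct.lift (Algebra.ofId K L) (IsScalarTower.toAlgHom A P.Ring L)
        fun _ _ => Commute.all _ _
    have h1 : IsIntegral K (χ (1 ⊗ₜ r)) := (Algebra.IsIntegral.isIntegral _).map χ
    have h2 : χ (1 ⊗ₜ r) = algebraMap E L (algebraMap P.Ring E r) := by
      change Algebra.TensorProduct.lift _ _ _ ((1 : K) ⊗ₜ[A] r) = _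
      rw [Algebra.TensorProduct.lift_tmul, map_one, one_mul, ← IsScalarTower.algebraMap_apply]
      rfl
    rw [h2] at h1
    exact (isAlgebraic_algebraMap_iff (IsFractionRing.injective E L)).mp
      ((IsFractionRing.isAlgebraic_iff A K L).mpr h1.isAlgebraic)
  have hinjΨ : Function.Injective Ψ := by
    rw [injective_iff_map_eq_zero]
    intro z hz
    by_contra hz0
    obtain ⟨r, s, rfl⟩ := IsLocalization.exists_mk'_eq 𝔮.primeCompl z
    have hr0 : algebraMap P.Ring E r ≠ 0 := fun h => hz0 (by
      rw [← IsLocalization.mk'_spec E r s] at h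
      exact (IsLocalization.map_units E s).mul_left_eq_zero.mp h)
    have hΨr : Ψ (algebraMap P.Ring E r) = 0 := by
      rw [← IsLocalization.mk'_spec E r s, map_mul, hz, zero_mul]
    obtain ⟨a, ha, c, hc⟩ := (halg r).exists_nonzero_dvd (mem_nonZeroDivisors_of_ne_zero hr0)
    apply ha
    apply hinj
    rw [map_zero, ← Ψ.commutes a, hc, map_mul, hΨr, zero_mul]
  exact Module.Flat.of_linearEquiv (AlgEquiv.ofBijective Ψ ⟨hinjΨ, hΨ⟩).symm.toLinearEquiv

end Groth.Agent.Lib.Unram.UnibranchEtaleAlg
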