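import Groth.Agent.Lib.Unram.AtPrime
import Groth.Agent.H34.EtaleAt
import Mathlib.RingTheory.Smooth.Local
import Mathlib.RingTheory.Smooth.StandardSmoothCotangent
import Mathlib.RingTheory.Etale.Kaehler
import Mathlib.RingTheory.Filtration
import Mathlib.RingTheory.HopkinsLevitzki
import Mathlib.RingTheory.TensorProduct.Quotient
import Mathlib.RingTheory.Kaehler.Polynomial
import Mathlib.Algebra.DualNumber

/-!
# Smoothness and étaleness by lifting along Artinian rings
-/

set_option autoImplicit false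

universe u

open IsLocalRing
open scoped TensorProduct

namespace Groth.Agent.Lib.Unram.ArtinianLifting

section Ring

variable (R B : Type u) [CommRing R] [CommRing B] [Algebra R B] [IsLocalRing B]

/-- The lifting property of a local algebra with respect to small extensions of Artinian local
rings. -/
def HasLifts : Prop :=
  ∀ (A' : Type u) [CommRing A'] [IsLocalRing A'] [IsArtinianRing A']
    (h : R →+* A') (I : Ideal A') (_ : I ≠ ⊤) (_ : I * maximalIdeal A' = ⊥)
    (g₀ : B →+* A' ⧸ I),
    g₀.comp (algebraMap R B) = (Ideal.Quotient.mk I).comp h →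
    (∀ b ∈ maximalIdeal B, g₀ b ∈ (maximalIdeal A').map (Ideal.Quotient.mk I)) →
    (∀ a' : A', ∃ b : B, g₀ b - Ideal.Quotient.mk I a' ∈ (maximalIdeal A').map (Ideal.Quotient.mk I)) →
    ∃ g : B →+* A', g.comp (algebraMap R B) = h ∧ (Ideal.Quotient.mk I).comp g = g₀

variable {R B}

theorem formallySmooth_of_surjective {P : Type u} [CommRing P] [IsLocalRing P] [IsNoetherianRing P]
    [Algebra R P] [Algebra P B] [IsScalarTower R P B] [Algebra.FormallySmooth R P]
    [Module.Free P Ω[P⁄R]] [Module.Finite P Ω[P⁄R]]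
    (hs : Function.Surjective (algebraMap P B)) (hlift : HasLifts R B) :
    Algebra.FormallySmooth R B := by
  classical
  have : Nontrivial B := inferInstance
  have hJm : RingHom.ker (algebraMap P B) ≤ maximalIdeal P :=
    IsLocalRing.le_maximalIdeal (RingHom.ker_ne_top _)
  have hφm : (maximalIdeal P).map (algebraMap P B) = maximalIdeal B := by
    have := IsLocalHom.of_surjective (algebraMap P B) hs
    refine le_antisymm (IsLocalRing.map_maximalIdeal_le _) fun b hb => ?_
    obtain ⟨x, rfl⟩ := hs b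
    exact Ideal.mem_map_of_mem _ fun hx => hb (hx.map _)
  set J := RingHom.ker (algebraMap P B) with hJ
  set m := maximalIdeal P with hm
  rw [Algebra.FormallySmooth.iff_injective_cotangentComplexBaseChange_residueField P hs
    (IsNoetherian.noetherian _), injective_iff_map_eq_zero]
  intro z hz
  obtain ⟨j, rfl⟩ : ∃ j : J, (1 : ResidueField B) ⊗ₜ[P] j = z := by
    clear hz
    induction z using TensorProduct.induction_on with
    | zero => exact ⟨0, TensorProduct.tmul_zero _ _⟩
    | tmul c j =>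
      obtain ⟨b, rfl⟩ := IsLocalRing.residue_surjective c
      obtain ⟨x, rfl⟩ := hs b
      refine ⟨x • j, ?_⟩
      rw [← TensorProduct.smul_tmul, Algebra.smul_def, mul_one]
      rfl
    | add a b ha hb =>
      obtain ⟨i, rfl⟩ := ha
      obtain ⟨j, rfl⟩ := hb
      exact ⟨i + j, TensorProduct.tmul_add _ _ _⟩
  rw [KaehlerDifferential.cotangentComplexBaseChange_tmul, one_smul,
    KaehlerDifferential.kerToTensor_apply] at hz
  have hsK : Function.Surjective (algebraMap P (ResidueField B)) :=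
    IsLocalRing.residue_surjective.comp hs
  have hkerK : RingHom.ker (algebraMap P (ResidueField B)) = m :=
    IsLocalRing.eq_maximalIdeal (RingHom.ker_isMaximal_of_surjective _ hsK)
  have hDj : KaehlerDifferential.D R P (j : P) ∈ (m • ⊤ : Submodule P Ω[P⁄R]) := by
    let e : (P ⧸ m) ≃ₐ[P] ResidueField B :=
      (Ideal.quotientEquivAlgOfEq P hkerK.symm).trans
        (Ideal.quotientKerAlgEquivOfSurjective (f := Algebra.ofId P (ResidueField B)) hsK)
    have h' : (1 : P ⧸ m) ⊗ₜ[P] KaehlerDifferential.D R P (j : P) = 0 := by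
      apply (TensorProduct.congr e.toLinearEquiv (LinearEquiv.refl P Ω[P⁄R])).injective
      rw [TensorProduct.congr_tmul, map_zero, LinearEquiv.refl_apply]
      refine Eq.trans ?_ hz
      congr 1
      exact map_one e
    rw [← LinearMap.ker_tensorProductMk (Q := Ω[P⁄R]) (I := m)]
    exact h'
  -- the small extension
  obtain ⟨k, hk⟩ := Ideal.exists_pow_inf_eq_pow_smul m (J : Submodule P P)
  let N := k + 1
  let K₀ : Ideal P := m * J ⊔ m ^ N
  have hK₀ : K₀ ≤ m := sup_le Ideal.mul_le_left (Ideal.pow_le_self (Nat.succ_ne_zero k))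
  let A' := P ⧸ K₀
  have : Nontrivial A' := Ideal.Quotient.nontrivial_iff.mpr fun h =>
    (maximalIdeal.isMaximal P).ne_top (top_le_iff.mp (h.ge.trans hK₀))
  have : IsLocalRing A' := IsLocalRing.of_surjective' _ Ideal.Quotient.mk_surjective
  have hmA : maximalIdeal A' = m.map (Ideal.Quotient.mk K₀) :=
    (IsLocalRing.eq_maximalIdeal (Ideal.IsMaximal.map_of_surjective_of_ker_le
      Ideal.Quotient.mk_surjective (m := m) (by rwa [Ideal.mk_ker]))).symm
  have : IsArtinianRing A' := by
    rw [isArtinianRing_iff_isNilpotent_maximalIdeal]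
    refine ⟨N, ?_⟩
    rw [hmA, ← Ideal.map_pow, Ideal.zero_eq_bot, Ideal.map_eq_bot_iff_le_ker, Ideal.mk_ker]
    exact le_sup_right
  let I : Ideal A' := (J ⊔ m ^ N).map (Ideal.Quotient.mk K₀)
  have hIm : I ≤ maximalIdeal A' := hmA ▸ Ideal.map_mono (sup_le hJm (Ideal.pow_le_self (Nat.succ_ne_zero k)))
  have hI0 : I * maximalIdeal A' = ⊥ := by
    rw [hmA, ← Ideal.map_mul, Ideal.map_eq_bot_iff_le_ker, Ideal.mk_ker, Ideal.sup_mul]
    exact sup_le (le_sup_of_le_left (Ideal.mul_comm J m).le) (le_sup_of_le_right Ideal.mul_le_left)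
  have hI : I ≠ ⊤ := fun h =>
    (maximalIdeal.isMaximal A').ne_top (top_le_iff.mp (h.ge.trans hIm))
  let g₀ : B →+* A' ⧸ I := RingHom.liftOfSurjective (algebraMap P B) hs
    ⟨(Ideal.Quotient.mk I).comp (Ideal.Quotient.mk K₀), fun x hx => by
      rw [RingHom.mem_ker, RingHom.comp_apply, Ideal.Quotient.eq_zero_iff_mem]
      exact Ideal.mem_map_of_mem _ (Ideal.mem_sup_left hx)⟩
  have hg₀ : ∀ x, g₀ (algebraMap P B x) = Ideal.Quotient.mk I (Ideal.Quotient.mk K₀ x) := fun x =>
    RingHom.liftOfRightInverse_comp_apply _ _ _ _ x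
  obtain ⟨g, hgR, hgI⟩ := hlift A' (algebraMap R A') I hI hI0 g₀ (RingHom.ext fun r => by
      rw [RingHom.comp_apply, RingHom.comp_apply, IsScalarTower.algebraMap_apply R P B, hg₀]
      rfl)
    (fun b hb => by
      rw [← hφm] at hb
      obtain ⟨x, hx, rfl⟩ := (Ideal.mem_map_iff_of_surjective _ hs).mp hb
      rw [hg₀, hmA]
      exact Ideal.mem_map_of_mem _ (Ideal.mem_map_of_mem _ hx))
    (fun a => by
      obtain ⟨x, rfl⟩ := Ideal.Quotient.mk_surjective a
      exact ⟨algebraMap P B x, by rw [hg₀, sub_self]; exact zero_mem _⟩)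
  have hgR' : ∀ r, g (algebraMap P B (algebraMap R P r)) = algebraMap R A' r := fun r => by
    rw [← IsScalarTower.algebraMap_apply R P B]; exact RingHom.congr_fun hgR r
  have hdiff : ∀ x, Ideal.Quotient.mk K₀ x - g (algebraMap P B x) ∈ I := fun x => by
    rw [← Ideal.Quotient.eq_zero_iff_mem, map_sub, ← hg₀, sub_eq_zero]
    exact (RingHom.congr_fun hgI _).symm
  let d : P →ₗ[R] A' :=
    { toFun := fun x => Ideal.Quotient.mk K₀ x - g (algebraMap P B x)
      map_add' := fun x y => by simp only [map_add]; abel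
      map_smul' := fun r x => by
        simp only [RingHom.id_apply, Algebra.smul_def, map_mul, hgR']
        rw [mul_sub]
        rfl }
  let D : Derivation R P A' := Derivation.mk' d fun x y => by
    have h0 : (Ideal.Quotient.mk K₀ x - g (algebraMap P B x)) *
        (Ideal.Quotient.mk K₀ y - g (algebraMap P B y)) = 0 := by
      rw [← Ideal.mem_bot, ← hI0]
      exact Ideal.mul_mem_mul (hdiff x) (hIm (hdiff y))
    simp only [d, LinearMap.coe_mk, AddHom.coe_mk, map_mul, Algebra.smul_def,
      Ideal.Quotient.algebraMap_eq]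
    linear_combination -h0
  let L := D.liftKaehlerDifferential
  have hL : ∀ ω, L ω ∈ I := fun ω => by
    have hω : ω ∈ Submodule.span P (Set.range (KaehlerDifferential.D R P)) := by
      rw [KaehlerDifferential.span_range_derivation]; trivial
    induction hω using Submodule.span_induction with
    | mem w hw =>
      obtain ⟨x, rfl⟩ := hw
      rw [Derivation.liftKaehlerDifferential_comp_D]
      exact hdiff x
    | zero => rw [map_zero]; exact zero_mem _
    | add a b _ _ ha hb => rw [map_add]; exact add_mem ha hb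
    | smul c w _ hw =>
      rw [map_smul, Algebra.smul_def]
      exact Ideal.mul_mem_left _ _ hw
  have hL0 : L (KaehlerDifferential.D R P (j : P)) = 0 := by
    refine Submodule.smul_induction_on hDj (fun r hr w _ => ?_) (fun a b ha hb => by simp [ha, hb])
    rw [map_smul, Algebra.smul_def, ← Ideal.mem_bot, ← hI0, mul_comm (algebraMap P A' r)]
    refine Ideal.mul_mem_mul ?_ ?_
    · exact hL w
    · rw [hmA]
      exact Ideal.mem_map_of_mem _ hr
  rw [Derivation.liftKaehlerDifferential_comp_D] at hL0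
  have hj0 : algebraMap P B (j : P) = 0 := j.2
  have hjK : (j : P) ∈ K₀ := by
    rw [← Ideal.Quotient.eq_zero_iff_mem]
    have : Ideal.Quotient.mk K₀ (j : P) - g (algebraMap P B (j : P)) = 0 := hL0
    rwa [hj0, map_zero, sub_zero] at this
  obtain ⟨a, ha, b, hb, hab⟩ := Submodule.mem_sup.mp hjK
  have hbJ : b ∈ (m ^ N • ⊤ ⊓ J : Submodule P P) := by
    refine ⟨?_, ?_⟩
    · change b ∈ m ^ N * (⊤ : Ideal P)
      rwa [Ideal.mul_top]
    have h1 : a ∈ J := Ideal.mul_le_right ha
    have : b = (j : P) - a := by rw [← hab]; ring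
    rw [this]
    exact sub_mem j.2 h1
  rw [hk N (Nat.le_succ k), show N - k = 1 by omega, pow_one] at hbJ
  have hbm : b ∈ m * J := (Submodule.smul_mono le_rfl inf_le_right : _ ≤ m • (J : Submodule P P)) hbJ
  have hjmJ : (j : P) ∈ m * J := hab ▸ add_mem ha hbm
  -- hence `1 ⊗ j = 0`
  have hkill : ∀ w ∈ (m • ⊤ : Submodule P J), (1 : ResidueField B) ⊗ₜ[P] w = 0 := fun w hw => by
    refine Submodule.smul_induction_on hw (fun r hr v _ => ?_)
      (fun a b ha hb => by rw [TensorProduct.tmul_add, ha, hb, add_zero])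
    rw [← TensorProduct.smul_tmul, Algebra.smul_def, mul_one,
      show algebraMap P (ResidueField B) r = 0 from hkerK.ge hr, TensorProduct.zero_tmul]
  refine hkill j ?_
  have h2 : (j : P) ∈ (m • ⊤ : Submodule P J).map J.subtype := by
    rw [Submodule.map_smul'', Submodule.map_top, Submodule.range_subtype]
    exact hjmJ
  obtain ⟨w, hw, hwj⟩ := h2
  rwa [← Subtype.ext hwj]

/-- A local ring of an algebra of finite type with the lifting property is formally smooth. -/
theorem formallySmooth_of_hasLifts [IsNoetherianRing R] (S : Type u) [CommRing S] [Algebra R S]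
    [Algebra.FiniteType R S] [Algebra S B] [IsScalarTower R S B] (q : Ideal S) [q.IsPrime]
    [IsLocalization.AtPrime B q] (hlift : HasLifts R B) : Algebra.FormallySmooth R B := by
  obtain ⟨n, π, hπ⟩ := Algebra.FiniteType.iff_quotient_mvPolynomial''.mp
    (inferInstance : Algebra.FiniteType R S)
  let P₀ := MvPolynomial (Fin n) R
  let Q : Ideal P₀ := q.comap π.toRingHom
  let P := Localization.AtPrime Q
  let f : P →ₐ[R] B := IsLocalization.liftAlgHom (M := Q.primeCompl)
    (f := (IsScalarTower.toAlgHom R S B).comp π) fun y =>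
      IsLocalization.map_units B (⟨π y, y.2⟩ : q.primeCompl)
  let : Algebra P B := f.toRingHom.toAlgebra
  have : IsScalarTower R P B := IsScalarTower.of_algebraMap_eq fun r => (f.commutes r).symm
  have hs : Function.Surjective (algebraMap P B) := fun b => by
    obtain ⟨⟨s, ⟨t, ht⟩⟩, hb⟩ := IsLocalization.surj q.primeCompl b
    obtain ⟨s', rfl⟩ := hπ s
    obtain ⟨t', rfl⟩ := hπ t
    refine ⟨IsLocalization.mk' P s' (⟨t', ht⟩ : Q.primeCompl), ?_⟩
    refine (IsLocalization.map_units B (⟨π t', ht⟩ : q.primeCompl)).mul_left_inj.mp ?_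
    rw [hb]
    have h1 : ∀ x, f (algebraMap P₀ P x) = algebraMap S B (π x) := fun x =>
      IsLocalization.lift_eq _ x
    rw [← h1, ← h1]
    exact (map_mul f _ _).symm.trans (congrArg f (IsLocalization.mk'_spec P s' _))
  have : IsNoetherianRing P := IsLocalization.isNoetherianRing Q.primeCompl P inferInstance
  have : Algebra.FormallyEtale P₀ P := Algebra.FormallyEtale.of_isLocalization Q.primeCompl
  have : Algebra.FormallySmooth R P := Algebra.FormallySmooth.comp R P₀ P
  have : Module.Free P Ω[P⁄R] :=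
    Module.Free.of_equiv (KaehlerDifferential.tensorKaehlerEquivOfFormallyEtale R P₀ P)
  have : Module.Finite P Ω[P⁄R] :=
    Module.Finite.equiv (KaehlerDifferential.tensorKaehlerEquivOfFormallyEtale R P₀ P)
  exact formallySmooth_of_surjective hs hlift

theorem derivation_eq_zero_of_unique
    (huniq : ∀ (A' : Type u) [CommRing A'] [IsLocalRing A'] [IsArtinianRing A']
      (h : R →+* A') (I : Ideal A') (_ : I ≠ ⊤) (_ : I * maximalIdeal A' = ⊥)
      (g₀ : B →+* A' ⧸ I),
      g₀.comp (algebraMap R B) = (Ideal.Quotient.mk I).comp h →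
      (∀ b ∈ maximalIdeal B, g₀ b ∈ (maximalIdeal A').map (Ideal.Quotient.mk I)) →
      (∀ a' : A', ∃ b : B,
        g₀ b - Ideal.Quotient.mk I a' ∈ (maximalIdeal A').map (Ideal.Quotient.mk I)) →
      ∀ g g' : B →+* A', g.comp (algebraMap R B) = h → (Ideal.Quotient.mk I).comp g = g₀ →
        g'.comp (algebraMap R B) = h → (Ideal.Quotient.mk I).comp g' = g₀ → g = g')
    (d : Derivation R B (ResidueField B)) (b : B) : d b = 0 := by
  let T := TrivSqZeroExt (ResidueField B) (ResidueField B)
  have hloc : IsLocalRing T := IsLocalRing.of_isUnit_or_isUnit_one_sub_self fun x => by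
    rw [TrivSqZeroExt.isUnit_iff_isUnit_fst, TrivSqZeroExt.isUnit_iff_isUnit_fst,
      TrivSqZeroExt.fst_sub, TrivSqZeroExt.fst_one]
    exact IsLocalRing.isUnit_or_isUnit_one_sub_self x.fst
  have : Module.Finite (ResidueField B) T :=
    (inferInstance : Module.Finite (ResidueField B) (ResidueField B × ResidueField B))
  have hart : IsArtinianRing T := IsArtinianRing.of_finite (ResidueField B) T
  let fst : T →+* ResidueField B :=
    (TrivSqZeroExt.fstHom (ResidueField B) (ResidueField B) (ResidueField B)).toRingHom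
  let I : Ideal T := RingHom.ker fst
  have hI : I = maximalIdeal T :=
    IsLocalRing.eq_maximalIdeal (RingHom.ker_isMaximal_of_surjective fst fun c =>
      ⟨TrivSqZeroExt.inl c, TrivSqZeroExt.fst_inl (ResidueField B) c⟩)
  have hmemI : ∀ z : T, z ∈ I ↔ z.fst = 0 := fun z => Iff.rfl
  have hI0 : I * maximalIdeal T = ⊥ := by
    rw [← hI, eq_bot_iff, Ideal.mul_le]
    intro x hx y hy
    rw [Ideal.mem_bot]
    rw [hmemI] at hx hy
    refine TrivSqZeroExt.ext ?_ ?_
    · rw [TrivSqZeroExt.fst_mul, hx, zero_mul, TrivSqZeroExt.fst_zero]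
    · rw [TrivSqZeroExt.snd_mul, hx, hy, zero_smul, MulOpposite.op_zero, zero_smul, add_zero,
        TrivSqZeroExt.snd_zero]
  let g₁ : B →+* T := (TrivSqZeroExt.inlHom _ _).comp (residue B)
  have hg₁ : ∀ x, g₁ x = TrivSqZeroExt.inl (residue B x) := fun _ => rfl
  have hres : ∀ (x : B) (c : ResidueField B), x • c = residue B x * c := fun x c => by
    rw [Algebra.smul_def, IsLocalRing.ResidueField.algebraMap_eq]
  let g₂ : B →+* T :=
    { toFun := fun b => TrivSqZeroExt.inl (residue B b) + TrivSqZeroExt.inr (d b)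
      map_one' := by
        rw [d.map_one_eq_zero, TrivSqZeroExt.inr_zero, add_zero, map_one, TrivSqZeroExt.inl_one]
      map_zero' := by
        rw [map_zero d, TrivSqZeroExt.inr_zero, add_zero, map_zero, TrivSqZeroExt.inl_zero]
      map_add' := fun x y => by
        rw [map_add, map_add, TrivSqZeroExt.inl_add, TrivSqZeroExt.inr_add]
        abel
      map_mul' := fun x y => by
        refine TrivSqZeroExt.ext ?_ ?_
        · rw [TrivSqZeroExt.fst_add, TrivSqZeroExt.fst_inl, TrivSqZeroExt.fst_inr, add_zero,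
            TrivSqZeroExt.fst_mul, TrivSqZeroExt.fst_add, TrivSqZeroExt.fst_add,
            TrivSqZeroExt.fst_inl, TrivSqZeroExt.fst_inl, TrivSqZeroExt.fst_inr,
            TrivSqZeroExt.fst_inr, add_zero, add_zero, map_mul]
        · rw [TrivSqZeroExt.snd_add, TrivSqZeroExt.snd_inl, TrivSqZeroExt.snd_inr, zero_add,
            TrivSqZeroExt.snd_mul, TrivSqZeroExt.fst_add, TrivSqZeroExt.fst_add,
            TrivSqZeroExt.fst_inl, TrivSqZeroExt.fst_inl, TrivSqZeroExt.fst_inr,
            TrivSqZeroExt.fst_inr, add_zero, add_zero, TrivSqZeroExt.snd_add, TrivSqZeroExt.snd_add,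
            TrivSqZeroExt.snd_inl, TrivSqZeroExt.snd_inl, TrivSqZeroExt.snd_inr,
            TrivSqZeroExt.snd_inr, zero_add, zero_add, d.leibniz, hres, hres, op_smul_eq_smul,
            smul_eq_mul, smul_eq_mul] }
  have hg₂ : ∀ x, g₂ x = TrivSqZeroExt.inl (residue B x) + TrivSqZeroExt.inr (d x) := fun _ => rfl
  have hfst : ∀ x, (g₂ x - g₁ x).fst = 0 := fun x => by
    rw [TrivSqZeroExt.fst_sub, hg₂, hg₁, TrivSqZeroExt.fst_add, TrivSqZeroExt.fst_inr, add_zero,
      sub_self]
  have h2 : g₂.comp (algebraMap R B) = g₁.comp (algebraMap R B) := RingHom.ext fun r => by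
    rw [RingHom.comp_apply, RingHom.comp_apply, hg₂, hg₁, d.map_algebraMap, TrivSqZeroExt.inr_zero,
      add_zero]
  have hI2 : (Ideal.Quotient.mk I).comp g₂ = (Ideal.Quotient.mk I).comp g₁ :=
    RingHom.ext fun x => by
      rw [RingHom.comp_apply, RingHom.comp_apply, Ideal.Quotient.eq]
      exact (hmemI _).mpr (hfst x)
  have := huniq T (g₁.comp (algebraMap R B)) I
    (fun h => (maximalIdeal.isMaximal T).ne_top (hI.symm.trans h)) hI0
    ((Ideal.Quotient.mk I).comp g₁) rfl
    (fun x hx => Ideal.mem_map_of_mem _ (hI.le ((hmemI _).mpr (by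
      rw [hg₁, TrivSqZeroExt.fst_inl]
      exact (residue_eq_zero_iff x).mpr hx))))
    (fun a => by
      obtain ⟨x, hx⟩ := IsLocalRing.residue_surjective a.fst
      refine ⟨x, ?_⟩
      rw [RingHom.comp_apply, ← map_sub]
      refine Ideal.mem_map_of_mem _ (hI.le ((hmemI _).mpr ?_))
      rw [TrivSqZeroExt.fst_sub, hg₁, TrivSqZeroExt.fst_inl, hx, sub_self])
    g₂ g₁ h2 hI2 rfl rfl
  have h3 := congrArg TrivSqZeroExt.snd (RingHom.congr_fun this b)
  rwa [hg₂, hg₁, TrivSqZeroExt.snd_add, TrivSqZeroExt.snd_inl, TrivSqZeroExt.snd_inr, zero_add] at h3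

/-- Uniqueness of lifts to dual numbers forces being unramified. -/
theorem formallyUnramified_of_derivation [Algebra.EssFiniteType R B]
    (key : ∀ (d : Derivation R B (ResidueField B)) (b : B), d b = 0) :
    Algebra.FormallyUnramified R B := by
  let κ := ResidueField B
  rw [Algebra.formallyUnramified_iff, ← IsLocalRing.subsingleton_tensorProduct (R := B)]
  by_contra hne
  rw [not_subsingleton_iff_nontrivial] at hne
  obtain ⟨v, hv⟩ := exists_ne (0 : κ ⊗[B] Ω[B⁄R])
  obtain ⟨φ, hφ⟩ := Module.Projective.exists_dual_ne_zero κ hv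
  let ψ : Ω[B⁄R] →ₗ[B] κ := (φ.restrictScalars B).comp (TensorProduct.mk B κ Ω[B⁄R] 1)
  let d : Derivation R B κ := ψ.compDer (KaehlerDifferential.D R B)
  have hψ : ∀ ω, ψ ω = 0 := fun ω => by
    have hω : ω ∈ Submodule.span B (Set.range (KaehlerDifferential.D R B)) := by
      rw [KaehlerDifferential.span_range_derivation]; trivial
    induction hω using Submodule.span_induction with
    | mem w hw =>
      obtain ⟨x, rfl⟩ := hw
      exact key d x
    | zero => exact map_zero _
    | add a b _ _ ha hb => rw [map_add, ha, hb, add_zero]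
    | smul c w _ hw => rw [map_smul, hw, smul_zero]
  obtain ⟨ω, rfl⟩ := TensorProduct.mk_surjective B Ω[B⁄R] κ IsLocalRing.residue_surjective v
  exact hφ (hψ ω)

end Ring

section Scheme

open AlgebraicGeometry CategoryTheory

variable {X Y : Scheme.{u}}

/-- The lifting property for the stalk map. -/
def StalkLifts (f : X ⟶ Y) (x : X) : Prop :=
  ∀ (A' : Type u) [CommRing A'] [IsLocalRing A'] [IsArtinianRing A']
    (h : Y.presheaf.stalk (f.base x) →+* A') [IsLocalHom h]
    (I : Ideal A') (_ : I ≠ ⊤) (_ : I * IsLocalRing.maximalIdeal A' = ⊥)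
    (g₀ : X.presheaf.stalk x →+* A' ⧸ I),
    g₀.comp (f.stalkMap x).hom = (Ideal.Quotient.mk I).comp h →
    (∀ b ∈ IsLocalRing.maximalIdeal (X.presheaf.stalk x),
      g₀ b ∈ (IsLocalRing.maximalIdeal A').map (Ideal.Quotient.mk I)) →
    (∀ a' : A', ∃ b : X.presheaf.stalk x,
      g₀ b - Ideal.Quotient.mk I a' ∈ (IsLocalRing.maximalIdeal A').map (Ideal.Quotient.mk I)) →
    ∃ g : X.presheaf.stalk x →+* A', g.comp (f.stalkMap x).hom = h ∧ (Ideal.Quotient.mk I).comp g = g₀

theorem formallySmooth_stalkMap_of_stalkLifts (f : X ⟶ Y) [LocallyOfFiniteType f]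
    [IsLocallyNoetherian Y] (x : X) (H : StalkLifts f x) : (f.stalkMap x).hom.FormallySmooth := by
  obtain ⟨_, ⟨U, hU, rfl⟩, hxU, -⟩ :=
    Y.isBasis_affineOpens.exists_subset_of_mem_open (Set.mem_univ (f x)) isOpen_univ
  obtain ⟨_, ⟨V, hV, rfl⟩, hxV, hVU⟩ :=
    X.isBasis_affineOpens.exists_subset_of_mem_open hxU (U.2.preimage f.continuous)
  have := f.finiteType_appLE hU hV hVU
  have : IsNoetherianRing Γ(Y, U) := IsLocallyNoetherian.component_noetherian ⟨U, hU⟩
  rw [formallySmooth_stalkMap_iff U hU V hV hVU hxV]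
  algebraize [(f.appLE U V hVU).hom]
  let p := (hU.primeIdealOf ⟨f x, hVU hxV⟩).asIdeal
  let q := (hV.primeIdealOf ⟨x, hxV⟩).asIdeal
  let : Algebra Γ(X, V) (X.presheaf.stalk x) := (X.presheaf.germ V x hxV).hom.toAlgebra
  have hlocq : IsLocalization.AtPrime (X.presheaf.stalk x) q := hV.isLocalization_stalk ⟨x, hxV⟩
  let : Algebra Γ(Y, U) (Y.presheaf.stalk (f x)) := (Y.presheaf.germ U (f x) (hVU hxV)).hom.toAlgebra
  have hlocp : IsLocalization.AtPrime (Y.presheaf.stalk (f x)) p :=
    hU.isLocalization_stalk ⟨f x, hVU hxV⟩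
  let : Algebra Γ(Y, U) (X.presheaf.stalk x) :=
    ((algebraMap Γ(X, V) (X.presheaf.stalk x)).comp (algebraMap Γ(Y, U) Γ(X, V))).toAlgebra
  have : IsScalarTower Γ(Y, U) Γ(X, V) (X.presheaf.stalk x) := .of_algebraMap_eq fun _ => rfl
  have hcomm : (f.stalkMap x).hom.comp (algebraMap Γ(Y, U) (Y.presheaf.stalk (f x))) =
      algebraMap Γ(Y, U) (X.presheaf.stalk x) := by
    have := Scheme.Hom.germ_stalkMap f U x (hVU hxV)
    refine (congrArg CommRingCat.Hom.hom this).trans ?_
    change (f.app U ≫ X.presheaf.germ (f ⁻¹ᵁ U) x (hVU hxV)).hom =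
      (f.appLE U V hVU ≫ X.presheaf.germ V x hxV).hom
    rw [Scheme.Hom.appLE, Category.assoc, TopCat.Presheaf.germ_res]
  have hFS : Algebra.FormallySmooth Γ(Y, U) (X.presheaf.stalk x) := by
    refine formallySmooth_of_hasLifts Γ(X, V) q ?_
    intro A' _ _ _ h I hI hI0 g₀ hcomp hmax hsurj
    have hIm : I ≤ maximalIdeal A' := IsLocalRing.le_maximalIdeal hI
    have hIk : RingHom.ker (Ideal.Quotient.mk I) ≤ maximalIdeal A' := by rwa [Ideal.mk_ker]
    have hunit : ∀ y : p.primeCompl, IsUnit (h y) := fun ⟨y, hy⟩ => by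
      have hu : IsUnit (algebraMap Γ(Y, U) (X.presheaf.stalk x) y) := by
        rw [← hcomm]
        exact (IsLocalization.map_units (Y.presheaf.stalk (f x)) (⟨y, hy⟩ : p.primeCompl)).map
          (f.stalkMap x).hom
      have h1 : IsUnit (Ideal.Quotient.mk I (h y)) :=
        (RingHom.congr_fun hcomp y) ▸ hu.map g₀
      have : Nontrivial (A' ⧸ I) := Ideal.Quotient.nontrivial_iff.mpr hI
      have := IsLocalHom.of_surjective (Ideal.Quotient.mk I) Ideal.Quotient.mk_surjective
      exact isUnit_of_map_unit (Ideal.Quotient.mk I) _ h1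
    let h' : Y.presheaf.stalk (f x) →+* A' := IsLocalization.lift hunit
    have hh' : ∀ y, h' (algebraMap Γ(Y, U) _ y) = h y := fun y => IsLocalization.lift_eq hunit y
    have : IsLocalHom h' := by
      refine ⟨fun a ha => ?_⟩
      by_contra hna
      have hm : (f.stalkMap x).hom a ∈ maximalIdeal (X.presheaf.stalk x) := fun hu =>
        hna (isUnit_of_map_unit (f.stalkMap x).hom a hu)
      have h2 := hmax _ hm
      have hc' : g₀.comp (f.stalkMap x).hom = (Ideal.Quotient.mk I).comp h' := by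
        refine IsLocalization.ringHom_ext p.primeCompl ?_
        rw [RingHom.comp_assoc, hcomm, hcomp]
        exact RingHom.ext fun y => congrArg (Ideal.Quotient.mk I) (hh' y).symm
      rw [show g₀ ((f.stalkMap x).hom a) = Ideal.Quotient.mk I (h' a) from RingHom.congr_fun hc' a,
        Ideal.mem_quotient_iff_mem hIm] at h2
      exact h2 ha
    obtain ⟨g, hg1, hg2⟩ := H A' h' I hI hI0 g₀ (by
      refine IsLocalization.ringHom_ext p.primeCompl ?_
      rw [RingHom.comp_assoc, hcomm, hcomp]
      exact RingHom.ext fun y => congrArg (Ideal.Quotient.mk I) (hh' y).symm) hmax hsurj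
    refine ⟨g, ?_, hg2⟩
    rw [← hcomm, ← RingHom.comp_assoc, hg1]
    exact RingHom.ext hh'
  let e := (IsLocalization.algEquiv q.primeCompl (X.presheaf.stalk x)
    (Localization.AtPrime q)).restrictScalars Γ(Y, U)
  exact Algebra.FormallySmooth.of_equiv e

theorem stalkLifts_of_formallySmooth (f : X ⟶ Y) (x : X)
    (hs : (f.stalkMap x).hom.FormallySmooth) : StalkLifts f x := by
  intro A' _ _ _ h _ I hI hI0 g₀ hcomp _ _
  let := (f.stalkMap x).hom.toAlgebra
  let := h.toAlgebra
  have : Algebra.FormallySmooth (Y.presheaf.stalk (f x)) (X.presheaf.stalk x) := hs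
  let g₀' : X.presheaf.stalk x →ₐ[Y.presheaf.stalk (f x)] A' ⧸ I :=
    ⟨g₀, fun a => RingHom.congr_fun hcomp a⟩
  obtain ⟨g, hg⟩ := Algebra.FormallySmooth.comp_surjective (Y.presheaf.stalk (f x))
    (X.presheaf.stalk x) I
    (by
      rw [pow_two, eq_bot_iff, ← hI0]
      exact Ideal.mul_mono_right (IsLocalRing.le_maximalIdeal hI)) g₀'
  exact ⟨g.toRingHom, g.comp_algebraMap, congrArg AlgHom.toRingHom hg⟩

theorem exists_smooth_nhd_iff (f : X ⟶ Y) [LocallyOfFinitePresentation f] (x : X) :
    (∃ U : X.Opens, x ∈ U ∧ Smooth (U.ι ≫ f)) ↔ (f.stalkMap x).hom.FormallySmooth := by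
  constructor
  · rintro ⟨U, hx, hU⟩
    have h : (⟨x, hx⟩ : U.toScheme) ∈ (U.ι ≫ f).smoothLocus := by
      rw [Scheme.Hom.smoothLocus_eq_top]; trivial
    exact (AtPrime.stalkMap_restrict_iff RingHom.FormallySmooth.respectsIso f U x hx).mp h
  · intro h
    obtain ⟨U, hU, V, hV, hVU, hxV, hsm⟩ := exists_smooth_of_formallySmooth_stalk f x h
    refine ⟨V, hxV, ?_⟩
    have : IsAffine _ := hU
    have : IsAffine _ := hV
    have : Smooth (f.resLE U V hVU) := by
      rw [HasRingHomProperty.iff_of_isAffine (P := @Smooth)]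
      exact (RingHom.Smooth.propertyIsLocal.respectsIso.arrow_mk_iso_iff
        (arrowResLEAppIso f U V hVU)).mpr hsm
    rw [← Scheme.Hom.resLE_comp_ι f hVU]
    infer_instance

theorem smooth_iff (f : X ⟶ Y) [LocallyOfFiniteType f] [IsLocallyNoetherian Y] (x : X) :
    (∃ U : X.Opens, x ∈ U ∧ Smooth (U.ι ≫ f)) ↔ StalkLifts f x := by
  have := Groth.Agent.H34.EtaleAt.locallyOfFinitePresentation f
  rw [exists_smooth_nhd_iff]
  exact ⟨stalkLifts_of_formallySmooth f x, formallySmooth_stalkMap_of_stalkLifts f x⟩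

theorem etale_iff (f : X ⟶ Y) [LocallyOfFiniteType f] [IsLocallyNoetherian Y] (x : X) :
    (∃ U : X.Opens, x ∈ U ∧ Etale (U.ι ≫ f)) ↔
      ∀ (A' : Type u) [CommRing A'] [IsLocalRing A'] [IsArtinianRing A']
        (h : Y.presheaf.stalk (f.base x) →+* A') [IsLocalHom h]
        (I : Ideal A') (_ : I ≠ ⊤) (_ : I * IsLocalRing.maximalIdeal A' = ⊥)
        (g₀ : X.presheaf.stalk x →+* A' ⧸ I),
        g₀.comp (f.stalkMap x).hom = (Ideal.Quotient.mk I).comp h →
        (∀ b ∈ IsLocalRing.maximalIdeal (X.presheaf.stalk x),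
          g₀ b ∈ (IsLocalRing.maximalIdeal A').map (Ideal.Quotient.mk I)) →
        (∀ a' : A', ∃ b : X.presheaf.stalk x,
          g₀ b - Ideal.Quotient.mk I a' ∈ (IsLocalRing.maximalIdeal A').map (Ideal.Quotient.mk I)) →
        ∃! g : X.presheaf.stalk x →+* A',
          g.comp (f.stalkMap x).hom = h ∧ (Ideal.Quotient.mk I).comp g = g₀ := by
  have := Groth.Agent.H34.EtaleAt.locallyOfFinitePresentation f
  constructor
  · intro he
    obtain ⟨hflat, hu⟩ := (AtPrime.exists_etale_nhd_iff f x).mp he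
    have hs := AtPrime.formallySmooth_stalkMap_of_flat f x hflat hu
    intro A' _ _ _ h _ I hI hI0 g₀ hc hm hsur
    obtain ⟨g, hg⟩ := stalkLifts_of_formallySmooth f x hs A' h I hI hI0 g₀ hc hm hsur
    refine ⟨g, hg, fun g' hg' => ?_⟩
    let := (f.stalkMap x).hom.toAlgebra
    let := h.toAlgebra
    have : Algebra.FormallyUnramified (Y.presheaf.stalk (f x)) (X.presheaf.stalk x) := hu
    let a : X.presheaf.stalk x →ₐ[Y.presheaf.stalk (f x)] A' :=
      ⟨g', fun r => RingHom.congr_fun hg'.1 r⟩
    let b : X.presheaf.stalk x →ₐ[Y.presheaf.stalk (f x)] A' :=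
      ⟨g, fun r => RingHom.congr_fun hg.1 r⟩
    have hsq : I ^ 2 = ⊥ := by
      rw [pow_two, eq_bot_iff, ← hI0]
      exact Ideal.mul_mono_right (IsLocalRing.le_maximalIdeal hI)
    have hab : a = b := Algebra.FormallyUnramified.comp_injective I hsq
      (AlgHom.ext fun z => (RingHom.congr_fun hg'.2 z).trans (RingHom.congr_fun hg.2 z).symm)
    exact congrArg AlgHom.toRingHom hab
  · intro H
    have hs := formallySmooth_stalkMap_of_stalkLifts f x
      fun A' _ _ _ h _ I hI hI0 g₀ hc hm hsur => (H A' h I hI hI0 g₀ hc hm hsur).exists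
    refine Groth.Agent.H34.EtaleAt.exists_etale_nhd f x hs ?_
    let := (f.stalkMap x).hom.toAlgebra
    have hloc : IsLocalHom (algebraMap (Y.presheaf.stalk (f x)) (X.presheaf.stalk x)) :=
      inferInstanceAs <| IsLocalHom (f.stalkMap x).hom
    have : Algebra.EssFiniteType (Y.presheaf.stalk (f x)) (X.presheaf.stalk x) := by
      rw [← RingHom.essFiniteType_algebraMap, RingHom.algebraMap_toAlgebra]
      exact LocallyOfFiniteType.stalkMap f x
    refine formallyUnramified_of_derivation (derivation_eq_zero_of_unique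
      fun A' _ _ _ h I hI hI0 g₀ hc hm hsur g g' h1 h2 h3 h4 => ?_)
    have : IsLocalHom h := by
      refine ⟨fun a ha => ?_⟩
      by_contra hna
      have hm' : (f.stalkMap x).hom a ∈ maximalIdeal (X.presheaf.stalk x) := fun hu =>
        hna (isUnit_of_map_unit (f.stalkMap x).hom a hu)
      have h5 := hm _ hm'
      rw [show g₀ ((f.stalkMap x).hom a) = Ideal.Quotient.mk I (h a) from RingHom.congr_fun hc a,
        Ideal.mem_quotient_iff_mem (IsLocalRing.le_maximalIdeal hI)] at h5
      exact h5 ha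
    exact (H A' h I hI hI0 g₀ hc hm hsur).unique ⟨h1, h2⟩ ⟨h3, h4⟩

end Scheme

end Groth.Agent.Lib.Unram.ArtinianLifting
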