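import Mathlib.AlgebraicGeometry.Noetherian
import Mathlib.AlgebraicGeometry.Morphisms.Flat
import Mathlib.Topology.Sober
import Mathlib.Topology.NoetherianSpace

/-!
# Connectedness of complements of closed subsets, from the local rings
-/

set_option autoImplicit false

universe u

open CategoryTheory AlgebraicGeometry TopologicalSpace

namespace Groth.Agent.Lib.Unram.ComplConnected

variable {X : Scheme.{u}} [IsLocallyNoetherian X]

/-- In a locally Noetherian scheme, a point in the closure of an open set has a generization in it. -/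
theorem exists_generization_mem {W : Set X} (hW : IsOpen W) {x : X} (hx : x ∈ closure W) :
    ∃ z ∈ W, z ⤳ x := by
  obtain ⟨U, hU, hxU, -⟩ := exists_isAffineOpen_mem_and_subset (x := x) (U := (⊤ : X.Opens)) trivial
  have : IsNoetherianRing Γ(X, U) := IsLocallyNoetherian.component_noetherian ⟨U, hU⟩
  let Y : Scheme.{u} := U
  have : NoetherianSpace Y := noetherianSpace_of_isAffineOpen U hU
  let W' : Set Y := U.ι ⁻¹' W
  have hW' : IsOpen W' := hW.preimage U.ι.continuous
  let x' : Y := ⟨x, hxU⟩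
  have hxW : x' ∈ closure W' := by
    rw [mem_closure_iff]
    intro V hV hxV
    obtain ⟨_, ⟨v, hv, rfl⟩, hvW⟩ :=
      mem_closure_iff.mp hx _ (U.ι.isOpenEmbedding.isOpenMap V hV) ⟨x', hxV, rfl⟩
    exact ⟨v, hv, hvW⟩
  have hfin : (irreducibleComponents Y).Finite := NoetherianSpace.finite_irreducibleComponents
  let bad : Set Y := ⋃ C ∈ {C ∈ irreducibleComponents Y | (C ∩ W').Nonempty}, C
  have hbad : IsClosed bad := Set.Finite.isClosed_biUnion (hfin.subset fun C hC => hC.1)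
    fun C hC => isClosed_of_mem_irreducibleComponents C hC.1
  have hsub : W' ⊆ bad := fun w hw => Set.mem_biUnion
    (show irreducibleComponent w ∈ {C ∈ irreducibleComponents Y | (C ∩ W').Nonempty} from
      ⟨irreducibleComponent_mem_irreducibleComponents w, w, mem_irreducibleComponent, hw⟩)
    mem_irreducibleComponent
  obtain ⟨C, ⟨hC, c, hcC, hcW⟩, hxC⟩ := Set.mem_iUnion₂.mp (hbad.closure_subset_iff.mpr hsub hxW)
  obtain ⟨z, hz⟩ := QuasiSober.sober hC.1 (isClosed_of_mem_irreducibleComponents C hC)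
  exact ⟨U.ι z, (hz.specializes hcC).mem_open hW' hcW, (hz.specializes hxC).map U.ι.continuous⟩

/-- Connectedness of the complement of a closed set from connectedness of the local complements. -/
theorem isPreconnected_compl [ConnectedSpace X] (T : Set X) (hT : IsClosed T)
    (hdense : ∀ x ∈ T, ∃ z ∉ T, z ⤳ x)
    (hloc : ∀ x ∈ T, _root_.IsPreconnected (X.fromSpecStalk x ⁻¹' Tᶜ)) : _root_.IsPreconnected Tᶜ := by
  intro O₁ O₂ hO₁ hO₂ hcover hne₁ hne₂
  by_contra hne
  rw [Set.not_nonempty_iff_eq_empty] at hne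
  let W₁ := Tᶜ ∩ O₁
  let W₂ := Tᶜ ∩ O₂
  have hW₁ : IsOpen W₁ := hT.isOpen_compl.inter hO₁
  have hW₂ : IsOpen W₂ := hT.isOpen_compl.inter hO₂
  have hunion : closure W₁ ∪ closure W₂ = Set.univ := Set.eq_univ_of_forall fun x => by
    by_cases hx : x ∈ T
    · obtain ⟨z, hz, hzx⟩ := hdense x hx
      rcases hcover hz with h | h
      · exact Or.inl (hzx.mem_closed isClosed_closure (subset_closure ⟨hz, h⟩))
      · exact Or.inr (hzx.mem_closed isClosed_closure (subset_closure ⟨hz, h⟩))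
    · rcases hcover hx with h | h
      · exact Or.inl (subset_closure ⟨hx, h⟩)
      · exact Or.inr (subset_closure ⟨hx, h⟩)
  obtain ⟨x, -, hx₁, hx₂⟩ := isPreconnected_closed_iff.mp (PreconnectedSpace.isPreconnected_univ)
    (closure W₁) (closure W₂) isClosed_closure isClosed_closure hunion.ge
    (by obtain ⟨w, hw⟩ := hne₁; exact ⟨w, trivial, subset_closure hw⟩)
    (by obtain ⟨w, hw⟩ := hne₂; exact ⟨w, trivial, subset_closure hw⟩)
  obtain ⟨z₁, hz₁, hzx₁⟩ := exists_generization_mem hW₁ hx₁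
  obtain ⟨z₂, hz₂, hzx₂⟩ := exists_generization_mem hW₂ hx₂
  by_cases hxT : x ∈ T
  · have h1 : z₁ ∈ Set.range (X.fromSpecStalk x) := by rw [Scheme.range_fromSpecStalk]; exact hzx₁
    have h2 : z₂ ∈ Set.range (X.fromSpecStalk x) := by rw [Scheme.range_fromSpecStalk]; exact hzx₂
    obtain ⟨q₁, hq₁⟩ := h1
    obtain ⟨q₂, hq₂⟩ := h2
    obtain ⟨q, hq, hqO₁, hqO₂⟩ := hloc x hxT _ _
      (hO₁.preimage (X.fromSpecStalk x).continuous) (hO₂.preimage (X.fromSpecStalk x).continuous)
      (fun q hq => hcover hq)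
      ⟨q₁, by rw [Set.mem_preimage, hq₁]; exact hz₁.1, by rw [Set.mem_preimage, hq₁]; exact hz₁.2⟩
      ⟨q₂, by rw [Set.mem_preimage, hq₂]; exact hz₂.1, by rw [Set.mem_preimage, hq₂]; exact hz₂.2⟩
    exact Set.eq_empty_iff_forall_notMem.mp hne _ ⟨hq, hqO₁, hqO₂⟩
  · rcases hcover hxT with h | h
    · obtain ⟨w, hw, hw'⟩ := mem_closure_iff.mp hx₂ W₁ hW₁ ⟨hxT, h⟩
      exact Set.eq_empty_iff_forall_notMem.mp hne w ⟨hw.1, hw.2, hw'.2⟩
    · obtain ⟨w, hw, hw'⟩ := mem_closure_iff.mp hx₁ W₂ hW₂ ⟨hxT, h⟩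
      exact Set.eq_empty_iff_forall_notMem.mp hne w ⟨hw.1, hw'.2, hw.2⟩

end Groth.Agent.Lib.Unram.ComplConnected
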