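import Groth.Agent.Lib.Adic.Complete
import Groth.Agent.Lib.Excellent.CompletionNoetherian
import Groth.Agent.Lib.Unram.TraceEtale
import Groth.Agent.Lib.Flat55.FlatDescend
import Mathlib.RingTheory.LocalRing.Module
import Mathlib.RingTheory.AdicCompletion.LocalRing
import Mathlib.RingTheory.AdicCompletion.AsTensorProduct
import Mathlib.RingTheory.AdicCompletion.Noetherian
import Mathlib.RingTheory.Flat.FaithfullyFlat.Algebra
import Mathlib.RingTheory.Flat.Stability
import Mathlib.RingTheory.Unramified.LocalRing
import Mathlib.RingTheory.RingHom.Etale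
import Mathlib.RingTheory.RingHom.FiniteType

/-!
# Unramified and étale local homomorphisms via completions
-/

set_option autoImplicit false

universe u

open IsLocalRing
open scoped TensorProduct

namespace Groth.Agent.Lib.Unram.CompletionCriterion

/-- Independence modulo the maximal ideal persists in a flat module. -/
theorem linearIndependent_of_forall {R M : Type u} [CommRing R] [IsLocalRing R] [AddCommGroup M]
    [Module R M] [Module.Flat R M] {ι : Type u} [Fintype ι] (v : ι → M)
    (h : ∀ g : ι → R, ∑ i, g i • v i ∈ maximalIdeal R • (⊤ : Submodule R M) →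
      ∀ i, g i ∈ maximalIdeal R) : LinearIndependent R v := by
  classical
  refine Module.IsLocalRing.linearIndependent_of_flat v ?_
  rw [Fintype.linearIndependent_iff]
  intro g hg i
  choose g' hg' using fun i => IsLocalRing.residue_surjective (g i)
  have h1 : TensorProduct.mk R (ResidueField R) M 1 (∑ i, g' i • v i) = 0 := by
    rw [← hg, map_sum]
    refine Finset.sum_congr rfl fun i _ => ?_
    rw [map_smul, ← hg' i, Function.comp_apply, ← IsLocalRing.ResidueField.algebraMap_eq,
      algebraMap_smul]
  rw [← LinearMap.mem_ker] at h1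
  rw [← hg' i, residue_eq_zero_iff]
  refine h g' ?_ i
  have h2 : LinearMap.ker (TensorProduct.mk R (R ⧸ maximalIdeal R) M 1) =
      maximalIdeal R • (⊤ : Submodule R M) := LinearMap.ker_tensorProductMk _
  rw [← h2]
  exact h1

/-- A basis of the residue algebra gives, in a flat algebra, independence modulo every ideal. -/
theorem mem_of_sum_mem {A B : Type u} [CommRing A] [IsLocalRing A] [CommRing B] [Algebra A B]
    [Module.Flat A B] {ι : Type u} [Fintype ι] (b : ι → B)
    (h : ∀ g : ι → A, ∑ i, g i • b i ∈ maximalIdeal A • (⊤ : Submodule A B) →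
      ∀ i, g i ∈ maximalIdeal A)
    (I : Ideal A) (hI : I ≤ maximalIdeal A) (a : ι → A)
    (ha : ∑ i, a i • b i ∈ I • (⊤ : Submodule A B)) : ∀ i, a i ∈ I := by
  have : Nontrivial (A ⧸ I) :=
    Ideal.Quotient.nontrivial_iff.mpr fun h' => (maximalIdeal.isMaximal A).ne_top (top_le_iff.mp (h'.ge.trans hI))
  have : IsLocalRing (A ⧸ I) := IsLocalRing.of_surjective' _ Ideal.Quotient.mk_surjective
  have hfl : Module.Flat (A ⧸ I) (B ⧸ (I • ⊤ : Submodule A B)) :=
    Module.Flat.of_linearEquiv
      ((TensorProduct.quotTensorEquivQuotSMul B I).extendScalarsOfSurjective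
        Ideal.Quotient.mk_surjective).symm
  have hm : ∀ x : A, Ideal.Quotient.mk I x ∈ maximalIdeal (A ⧸ I) ↔ x ∈ maximalIdeal A := fun x => by
    rw [← IsLocalRing.eq_maximalIdeal (Ideal.IsMaximal.map_of_surjective_of_ker_le
      Ideal.Quotient.mk_surjective (m := maximalIdeal A) (by rwa [Ideal.mk_ker])), Ideal.mem_quotient_iff_mem hI]
  let v : ι → B ⧸ (I • ⊤ : Submodule A B) := fun i => Submodule.Quotient.mk (b i)
  have hind : LinearIndependent (A ⧸ I) v := by
    refine linearIndependent_of_forall v fun g hg i => ?_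
    choose g' hg' using fun i => Ideal.Quotient.mk_surjective (g i)
    have hsum : ∑ i, g i • v i = Submodule.Quotient.mk (∑ i, g' i • b i) := by
      rw [← Submodule.mkQ_apply, map_sum]
      refine Finset.sum_congr rfl fun i _ => ?_
      rw [← hg' i]
      rfl
    rw [hsum] at hg
    have key : ∀ z ∈ maximalIdeal (A ⧸ I) • (⊤ : Submodule (A ⧸ I) (B ⧸ (I • ⊤ : Submodule A B))),
        ∃ w ∈ maximalIdeal A • (⊤ : Submodule A B), Submodule.Quotient.mk w = z := by
      intro z hz
      refine Submodule.smul_induction_on hz (fun r hr m _ => ?_) (fun x y hx hy => ?_)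
      · obtain ⟨r, rfl⟩ := Ideal.Quotient.mk_surjective r
        obtain ⟨m, rfl⟩ := Submodule.Quotient.mk_surjective _ m
        exact ⟨r • m, Submodule.smul_mem_smul ((hm r).mp hr) trivial, rfl⟩
      · obtain ⟨x, hx', rfl⟩ := hx
        obtain ⟨y, hy', rfl⟩ := hy
        exact ⟨x + y, add_mem hx' hy', rfl⟩
    obtain ⟨w, hw, hwe⟩ := key _ hg
    rw [← hg' i, hm]
    refine h g' ?_ i
    have h1 : ∑ i, g' i • b i - w ∈ (I • ⊤ : Submodule A B) :=
      (Submodule.Quotient.eq _).mp hwe.symm
    simpa using add_mem (Submodule.smul_mono_left hI h1) hw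
  intro i
  rw [← Ideal.Quotient.eq_zero_iff_mem]
  refine Fintype.linearIndependent_iff.mp hind (fun i => Ideal.Quotient.mk I (a i)) ?_ i
  have : ∑ i, Ideal.Quotient.mk I (a i) • v i = Submodule.Quotient.mk (∑ i, a i • b i) := by
    rw [← Submodule.mkQ_apply, map_sum]
    rfl
  rw [this, Submodule.Quotient.mk_eq_zero]
  exact ha

section

variable (A B : Type u) [CommRing A] [CommRing B] [IsLocalRing A] [IsLocalRing B]
  [IsNoetherianRing A] [IsNoetherianRing B] [Algebra A B] [IsLocalHom (algebraMap A B)]

local notation "Ah" => AdicCompletion (maximalIdeal A) A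
local notation "Bh" => AdicCompletion (maximalIdeal B) B

theorem map_maximalIdeal_of_comp (ψ : Ah →+* Bh)
    (hψ : ψ.comp (algebraMap A Ah) = (algebraMap B Bh).comp (algebraMap A B)) :
    (maximalIdeal Ah).map ψ = ((maximalIdeal A).map (algebraMap A B)).map (algebraMap B Bh) := by
  rw [AdicCompletion.maximalIdeal_eq_map, Ideal.map_map, hψ, Ideal.map_map]

theorem isLocalHom_of_comp (ψ : Ah →+* Bh)
    (hψ : ψ.comp (algebraMap A Ah) = (algebraMap B Bh).comp (algebraMap A B)) : IsLocalHom ψ := by
  refine ((IsLocalRing.local_hom_TFAE ψ).out 0 2).mpr ?_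
  rw [map_maximalIdeal_of_comp A B ψ hψ, AdicCompletion.maximalIdeal_eq_map]
  exact Ideal.map_mono (((IsLocalRing.local_hom_TFAE (algebraMap A B)).out 0 2).mp ‹_›)

theorem map_maximalIdeal_iff (ψ : Ah →+* Bh)
    (hψ : ψ.comp (algebraMap A Ah) = (algebraMap B Bh).comp (algebraMap A B)) :
    (maximalIdeal Ah).map ψ = maximalIdeal Bh ↔
      (maximalIdeal A).map (algebraMap A B) = maximalIdeal B := by
  have : Module.FaithfullyFlat B Bh := Module.FaithfullyFlat.of_flat_of_isLocalHom
  rw [map_maximalIdeal_of_comp A B ψ hψ, AdicCompletion.maximalIdeal_eq_map]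
  refine ⟨fun h => ?_, fun h => by rw [h]⟩
  have := congrArg (Ideal.comap (algebraMap B Bh)) h
  rwa [Ideal.comap_map_eq_self_of_faithfullyFlat, Ideal.comap_map_eq_self_of_faithfullyFlat] at this

/-- Residue fields of the completions. -/
theorem exists_residue_equiv (ψ : Ah →+* Bh)
    (hψ : ψ.comp (algebraMap A Ah) = (algebraMap B Bh).comp (algebraMap A B)) :
    haveI := isLocalHom_of_comp A B ψ hψ
    ∃ (e₁ : ResidueField A ≃+* ResidueField Ah) (e₂ : ResidueField B ≃+* ResidueField Bh),
      (ResidueField.map ψ).comp e₁.toRingHom =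
        e₂.toRingHom.comp (algebraMap (ResidueField A) (ResidueField B)) := by
  have := isLocalHom_of_comp A B ψ hψ
  refine ⟨RingEquiv.ofBijective _ (AdicCompletion.residueField_map_bijective A),
    RingEquiv.ofBijective _ (AdicCompletion.residueField_map_bijective B), ?_⟩
  refine RingHom.ext fun x => ?_
  obtain ⟨a, rfl⟩ := IsLocalRing.residue_surjective x
  exact congrArg (residue Bh) (RingHom.congr_fun hψ a)

theorem residue_conditions (ψ : Ah →+* Bh)
    (hψ : ψ.comp (algebraMap A Ah) = (algebraMap B Bh).comp (algebraMap A B)) :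
    haveI := isLocalHom_of_comp A B ψ hψ
    letI := ψ.toAlgebra
    (Module.Finite (ResidueField Ah) (ResidueField Bh) ↔
        Module.Finite (ResidueField A) (ResidueField B)) ∧
      (Algebra.IsSeparable (ResidueField Ah) (ResidueField Bh) ↔
        Algebra.IsSeparable (ResidueField A) (ResidueField B)) := by
  have := isLocalHom_of_comp A B ψ hψ
  let := ψ.toAlgebra
  have : IsLocalHom (algebraMap Ah Bh) := isLocalHom_of_comp A B ψ hψ
  obtain ⟨e₁, e₂, he⟩ := exists_residue_equiv A B ψ hψ
  have hal : algebraMap (ResidueField Ah) (ResidueField Bh) = ResidueField.map ψ :=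
    RingHom.ext fun x => by
      obtain ⟨a, rfl⟩ := IsLocalRing.residue_surjective x
      rfl
  have h1 : RingHom.comp (algebraMap (ResidueField Ah) (ResidueField Bh)) e₁ =
      RingHom.comp e₂ (algebraMap (ResidueField A) (ResidueField B)) := by
    rw [hal]; exact he
  have h2 : RingHom.comp (algebraMap (ResidueField A) (ResidueField B)) e₁.symm =
      RingHom.comp e₂.symm (algebraMap (ResidueField Ah) (ResidueField Bh)) := by
    refine RingHom.ext fun x => e₂.injective ?_
    have := RingHom.congr_fun h1 (e₁.symm x)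
    simp only [RingHom.comp_apply, RingHom.coe_coe, RingEquiv.apply_symm_apply] at this ⊢
    exact this.symm
  exact ⟨⟨fun _ => Module.Finite.of_equiv_equiv e₁.symm e₂.symm h2,
      fun _ => Module.Finite.of_equiv_equiv e₁ e₂ h1⟩,
    ⟨fun _ => Algebra.IsSeparable.of_equiv_equiv e₁.symm e₂.symm h2,
      fun _ => Algebra.IsSeparable.of_equiv_equiv e₁ e₂ h1⟩⟩

theorem finite_completion (ψ : Ah →+* Bh)
    (hψ : ψ.comp (algebraMap A Ah) = (algebraMap B Bh).comp (algebraMap A B))
    (hm : (maximalIdeal A).map (algebraMap A B) = maximalIdeal B)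
    (hfin : Module.Finite (ResidueField A) (ResidueField B)) :
    letI := ψ.toAlgebra
    Module.Finite Ah Bh := by
  let := ψ.toAlgebra
  have hlh := isLocalHom_of_comp A B ψ hψ
  have : IsLocalHom (algebraMap Ah Bh) := hlh
  have hk := (residue_conditions A B ψ hψ).1.mpr hfin
  have hmh := (map_maximalIdeal_iff A B ψ hψ).mpr hm
  have htop : ∀ n, ((maximalIdeal Ah) ^ n • ⊤ : Submodule Ah Bh) =
      ((maximalIdeal Bh) ^ n).restrictScalars Ah := fun n => by
    rw [Ideal.smul_top_eq_map, Ideal.map_pow,
      show (maximalIdeal Ah).map (algebraMap Ah Bh) = maximalIdeal Bh from hmh]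
  have : IsHausdorff (maximalIdeal Ah) Bh := ⟨fun x hx => by
    refine IsHausdorff.haus (I := maximalIdeal Bh) inferInstance x fun n => ?_
    have := hx n
    rw [SModEq.zero] at this ⊢
    rw [htop] at this
    simpa using this⟩
  refine Groth.Agent.Lib.Adic.Complete.finite_of_finite_quotient (I := maximalIdeal Ah) ?_
  have : Module.Finite Ah (ResidueField Bh) :=
    Module.Finite.trans (ResidueField Ah) (ResidueField Bh)
  let e : (Bh ⧸ (maximalIdeal Ah • ⊤ : Submodule Ah Bh)) ≃ₗ[Ah] ResidueField Bh :=
    (Submodule.quotEquivOfEq _ _ (by simpa using htop 1)).trans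
      (Submodule.Quotient.restrictScalarsEquiv Ah (maximalIdeal Bh))
  exact Module.Finite.equiv e.symm

theorem unramified_iff [Algebra.EssFiniteType A B] (ψ : Ah →+* Bh)
    (hψ : ψ.comp (algebraMap A Ah) = (algebraMap B Bh).comp (algebraMap A B)) :
    ((maximalIdeal A).map (algebraMap A B) = maximalIdeal B ∧
        Module.Finite (ResidueField A) (ResidueField B) ∧
        Algebra.IsSeparable (ResidueField A) (ResidueField B)) ↔
      (ψ.FiniteType ∧ ψ.FormallyUnramified) := by
  let := ψ.toAlgebra
  have hlh := isLocalHom_of_comp A B ψ hψ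
  have : IsLocalHom (algebraMap Ah Bh) := hlh
  constructor
  · rintro ⟨hm, hfin, hsep⟩
    have := finite_completion A B ψ hψ hm hfin
    have : Algebra.IsSeparable (ResidueField Ah) (ResidueField Bh) :=
      (residue_conditions A B ψ hψ).2.mpr hsep
    exact ⟨(inferInstance : Algebra.FiniteType Ah Bh),
      Algebra.FormallyUnramified.of_map_maximalIdeal ((map_maximalIdeal_iff A B ψ hψ).mpr hm)⟩
  · rintro ⟨hft, hfu⟩
    have hft' : Algebra.FiniteType Ah Bh := hft
    have hfu' : Algebra.FormallyUnramified Ah Bh := hfu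
    have : Algebra.EssFiniteType Ah Bh := inferInstance
    exact ⟨(map_maximalIdeal_iff A B ψ hψ).mp Algebra.FormallyUnramified.map_maximalIdeal,
      (residue_conditions A B ψ hψ).1.mp inferInstance,
      (residue_conditions A B ψ hψ).2.mp inferInstance⟩

theorem free_completion [Module.Flat A B] (ψ : Ah →+* Bh)
    (hψ : ψ.comp (algebraMap A Ah) = (algebraMap B Bh).comp (algebraMap A B))
    (hm : (maximalIdeal A).map (algebraMap A B) = maximalIdeal B)
    (hfin : Module.Finite (ResidueField A) (ResidueField B)) :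
    letI := ψ.toAlgebra
    Module.Free Ah Bh ∧ Module.Finite Ah Bh ∧
      ∃ n : ℕ, 0 < n ∧ Nonempty ((Fin n → Ah) ≃ₗ[Ah] Bh) := by
  classical
  let := ψ.toAlgebra
  have hfinh := finite_completion A B ψ hψ hm hfin
  let β := Module.Free.chooseBasis (ResidueField A) (ResidueField B)
  choose b hb using fun i => IsLocalRing.residue_surjective (β i)
  have hres : ∀ g : Module.Free.ChooseBasisIndex (ResidueField A) (ResidueField B) → A,
      residue B (∑ i, g i • b i) = ∑ i, residue A (g i) • β i := fun g => by
    rw [map_sum]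
    refine Finset.sum_congr rfl fun i _ => ?_
    rw [Algebra.smul_def, map_mul, hb, Algebra.smul_def]
    rfl
  have hmtop : (maximalIdeal A • ⊤ : Submodule A B) = (maximalIdeal B).restrictScalars A := by
    rw [Ideal.smul_top_eq_map, hm]
  have hind : ∀ g : Module.Free.ChooseBasisIndex (ResidueField A) (ResidueField B) → A,
      ∑ i, g i • b i ∈ (maximalIdeal A • ⊤ : Submodule A B) → ∀ i, g i ∈ maximalIdeal A := by
    intro g hg i
    rw [hmtop] at hg
    have h0 : residue B (∑ i, g i • b i) = 0 := (residue_eq_zero_iff _).mpr hg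
    rw [hres] at h0
    exact (residue_eq_zero_iff _).mp (Fintype.linearIndependent_iff.mp β.linearIndependent _ h0 i)
  let Φ := Fintype.linearCombination Ah fun i => algebraMap B Bh (b i)
  have hAB : ∀ a : A, algebraMap Ah Bh (algebraMap A Ah a) = algebraMap B Bh (algebraMap A B a) :=
    RingHom.congr_fun hψ
  have hsmul : ∀ (a : A) (z : B),
      algebraMap A Ah a • algebraMap B Bh z = algebraMap B Bh (a • z) := fun a z => by
    rw [Algebra.smul_def, Algebra.smul_def, map_mul, hAB]
  have hmh := (map_maximalIdeal_iff A B ψ hψ).mpr hm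
  have hsurj : Function.Surjective Φ := by
    rw [← LinearMap.range_eq_top, ← top_le_iff]
    refine Submodule.le_of_le_smul_of_le_jacobson_bot Module.Finite.fg_top
      (maximalIdeal_le_jacobson _) ?_
    intro x _
    obtain ⟨k, hk⟩ := (AdicCompletion.residueField_map_bijective B).2 (residue Bh x)
    obtain ⟨z, rfl⟩ := IsLocalRing.residue_surjective k
    obtain ⟨c, hc⟩ : ∃ c, ∀ i, residue A (c i) = β.repr (residue B z) i :=
      ⟨fun i => (IsLocalRing.residue_surjective (β.repr (residue B z) i)).choose,
        fun i => (IsLocalRing.residue_surjective (β.repr (residue B z) i)).choose_spec⟩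
    rw [Submodule.mem_sup]
    refine ⟨Φ fun i => algebraMap A Ah (c i), ⟨_, rfl⟩, x - Φ fun i => algebraMap A Ah (c i), ?_,
      by abel⟩
    rw [Ideal.smul_top_eq_map, show (maximalIdeal Ah).map (algebraMap Ah Bh) = maximalIdeal Bh from hmh,
      Submodule.restrictScalars_mem, ← residue_eq_zero_iff, map_sub, sub_eq_zero]
    have hΦc : Φ (fun i => algebraMap A Ah (c i)) = algebraMap B Bh (∑ i, c i • b i) := by
      rw [Fintype.linearCombination_apply, map_sum]
      exact Finset.sum_congr rfl fun i _ => hsmul _ _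
    rw [hΦc, ← hk]
    refine Eq.trans (congrArg _ (?_ : _ = residue B (∑ i, c i • b i))) rfl
    rw [hres]
    simp only [hc]
    exact (β.sum_repr _).symm
  have hinj : Function.Injective Φ := by
    rw [injective_iff_map_eq_zero]
    intro c hc
    funext i
    refine IsHausdorff.haus (I := maximalIdeal Ah) inferInstance (c i) fun n => ?_
    rw [SModEq.zero, Ideal.smul_eq_mul, Ideal.mul_top]
    have happ : ∀ x : Ah, ∃ a : A, x - algebraMap A Ah a ∈ maximalIdeal Ah ^ n := fun x => by
      obtain ⟨a, ha⟩ := Ideal.Quotient.mk_surjective (AdicCompletion.evalₐ (maximalIdeal A) n x)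
      refine ⟨a, ?_⟩
      rw [AdicCompletion.maximalIdeal_eq_map, ← Ideal.map_pow, ← Submodule.restrictScalars_mem A,
        ← Ideal.smul_top_eq_map, AdicCompletion.pow_smul_top_eq_ker_eval (maximalIdeal A).fg_of_isNoetherianRing,
        LinearMap.mem_ker, map_sub, sub_eq_zero]
      have h2 : (maximalIdeal A) ^ n ≤ (maximalIdeal A) ^ n • ⊤ := by simp
      refine (AdicCompletion.factor_evalₐ_eq_eval (maximalIdeal A) x h2).symm.trans ?_
      rw [← ha]
      rfl
    choose a ha using fun i => happ (c i)
    suffices h : ∑ i, a i • b i ∈ (maximalIdeal A ^ n • ⊤ : Submodule A B) by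
      rcases Nat.eq_zero_or_pos n with rfl | hn
      · simp
      have := mem_of_sum_mem b hind _ (Ideal.pow_le_self hn.ne') a h i
      have h2 : algebraMap A Ah (a i) ∈ maximalIdeal Ah ^ n := by
        rw [AdicCompletion.maximalIdeal_eq_map, ← Ideal.map_pow]
        exact Ideal.mem_map_of_mem _ this
      simpa using add_mem (ha i) h2
    have : Module.FaithfullyFlat B Bh := Module.FaithfullyFlat.of_flat_of_isLocalHom
    rw [Ideal.smul_top_eq_map, Ideal.map_pow, hm, Submodule.restrictScalars_mem,
      ← Ideal.comap_map_eq_self_of_faithfullyFlat (B := Bh) (maximalIdeal B ^ n), Ideal.mem_comap,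
      Ideal.map_pow, ← AdicCompletion.maximalIdeal_eq_map]
    have hΦa : algebraMap B Bh (∑ i, a i • b i) = Φ (fun i => algebraMap A Ah (a i) - c i) := by
      rw [show (fun i => algebraMap A Ah (a i) - c i) = (fun i => algebraMap A Ah (a i)) - c from rfl,
        map_sub, hc, sub_zero, Fintype.linearCombination_apply, map_sum]
      exact Finset.sum_congr rfl fun i _ => (hsmul _ _).symm
    rw [hΦa, Fintype.linearCombination_apply]
    refine Ideal.sum_mem _ fun i _ => ?_
    rw [Algebra.smul_def]
    refine Ideal.mul_mem_right _ _ ?_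
    rw [← hmh, ← Ideal.map_pow]
    refine Ideal.mem_map_of_mem ψ ?_
    simpa using neg_mem (ha i)
  let e := LinearEquiv.ofBijective Φ ⟨hinj, hsurj⟩
  refine ⟨Module.Free.of_equiv e, hfinh, Fintype.card _, ?_,
    ⟨(LinearEquiv.funCongrLeft Ah Ah (Fintype.equivFin _)).trans e⟩⟩
  exact Fintype.card_pos_iff.mpr β.index_nonempty

theorem etale_iff [Algebra.EssFiniteType A B] (ψ : Ah →+* Bh)
    (hψ : ψ.comp (algebraMap A Ah) = (algebraMap B Bh).comp (algebraMap A B)) :
    ((Module.Flat A B ∧ (maximalIdeal A).map (algebraMap A B) = maximalIdeal B ∧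
        Module.Finite (ResidueField A) (ResidueField B) ∧
        Algebra.IsSeparable (ResidueField A) (ResidueField B)) ↔ ψ.Etale) ∧
      (ψ.Etale →
        letI := ψ.toAlgebra
        ∃ n : ℕ, 0 < n ∧ Nonempty ((Fin n → Ah) ≃ₗ[Ah] Bh)) := by
  let := ψ.toAlgebra
  have key : ψ.Etale → (Module.Flat A B ∧ (maximalIdeal A).map (algebraMap A B) = maximalIdeal B ∧
      Module.Finite (ResidueField A) (ResidueField B) ∧
      Algebra.IsSeparable (ResidueField A) (ResidueField B)) := by
    intro he
    have he' : Algebra.Etale Ah Bh := he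
    have hu := (unramified_iff A B ψ hψ).mpr
      ⟨(inferInstance : Algebra.FiniteType Ah Bh), (inferInstance : Algebra.FormallyUnramified Ah Bh)⟩
    refine ⟨?_, hu⟩
    have : IsScalarTower A Ah Bh := IsScalarTower.of_algebraMap_eq fun a =>
      (IsScalarTower.algebraMap_apply A B Bh a).trans (RingHom.congr_fun hψ a).symm
    have : Module.Flat A Bh := Module.Flat.trans A Ah Bh
    have : Module.FaithfullyFlat B Bh := Module.FaithfullyFlat.of_flat_of_isLocalHom
    exact Groth.Agent.Lib.Flat55.FlatDescend.module_flat_of_tower A B Bh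
  refine ⟨⟨fun ⟨_, hm, hfin, hsep⟩ => ?_, key⟩, fun he => ?_⟩
  · obtain ⟨hfree, hf, -⟩ := free_completion A B ψ hψ hm hfin
    obtain ⟨-, hfu⟩ := (unramified_iff A B ψ hψ).mp ⟨hm, hfin, hsep⟩
    have hfu' : Algebra.FormallyUnramified Ah Bh := hfu
    have := TraceEtale.finitePresentation_of_free Ah Bh
    exact (TraceEtale.etale_of_flat_of_formallyUnramified Ah Bh : Algebra.Etale Ah Bh)
  · obtain ⟨hflat, hm, hfin, -⟩ := key he
    exact (free_completion A B ψ hψ hm hfin).2.2

end

end Groth.Agent.Lib.Unram.CompletionCriterion
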