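import Mathlib.AlgebraicGeometry.Morphisms.FormallyUnramified
import Mathlib.CategoryTheory.MorphismProperty.Limits
import Groth.Prelude.Def_SchLoc

/-!
# Unramified near a point, via the diagonal and via sections
-/

universe u

open AlgebraicGeometry CategoryTheory CategoryTheory.Limits

namespace Groth.Agent.Lib.Unram.Diagonal

variable {X Y : Scheme.{u}} (f : X ⟶ Y)

theorem isOpenImmersion_of_postcomp {A B C : Scheme.{u}} (s : A ⟶ B) (g : B ⟶ C)
    [IsOpenImmersion (pullback.diagonal g)] [IsOpenImmersion (s ≫ g)] : IsOpenImmersion s := by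
  haveI : MorphismProperty.HasOfPostcompProperty @IsOpenImmersion
      (MorphismProperty.diagonal @IsOpenImmersion) :=
    (MorphismProperty.hasOfPostcompProperty_iff_le_diagonal (P := @IsOpenImmersion)
      (Q := MorphismProperty.diagonal @IsOpenImmersion)).mpr le_rfl
  exact MorphismProperty.of_postcomp @IsOpenImmersion (W' := MorphismProperty.diagonal @IsOpenImmersion)
    s g ‹_› ‹_›

theorem diagonal_comp_map (U : X.Opens) :
    pullback.diagonal (U.ι ≫ f) ≫ pullback.map (U.ι ≫ f) (U.ι ≫ f) f f U.ι U.ι (𝟙 Y)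
      (by simp) (by simp) = U.ι ≫ pullback.diagonal f := by
  apply pullback.hom_ext
  · simp only [Category.assoc, pullback.map, pullback.lift_fst, pullback.diagonal_fst]
    exact (pullback.diagonal_fst_assoc _ _).trans (Category.comp_id U.ι).symm
  · simp only [Category.assoc, pullback.map, pullback.lift_snd, pullback.diagonal_snd]
    exact (pullback.diagonal_snd_assoc _ _).trans (Category.comp_id U.ι).symm

theorem isOpenImmersion_diagonal_iff (U : X.Opens) :
    IsOpenImmersion (pullback.diagonal (U.ι ≫ f)) ↔ IsOpenImmersion (U.ι ≫ pullback.diagonal f) := by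
  rw [← diagonal_comp_map f U]
  constructor
  · intro h
    infer_instance
  · intro h
    exact IsOpenImmersion.of_comp (pullback.diagonal (U.ι ≫ f))
      (pullback.map (U.ι ≫ f) (U.ι ≫ f) f f U.ι U.ι (𝟙 Y) _ _)

theorem exists_unramified_nhd_iff [LocallyOfFiniteType f] (x : X) :
    (∃ U : X.Opens, x ∈ U ∧ FormallyUnramified (U.ι ≫ f)) ↔
      SchLoc.IsLocalIsoAt (pullback.diagonal f) x := by
  refine exists_congr fun U => and_congr_right fun _ => ?_
  rw [← isOpenImmersion_diagonal_iff]
  exact ⟨fun h => inferInstance, fun h => inferInstance⟩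

/-- A section is a local isomorphism where it meets the unramified locus. -/
theorem isLocalIsoAt_section [LocallyOfFiniteType f] {Y' : Scheme.{u}} (g : Y' ⟶ Y)
    (s : Y' ⟶ pullback f g) (hs : s ≫ pullback.snd f g = 𝟙 Y') (y : Y')
    (h : ∃ U : X.Opens, pullback.fst f g (s y) ∈ U ∧ FormallyUnramified (U.ι ≫ f)) :
    SchLoc.IsLocalIsoAt s y := by
  obtain ⟨U, hyU, hU⟩ := h
  let P : (pullback f g).Opens := pullback.fst f g ⁻¹ᵁ U
  have hP : IsPullback (pullback.fst f g ∣_ U) (P.ι ≫ pullback.snd f g) (U.ι ≫ f) g :=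
    (isPullback_morphismRestrict (pullback.fst f g) U).paste_vert (IsPullback.of_hasPullback f g)
  have h1 : FormallyUnramified (P.ι ≫ pullback.snd f g) := MorphismProperty.of_isPullback hP hU
  refine ⟨s ⁻¹ᵁ P, hyU, ?_⟩
  have h2 : IsOpenImmersion ((s ∣_ P) ≫ P.ι ≫ pullback.snd f g) := by
    rw [← Category.assoc, morphismRestrict_ι, Category.assoc, hs, Category.comp_id]
    infer_instance
  have := isOpenImmersion_of_postcomp (s ∣_ P) (P.ι ≫ pullback.snd f g)
  rw [← morphismRestrict_ι]
  infer_instance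

theorem exists_unramified_nhd_iff_sections [LocallyOfFiniteType f] (x : X) :
    (∃ U : X.Opens, x ∈ U ∧ FormallyUnramified (U.ι ≫ f)) ↔
      ∀ (Y' : Scheme.{u}) (g : Y' ⟶ Y) (s : Y' ⟶ pullback f g), s ≫ pullback.snd f g = 𝟙 Y' →
        ∀ y : ↥Y', pullback.fst f g (s y) = x → SchLoc.IsLocalIsoAt s y := by
  refine ⟨fun h Y' g s hs y hy => isLocalIsoAt_section f g s hs y (hy ▸ h), fun h => ?_⟩
  rw [exists_unramified_nhd_iff]
  refine h X f (pullback.diagonal f) (pullback.diagonal_snd f) x ?_
  rw [← Scheme.Hom.comp_apply, pullback.diagonal_fst]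
  rfl

end Groth.Agent.Lib.Unram.Diagonal
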