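import Mathlib.AlgebraicGeometry.Morphisms.FormallyUnramified
import Mathlib.AlgebraicGeometry.Morphisms.Separated
import Mathlib.AlgebraicGeometry.Fiber

/-!
# Agreement locus of two morphisms into an unramified scheme
-/

universe u

open AlgebraicGeometry CategoryTheory Limits

namespace Groth.Agent.Lib.Unram.EqLocus

variable {X Y S : Scheme.{u}} (h : Y ⟶ S) [FormallyUnramified h] [LocallyOfFiniteType h]
  (f g : X ⟶ Y) (w : g ≫ h = f ≫ h)

/-- The open subscheme on which `f` and `g` agree. -/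
noncomputable def eqLocus : X.Opens :=
  pullback.lift f g w.symm ⁻¹ᵁ (pullback.diagonal h).opensRange

theorem eqLocus_ι : (eqLocus h f g w).ι ≫ f = (eqLocus h f g w).ι ≫ g := by
  have hr : Set.range ((eqLocus h f g w).ι ≫ pullback.lift f g w.symm) ⊆
      Set.range (pullback.diagonal h) := by
    rintro _ ⟨x, rfl⟩
    exact x.2
  have h1 := congrArg (· ≫ pullback.fst h h) (IsOpenImmersion.lift_fac (pullback.diagonal h) _ hr)
  have h2 := congrArg (· ≫ pullback.snd h h) (IsOpenImmersion.lift_fac (pullback.diagonal h) _ hr)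
  simp only [Category.assoc, pullback.diagonal_fst, pullback.diagonal_snd, Category.comp_id,
    pullback.lift_fst, pullback.lift_snd] at h1 h2
  rw [← h1, h2]

theorem fiber_subset_eqLocus (s : S) (hs : (f ≫ h).fiberι s ≫ f = (f ≫ h).fiberι s ≫ g) {x : X}
    (hx : (f ≫ h) x = s) : x ∈ eqLocus h f g w := by
  have : x ∈ Set.range ((f ≫ h).fiberι s) := by
    rw [Scheme.Hom.range_fiberι]; exact hx
  obtain ⟨a, rfl⟩ := this
  have e : (f ≫ h).fiberι s ≫ pullback.lift f g w.symm =
      ((f ≫ h).fiberι s ≫ f) ≫ pullback.diagonal h :=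
    pullback.hom_ext
      (by simp only [Category.assoc, pullback.lift_fst, pullback.diagonal_fst, Category.comp_id])
      (by simp only [Category.assoc, pullback.lift_snd, pullback.diagonal_snd, Category.comp_id, hs])
  refine ⟨((f ≫ h).fiberι s ≫ f) a, ?_⟩
  rw [← Scheme.Hom.comp_apply, ← Scheme.Hom.comp_apply, e]

/-- The set of points of `S` over which `f` and `g` agree. -/
def base : Set S := ((f ≫ h) '' ((eqLocus h f g w : Set X))ᶜ)ᶜ

theorem mem_base (s : S) (hs : (f ≫ h).fiberι s ≫ f = (f ≫ h).fiberι s ≫ g) :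
    s ∈ base h f g w := by
  rintro ⟨x, hx, rfl⟩
  exact hx (fiber_subset_eqLocus h f g w _ hs rfl)

theorem isOpen_base (hc : IsClosedMap (f ≫ h).base) : IsOpen (base h f g w) :=
  (hc _ (eqLocus h f g w).2.isClosed_compl).isOpen_compl

theorem isClosed_base [IsSeparated h] (ho : IsOpenMap (f ≫ h).base) : IsClosed (base h f g w) := by
  refine (ho _ (isOpen_compl_iff.mpr ?_)).isClosed_compl
  exact (pullback.diagonal h).isClosedEmbedding.isClosed_range.preimage
    (pullback.lift f g w.symm).continuous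

theorem eq_over (V : S.Opens) (hV : (V : Set S) ⊆ base h f g w) :
    ((f ≫ h) ⁻¹ᵁ V).ι ≫ f = ((f ≫ h) ⁻¹ᵁ V).ι ≫ g := by
  have hle : (f ≫ h) ⁻¹ᵁ V ≤ eqLocus h f g w := fun x hx => by
    by_contra hn
    exact hV hx ⟨x, hn, rfl⟩
  rw [← X.homOfLE_ι hle, Category.assoc, Category.assoc, eqLocus_ι]

end Groth.Agent.Lib.Unram.EqLocus
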