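import Groth.Agent.Lib.Unram.TraceEtale
import Groth.Agent.Lib.Unram.AtPrime
import Mathlib.RingTheory.Ideal.KrullsHeightTheorem
import Mathlib.RingTheory.Ideal.GoingUp
import Mathlib.RingTheory.Flat.Localization
import Mathlib.RingTheory.LocalRing.Module

/-!
# A finite flat morphism that is étale in codimension one is étale
-/

set_option autoImplicit false

universe u

open CategoryTheory AlgebraicGeometry
open scoped TensorProduct

attribute [local instance] Algebra.TensorProduct.rightAlgebra

namespace Groth.Agent.Lib.Unram.EtaleCodimTwo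

theorem formallyUnramified_residueField_tensor (A B : Type u) [CommRing A] [CommRing B]
    [Algebra A B] [Module.Finite A B] (q : Ideal A) [q.IsPrime]
    (h : ∀ (Q : Ideal B) [Q.IsPrime], Q.comap (algebraMap A B) = q → Algebra.IsUnramifiedAt A Q) :
    Algebra.FormallyUnramified q.ResidueField (q.ResidueField ⊗[A] B) := by
  have : Module.Finite A Ω[B⁄A] := Module.Finite.trans B _
  have hq : (⟨q, inferInstance⟩ : PrimeSpectrum A) ∉ Module.support A Ω[B⁄A] := by
    rw [Module.mem_support_iff_of_finite]
    intro hle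
    have : Algebra.IsIntegral A B := Algebra.IsIntegral.of_finite A B
    obtain ⟨Q, hQ1, hQ2, hQ3⟩ := Ideal.exists_ideal_over_prime_of_isIntegral q
      (Module.annihilator B Ω[B⁄A]) (fun a ha => hle (Module.mem_annihilator.mpr fun m => by
        rw [← algebraMap_smul B a m]
        exact Module.mem_annihilator.mp ha m))
    have := h Q hQ3
    have h' : (⟨Q, hQ2⟩ : PrimeSpectrum B) ∈ Algebra.unramifiedLocus A B := this
    rw [Algebra.unramifiedLocus_eq_compl_support, Set.mem_compl_iff,
      Module.mem_support_iff_of_finite] at h'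
    exact h' hQ1
  rw [Module.mem_support_iff_nontrivial_residueField_tensorProduct, not_nontrivial_iff_subsingleton]
    at hq
  exact ⟨(KaehlerDifferential.tensorKaehlerEquivBase A q.ResidueField B
    (q.ResidueField ⊗[A] B)).symm.toEquiv.subsingleton⟩

theorem etale_of_height_le_one (A B : Type u) [CommRing A] [IsNoetherianRing A] [CommRing B]
    [Algebra A B] [Module.Finite A B] [Module.Flat A B]
    (h : ∀ (Q : Ideal B) [Q.IsPrime], (Q.comap (algebraMap A B)).height ≤ 1 →
      Algebra.IsUnramifiedAt A Q) :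
    Algebra.Etale A B := by
  classical
  have : Module.FinitePresentation A B := Module.finitePresentation_of_finite A B
  have : Algebra.FinitePresentation A B :=
    (Module.FinitePresentation.iff_finitePresentation_of_finite A B).mp inferInstance
  have : Algebra.FormallyUnramified A B := by
    refine TraceEtale.formallyUnramified_of_forall_fiber A B fun p _ => ?_
    let T := Localization.AtPrime p
    have : Module.Free T (T ⊗[A] B) := Module.free_of_flat_of_isLocalRing
    let b := Module.Free.chooseBasis T (T ⊗[A] B)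
    have hd : IsUnit (Algebra.traceMatrix T b).det := by
      by_contra hu
      obtain ⟨P, hP⟩ := (Ideal.span {(Algebra.traceMatrix T b).det}).nonempty_minimalPrimes
        (by rwa [Ne, Ideal.span_singleton_eq_top])
      have := hP.isPrime
      have hh := Ideal.height_le_one_of_isPrincipal_of_mem_minimalPrimes _ P hP
      rw [← IsLocalization.height_under p.primeCompl P] at hh
      let q := P.comap (algebraMap A T)
      have hfib := formallyUnramified_residueField_tensor A B q fun Q _ hQ =>
        h Q (by rw [hQ]; exact hh)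
      let K := AlgebraicClosure P.ResidueField
      have hker : q ≤ RingHom.ker (algebraMap A K) := fun a ha => by
        rw [RingHom.mem_ker, IsScalarTower.algebraMap_apply A T K,
          IsScalarTower.algebraMap_apply T P.ResidueField K,
          (Ideal.algebraMap_residueField_eq_zero (I := P)).mpr ha, map_zero]
      let φ : q.ResidueField →ₐ[A] K := Ideal.ResidueField.liftₐ q (Algebra.ofId A K) hker (by
        intro a ha
        refine IsUnit.mk0 _ fun h0 => ha ?_
        change algebraMap A T a ∈ P
        change algebraMap A K a = 0 at h0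
        rw [IsScalarTower.algebraMap_apply A T K, IsScalarTower.algebraMap_apply T P.ResidueField K,
          map_eq_zero] at h0
        exact Ideal.algebraMap_residueField_eq_zero.mp h0)
      let : Algebra q.ResidueField K := φ.toRingHom.toAlgebra
      have : IsScalarTower A q.ResidueField K := IsScalarTower.of_algHom φ
      have : Algebra.FormallyUnramified K (K ⊗[A] B) :=
        Algebra.FormallyUnramified.of_equiv
          (Algebra.TensorProduct.cancelBaseChange A q.ResidueField K K B)
      have hT : Algebra.FormallyUnramified K (K ⊗[T] (T ⊗[A] B)) :=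
        Algebra.FormallyUnramified.of_equiv
          (Algebra.TensorProduct.cancelBaseChange A T K K B).symm
      have : Algebra.FormallyEtale K (K ⊗[T] (T ⊗[A] B)) :=
        Algebra.FormallyEtale.iff_formallyUnramified_of_field.mpr hT
      have h1 := (TraceEtale.injective_traceForm_iff K (K ⊗[T] (T ⊗[A] B))).mpr inferInstance
      have h2 : Function.Bijective (Algebra.traceForm K (K ⊗[T] (T ⊗[A] B))) :=
        ⟨h1, (LinearMap.injective_iff_surjective_of_finrank_eq_finrank
          (Subspace.dual_finrank_eq).symm).mp h1⟩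
      rw [TraceEtale.bijective_traceForm_baseChange_iff T (T ⊗[A] B) b,
        IsScalarTower.algebraMap_apply T P.ResidueField K,
        Ideal.algebraMap_residueField_eq_zero.mpr (hP.1.2 (Ideal.mem_span_singleton_self _)),
        map_zero] at h2
      exact not_isUnit_zero h2
    have : Algebra.Etale T (T ⊗[A] B) :=
      (TraceEtale.etale_iff_bijective_traceForm T (T ⊗[A] B)).mpr
        ((TraceEtale.bijective_traceForm_iff T (T ⊗[A] B) b).mpr hd)
    exact Algebra.FormallyUnramified.of_equiv
      (Algebra.TensorProduct.cancelBaseChange A T p.ResidueField p.ResidueField B)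
  exact TraceEtale.etale_of_flat_of_formallyUnramified A B

theorem isUnramifiedAt_of_stalkMap {X Y : Scheme.{u}} (f : X ⟶ Y) {U : Y.Opens} (hU : IsAffineOpen U)
    {V : X.Opens} (hV : IsAffineOpen V) (hVU : V ≤ f ⁻¹ᵁ U) (x : X) (hxV : x ∈ V)
    (hu : (f.stalkMap x).hom.FormallyUnramified) :
    letI := (f.appLE U V hVU).hom.toAlgebra
    Algebra.IsUnramifiedAt Γ(Y, U) (hV.primeIdealOf ⟨x, hxV⟩).asIdeal := by
  let := (f.appLE U V hVU).hom.toAlgebra
  let p := (hU.primeIdealOf ⟨f x, hVU hxV⟩).asIdeal
  let q := (hV.primeIdealOf ⟨x, hxV⟩).asIdeal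
  have : q.LiesOver p :=
    ⟨congr($(IsAffineOpen.comap_primeIdealOf_appLE U hU V hV hVU hxV).1).symm⟩
  let := Localization.AtPrime.algebraOfLiesOver p q
  refine (AtPrime.isUnramifiedAt_iff_formallyUnramified_localization _ _ p q).mpr ?_
  rw [← RingHom.formallyUnramified_algebraMap]
  exact (RingHom.FormallyUnramified.respectsIso.arrow_mk_iso_iff
    (IsAffineOpen.arrowStalkMapIso f U hU V hV hVU hxV)).1 hu

theorem etale_of_finite_flat {X Y : Scheme.{u}} [IsLocallyNoetherian Y]
    (f : X ⟶ Y) [IsFinite f] [Flat f] (U : Y.Opens)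
    (hU : ∀ y : Y, y ∉ U → (2 : WithBot ℕ∞) ≤ ringKrullDim (Y.presheaf.stalk y))
    [Etale (f ∣_ U)] : Etale f := by
  rw [HasRingHomProperty.iff_exists_appLE (P := @Etale)
    (RingHom.Etale.stableUnderComposition.stableUnderCompositionWithLocalizationAway
      (fun R S _ _ _ r _ => RingHom.etale_algebraMap.mpr (Algebra.Etale.of_isLocalizationAway r))).1]
  intro x₀
  obtain ⟨_, ⟨W, hW, rfl⟩, hxW, -⟩ :=
    Y.isBasis_affineOpens.exists_subset_of_mem_open (Set.mem_univ (f x₀)) isOpen_univ
  have hV : IsAffineOpen (f ⁻¹ᵁ W) := hW.preimage f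
  refine ⟨⟨W, hW⟩, ⟨f ⁻¹ᵁ W, hV⟩, hxW, le_rfl, ?_⟩
  let := (f.appLE W (f ⁻¹ᵁ W) le_rfl).hom.toAlgebra
  have hn : IsNoetherianRing Γ(Y, W) := IsLocallyNoetherian.component_noetherian ⟨W, hW⟩
  have hfin : Module.Finite Γ(Y, W) Γ(X, f ⁻¹ᵁ W) := by
    have := IsFinite.finite_app f W hW
    rwa [← Scheme.Hom.appLE_eq_app] at this
  have hfl : Module.Flat Γ(Y, W) Γ(X, f ⁻¹ᵁ W) :=
    HasRingHomProperty.appLE @Flat f inferInstance ⟨W, hW⟩ ⟨_, hV⟩ le_rfl
  change Algebra.Etale Γ(Y, W) Γ(X, f ⁻¹ᵁ W)
  refine etale_of_height_le_one _ _ fun Q hQ hh => ?_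
  let x := hV.fromSpec ⟨Q, hQ⟩
  have hx : x ∈ f ⁻¹ᵁ W := hV.range_fromSpec.le ⟨_, rfl⟩
  have hxQ : hV.primeIdealOf ⟨x, hx⟩ = ⟨Q, hQ⟩ :=
    hV.fromSpec.isOpenEmbedding.injective (hV.fromSpec_primeIdealOf ⟨x, hx⟩)
  have hfx : f x ∈ U := by
    by_contra hne
    have h2 := hU _ hne
    let := TopCat.Presheaf.algebra_section_stalk Y.presheaf (⟨f x, hx⟩ : W)
    have := hW.isLocalization_stalk ⟨f x, hx⟩
    rw [IsLocalization.AtPrime.ringKrullDim_eq_height (hW.primeIdealOf ⟨f x, hx⟩).asIdeal] at h2
    have hp : (hW.primeIdealOf ⟨f x, hx⟩).asIdeal = Q.comap (algebraMap _ _) := by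
      have := congr($(IsAffineOpen.comap_primeIdealOf_appLE W hW _ hV le_rfl hx).1)
      rw [hxQ] at this
      exact this.symm
    rw [hp] at h2
    have h3 : (Q.comap (algebraMap Γ(Y, W) Γ(X, f ⁻¹ᵁ W))).height ≥ 2 := WithBot.coe_le_coe.mp h2
    exact absurd (h3.trans hh) (by decide)
  have hu : (f.stalkMap x).hom.FormallyUnramified := by
    refine AtPrime.formallyUnramified_stalkMap_of_nhd f x ⟨f ⁻¹ᵁ U, hfx, ?_⟩
    rw [← morphismRestrict_ι]
    have : Etale ((f ∣_ U) ≫ U.ι) :=
      MorphismProperty.comp_mem @Etale _ _ inferInstance inferInstance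
    infer_instance
  have := isUnramifiedAt_of_stalkMap f hW hV le_rfl x hx hu
  rwa [hxQ] at this

end Groth.Agent.Lib.Unram.EtaleCodimTwo
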