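import Mathlib.RingTheory.Etale.Basic
import Mathlib.RingTheory.Etale.StandardEtale
import Mathlib.RingTheory.Unramified.LocalStructure
import Mathlib.RingTheory.Ideal.IdempotentFG
import Mathlib.RingTheory.Idempotents
import Mathlib.RingTheory.TensorProduct.Maps
import Mathlib.RingTheory.Localization.AtPrime.Basic

/-!
# Splitting off an unramified point after an étale base change
-/

set_option autoImplicit false

universe u

open scoped TensorProduct

namespace Groth.Agent.Lib.Unram.EtaleSplit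

/-- If `R'` and `Sf` are étale over `R` and `S` respectively and `R' → Sf` is surjective, then
`Sf` is a direct factor of `R' ⊗[R] S`. -/
theorem exists_prod (R S R' Sf : Type u) [CommRing R] [CommRing S] [CommRing R'] [CommRing Sf]
    [Algebra R S] [Algebra R R'] [Algebra R Sf] [Algebra S Sf] [IsScalarTower R S Sf]
    [Algebra R' Sf] [IsScalarTower R R' Sf] [Algebra.Etale R R'] [Algebra.Etale S Sf]
    (hφ : Function.Surjective (algebraMap R' Sf)) :
    ∃ (B : Type u) (_ : CommRing B) (_ : Algebra R' B) (e : (R' ⊗[R] S) ≃ₐ[R'] (Sf × B)),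
      ∀ s : S, (e (1 ⊗ₜ[R] s)).1 = algebraMap S Sf s := by
  let T := S ⊗[R] R'
  let ψ : T →ₐ[S] Sf := Algebra.TensorProduct.lift (Algebra.ofId S Sf)
    (IsScalarTower.toAlgHom R R' Sf) fun _ _ ↦ mul_comm _ _
  have hψ : Function.Surjective ψ := fun y => by
    obtain ⟨r, rfl⟩ := hφ y
    exact ⟨1 ⊗ₜ r, by erw [Algebra.TensorProduct.lift_tmul]; simp⟩
  have hfg : (RingHom.ker ψ.toRingHom).FG :=
    Algebra.FinitePresentation.ker_fG_of_surjective ψ hψ
  have hid : IsIdempotentElem (RingHom.ker ψ.toRingHom) := by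
    let _ := ψ.toRingHom.toAlgebra
    have : IsScalarTower S T Sf := .of_algebraMap_eq fun s => (ψ.commutes s).symm
    have : Algebra.Etale T Sf := Algebra.Etale.of_restrictScalars S T Sf
    exact (Algebra.FormallyEtale.iff_of_surjective (R := T) (S := Sf) hψ).mp inferInstance
  obtain ⟨e₀, he₀, hker⟩ := (Ideal.isIdempotentElem_iff_of_fg _ hfg).mp hid
  let c : R' ⊗[R] S ≃ₐ[R] T := Algebra.TensorProduct.comm R R' S
  let ρ : R' ⊗[R] S →ₐ[R'] Sf := Algebra.TensorProduct.lift (Algebra.ofId R' Sf)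
    (IsScalarTower.toAlgHom R S Sf) fun _ _ ↦ mul_comm _ _
  have hρψ : ∀ z, ρ z = ψ (c z) := fun z => by
    induction z using TensorProduct.induction_on with
    | zero => simp
    | tmul r s => erw [Algebra.TensorProduct.lift_tmul, Algebra.TensorProduct.lift_tmul]; exact mul_comm _ _
    | add x y hx hy => simp only [map_add, hx, hy]
  have hρ : Function.Surjective ρ := fun y => by
    obtain ⟨r, rfl⟩ := hφ y
    exact ⟨r ⊗ₜ 1, by simp [ρ, Algebra.ofId_apply]⟩
  let e₁ := c.symm e₀
  have he₁ : IsIdempotentElem e₁ := he₀.map c.symm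
  have hkerρ : RingHom.ker ρ.toRingHom = Ideal.span {e₁} := by
    ext z
    rw [RingHom.mem_ker]
    change ρ z = 0 ↔ _
    rw [hρψ, show (ψ (c z) = 0 ↔ c z ∈ Ideal.span {e₀}) by rw [← Ideal.submodule_span_eq, ← hker]; rfl,
      Ideal.mem_span_singleton, Ideal.mem_span_singleton]
    exact ⟨fun h => by simpa [e₁] using map_dvd c.symm h, fun h => by simpa [e₁] using map_dvd c h⟩
  let E := AlgEquiv.prodQuotientOfIsIdempotentElem (R := R') he₁ he₁.one_sub (by simp)
    (by simp [mul_sub, he₁.eq])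
  let E₂ : ((R' ⊗[R] S) ⧸ Ideal.span {e₁}) ≃ₐ[R'] Sf :=
    ((Ideal.span {e₁}).quotientEquivAlgOfEq R' hkerρ.symm).trans
      (Ideal.quotientKerAlgEquivOfSurjective hρ)
  refine ⟨_, inferInstance, inferInstance, E.trans (AlgEquiv.prodCongr E₂ AlgEquiv.refl), fun s => ?_⟩
  change ρ (1 ⊗ₜ[R] s) = _
  simp [ρ, Algebra.ofId_apply]

end Groth.Agent.Lib.Unram.EtaleSplit
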