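import Groth.Agent.Lib.Unram.EtaleSplit
import Mathlib.RingTheory.LocalRing.ResidueField.Fiber
import Mathlib.RingTheory.TensorProduct.Pi
import Mathlib.RingTheory.Unramified.Finite
import Mathlib.LinearAlgebra.TensorProduct.Prod
import Mathlib.LinearAlgebra.Dimension.Constructions

/-!
# Complete splitting of an unramified algebra after an étale base change
-/

set_option autoImplicit false

universe u

open scoped TensorProduct

namespace Groth.Agent.Lib.Unram.EtaleSplitAll

theorem exists_split_at (R : Type u) [CommRing R]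
    (S : Type u) [CommRing S] [Algebra R S] [Algebra.FiniteType R S] (q : Ideal S) [q.IsPrime]
    [Algebra.IsUnramifiedAt R q] :
    ∃ (R' : Type u) (_ : CommRing R') (_ : Algebra R R') (_ : Algebra.Etale R R') (p' : Ideal R')
      (_ : p'.IsPrime) (_ : p'.LiesOver (q.under R)) (A : Type u) (_ : CommRing A) (_ : Algebra R' A)
      (B : Type u) (_ : CommRing B) (_ : Algebra R' B) (e : (R' ⊗[R] S) ≃ₐ[R'] (A × B)),
      Function.Surjective (algebraMap R' A) ∧ (p'.map (algebraMap R' A)).IsPrime ∧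
        (p'.map (algebraMap R' A)).comap (algebraMap R' A) = p' ∧
        (p'.map (algebraMap R' A)).comap (((RingHom.fst A B).comp e.toRingHom).comp
          (Algebra.TensorProduct.includeRight : S →ₐ[R] R' ⊗[R] S).toRingHom) = q := by
  obtain ⟨f, hf, P, φ, hφ⟩ := Algebra.IsUnramifiedAt.exists_hasStandardEtaleSurjectionOn (R := R) q
  let _ : Algebra P.Ring (Localization.Away f) := φ.toRingHom.toAlgebra
  have : IsScalarTower R P.Ring (Localization.Away f) := .of_algebraMap_eq fun x => (φ.commutes x).symm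
  have : Algebra.Etale S (Localization.Away f) := Algebra.Etale.of_isLocalizationAway f
  obtain ⟨B, _, _, e, he⟩ :=
    Groth.Agent.Lib.Unram.EtaleSplit.exists_prod R S P.Ring (Localization.Away f) hφ
  have hd : Disjoint (Submonoid.powers f : Set S) q := Set.disjoint_left.mpr fun a ha haq => by
    obtain ⟨n, rfl⟩ := ha
    exact hf (‹q.IsPrime›.mem_of_pow_mem n haq)
  let Q : Ideal (Localization.Away f) := q.map (algebraMap S (Localization.Away f))
  have hQ : Q.IsPrime :=
    IsLocalization.isPrime_of_isPrime_disjoint (Submonoid.powers f) _ q inferInstance hd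
  have hQq : Q.comap (algebraMap S (Localization.Away f)) = q :=
    IsLocalization.under_map_of_isPrime_disjoint (Submonoid.powers f) _ inferInstance hd
  let p' : Ideal P.Ring := Q.comap (algebraMap P.Ring (Localization.Away f))
  have hmap : p'.map (algebraMap P.Ring (Localization.Away f)) = Q :=
    Ideal.map_comap_of_surjective _ hφ Q
  have hlies : p'.LiesOver (q.under R) := ⟨by
    change q.comap (algebraMap R S) = p'.comap (algebraMap R P.Ring)
    rw [← hQq]
    ext r
    simp only [Ideal.mem_comap, p', ← IsScalarTower.algebraMap_apply]⟩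
  refine ⟨P.Ring, inferInstance, inferInstance, inferInstance, p', inferInstance, hlies,
    Localization.Away f, inferInstance, inferInstance, B, inferInstance, inferInstance, e, hφ,
    hmap ▸ hQ, by rw [hmap], ?_⟩
  rw [hmap]
  conv_rhs => rw [← hQq]
  congr 1
  exact RingHom.ext he

/-- Associativity of products of algebras. -/
noncomputable def prodAssocEquiv (R A B C : Type u) [CommRing R] [CommRing A] [CommRing B]
    [CommRing C] [Algebra R A] [Algebra R B] [Algebra R C] :
    ((A × B) × C) ≃ₐ[R] (A × (B × C)) where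
  toEquiv := Equiv.prodAssoc A B C
  map_mul' _ _ := rfl
  map_add' _ _ := rfl
  commutes' _ := rfl

/-- Prepending a factor to a product of quotients. -/
def consQuotEquiv {R : Type u} [CommRing R] {n : ℕ} (J : Ideal R) (I : Fin n → Ideal R) :
    ((R ⧸ J) × ∀ i, R ⧸ I i) ≃ₐ[R] ∀ i, R ⧸ (Fin.cons J I : Fin (n + 1) → Ideal R) i where
  toFun x := Fin.cases (motive := fun i => R ⧸ (Fin.cons J I : Fin (n + 1) → Ideal R) i) x.1 x.2
  invFun g := (g 0, fun i => g i.succ)
  left_inv x := rfl
  right_inv g := funext fun i => by cases i using Fin.cases <;> rfl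
  map_mul' x y := funext fun i => by cases i using Fin.cases <;> rfl
  map_add' x y := funext fun i => by cases i using Fin.cases <;> rfl
  commutes' r := funext fun i => by cases i using Fin.cases <;> rfl

theorem exists_split_all_aux (d : ℕ) : ∀ (R : Type u) [CommRing R] (S : Type u) [CommRing S]
    [Algebra R S] [Algebra.Unramified R S] (p : Ideal R) [p.IsPrime],
    Module.finrank p.ResidueField (p.Fiber S) = d →
    ∃ (R' : Type u) (_ : CommRing R') (_ : Algebra R R') (_ : Algebra.Etale R R') (p' : Ideal R')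
      (_ : p'.IsPrime) (_ : p'.LiesOver p) (n : ℕ) (I : Fin n → Ideal R')
      (B : Type u) (_ : CommRing B) (_ : Algebra R' B),
      Nonempty ((R' ⊗[R] S) ≃ₐ[R'] ((∀ i, R' ⧸ I i) × B)) ∧ (∀ i, I i ≤ p') ∧
        ∀ (q : Ideal B) [q.IsPrime], q.comap (algebraMap R' B) ≠ p' := by
  induction d using Nat.strong_induction_on with
  | _ d ih =>
  intro R _ S _ _ _ p _ hd
  by_cases hq : ∃ q : Ideal S, q.IsPrime ∧ q.comap (algebraMap R S) = p
  swap
  · refine ⟨R, inferInstance, inferInstance, inferInstance, p, inferInstance, ⟨rfl⟩, 0, Fin.elim0,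
      S, inferInstance, inferInstance, ⟨?_⟩, fun i => i.elim0, fun q hqp h => hq ⟨q, hqp, h⟩⟩
    exact (Algebra.TensorProduct.lid R S).trans (AlgEquiv.ofBijective
      (AlgHom.prod (Pi.algHom R _ fun i : Fin 0 => i.elim0) (AlgHom.id R S))
      ⟨fun a b h => congrArg Prod.snd h, fun x => ⟨x.2, Prod.ext (funext fun i => i.elim0) rfl⟩⟩)
  obtain ⟨q, hqp, hqe⟩ := hq
  have : Algebra.IsUnramifiedAt R q := inferInstance
  obtain ⟨R₁, _, _, _, p₁, _, hp₁, A, _, _, B, _, _, e, hsurj, hA1, hA2, -⟩ := exists_split_at R S q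
  have hp₁' : p₁.LiesOver p := ⟨by rw [← hqe]; exact hp₁.over⟩
  let I₀ := RingHom.ker (Algebra.ofId R₁ A)
  have hI₀ : I₀ ≤ p₁ := by
    rw [← hA2]
    exact fun x hx => by
      have h0 : algebraMap R₁ A x = 0 := hx
      rw [Ideal.mem_comap, h0]
      exact zero_mem _
  have : Algebra.Unramified R₁ B := by
    have : Algebra.Unramified R₁ (R₁ ⊗[R] S) := inferInstance
    let π : R₁ ⊗[R] S →ₐ[R₁] B := (AlgHom.snd R₁ A B).comp e.toAlgHom
    have hπ : Function.Surjective π := fun b => ⟨e.symm (0, b), by simp [π]⟩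
    exact ⟨Algebra.FormallyUnramified.of_surjective π hπ, Algebra.FiniteType.of_surjective π hπ⟩
  have hlt : Module.finrank p₁.ResidueField (p₁.Fiber B) < d := by
    let k := p.ResidueField
    let k₁ := p₁.ResidueField
    let := Localization.AtPrime.algebraOfLiesOver p p₁
    have h1 : Module.finrank k₁ (k₁ ⊗[R₁] (R₁ ⊗[R] S)) = d := by
      rw [(Algebra.TensorProduct.cancelBaseChange R R₁ k₁ k₁ S).toLinearEquiv.finrank_eq,
        ← (Algebra.TensorProduct.cancelBaseChange R k k₁ k₁ S).toLinearEquiv.finrank_eq,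
        Module.finrank_baseChange, hd]
    rw [((Algebra.TensorProduct.congr (AlgEquiv.refl (R := k₁) (A₁ := k₁)) e).trans
      (Algebra.TensorProduct.prodRight R₁ k₁ k₁ A B)).toLinearEquiv.finrank_eq] at h1
    have : Algebra.Unramified R₁ A := by
      exact ⟨Algebra.FormallyUnramified.of_surjective (Algebra.ofId R₁ A) hsurj,
        Algebra.FiniteType.of_surjective (Algebra.ofId R₁ A) hsurj⟩
    rw [Module.finrank_prod] at h1
    have : Nontrivial (k₁ ⊗[R₁] A) := by
      let g : A →ₐ[R₁] k₁ := (Ideal.Quotient.liftₐ I₀ (Algebra.ofId R₁ k₁) (fun x hx =>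
        Ideal.algebraMap_residueField_eq_zero.mpr (hI₀ hx))).comp
        (Ideal.quotientKerAlgEquivOfSurjective (f := Algebra.ofId R₁ A) hsurj).symm.toAlgHom
      exact (Algebra.TensorProduct.lift (Algebra.ofId k₁ k₁) g fun _ _ => Commute.all _ _).toRingHom.domain_nontrivial
    have := Module.finrank_pos (R := k₁) (M := k₁ ⊗[R₁] A)
    change Module.finrank k₁ (k₁ ⊗[R₁] B) < d
    omega
  obtain ⟨R₂, _, _, _, p₂, _, hp₂, n, I, B', _, _, ⟨e₂⟩, hI, hB'⟩ := ih _ hlt R₁ B p₁ rfl
  let _ : Algebra R R₂ := ((algebraMap R₁ R₂).comp (algebraMap R R₁)).toAlgebra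
  have : IsScalarTower R R₁ R₂ := .of_algebraMap_eq fun _ => rfl
  let J : Ideal R₂ := I₀.map (algebraMap R₁ R₂)
  have hJ : J ≤ p₂ := Ideal.map_le_iff_le_comap.mpr (hI₀.trans hp₂.over.le)
  refine ⟨R₂, inferInstance, inferInstance, Algebra.Etale.comp R R₁ R₂, p₂, inferInstance,
    Ideal.LiesOver.trans p₂ p₁ p, n + 1, Fin.cons J I, B', inferInstance, inferInstance, ⟨?_⟩,
    Fin.cases hJ hI, hB'⟩
  let eA : R₂ ⊗[R₁] A ≃ₐ[R₂] R₂ ⧸ J :=
    (Algebra.TensorProduct.congr AlgEquiv.refl
      (Ideal.quotientKerAlgEquivOfSurjective (f := Algebra.ofId R₁ A) hsurj).symm).trans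
      ((Algebra.TensorProduct.quotIdealMapEquivTensorQuot R₂ I₀).symm)
  exact (Algebra.TensorProduct.cancelBaseChange R R₁ R₂ R₂ S).symm.trans
    ((Algebra.TensorProduct.congr AlgEquiv.refl e).trans
    ((Algebra.TensorProduct.prodRight R₁ R₂ R₂ A B).trans
    ((AlgEquiv.prodCongr eA e₂).trans
    ((prodAssocEquiv R₂ _ _ _).symm.trans
    (AlgEquiv.prodCongr (consQuotEquiv J I) AlgEquiv.refl)))))

theorem exists_split_all (R : Type u) [CommRing R] (S : Type u) [CommRing S]
    [Algebra R S] [Algebra.Unramified R S] (p : Ideal R) [p.IsPrime] :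
    ∃ (R' : Type u) (_ : CommRing R') (_ : Algebra R R') (_ : Algebra.Etale R R') (p' : Ideal R')
      (_ : p'.IsPrime) (_ : p'.LiesOver p) (n : ℕ) (I : Fin n → Ideal R')
      (B : Type u) (_ : CommRing B) (_ : Algebra R' B),
      Nonempty ((R' ⊗[R] S) ≃ₐ[R'] ((∀ i, R' ⧸ I i) × B)) ∧ (∀ i, I i ≤ p') ∧
        ∀ (q : Ideal B) [q.IsPrime], q.comap (algebraMap R' B) ≠ p' :=
  exists_split_all_aux _ R S p rfl

end Groth.Agent.Lib.Unram.EtaleSplitAll
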