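import Groth.Agent.H25.MoriNagata.Main
import Mathlib.RingTheory.Flat.Basic
import Mathlib.RingTheory.Flat.FaithfullyFlat.Basic
import Mathlib.RingTheory.DiscreteValuationRing.Basic
import Mathlib.RingTheory.Valuation.ValuationSubring
import Mathlib.LinearAlgebra.TensorProduct.RightExactness
import Mathlib.RingTheory.Spectrum.Prime.Topology

/-!
# Idempotents in the generic fibre of a flat algebra with geometrically reduced fibres

Let `A` be a Noetherian local domain with normalization `A'` and `B` a flat `A`-algebra with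
geometrically reduced fibres.  An idempotent of `B ⊗ Frac A` lies in `B ⊗ A'`: this can be tested at
the finitely many discrete valuation rings provided by the theorem of Mori and Nagata.
-/

set_option autoImplicit false

universe u

open scoped TensorProduct nonZeroDivisors

namespace Groth.Agent.Lib.Unram.FibreConnected

/-- A ring whose only idempotents are `0` and `1` has connected spectrum. -/
theorem connectedSpace_of_idempotent {R : Type u} [CommRing R] [Nontrivial R]
    (h : ∀ e : R, IsIdempotentElem e → e = 0 ∨ e = 1) : ConnectedSpace (PrimeSpectrum R) := by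
  refine connectedSpace_iff_clopen.mpr ⟨inferInstance, fun s hs => ?_⟩
  obtain ⟨e, he, rfl⟩ := PrimeSpectrum.isClopen_iff.mp hs
  rcases h e he with rfl | rfl
  · left; simp
  · right; simp

theorem eq_zero_or_one_of_isLocalRing {R : Type u} [CommRing R] [IsLocalRing R] {e : R}
    (he : IsIdempotentElem e) : e = 0 ∨ e = 1 := by
  rcases IsLocalRing.isUnit_or_isUnit_one_sub_self e with h | h
  · exact Or.inr (h.mul_eq_right.mp (he : e * e = e))
  · exact Or.inl ((h.mul_right_eq_zero).mp (by rw [sub_mul, one_mul, he, sub_self]))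

variable {A B : Type u} [CommRing A] [CommRing B] [Algebra A B] [Module.Flat A B]

section Submodules

variable {M : Type u} [AddCommGroup M] [Module A M]

variable (B) in
/-- The image of `B ⊗ N` in `B ⊗ M`. -/
noncomputable def img (N : Submodule A M) : Submodule A (B ⊗[A] M) :=
  LinearMap.range (N.subtype.lTensor B)

theorem img_mono {N N' : Submodule A M} (h : N ≤ N') : img B N ≤ img B N' := by
  rw [img, show N.subtype = N'.subtype ∘ₗ Submodule.inclusion h from rfl, LinearMap.lTensor_comp]
  exact LinearMap.range_comp_le_range _ _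

/-- Flat base change commutes with intersections. -/
theorem mem_img_inf {N₁ N₂ : Submodule A M} {e : B ⊗[A] M} (h₁ : e ∈ img B N₁) (h₂ : e ∈ img B N₂) :
    e ∈ img B (N₁ ⊓ N₂) := by
  obtain ⟨u, rfl⟩ := h₁
  obtain ⟨v, hv⟩ := h₂
  have hex : Function.Exact (Submodule.inclusion (inf_le_left : N₁ ⊓ N₂ ≤ N₁))
      (N₂.mkQ ∘ₗ N₁.subtype) := fun x => by
    simp only [LinearMap.comp_apply, Submodule.mkQ_apply, Submodule.Quotient.mk_eq_zero,
      Submodule.subtype_apply]
    exact ⟨fun hx => ⟨⟨x, x.2, hx⟩, rfl⟩, fun ⟨y, hy⟩ => hy ▸ y.2.2⟩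
  have h0 : (N₂.mkQ ∘ₗ N₁.subtype).lTensor B u = 0 := by
    rw [LinearMap.lTensor_comp, LinearMap.comp_apply, ← hv, ← LinearMap.comp_apply,
      ← LinearMap.lTensor_comp, show N₂.mkQ ∘ₗ N₂.subtype = 0 from LinearMap.ext fun x => by simp,
      LinearMap.lTensor_zero, LinearMap.zero_apply]
  obtain ⟨w, hw⟩ := (Module.Flat.lTensor_exact B hex u).mp h0
  refine ⟨w, ?_⟩
  rw [← hw, ← LinearMap.comp_apply, ← LinearMap.lTensor_comp]
  rfl

theorem mem_img_finset_inf {ι : Type*} (s : Finset ι) (N : ι → Submodule A M) (N₀ : Submodule A M)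
    {e : B ⊗[A] M} (h₀ : e ∈ img B N₀) (h : ∀ i ∈ s, e ∈ img B (N i)) :
    e ∈ img B (N₀ ⊓ s.inf N) := by
  classical
  induction s using Finset.induction with
  | empty => rwa [Finset.inf_empty, inf_top_eq]
  | insert i s hi ih =>
    rw [Finset.inf_insert, inf_left_comm]
    exact mem_img_inf (h i (Finset.mem_insert_self i s))
      (ih fun j hj => h j (Finset.mem_insert_of_mem hj))

theorem exists_finset_mem_img (e : B ⊗[A] M) :
    ∃ s : Finset M, e ∈ img B (Submodule.span A (s : Set M)) := by
  classical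
  induction e using TensorProduct.induction_on with
  | zero => exact ⟨∅, zero_mem _⟩
  | tmul b x =>
    exact ⟨{x}, b ⊗ₜ ⟨x, Submodule.subset_span (Finset.mem_singleton_self x)⟩, rfl⟩
  | add e₁ e₂ h₁ h₂ =>
    obtain ⟨s₁, hs₁⟩ := h₁
    obtain ⟨s₂, hs₂⟩ := h₂
    exact ⟨s₁ ∪ s₂, add_mem
      (img_mono (Submodule.span_mono (Finset.coe_subset.mpr Finset.subset_union_left)) hs₁)
      (img_mono (Submodule.span_mono (Finset.coe_subset.mpr Finset.subset_union_right)) hs₂)⟩

end Submodules

/-- An idempotent of the generic fibre over a discrete valuation ring extends when the closed fibre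
is reduced. -/
theorem exists_preimage_dvr {K : Type u} [Field K] [Algebra A K] (V : Type u) [CommRing V]
    [IsDomain V] [IsDiscreteValuationRing V] [Algebra A V] [Algebra V K] [IsFractionRing V K]
    [IsScalarTower A V K] [IsReduced (B ⊗[A] IsLocalRing.ResidueField V)]
    {e : B ⊗[A] K} (he : IsIdempotentElem e) :
    ∃ b : B ⊗[A] V, Algebra.TensorProduct.map (AlgHom.id A B) (IsScalarTower.toAlgHom A V K) b = e := by
  classical
  let ι := IsScalarTower.toAlgHom A V K
  let F := Algebra.TensorProduct.map (AlgHom.id A B) ι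
  obtain ⟨ϖ, hϖ⟩ := IsDiscreteValuationRing.exists_irreducible V
  let t : B ⊗[A] V := (1 : B) ⊗ₜ ϖ
  have hFt : ∀ n : ℕ, F (t ^ n) = (1 : B) ⊗ₜ algebraMap V K (ϖ ^ n) := fun n => by
    simp [F, t, ι, Algebra.TensorProduct.tmul_pow]
  have hunit : IsUnit (F t) := by
    have : IsUnit (algebraMap V K ϖ) :=
      isUnit_iff_ne_zero.mpr ((map_ne_zero_iff _ (IsFractionRing.injective V K)).mpr hϖ.ne_zero)
    simpa [F, t, ι] using this.map (Algebra.TensorProduct.includeRight : K →ₐ[A] B ⊗[A] K)
  have hex : ∀ z : B ⊗[A] K, ∃ (n : ℕ) (b : B ⊗[A] V), F b = F (t ^ n) * z := by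
    intro z
    induction z using TensorProduct.induction_on with
    | zero => exact ⟨0, 0, by rw [map_zero, mul_zero]⟩
    | tmul b x =>
      obtain ⟨v, s, hs, rfl⟩ := IsFractionRing.div_surjective (A := V) x
      have hs0 : s ≠ 0 := nonZeroDivisors.ne_zero hs
      obtain ⟨m, w, rfl⟩ := IsDiscreteValuationRing.eq_unit_mul_pow_irreducible hs0 hϖ
      refine ⟨m, b ⊗ₜ (v * ↑w⁻¹), ?_⟩
      rw [hFt, Algebra.TensorProduct.tmul_mul_tmul, one_mul]
      simp only [F, Algebra.TensorProduct.map_tmul, AlgHom.id_apply, ι, IsScalarTower.coe_toAlgHom']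
      congr 1
      have hw : algebraMap V K (w : V) ≠ 0 :=
        (map_ne_zero_iff _ (IsFractionRing.injective V K)).mpr w.ne_zero
      have hp : algebraMap V K (ϖ ^ m) ≠ 0 :=
        (map_ne_zero_iff _ (IsFractionRing.injective V K)).mpr (pow_ne_zero _ hϖ.ne_zero)
      have hwi : algebraMap V K ↑w⁻¹ = (algebraMap V K (w : V))⁻¹ :=
        eq_inv_of_mul_eq_one_left (by rw [← map_mul, Units.inv_mul, map_one])
      rw [map_mul, map_mul, hwi]
      field_simp
    | add z₁ z₂ h₁ h₂ =>
      obtain ⟨n₁, b₁, hb₁⟩ := h₁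
      obtain ⟨n₂, b₂, hb₂⟩ := h₂
      refine ⟨n₁ + n₂, t ^ n₂ * b₁ + t ^ n₁ * b₂, ?_⟩
      simp only [map_add, map_mul, hb₁, hb₂, pow_add]
      ring
  let n := Nat.find (hex e)
  obtain ⟨b, hb⟩ : ∃ b, F b = F (t ^ n) * e := Nat.find_spec (hex e)
  rcases Nat.eq_zero_or_pos n with hn | hn
  · exact ⟨b, by change F b = e; rw [hb, hn, pow_zero, map_one, one_mul]⟩
  exfalso
  obtain ⟨m, hm⟩ := Nat.exists_eq_succ_of_ne_zero hn.ne'
  have hinj : Function.Injective F :=
    Module.Flat.lTensor_preserves_injective_linearMap (M := B) ι.toLinearMap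
      (IsFractionRing.injective V K)
  have hbb : b * b = t ^ n * b := hinj (by
    rw [map_mul, map_mul, hb]
    have he' : e * e = e := he
    linear_combination (F (t ^ n)) ^ 2 * he')
  let res : V →ₐ[A] IsLocalRing.ResidueField V :=
    IsScalarTower.toAlgHom A V (IsLocalRing.ResidueField V)
  let G := Algebra.TensorProduct.map (AlgHom.id A B) res
  have hres : res.toRingHom = IsLocalRing.residue V := rfl
  have hGt : G t = 0 := by
    simp [G, t, res, (IsLocalRing.residue_eq_zero_iff ϖ).mpr hϖ.not_isUnit]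
  have hGb : G b = 0 := by
    refine IsReduced.eq_zero _ ⟨2, ?_⟩
    rw [pow_two, ← map_mul, hbb, map_mul, hm, map_pow, hGt, zero_pow (Nat.succ_ne_zero _), zero_mul]
  have hker : RingHom.ker G = Ideal.span {t} := by
    rw [show G = Algebra.TensorProduct.map (AlgHom.id A B) res from rfl,
      Algebra.TensorProduct.lTensor_ker res IsLocalRing.residue_surjective,
      show RingHom.ker res = IsLocalRing.maximalIdeal V from IsLocalRing.ker_residue,
      hϖ.maximalIdeal_eq, Ideal.map_span, Set.image_singleton]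
    rfl
  obtain ⟨b', hb'⟩ := Ideal.mem_span_singleton'.mp (hker.le hGb)
  have hmin := Nat.find_min (hex e) (show m < n by omega)
  apply hmin
  refine ⟨b', hunit.mul_right_cancel ?_⟩
  have h1 : F b' * F t = F (t ^ (m + 1)) * e := by
    rw [← map_mul, hb', hb]
    exact congrArg (fun k => F (t ^ k) * e) hm
  rw [h1, pow_succ, map_mul]
  ring

variable [IsDomain A] [IsLocalRing A] [IsNoetherianRing A]

local notation "Ai" => integralClosure A (FractionRing A)

/-- Every idempotent of the generic fibre comes from the normalization. -/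
theorem exists_preimage_normalization
    (hred : ∀ (L : Type u) [Field L] [Algebra A L], IsReduced (B ⊗[A] L))
    {e : B ⊗[A] FractionRing A} (he : IsIdempotentElem e) :
    ∃ b : B ⊗[A] Ai, Algebra.TensorProduct.map (AlgHom.id A B) (Ai).val b = e := by
  classical
  let K := FractionRing A
  obtain ⟨C, -, hdvr, hint, hfin⟩ := Groth.Agent.H25.MoriNagata.main A
  let P₁ := {p : Ideal C // p.IsPrime ∧ p.height = 1}
  choose V hV hVmem using fun q : P₁ => @hdvr q.1 q.2.1 q.2.2
  have hA : ∀ (q : P₁) (a : A), algebraMap A K a ∈ V q := fun q a => (hVmem q _).mpr ⟨1,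
    fun h => q.2.1.ne_top ((Ideal.eq_top_iff_one _).mpr h), by
      rw [show ((1 : C) : K) = 1 from rfl, one_mul]
      exact (isIntegral_algebraMap (R := A)).tower_top⟩
  let N : P₁ → Submodule A K := fun q =>
    { carrier := {x | x ∈ V q}
      add_mem' := fun hx hy => (V q).add_mem _ _ hx hy
      zero_mem' := (V q).zero_mem
      smul_mem' := fun a x hx => by
        rw [Set.mem_setOf_eq, Algebra.smul_def]
        exact (V q).mul_mem _ _ (hA q a) hx }
  have hN : ∀ q, e ∈ img B (N q) := by
    intro q
    let : Algebra A (V q) := ((algebraMap A K).codRestrict (V q).toSubring (hA q)).toAlgebra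
    have : IsScalarTower A (V q) K := IsScalarTower.of_algebraMap_eq fun a => rfl
    have := hV q
    have : IsReduced (B ⊗[A] IsLocalRing.ResidueField (V q)) := hred _
    obtain ⟨b, hb⟩ := exists_preimage_dvr (V q) he
    let j : V q →ₗ[A] N q :=
      { toFun := fun x => ⟨x.1, x.2⟩
        map_add' := fun x y => rfl
        map_smul' := fun a x => Subtype.ext
          ((congrArg Subtype.val (Algebra.smul_def a x)).trans (Algebra.smul_def a (x.1 : K)).symm) }
    refine ⟨j.lTensor B b, ?_⟩
    rw [← LinearMap.comp_apply, ← LinearMap.lTensor_comp, ← hb]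
    rfl
  obtain ⟨s, hs⟩ := exists_finset_mem_img e
  let bad : Set (Ideal C) := ⋃ x ∈ s, {p : Ideal C | p.IsPrime ∧ p.height = 1 ∧
    ¬ ∃ c : C, c ∉ p ∧ IsIntegral C ((c : K) * x)}
  have hbad : {q : P₁ | q.1 ∈ bad}.Finite :=
    Set.Finite.preimage (Subtype.val_injective.injOn)
      (Set.Finite.biUnion s.finite_toSet fun x _ => hfin x)
  have hmem := mem_img_finset_inf hbad.toFinset N _ hs fun q _ => hN q
  have hle : Submodule.span A (s : Set K) ⊓ hbad.toFinset.inf N ≤ Subalgebra.toSubmodule Ai := by
    intro y hy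
    refine (hint y).mpr fun p hp hht => ?_
    let q : P₁ := ⟨p, hp, hht⟩
    refine (hVmem q y).mp ?_
    by_cases hq : p ∈ bad
    · exact (Finset.inf_le (f := N) (hbad.mem_toFinset.mpr (show q.1 ∈ bad from hq))) hy.2
    · suffices Submodule.span A (s : Set K) ≤ N q from this hy.1
      refine Submodule.span_le.mpr fun x hx => (hVmem q x).mpr ?_
      by_contra hx'
      exact hq (Set.mem_biUnion hx ⟨hp, hht, hx'⟩)
  obtain ⟨b, hb⟩ := img_mono hle hmem
  exact ⟨b, hb⟩

/-- The generic fibre is connected as soon as the normalized algebra is local. -/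
theorem connectedSpace_genericFibre
    (hred : ∀ (L : Type u) [Field L] [Algebra A L], IsReduced (B ⊗[A] L))
    (hloc : IsLocalRing (B ⊗[A] Ai)) :
    ConnectedSpace (PrimeSpectrum (B ⊗[A] FractionRing A)) := by
  let F := Algebra.TensorProduct.map (AlgHom.id A B) (Ai).val
  have hinj : Function.Injective F :=
    Module.Flat.lTensor_preserves_injective_linearMap (M := B) (Ai).val.toLinearMap
      Subtype.val_injective
  have : Nontrivial (B ⊗[A] FractionRing A) := hinj.nontrivial
  refine connectedSpace_of_idempotent fun e he => ?_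
  obtain ⟨b, rfl⟩ := exists_preimage_normalization hred he
  rcases eq_zero_or_one_of_isLocalRing
    (show IsIdempotentElem b from hinj (by rw [map_mul]; exact he)) with rfl | rfl
  · exact Or.inl (map_zero _)
  · exact Or.inr (map_one _)

end Groth.Agent.Lib.Unram.FibreConnected
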