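import Groth.Agent.Lib.Unram.BranchSum
import Groth.Agent.Lib.Unram.OneBranch
import Mathlib.RingTheory.LocalRing.ResidueField.Basic
import Mathlib.RingTheory.IntegralClosure.IsIntegralClosure.Basic

/-!
# Geometrically unibranch local rings and integral birational algebras
-/

set_option autoImplicit false

universe u

open IsLocalRing
open Groth.Agent.Lib.Unram.BranchSum Groth.Agent.Lib.Unram.OneBranch

namespace Groth.Agent.Lib.Unram.UnibranchBirationalAlg

theorem toNorm_eq_zero_iff {A : Type u} [CommRing A] (a : A) :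
    toNorm A a = 0 ↔ a ∈ nilradical A := by
  rw [← Ideal.Quotient.eq_zero_iff_mem]
  refine ⟨fun h => ?_, fun h => by rw [toNorm, RingHom.comp_apply, h, map_zero]⟩
  exact IsFractionRing.injective (CAlg2.red A) (FractionRing (CAlg2.red A))
    ((congrArg Subtype.val h).trans (map_zero (algebraMap (CAlg2.red A) _)).symm)

theorem isLocalHom_toNorm (A : Type u) [CommRing A] : IsLocalHom (toNorm A) := by
  have h1 : IsLocalHom (Ideal.Quotient.mk (nilradical A)) := ⟨fun a ha => by
    obtain ⟨c, hc⟩ := ha.exists_right_inv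
    obtain ⟨b, rfl⟩ := Ideal.Quotient.mk_surjective c
    rw [← map_mul, ← map_one (Ideal.Quotient.mk _), Ideal.Quotient.eq, mem_nilradical] at hc
    have : IsUnit (a * b - 1 + 1) := hc.isUnit_add_one
    rw [sub_add_cancel] at this
    exact isUnit_of_mul_isUnit_left this⟩
  have hinj : Function.Injective (algebraMap (CAlg2.red A) (CAlg2.normRed A)) := fun a b h =>
    IsFractionRing.injective (CAlg2.red A) (FractionRing (CAlg2.red A)) (congrArg Subtype.val h)
  have h2 : IsLocalHom (algebraMap (CAlg2.red A) (CAlg2.normRed A)) :=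
    (algebraMap_isIntegral_iff.mpr inferInstance).isLocalHom hinj
  exact RingHom.isLocalHom_comp _ _

theorem isGeomUnibranch_iff (A : Type u) [CommRing A] [IsLocalRing A] :
    CAlg2.IsGeomUnibranch A ↔ IsDomain (CAlg2.red A) ∧ ∃ _ : IsLocalRing (CAlg2.normRed A),
      ∀ y : CAlg2.normRed A, ∃ (n : ℕ) (a : A),
        y ^ (ringExpChar (ResidueField A)) ^ n - toNorm A a ∈ maximalIdeal (CAlg2.normRed A) := by
  have hq : ∀ (m : Ideal (CAlg2.normRed A)) [m.IsMaximal],
      ringExpChar (CAlg2.normRed A ⧸ m) = ringExpChar (ResidueField A) := fun m hm => by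
    let := Ideal.Quotient.field m
    obtain ⟨φ, -, -⟩ := emb_spec A ⟨m, hm⟩
    have := expChar_of_injective_ringHom φ.injective (ringExpChar (ResidueField A))
    exact ringExpChar.eq _ (ringExpChar (ResidueField A))
  constructor
  · rintro ⟨⟨hd, hloc⟩, hpi⟩
    refine ⟨hd, hloc, fun y => ?_⟩
    obtain ⟨n, a, ha⟩ := @hpi (maximalIdeal _) (maximalIdeal.isMaximal _)
      (Ideal.Quotient.mk _ y)
    refine ⟨n, a, ?_⟩
    rw [← Ideal.Quotient.eq_zero_iff_mem, map_sub, map_pow, sub_eq_zero, ← hq (maximalIdeal _)]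
    exact ha.symm
  · rintro ⟨hd, hloc, hpi⟩
    refine ⟨⟨hd, hloc⟩, fun m hm x => ?_⟩
    obtain rfl := IsLocalRing.eq_maximalIdeal hm
    obtain ⟨y, rfl⟩ := Ideal.Quotient.mk_surjective x
    obtain ⟨n, a, ha⟩ := hpi y
    refine ⟨n, a, ?_⟩
    rw [← Ideal.Quotient.eq_zero_iff_mem, map_sub, map_pow, sub_eq_zero,
      ← hq (maximalIdeal _)] at ha
    exact ha.symm

/-- An integral extension with reduced rings domains and the same fraction field has the same
normalisation. -/
theorem exists_normRed_equiv' (A B : Type u) [CommRing A] [CommRing B] [Algebra A B]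
    [Algebra.IsIntegral A B] (hA : IsDomain (CAlg2.red A)) (hB : IsDomain (CAlg2.red B))
    (hcomap : (nilradical B).comap (algebraMap A B) = nilradical A)
    (hfrac : ∀ b : B, ∃ a t : A, t ∉ nilradical A ∧
      algebraMap A B t * b - algebraMap A B a ∈ nilradical B) :
    ∃ e : CAlg2.normRed A ≃+* CAlg2.normRed B,
      ∀ a : A, e (toNorm A a) = toNorm B (algebraMap A B a) := by
  let φ : CAlg2.red A →+* CAlg2.red B :=
    Ideal.quotientMap (nilradical B) (algebraMap A B) hcomap.ge
  let : Algebra (CAlg2.red A) (CAlg2.red B) := φ.toAlgebra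
  have hint : Algebra.IsIntegral (CAlg2.red A) (CAlg2.red B) := ⟨fun x => by
    obtain ⟨b, rfl⟩ := Ideal.Quotient.mk_surjective x
    obtain ⟨p, hp, hb⟩ := Algebra.IsIntegral.isIntegral (R := A) b
    refine ⟨p.map (Ideal.Quotient.mk _), hp.map _, ?_⟩
    rw [Polynomial.eval₂_map,
      show (algebraMap (CAlg2.red A) (CAlg2.red B)).comp (Ideal.Quotient.mk (nilradical A)) =
        (Ideal.Quotient.mk (nilradical B)).comp (algebraMap A B) from RingHom.ext fun a => rfl,
      ← Polynomial.hom_eval₂, hb, map_zero]⟩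
  let L := FractionRing (CAlg2.red B)
  have hinjL : Function.Injective (algebraMap (CAlg2.red A) L) :=
    (IsFractionRing.injective (CAlg2.red B) L).comp
      (Ideal.quotientMap_injective' (H := hcomap.ge) hcomap.le)
  have : FaithfulSMul (CAlg2.red A) L := (faithfulSMul_iff_algebraMap_injective _ _).mpr hinjL
  have : IsFractionRing (CAlg2.red A) L := by
    refine IsFractionRing.of_field _ _ fun z => ?_
    obtain ⟨b, c, hc, rfl⟩ := IsFractionRing.div_surjective (A := CAlg2.red B) z
    obtain ⟨b, rfl⟩ := Ideal.Quotient.mk_surjective b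
    obtain ⟨c, rfl⟩ := Ideal.Quotient.mk_surjective c
    obtain ⟨a, t, ht, hb⟩ := hfrac b
    obtain ⟨a', t', ht', hc'⟩ := hfrac c
    rw [← Ideal.Quotient.eq_zero_iff_mem, map_sub, map_mul, sub_eq_zero] at hb hc'
    have hne : ∀ s : A, s ∉ nilradical A →
        algebraMap (CAlg2.red A) L (Ideal.Quotient.mk _ s) ≠ 0 := fun s hs h0 =>
      hs (Ideal.Quotient.eq_zero_iff_mem.mp (hinjL (h0.trans (map_zero _).symm)))
    have e1 : ∀ s : A, algebraMap (CAlg2.red A) L (Ideal.Quotient.mk _ s) =
        algebraMap (CAlg2.red B) L (Ideal.Quotient.mk _ (algebraMap A B s)) := fun _ => rfl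
    refine ⟨Ideal.Quotient.mk _ (a * t'), Ideal.Quotient.mk _ (a' * t), ?_⟩
    have hc0 : algebraMap (CAlg2.red B) L (Ideal.Quotient.mk _ c) ≠ 0 :=
      IsFractionRing.to_map_ne_zero_of_mem_nonZeroDivisors hc
    have ht0 := hne t ht
    have ht'0 := hne t' ht'
    simp only [map_mul, e1, ← hb, ← hc'] at ht0 ht'0 ⊢
    rw [div_eq_div_iff hc0 (mul_ne_zero (mul_ne_zero ht'0 hc0) ht0)]
    ring
  let e : FractionRing (CAlg2.red A) ≃ₐ[CAlg2.red A] L := FractionRing.algEquiv (CAlg2.red A) L
  let ι : CAlg2.normRed A →+* CAlg2.normRed B :=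
    RingHom.codRestrict
      (e.toAlgHom.toRingHom.comp (integralClosure (CAlg2.red A) (FractionRing (CAlg2.red A))).val.toRingHom)
      (integralClosure (CAlg2.red B) L)
      fun a => (a.2.map e.toAlgHom).tower_top
  have hι : Function.Bijective ι := by
    refine ⟨fun a b h => Subtype.ext (e.injective (congrArg Subtype.val h)), fun y => ?_⟩
    have hy : IsIntegral (CAlg2.red A) (y.1 : L) := isIntegral_trans _ y.2
    exact ⟨⟨e.symm y.1, hy.map e.symm.toAlgHom⟩, Subtype.ext (e.apply_symm_apply _)⟩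
  exact ⟨RingEquiv.ofBijective ι hι, fun a => Subtype.ext (e.commutes _)⟩

variable (A B : Type u) [CommRing A] [IsLocalRing A] [CommRing B] [Algebra A B]
  [Algebra.IsIntegral A B]

theorem isDomain_red_of_unique {R : Type u} [CommRing R] {P : Ideal R} (hP : P ∈ minimalPrimes R)
    (h : ∀ Q ∈ minimalPrimes R, Q = P) : nilradical R = P := by
  ext x
  rw [mem_nilradical_iff_forall]
  exact ⟨fun hx => hx P hP, fun hx Q hQ => (h Q hQ).symm ▸ hx⟩

theorem main (h1 : ∀ Q ∈ minimalPrimes B, Q.comap (algebraMap A B) ∈ minimalPrimes A)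
    (h2 : ∀ P ∈ minimalPrimes A, ∃! Q : Ideal B, Q.IsPrime ∧ Q.comap (algebraMap A B) = P)
    (h3 : ∀ P ∈ minimalPrimes A, ∀ Q : Ideal B, Q.IsPrime → Q.comap (algebraMap A B) = P →
      ∀ b : B, ∃ a t : A, t ∉ P ∧ algebraMap A B t * b - algebraMap A B a ∈ Q) :
    CAlg2.IsGeomUnibranch A ↔ ∃ _ : IsLocalRing B, CAlg2.IsGeomUnibranch B ∧
      ∀ b : B, ∃ (n : ℕ) (a : A),
        b ^ (ringExpChar (ResidueField A)) ^ n - algebraMap A B a ∈ maximalIdeal B := by
  have hq : ∀ [IsLocalRing B], ringExpChar (ResidueField B) = ringExpChar (ResidueField A) := by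
    intro hB
    let f : A →+* ResidueField B := (residue B).comp (algebraMap A B)
    have hker : maximalIdeal A ≤ RingHom.ker f := by
      have : ((maximalIdeal B).comap (algebraMap A B)).IsMaximal :=
        Ideal.isMaximal_comap_of_isIntegral_of_isMaximal _
      rw [← RingHom.comap_ker, ker_residue, IsLocalRing.eq_maximalIdeal this]
    let g : ResidueField A →+* ResidueField B := Ideal.Quotient.lift _ f hker
    have := expChar_of_injective_ringHom g.injective (ringExpChar (ResidueField A))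
    exact ringExpChar.eq _ (ringExpChar (ResidueField A))
  have hmax : ∀ [IsLocalRing (CAlg2.normRed B)] [IsLocalRing B] (b : B),
      toNorm B b ∈ maximalIdeal (CAlg2.normRed B) ↔ b ∈ maximalIdeal B := by
    intro _ _ b
    have := isLocalHom_toNorm B
    simp only [mem_maximalIdeal, mem_nonunits_iff, isUnit_map_iff]
  constructor
  · intro hA
    obtain ⟨hd, hloc, hpi⟩ := (isGeomUnibranch_iff A).mp hA
    have hnp : (nilradical A).IsPrime := (Ideal.Quotient.isDomain_iff_prime _).mp hd
    have hmem : nilradical A ∈ minimalPrimes A :=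
      ⟨⟨hnp, bot_le⟩, fun P hP _ => nilradical_le_prime P (H := hP.1)⟩
    have huniq : ∀ P ∈ minimalPrimes A, P = nilradical A := fun P hP =>
      le_antisymm (hP.2 hmem.1 (nilradical_le_prime P (H := hP.1.1)))
        (nilradical_le_prime P (H := hP.1.1))
    obtain ⟨Q, ⟨hQ, hQP⟩, hQu⟩ := h2 _ hmem
    have hQu' : ∀ Q' ∈ minimalPrimes B, Q' = Q := fun Q' hQ' =>
      hQu Q' ⟨hQ'.1.1, huniq _ (h1 Q' hQ')⟩
    obtain ⟨Q₀, hQ₀, -⟩ := Ideal.exists_minimalPrimes_le (bot_le : (⊥ : Ideal B) ≤ Q)
    have hnB : nilradical B = Q := isDomain_red_of_unique (hQu' Q₀ hQ₀ ▸ hQ₀) hQu'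
    have hdB : IsDomain (CAlg2.red B) := by
      have : (nilradical B).IsPrime := hnB ▸ hQ
      exact Ideal.Quotient.isDomain _
    obtain ⟨e, he⟩ := exists_normRed_equiv' A B hd hdB (by rw [hnB, hQP]) fun b => by
      obtain ⟨a, t, ht, h⟩ := h3 _ hmem Q hQ hQP b
      exact ⟨a, t, ht, hnB.symm ▸ h⟩
    have hlocNB : IsLocalRing (CAlg2.normRed B) := e.isLocalRing
    have := isLocalHom_toNorm B
    have hlocB : IsLocalRing B := (toNorm B).domain_isLocalRing
    have key : ∀ y : CAlg2.normRed B, ∃ (n : ℕ) (a : A),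
        y ^ (ringExpChar (ResidueField A)) ^ n - toNorm B (algebraMap A B a) ∈
          maximalIdeal (CAlg2.normRed B) := fun y => by
      obtain ⟨n, a, h⟩ := hpi (e.symm y)
      refine ⟨n, a, ?_⟩
      have h' : e (e.symm y ^ (ringExpChar (ResidueField A)) ^ n - toNorm A a) ∈
          maximalIdeal (CAlg2.normRed B) := by
        simpa only [mem_maximalIdeal, mem_nonunits_iff, isUnit_map_iff] using h
      simpa only [map_sub, map_pow, RingEquiv.apply_symm_apply, he] using h'
    refine ⟨hlocB, (isGeomUnibranch_iff B).mpr ⟨hdB, hlocNB, fun y => ?_⟩, fun b => ?_⟩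
    · obtain ⟨n, a, h⟩ := key y
      rw [hq]
      exact ⟨n, algebraMap A B a, h⟩
    · obtain ⟨n, a, h⟩ := key (toNorm B b)
      refine ⟨n, a, (hmax _).mp ?_⟩
      simpa only [map_sub, map_pow] using h
  · rintro ⟨hlocB, hB, hres⟩
    obtain ⟨hdB, hlocNB, hpi⟩ := (isGeomUnibranch_iff B).mp hB
    have hnp : (nilradical B).IsPrime := (Ideal.Quotient.isDomain_iff_prime _).mp hdB
    have hmem : nilradical B ∈ minimalPrimes B :=
      ⟨⟨hnp, bot_le⟩, fun P hP _ => nilradical_le_prime P (H := hP.1)⟩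
    have hP := h1 _ hmem
    have huniq : ∀ P ∈ minimalPrimes A, P = (nilradical B).comap (algebraMap A B) := by
      intro P hP'
      obtain ⟨Q, ⟨hQ, hQP⟩, -⟩ := h2 P hP'
      exact le_antisymm (hP'.2 hP.1 (hQP ▸ Ideal.comap_mono (nilradical_le_prime Q (H := hQ))))
        (hQP ▸ Ideal.comap_mono (nilradical_le_prime Q (H := hQ)))
    have hnA := isDomain_red_of_unique hP huniq
    have hd : IsDomain (CAlg2.red A) := by
      have : (nilradical A).IsPrime := hnA ▸ hP.1.1
      exact Ideal.Quotient.isDomain _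
    obtain ⟨e, he⟩ := exists_normRed_equiv' A B hd hdB hnA.symm fun b =>
      h3 _ (hnA.symm ▸ hP) _ hnp hnA.symm b
    have hlocN : IsLocalRing (CAlg2.normRed A) := e.symm.isLocalRing
    refine (isGeomUnibranch_iff A).mpr ⟨hd, hlocN, fun y => ?_⟩
    obtain ⟨n, b, hb⟩ := hpi (e y)
    obtain ⟨k, a, ha⟩ := hres b
    rw [hq] at hb
    refine ⟨n + k, a, ?_⟩
    let q := ringExpChar (ResidueField A)
    have h4 : e y ^ q ^ (n + k) - toNorm B (algebraMap A B a) ∈ maximalIdeal (CAlg2.normRed B) := by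
      have hd1 : (e y ^ q ^ n) ^ q ^ k - (toNorm B b) ^ q ^ k ∈ maximalIdeal (CAlg2.normRed B) :=
        Ideal.mem_of_dvd _ (sub_dvd_pow_sub_pow _ _ _) hb
      have hd2 : (toNorm B b) ^ q ^ k - toNorm B (algebraMap A B a) ∈
          maximalIdeal (CAlg2.normRed B) := by
        rw [← map_pow, ← map_sub]
        exact (hmax _).mpr ha
      have := add_mem hd1 hd2
      rw [sub_add_sub_cancel, ← pow_mul, ← pow_add] at this
      exact this
    rw [← he, ← map_pow, ← map_sub] at h4
    simpa only [mem_maximalIdeal, mem_nonunits_iff, isUnit_map_iff] using h4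

/-- Geometric unibranchness is invariant under isomorphism. -/
theorem isGeomUnibranch_of_ringEquiv {R S : Type u} [CommRing R] [CommRing S] [IsLocalRing R]
    [IsLocalRing S] (e : R ≃+* S) (h : CAlg2.IsGeomUnibranch R) : CAlg2.IsGeomUnibranch S := by
  let : Algebra R S := e.toRingHom.toAlgebra
  have hs : Function.Surjective (algebraMap R S) := e.surjective
  have : Algebra.IsIntegral R S := Algebra.IsIntegral.of_surjective (Algebra.ofId R S) hs
  refine ((main R S (fun Q hQ => ?_) (fun P hP => ?_) fun P hP Q hQ hQP b => ?_).mp h).elim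
    fun _ h' => h'.1
  · exact ⟨⟨hQ.1.1.comap _, bot_le⟩, fun P hP hle => by
      have hk : RingHom.ker (algebraMap R S) = ⊥ :=
        (RingHom.injective_iff_ker_eq_bot _).mp e.injective
      have h' : P = (P.map (algebraMap R S)).comap (algebraMap R S) := by
        rw [Ideal.comap_map_of_surjective _ hs, ← RingHom.ker_eq_comap_bot, hk, sup_bot_eq]
      rw [h']
      refine Ideal.comap_mono (hQ.2 ⟨?_, bot_le⟩ (Ideal.map_le_iff_le_comap.mpr hle))
      have := hP.1
      exact Ideal.map_isPrime_of_surjective hs (hk.le.trans bot_le)⟩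
  · refine ⟨P.map (algebraMap R S), ⟨?_, ?_⟩, fun Q' hQ' => ?_⟩
    · have := hP.1.1
      exact Ideal.map_isPrime_of_surjective hs
        (((RingHom.injective_iff_ker_eq_bot (algebraMap R S)).mp e.injective).le.trans bot_le)
    · rw [Ideal.comap_map_of_surjective _ hs, ← RingHom.ker_eq_comap_bot,
        (RingHom.injective_iff_ker_eq_bot (algebraMap R S)).mp e.injective, sup_bot_eq]
    · rw [← hQ'.2, Ideal.map_comap_of_surjective _ hs]
  · obtain ⟨a, rfl⟩ := hs b
    exact ⟨a, 1, fun h => hP.1.1.ne_top ((Ideal.eq_top_iff_one _).mpr h), by simp⟩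

end Groth.Agent.Lib.Unram.UnibranchBirationalAlg
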