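import Groth.Agent.Lib.Unram.BranchSum
import Groth.Agent.Lib.Unram.OneBranch
import Mathlib.AlgebraicGeometry.Morphisms.UniversallyInjective
import Mathlib.RingTheory.LocalRing.ResidueField.Ideal
import Mathlib.FieldTheory.IsAlgClosed.Basic
import Mathlib.RingTheory.Spectrum.Prime.Topology

/-!
# Geometrically unibranch points and the normalization of a domain
-/

set_option autoImplicit false

universe u

open AlgebraicGeometry CategoryTheory
open Groth.Agent.Lib.Unram.BranchSum Groth.Agent.Lib.Unram.OneBranch

namespace Groth.Agent.Lib.Unram.UnibranchNormalization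

variable (A : Type u) [CommRing A] [IsDomain A]

local notation "A'" => integralClosure A (FractionRing A)

/-- Homomorphisms of the normalization over a given geometric point are unique. -/
def UniqueLift (p : Ideal A) [p.IsPrime] : Prop :=
  ∀ φ ψ : A' →+* AlgebraicClosure p.ResidueField,
    φ.comp (algebraMap A A') = algebraMap A (AlgebraicClosure p.ResidueField) →
    ψ.comp (algebraMap A A') = algebraMap A (AlgebraicClosure p.ResidueField) → φ = ψ

theorem exists_iota (p : Ideal A) [p.IsPrime] :
    ∃ ι : A' →+* CAlg2.normRed (Localization.AtPrime p),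
      ι.comp (algebraMap A A') =
        (toNorm (Localization.AtPrime p)).comp (algebraMap A (Localization.AtPrime p)) ∧
      Function.Injective ι ∧
      ∀ y : CAlg2.normRed (Localization.AtPrime p), ∃ a : A', ∃ s ∈ p.primeCompl,
        y * toNorm (Localization.AtPrime p) (algebraMap A _ s) = ι a := by
  let R := Localization.AtPrime p
  have : IsDomain R := IsLocalization.isDomain_localization p.primeCompl_le_nonZeroDivisors
  have hnil : nilradical R = ⊥ := nilradical_eq_zero R
  let q : R ≃ₐ[A] CAlg2.red R := AlgEquiv.ofBijective (Ideal.Quotient.mkₐ A (nilradical R))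
    ⟨(RingHom.injective_iff_ker_eq_bot _).mpr (by
        change RingHom.ker (Ideal.Quotient.mk (nilradical R)) = ⊥
        rw [Ideal.mk_ker, hnil]),
      Ideal.Quotient.mk_surjective⟩
  have : IsDomain (CAlg2.red R) := q.toMulEquiv.isDomain_iff.mp inferInstance
  have : IsLocalization p.primeCompl (CAlg2.red R) :=
    IsLocalization.isLocalization_of_algEquiv p.primeCompl q
  have : FaithfulSMul A (FractionRing (CAlg2.red R)) := by
    rw [faithfulSMul_iff_algebraMap_injective, IsScalarTower.algebraMap_eq A (CAlg2.red R)]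
    exact (IsFractionRing.injective (CAlg2.red R) _).comp
      (IsLocalization.injective _ p.primeCompl_le_nonZeroDivisors)
  have : IsFractionRing A (FractionRing (CAlg2.red R)) := by
    refine IsFractionRing.of_field A _ fun z => ?_
    obtain ⟨a, b, hb, rfl⟩ := IsFractionRing.div_surjective (A := CAlg2.red R) z
    obtain ⟨⟨x, s⟩, hx⟩ := IsLocalization.surj p.primeCompl a
    obtain ⟨⟨y, t⟩, hy⟩ := IsLocalization.surj p.primeCompl b
    refine ⟨x * t, y * s, ?_⟩
    have hs : ∀ w : p.primeCompl, algebraMap A (FractionRing (CAlg2.red R)) w ≠ 0 := fun w h0 =>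
      w.2 (by
        rw [← map_zero (algebraMap A (FractionRing (CAlg2.red R)))] at h0
        simp [FaithfulSMul.algebraMap_injective A _ h0])
    simp only [map_mul, IsScalarTower.algebraMap_apply A (CAlg2.red R) (FractionRing (CAlg2.red R))]
      at hs ⊢
    rw [← hx, ← hy, map_mul, map_mul]
    have hb' : algebraMap (CAlg2.red R) (FractionRing (CAlg2.red R)) b ≠ 0 :=
      IsFractionRing.to_map_ne_zero_of_mem_nonZeroDivisors hb
    field_simp [hs s, hs t, hb']
  let e : FractionRing A ≃ₐ[A] FractionRing (CAlg2.red R) := FractionRing.algEquiv A _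
  let ι : A' →+* CAlg2.normRed R :=
    RingHom.codRestrict (e.toAlgHom.toRingHom.comp (integralClosure A (FractionRing A)).val.toRingHom)
      (integralClosure (CAlg2.red R) (FractionRing (CAlg2.red R)))
      fun a => (a.2.map e.toAlgHom).tower_top
  refine ⟨ι, ?_, fun a b h => ?_, fun y => ?_⟩
  · refine RingHom.ext fun x => Subtype.ext ?_
    exact (e.commutes x).trans (IsScalarTower.algebraMap_apply A (CAlg2.red R) _ x)
  · exact Subtype.ext (e.injective (congrArg Subtype.val h))
  · obtain ⟨⟨s, hs⟩, hm⟩ := IsIntegral.exists_multiple_integral_of_isLocalization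
      (R := A) p.primeCompl (Rₘ := CAlg2.red R) (y.1 : FractionRing (CAlg2.red R)) y.2
    refine ⟨⟨e.symm (s • y.1), hm.map e.symm.toAlgHom⟩, s, hs, Subtype.ext ?_⟩
    refine Eq.trans ?_ (e.apply_symm_apply _).symm
    rw [Algebra.smul_def, mul_comm,
      IsScalarTower.algebraMap_apply A (CAlg2.red R) (FractionRing (CAlg2.red R))]
    rfl

theorem isGeomUnibranch_iff (p : Ideal A) [p.IsPrime] :
    CAlg2.IsGeomUnibranch (Localization.AtPrime p) ↔ UniqueLift A p := by
  classical
  let R := Localization.AtPrime p
  have : IsDomain R := IsLocalization.isDomain_localization p.primeCompl_le_nonZeroDivisors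
  have hfin : (minimalPrimes R).Finite := by
    rw [IsDomain.minimalPrimes_eq_singleton_bot]
    exact Set.finite_singleton _
  obtain ⟨E⟩ := exists_emb_equiv R
  obtain ⟨ι, hι, hinj, hsurj⟩ := exists_iota A p
  let : Algebra A' (CAlg2.normRed R) := ι.toAlgebra
  let M := Algebra.algebraMapSubmonoid A' p.primeCompl
  have hιa : ∀ x : A, ι (algebraMap A A' x) = toNorm R (algebraMap A R x) := RingHom.congr_fun hι
  have hloc : IsLocalization M (CAlg2.normRed R) := by
    refine ⟨⟨?_, ?_, ?_⟩⟩
    · rintro ⟨_, s, hs, rfl⟩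
      change IsUnit (ι (algebraMap A A' s))
      rw [hιa]
      exact (IsLocalization.map_units R (⟨s, hs⟩ : p.primeCompl)).map (toNorm R)
    · intro y
      obtain ⟨a, s, hs, h⟩ := hsurj y
      refine ⟨⟨a, ⟨_, s, hs, rfl⟩⟩, ?_⟩
      change y * ι (algebraMap A A' s) = ι a
      rw [hιa]
      exact h
    · intro x y h
      exact ⟨1, by rw [hinj h]⟩
  have hext : ∀ τ τ' : CAlg2.normRed R →+* AlgebraicClosure p.ResidueField,
      τ.comp ι = τ'.comp ι → τ = τ' := fun τ τ' h => IsLocalization.ringHom_ext M h
  have hcl : ∀ x : A, Brnch.toClosure R (algebraMap A R x) =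
      algebraMap A (AlgebraicClosure p.ResidueField) x := fun x =>
    (IsScalarTower.algebraMap_apply A p.ResidueField _ x).symm
  have hlift : ∀ φ : A' →+* AlgebraicClosure p.ResidueField,
      φ.comp (algebraMap A A') = algebraMap A (AlgebraicClosure p.ResidueField) →
      ∃ τ : {τ : CAlg2.normRed R →+* AlgebraicClosure (IsLocalRing.ResidueField R) //
        τ.comp (toNorm R) = Brnch.toClosure R}, τ.1.comp ι = φ := by
    intro φ hφ
    have hu : ∀ m : M, IsUnit (φ m) := by
      rintro ⟨_, s, hs, rfl⟩
      rw [show φ (algebraMap A A' s) = algebraMap A (AlgebraicClosure p.ResidueField) s from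
        RingHom.congr_fun hφ s, IsScalarTower.algebraMap_apply A p.ResidueField, isUnit_iff_ne_zero,
        ne_eq, map_eq_zero, Ideal.algebraMap_residueField_eq_zero]
      exact hs
    refine ⟨⟨IsLocalization.lift hu, IsLocalization.ringHom_ext p.primeCompl ?_⟩,
      IsLocalization.lift_comp hu⟩
    refine RingHom.ext fun x => ?_
    simp only [RingHom.comp_apply]
    rw [← hιa, hcl]
    exact (IsLocalization.lift_eq hu _).trans (RingHom.congr_fun hφ x)
  have hne : Nonempty (Σ m : MaximalSpectrum (CAlg2.normRed R), Brnch.Emb R m) := by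
    have : Nontrivial (CAlg2.normRed R) :=
      hinj.nontrivial
    obtain ⟨m, hm⟩ := Ideal.exists_maximal (CAlg2.normRed R)
    exact ⟨⟨⟨m, hm⟩, (nonempty_emb_and_subsingleton_iff R ⟨m, hm⟩).1.some⟩⟩
  rw [← numGeomBranches_eq_one_iff, Brnch.numGeomBranches, if_pos hfin,
    ENat.card_congr E, ENat.card_eq_one_iff_unique]
  constructor
  · rintro ⟨hu⟩ φ ψ hφ hψ
    obtain ⟨τ, rfl⟩ := hlift φ hφ
    obtain ⟨τ', rfl⟩ := hlift ψ hψ
    rw [Subsingleton.elim τ τ']
  · intro h
    have hsub : Subsingleton {τ : CAlg2.normRed R →+* AlgebraicClosure (IsLocalRing.ResidueField R) //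
        τ.comp (toNorm R) = Brnch.toClosure R} := by
      refine ⟨fun τ τ' => Subtype.ext (hext _ _ (h _ _ ?_ ?_))⟩
      · refine RingHom.ext fun x => ?_
        exact ((congrArg τ.1 (hιa x)).trans (RingHom.congr_fun τ.2 _)).trans (hcl x)
      · refine RingHom.ext fun x => ?_
        exact ((congrArg τ'.1 (hιa x)).trans (RingHom.congr_fun τ'.2 _)).trans (hcl x)
    exact ⟨uniqueOfSubsingleton (E hne.some)⟩

theorem uniqueLift_of_universallyInjective
    (h : UniversallyInjective (Spec.map (CommRingCat.ofHom (algebraMap A A'))))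
    (p : Ideal A) [p.IsPrime] : UniqueLift A p := by
  intro φ ψ hφ hψ
  have h2 := ((tfae_universallyInjective (Spec.map (CommRingCat.ofHom (algebraMap A A')))).out 0 1 rfl rfl).mp h
    (AlgebraicClosure p.ResidueField)
  specialize @h2 (Spec.map (CommRingCat.ofHom φ)) (Spec.map (CommRingCat.ofHom ψ))
    (by simp only [← Spec.map_comp, ← CommRingCat.ofHom_comp, hφ, hψ])
  exact congrArg CommRingCat.Hom.hom (Spec.map_inj.mp h2)

theorem universallyInjective_of_uniqueLift (h : ∀ (p : Ideal A) [p.IsPrime], UniqueLift A p) :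
    UniversallyInjective (Spec.map (CommRingCat.ofHom (algebraMap A A'))) := by
  refine ((tfae_universallyInjective _).out 0 1 rfl rfl).mpr ?_
  intro K _ g₁ g₂ hg
  obtain ⟨φ, rfl⟩ := Spec.map_surjective g₁
  obtain ⟨ψ, rfl⟩ := Spec.map_surjective g₂
  have hA : φ.hom.comp (algebraMap A A') = ψ.hom.comp (algebraMap A A') :=
    congrArg CommRingCat.Hom.hom
      (Spec.map_inj.mp ((Spec.map_comp _ φ).trans (hg.trans (Spec.map_comp _ ψ).symm)))
  refine congrArg Spec.map (CommRingCat.hom_ext ?_)
  let L := AlgebraicClosure K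
  let f : A →+* L := (algebraMap K L).comp (φ.hom.comp (algebraMap A A'))
  let p := RingHom.ker f
  have : p.IsPrime := RingHom.ker_isPrime f
  let : Algebra A L := f.toAlgebra
  let g : p.ResidueField →+* L := Ideal.ResidueField.lift p f le_rfl fun s hs =>
    isUnit_iff_ne_zero.mpr hs
  let : Algebra p.ResidueField L := g.toAlgebra
  have : IsScalarTower A p.ResidueField L := IsScalarTower.of_algebraMap_eq fun a =>
    (Ideal.ResidueField.lift_algebraMap p f _ _ a).symm
  let E := algebraicClosure p.ResidueField L
  let e : E ≃ₐ[p.ResidueField] AlgebraicClosure p.ResidueField :=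
    IsAlgClosure.equiv p.ResidueField _ _
  have mem : ∀ χ : A' →+* L, χ.comp (algebraMap A A') = f → ∀ a, χ a ∈ E := by
    intro χ hχ a
    rw [mem_algebraicClosure_iff]
    have hi : IsIntegral A a := Algebra.IsIntegral.isIntegral a
    have := hi.map (⟨χ, RingHom.congr_fun hχ⟩ : A' →ₐ[A] L)
    exact (this.tower_top (A := p.ResidueField)).isAlgebraic
  have compat : ∀ (χ : A' →+* L) (hχ : χ.comp (algebraMap A A') = f),
      ((e : E →+* AlgebraicClosure p.ResidueField).comp (χ.codRestrict E (mem χ hχ))).comp
        (algebraMap A A') = algebraMap A (AlgebraicClosure p.ResidueField) := by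
    intro χ hχ
    refine RingHom.ext fun x => ?_
    rw [IsScalarTower.algebraMap_apply A p.ResidueField, ← e.commutes]
    refine congrArg e (Subtype.ext ?_)
    exact (RingHom.congr_fun hχ x).trans (IsScalarTower.algebraMap_apply A p.ResidueField L x)
  have hφ : ((algebraMap K L).comp φ.hom).comp (algebraMap A A') = f := rfl
  have hψ : ((algebraMap K L).comp ψ.hom).comp (algebraMap A A') = f := by
    rw [RingHom.comp_assoc, ← hA]
  have := h p _ _ (compat _ hφ) (compat _ hψ)
  refine RingHom.ext fun a => (algebraMap K L).injective ?_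
  exact congrArg Subtype.val (e.injective (RingHom.congr_fun this a))

theorem universallyInjective_iff :
    UniversallyInjective (Spec.map (CommRingCat.ofHom (algebraMap A A'))) ↔
      ∀ (p : Ideal A) [p.IsPrime], CAlg2.IsGeomUnibranch (Localization.AtPrime p) :=
  ⟨fun h p _ => (isGeomUnibranch_iff A p).mpr (uniqueLift_of_universallyInjective A h p),
    fun h => universallyInjective_of_uniqueLift A fun p _ => (isGeomUnibranch_iff A p).mp (h p)⟩

theorem isHomeomorph_of_universallyInjective
    (h : UniversallyInjective (Spec.map (CommRingCat.ofHom (algebraMap A A')))) :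
    IsHomeomorph (PrimeSpectrum.comap (algebraMap A A')) := by
  have hint : (algebraMap A A').IsIntegral := algebraMap_isIntegral_iff.mpr inferInstance
  rw [isHomeomorph_iff_continuous_isClosedMap_bijective]
  refine ⟨PrimeSpectrum.continuous_comap _, PrimeSpectrum.isClosedMap_comap_of_isIntegral _ hint,
    (Spec.map (CommRingCat.ofHom (algebraMap A A'))).injective, ?_⟩
  intro p
  obtain ⟨q, -, hq, hqp⟩ := Ideal.exists_ideal_over_prime_of_isIntegral (S := A') p.asIdeal ⊥ (by
    rw [← RingHom.ker_eq_comap_bot,
      (RingHom.injective_iff_ker_eq_bot _).mp (FaithfulSMul.algebraMap_injective A A')]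
    exact bot_le)
  exact ⟨⟨q, hq⟩, PrimeSpectrum.ext hqp⟩

end Groth.Agent.Lib.Unram.UnibranchNormalization
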