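import Groth.Agent.Lib.Unram.PuncturedIntegral
import Groth.Agent.Lib.Unram.UnibranchNormalization
import Groth.Agent.Lib.Unram.UnibranchBirationalAlg
import Groth.Agent.Lib.Dim.Integral
import Mathlib.RingTheory.Spectrum.Prime.Topology
import Mathlib.RingTheory.Flat.Basic
import Mathlib.RingTheory.Ideal.GoingDown
import Mathlib.RingTheory.TensorProduct.Pi
import Mathlib.LinearAlgebra.TensorProduct.RightExactness

/-!
# Connectedness of punctured spectra over geometrically unibranch local domains
-/

set_option autoImplicit false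

universe u

open IsLocalRing
open scoped TensorProduct nonZeroDivisors

namespace Groth.Agent.Lib.Unram.PuncturedConnected

theorem exists_extension {C C' Ω : Type u} [CommRing C] [CommRing C'] [Algebra C C']
    [Algebra.IsIntegral C C'] [Field Ω] [IsAlgClosed Ω] (ψ : C →+* Ω) (P : Ideal C') [P.IsPrime]
    (h : P.comap (algebraMap C C') = RingHom.ker ψ) :
    ∃ φ : C' →+* Ω, φ.comp (algebraMap C C') = ψ ∧ RingHom.ker φ = P := by
  let p := RingHom.ker ψ
  have : p.IsPrime := RingHom.ker_isPrime ψ
  have : P.LiesOver p := ⟨h.symm⟩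
  let ψb : C ⧸ p →+* Ω := RingHom.kerLift ψ
  let := ψb.toAlgebra
  have : FaithfulSMul (C ⧸ p) (C' ⧸ P) := by
    rw [faithfulSMul_iff_algebraMap_injective]
    exact Ideal.quotientMap_injective' h.le
  have : FaithfulSMul (C ⧸ p) Ω :=
    (faithfulSMul_iff_algebraMap_injective (C ⧸ p) Ω).2 (RingHom.kerLift_injective ψ)
  have : Algebra.IsIntegral (C ⧸ p) (C' ⧸ P) := Algebra.IsIntegral.tower_top (R := C)
  let f : C' ⧸ P →ₐ[C ⧸ p] Ω := IsAlgClosed.lift
  refine ⟨f.toRingHom.comp (Ideal.Quotient.mk P), RingHom.ext fun c => ?_, ?_⟩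
  · exact f.commutes (Ideal.Quotient.mk p c)
  · have hbot : RingHom.ker f.toRingHom = ⊥ := by
      have : (RingHom.ker f.toRingHom).IsPrime := RingHom.ker_isPrime _
      refine Ideal.eq_bot_of_comap_eq_bot (R := C ⧸ p) ?_
      rw [eq_bot_iff]
      intro c hc
      rw [Ideal.mem_comap, RingHom.mem_ker] at hc
      exact (map_eq_zero_iff _ (RingHom.kerLift_injective ψ)).1 ((f.commutes c).symm.trans hc)
    rw [← RingHom.comap_ker, hbot, ← RingHom.ker_eq_comap_bot, Ideal.mk_ker]

/-- An integral algebra over a local ring with unique geometric point over the closed point is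
local. -/
theorem isLocalRing_of_unique {B C : Type u} [CommRing B] [IsLocalRing B] [CommRing C] [Nontrivial C]
    [Algebra B C] [Algebra.IsIntegral B C]
    (hu : ∀ φ ψ : C →+* AlgebraicClosure (ResidueField B),
      φ.comp (algebraMap B C) = algebraMap B (AlgebraicClosure (ResidueField B)) →
      ψ.comp (algebraMap B C) = algebraMap B (AlgebraicClosure (ResidueField B)) → φ = ψ) :
    IsLocalRing C := by
  have hker : RingHom.ker (algebraMap B (AlgebraicClosure (ResidueField B))) = maximalIdeal B := by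
    rw [IsScalarTower.algebraMap_eq B (ResidueField B) (AlgebraicClosure (ResidueField B)),
      RingHom.ker_comp_of_injective _ (RingHom.injective _)]
    exact IsLocalRing.ker_residue
  have key : ∀ M : Ideal C, M.IsMaximal → ∃ φ : C →+* AlgebraicClosure (ResidueField B),
      φ.comp (algebraMap B C) = algebraMap B (AlgebraicClosure (ResidueField B)) ∧ RingHom.ker φ = M :=
    fun M hM => exists_extension _ M (by
      rw [hker]
      exact IsLocalRing.eq_maximalIdeal (Ideal.isMaximal_comap_of_isIntegral_of_isMaximal M))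
  refine IsLocalRing.of_unique_max_ideal ?_
  obtain ⟨M, hM⟩ := Ideal.exists_maximal C
  refine ⟨M, hM, fun M' hM' => ?_⟩
  obtain ⟨φ, hφ, rfl⟩ := key M hM
  obtain ⟨ψ, hψ, rfl⟩ := key M' hM'
  rw [hu φ ψ hφ hψ]

variable (A : Type u) [CommRing A] [IsDomain A] [IsLocalRing A]

local notation "Ai" => integralClosure A (FractionRing A)

/-- Geometric points of the normalization of a geometrically unibranch domain over the closed
point are unique. -/
theorem hom_unique (hA : CAlg2.IsGeomUnibranch A) {Ω : Type u} [Field Ω] [IsAlgClosed Ω]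
    (g : A →+* Ω) (hg : RingHom.ker g = maximalIdeal A) (φ ψ : Ai →+* Ω)
    (hφ : φ.comp (algebraMap A Ai) = g) (hψ : ψ.comp (algebraMap A Ai) = g) : φ = ψ := by
  let p := maximalIdeal A
  let e : A ≃ₐ[A] Localization.AtPrime p :=
    IsLocalization.atUnits A p.primeCompl fun x hx => notMem_maximalIdeal.mp hx
  have hU := (UnibranchNormalization.isGeomUnibranch_iff A p).mp
    (UnibranchBirationalAlg.isGeomUnibranch_of_ringEquiv e.toRingEquiv hA)
  let κ := p.ResidueField
  let gκ : κ →+* Ω := Ideal.ResidueField.lift p g hg.ge fun x hx =>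
    isUnit_iff_ne_zero.mpr fun h => hx (hg.le h)
  let : Algebra κ Ω := gκ.toAlgebra
  have hgκ : ∀ a, algebraMap κ Ω (algebraMap A κ a) = g a := fun a =>
    Ideal.ResidueField.lift_algebraMap _ _ _ _ a
  let : Algebra A Ω := g.toAlgebra
  have : IsScalarTower A κ Ω := IsScalarTower.of_algebraMap_eq fun a => (hgκ a).symm
  let Ω₀ := IntermediateField.toSubalgebra (algebraicClosure κ Ω)
  have hmem : ∀ (χ : Ai →+* Ω), χ.comp (algebraMap A Ai) = g → ∀ x, χ x ∈ algebraicClosure κ Ω := by
    intro χ hχ x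
    let χA : Ai →ₐ[A] Ω := { χ with commutes' := fun a => RingHom.congr_fun hχ a }
    have h : IsIntegral A (χA x) := (Algebra.IsIntegral.isIntegral x).map χA
    exact mem_algebraicClosure_iff.mpr (h.tower_top (A := κ)).isAlgebraic
  let F := algebraicClosure κ Ω
  let τ : F →ₐ[κ] AlgebraicClosure κ := IsAlgClosed.lift
  let φ' : Ai →+* AlgebraicClosure κ := τ.toRingHom.comp (φ.codRestrict F.toSubfield.toSubring (hmem φ hφ))
  let ψ' : Ai →+* AlgebraicClosure κ := τ.toRingHom.comp (ψ.codRestrict F.toSubfield.toSubring (hmem ψ hψ))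
  have hcomp : ∀ (χ : Ai →+* Ω) (hχ : χ.comp (algebraMap A Ai) = g),
      (τ.toRingHom.comp (χ.codRestrict F.toSubfield.toSubring (hmem χ hχ))).comp (algebraMap A Ai) =
        algebraMap A (AlgebraicClosure κ) := fun χ hχ => RingHom.ext fun a => by
    have h1 : χ.codRestrict F.toSubfield.toSubring (hmem χ hχ) (algebraMap A Ai a) =
        algebraMap κ F (algebraMap A κ a) := Subtype.ext ((RingHom.congr_fun hχ a).trans (hgκ a).symm)
    change τ (χ.codRestrict F.toSubfield.toSubring (hmem χ hχ) (algebraMap A Ai a)) = _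
    rw [h1]
    exact (τ.commutes _).trans (IsScalarTower.algebraMap_apply A κ _ a).symm
  have h := hU φ' ψ' (hcomp φ hφ) (hcomp ψ hψ)
  refine RingHom.ext fun x => ?_
  have h1 := τ.toRingHom.injective (RingHom.congr_fun h x)
  exact congrArg Subtype.val h1

/-- The normalization of a geometrically unibranch local domain stays local after local base
change. -/
theorem isLocalRing_tensor (hA : CAlg2.IsGeomUnibranch A) (B : Type u) [CommRing B] [IsLocalRing B]
    [Algebra A B] [IsLocalHom (algebraMap A B)] [Module.Flat A B] : IsLocalRing (B ⊗[A] Ai) := by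
  have : Nontrivial (B ⊗[A] Ai) := by
    have : Module.FaithfullyFlat A B := Module.FaithfullyFlat.of_flat_of_isLocalHom
    exact Module.FaithfullyFlat.lTensor_nontrivial A B Ai
  have : Algebra.IsIntegral B (B ⊗[A] Ai) := inferInstance
  refine isLocalRing_of_unique (B := B) fun φ ψ hφ hψ => ?_
  have hr : ∀ χ : B ⊗[A] Ai →+* AlgebraicClosure (ResidueField B),
      χ.comp (algebraMap B (B ⊗[A] Ai)) = algebraMap B (AlgebraicClosure (ResidueField B)) →
      (χ.comp (Algebra.TensorProduct.includeRight : Ai →ₐ[A] B ⊗[A] Ai).toRingHom).comp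
        (algebraMap A Ai) = (algebraMap B (AlgebraicClosure (ResidueField B))).comp (algebraMap A B) := by
    intro χ hχ
    rw [RingHom.comp_assoc, AlgHom.toRingHom_eq_coe, AlgHom.comp_algebraMap, ← hχ, RingHom.comp_assoc,
      ← IsScalarTower.algebraMap_eq]
  have hker : RingHom.ker ((algebraMap B (AlgebraicClosure (ResidueField B))).comp (algebraMap A B)) =
      maximalIdeal A := by
    rw [← RingHom.comap_ker, IsScalarTower.algebraMap_eq B (ResidueField B) (AlgebraicClosure (ResidueField B)),
      RingHom.ker_comp_of_injective _ (RingHom.injective _), ResidueField.algebraMap_eq, IsLocalRing.ker_residue]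
    exact ((IsLocalRing.local_hom_TFAE (algebraMap A B)).out 0 4 rfl rfl).mp inferInstance
  have h := hom_unique A hA _ hker _ _ (hr φ hφ) (hr ψ hψ)
  refine Algebra.TensorProduct.ringHom_ext ?_ ?_
  · exact hφ.trans hψ.symm
  · exact h

theorem isLocalRing_normalization (hA : CAlg2.IsGeomUnibranch A) : IsLocalRing Ai := by
  refine isLocalRing_of_unique fun φ ψ hφ hψ => hom_unique A hA _ ?_ φ ψ hφ hψ
  rw [IsScalarTower.algebraMap_eq A (ResidueField A) (AlgebraicClosure (ResidueField A)),
    RingHom.ker_comp_of_injective _ (RingHom.injective _)]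
  exact IsLocalRing.ker_residue

theorem heightHyp (hA : CAlg2.IsGeomUnibranch A) (hdim : 2 ≤ ringKrullDim A) :
    PuncturedIntegral.HeightHyp A := by
  intro m' hm' _
  have := isLocalRing_normalization A hA
  have : FaithfulSMul A Ai := (faithfulSMul_iff_algebraMap_injective A Ai).mpr
    ((IsFractionRing.injective A (FractionRing A)).of_comp (f := Subtype.val))
  rw [IsLocalRing.eq_maximalIdeal hm', ← Dim.Integral.ringKrullDim_eq_of_isIntegral (A := Ai),
    ← IsLocalRing.maximalIdeal_height_eq_ringKrullDim] at *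
  exact WithBot.coe_le_coe.mp hdim

variable [IsNoetherianRing A]

/-- The subalgebra of the fraction field where `a` is inverted. -/
noncomputable def away (a : A) : Subalgebra A (FractionRing A) :=
  Algebra.adjoin A {(algebraMap A (FractionRing A) a)⁻¹}

theorem exists_pow_mul_mem {a : A} (ha : a ≠ 0) (x : away A a) :
    ∃ (N : ℕ) (c : A), algebraMap A (FractionRing A) a ^ N * x = algebraMap A (FractionRing A) c := by
  have h0 : algebraMap A (FractionRing A) a ≠ 0 :=
    (map_ne_zero_iff _ (IsFractionRing.injective A (FractionRing A))).mpr ha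
  obtain ⟨x, hx⟩ := x
  change ∃ (N : ℕ) (c : A), _ * x = _
  induction hx using Algebra.adjoin_induction with
  | mem y hy =>
    rw [Set.mem_singleton_iff] at hy
    subst hy
    exact ⟨1, 1, by rw [pow_one, mul_inv_cancel₀ h0, map_one]⟩
  | algebraMap r => exact ⟨0, r, by rw [pow_zero, one_mul]⟩
  | add y z _ _ hy hz =>
    obtain ⟨N, c, hc⟩ := hy
    obtain ⟨M, d, hd⟩ := hz
    refine ⟨N + M, a ^ M * c + a ^ N * d, ?_⟩
    rw [map_add, map_mul, map_mul, map_pow, map_pow, ← hc, ← hd]
    ring
  | mul y z _ _ hy hz =>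
    obtain ⟨N, c, hc⟩ := hy
    obtain ⟨M, d, hd⟩ := hz
    refine ⟨N + M, c * d, ?_⟩
    rw [map_mul, ← hc, ← hd]
    ring

variable (B : Type u) [CommRing B] [IsLocalRing B] [Algebra A B] [IsLocalHom (algebraMap A B)]
  [Module.Flat A B]

/-- The punctured spectrum, relative to the closed point of the base. -/
def punctured : Set (PrimeSpectrum B) :=
  {P | ¬ (maximalIdeal A).map (algebraMap A B) ≤ P.asIdeal}

theorem isPreconnected_punctured (hA : CAlg2.IsGeomUnibranch A) (hdim : 2 ≤ ringKrullDim A) :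
    IsPreconnected (punctured A B) := by
  classical
  let K := FractionRing A
  have hH := heightHyp A hA hdim
  obtain ⟨a₀, ha₀, ha₀r⟩ := PuncturedIntegral.exists_regular hH
  intro O₁ O₂ hO₁ hO₂ hcover ⟨P₁, hP₁, hP₁O⟩ ⟨P₂, hP₂, hP₂O⟩
  by_contra hne
  rw [Set.not_nonempty_iff_eq_empty] at hne
  have hsep : ∀ P ∈ punctured A B, P ∈ O₁ → P ∉ O₂ := fun P hP h1 h2 =>
    Set.eq_empty_iff_forall_notMem.mp hne P ⟨hP, h1, h2⟩
  -- every point generizes to the generic fibre
  let π : PrimeSpectrum (B ⊗[A] K) → PrimeSpectrum B :=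
    PrimeSpectrum.comap (algebraMap B (B ⊗[A] K))
  have hπmem : ∀ (T : Subalgebra A K) (a : A), a ∈ maximalIdeal A → a ≠ 0 →
      (algebraMap A K a)⁻¹ ∈ T → ∀ Q : PrimeSpectrum (B ⊗[A] T),
        PrimeSpectrum.comap (algebraMap B (B ⊗[A] T)) Q ∈ punctured A B := by
    intro T a ha ha0 hT Q hle
    have h1 : algebraMap B (B ⊗[A] T) (algebraMap A B a) ∈ Q.asIdeal :=
      hle (Ideal.mem_map_of_mem _ ha)
    refine Q.2.ne_top (Ideal.eq_top_of_isUnit_mem _ h1 ?_)
    rw [← IsScalarTower.algebraMap_apply A B (B ⊗[A] T),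
      ← (Algebra.TensorProduct.includeRight : T →ₐ[A] B ⊗[A] T).commutes a]
    refine IsUnit.map (Algebra.TensorProduct.includeRight : T →ₐ[A] B ⊗[A] T) ?_
    exact IsUnit.of_mul_eq_one ⟨_, hT⟩ (Subtype.ext (mul_inv_cancel₀
      ((map_ne_zero_iff _ (IsFractionRing.injective A K)).mpr ha0)))
  have hgen : ∀ P ∈ punctured A B, ∃ Q : PrimeSpectrum (B ⊗[A] K), π Q ⤳ P ∧ π Q ∈ punctured A B := by
    intro P hP
    have : (P.asIdeal).LiesOver (P.asIdeal.under A) := ⟨rfl⟩
    obtain ⟨Q, hQP, hQ, hQA⟩ := Ideal.exists_ideal_le_liesOver_of_le (R := A) (p := (⊥ : Ideal A))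
      (q := P.asIdeal.under A) P.asIdeal bot_le
    have hinj : Function.Injective (algebraMap A Q.ResidueField) := by
      rw [injective_iff_map_eq_zero]
      intro a ha
      rw [IsScalarTower.algebraMap_apply A B Q.ResidueField, Ideal.algebraMap_residueField_eq_zero] at ha
      have : a ∈ (⊥ : Ideal A) := hQA.over ▸ ha
      simpa using this
    let χ : B ⊗[A] K →ₐ[A] Q.ResidueField :=
      Algebra.TensorProduct.lift (IsScalarTower.toAlgHom A B Q.ResidueField)
        (IsFractionRing.liftAlgHom (g := Algebra.ofId A Q.ResidueField) hinj) fun _ _ => Commute.all _ _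
    have hπ : (π ⟨RingHom.ker χ, RingHom.ker_isPrime χ⟩).asIdeal = Q := by
      ext b
      change χ (b ⊗ₜ 1) = 0 ↔ _
      rw [Algebra.TensorProduct.lift_tmul, map_one, mul_one]
      exact Ideal.algebraMap_residueField_eq_zero
    refine ⟨⟨RingHom.ker χ, RingHom.ker_isPrime χ⟩,
      (PrimeSpectrum.le_iff_specializes _ _).mp (hπ.le.trans hQP), ?_⟩
    exact fun hle => hP (hle.trans (hπ.le.trans hQP))
  have hπp : ∀ Q, π Q ∈ punctured A B := fun Q => by
    intro hle
    have h1 : algebraMap B (B ⊗[A] K) (algebraMap A B a₀) ∈ Q.asIdeal :=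
      hle (Ideal.mem_map_of_mem _ ha₀)
    refine Q.2.ne_top (Ideal.eq_top_of_isUnit_mem _ h1 ?_)
    rw [← IsScalarTower.algebraMap_apply A B (B ⊗[A] K),
      ← (Algebra.TensorProduct.includeRight : K →ₐ[A] B ⊗[A] K).commutes a₀]
    exact (IsLocalization.map_units K (⟨a₀, ha₀r⟩ : A⁰)).map _
  have hclK : IsClopen (π ⁻¹' O₁) := by
    refine ⟨?_, hO₁.preimage (PrimeSpectrum.continuous_comap _)⟩
    rw [show π ⁻¹' O₁ = (π ⁻¹' O₂)ᶜ from Set.ext fun Q =>
      ⟨fun h h' => hsep _ (hπp Q) h h', fun h => (hcover (hπp Q)).resolve_right h⟩]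
    exact (hO₂.preimage (PrimeSpectrum.continuous_comap _)).isClosed_compl
  obtain ⟨e, he, heO⟩ := PrimeSpectrum.isClopen_iff.mp hclK
  -- the idempotent is a section over every basic open
  have hea : ∀ a : A, a ∈ maximalIdeal A → a ≠ 0 →
      e ∈ LinearMap.range ((away A a).val.toLinearMap.lTensor B) := by
    intro a ha ha0
    let T := away A a
    have hT : (algebraMap A K a)⁻¹ ∈ T := Algebra.subset_adjoin rfl
    let ν : PrimeSpectrum (B ⊗[A] T) → PrimeSpectrum B :=
      PrimeSpectrum.comap (algebraMap B (B ⊗[A] T))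
    have hcl : IsClopen (ν ⁻¹' O₁) := by
      refine ⟨?_, hO₁.preimage (PrimeSpectrum.continuous_comap _)⟩
      rw [show ν ⁻¹' O₁ = (ν ⁻¹' O₂)ᶜ from Set.ext fun Q =>
        ⟨fun h h' => hsep _ (hπmem T a ha ha0 hT Q) h h',
          fun h => (hcover (hπmem T a ha ha0 hT Q)).resolve_right h⟩]
      exact (hO₂.preimage (PrimeSpectrum.continuous_comap _)).isClosed_compl
    obtain ⟨f, hf, hfO⟩ := PrimeSpectrum.isClopen_iff.mp hcl
    let Θ : B ⊗[A] T →ₐ[B] B ⊗[A] K := Algebra.TensorProduct.map (AlgHom.id B B) T.val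
    have hΘ : Θ f = e := by
      refine PrimeSpectrum.basicOpen_injOn_isIdempotentElem (hf.map Θ) he ?_
      refine TopologicalSpace.Opens.ext ?_
      rw [← heO]
      ext Q
      change Θ f ∉ Q.asIdeal ↔ π Q ∈ O₁
      have hν : ν (PrimeSpectrum.comap Θ.toRingHom Q) = π Q := PrimeSpectrum.ext (by
        change (Q.asIdeal.comap Θ.toRingHom).comap (algebraMap B (B ⊗[A] T)) =
          Q.asIdeal.comap (algebraMap B (B ⊗[A] K))
        rw [Ideal.comap_comap, AlgHom.toRingHom_eq_coe, AlgHom.comp_algebraMap])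
      rw [← hν]
      exact (Set.ext_iff.mp hfO (PrimeSpectrum.comap Θ.toRingHom Q)).symm
    refine ⟨f, ?_⟩
    rw [← hΘ]
    exact LinearMap.congr_fun (TensorProduct.ext' fun b t => rfl :
      (T.val.toLinearMap.lTensor B) = (Θ.restrictScalars A).toLinearMap) f
  -- hence it lies in the tensor with the normalization
  obtain ⟨s, hs⟩ := (IsNoetherian.noetherian (maximalIdeal A) : (maximalIdeal A).FG)
  let s' := s.filter (· ≠ 0)
  let M : ↥s' → Submodule A K := fun a => Subalgebra.toSubmodule (away A a.1)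
  let ρ : K →ₗ[A] Π a : ↥s', K ⧸ M a := LinearMap.pi fun a => (M a).mkQ
  have hker : LinearMap.ker ρ ≤ Subalgebra.toSubmodule Ai := by
    intro x hx
    refine PuncturedIntegral.isIntegral_of_punctured hH x fun c hc => ?_
    let J : Ideal A :=
      { carrier := {c | ∃ (N : ℕ) (d : A), algebraMap A K c ^ N * x = algebraMap A K d}
        zero_mem' := ⟨1, 0, by simp⟩
        add_mem' := by
          rintro c c' ⟨N, d, h⟩ ⟨M, d', h'⟩
          obtain ⟨q₁, q₂, hq⟩ : ∃ q₁ q₂ : A, (c + c') ^ (N + M) = c ^ N * q₁ + c' ^ M * q₂ := by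
            have hmem : (c + c') ^ (N + M) ∈ Ideal.span ({c ^ N, c' ^ M} : Set A) := by
              rw [add_pow]
              refine Ideal.sum_mem _ fun i hi => ?_
              by_cases hiN : N ≤ i
              · rw [show c ^ i = c ^ N * c ^ (i - N) by rw [← pow_add]; congr 1; omega, mul_assoc,
                  mul_assoc]
                exact Ideal.mul_mem_right _ _ (Ideal.subset_span (Set.mem_insert _ _))
              · rw [show c' ^ (N + M - i) = c' ^ M * c' ^ (N + M - i - M) by
                  rw [← pow_add]; congr 1; omega]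
                exact Ideal.mul_mem_right _ _ (Ideal.mul_mem_left _ _ (Ideal.mul_mem_right _ _
                  (Ideal.subset_span (Set.mem_insert_of_mem _ rfl))))
            obtain ⟨q₁, q₂, hq⟩ := Ideal.mem_span_pair.mp hmem
            exact ⟨q₁, q₂, by rw [← hq]; ring⟩
          refine ⟨N + M, d * q₁ + d' * q₂, ?_⟩
          rw [← map_pow, hq, map_add, map_add, map_mul, map_mul, map_mul, map_mul, map_pow, map_pow,
            ← h, ← h']
          ring
        smul_mem' := by
          rintro r c ⟨N, d, h⟩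
          refine ⟨N, r ^ N * d, ?_⟩
          rw [smul_eq_mul, map_mul, mul_pow, mul_assoc, h, map_mul, map_pow] }
    suffices hle : maximalIdeal A ≤ J from hle hc
    rw [← hs, Ideal.submodule_span_eq, Ideal.span_le]
    intro a ha
    by_cases ha0 : a = 0
    · subst ha0; exact J.zero_mem
    have hxa : x ∈ away A a := by
      have := congrFun hx ⟨a, Finset.mem_filter.mpr ⟨ha, ha0⟩⟩
      exact (Submodule.Quotient.mk_eq_zero _).mp this
    exact exists_pow_mul_mem A ha0 ⟨x, hxa⟩
  have he' : e ∈ LinearMap.range ((integralClosure A K).val.toLinearMap.lTensor B) := by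
    have h0 : ρ.lTensor B e = 0 := by
      apply (TensorProduct.piRight A A B fun a : ↥s' => K ⧸ M a).injective
      rw [map_zero]
      funext a
      have hcomp : (LinearMap.proj a).comp (((TensorProduct.piRight A A B fun a : ↥s' => K ⧸ M a).toLinearMap).comp
          (ρ.lTensor B)) = (M a).mkQ.lTensor B := TensorProduct.ext' fun b x => by
        simp [ρ]
      refine (LinearMap.congr_fun hcomp e).trans ?_
      have hamem : a.1 ∈ maximalIdeal A := hs ▸ Ideal.subset_span (Finset.mem_filter.mp a.2).1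
      obtain ⟨t, ht⟩ := hea a.1 hamem (Finset.mem_filter.mp a.2).2
      rw [← ht, ← LinearMap.comp_apply, ← LinearMap.lTensor_comp,
        show (M a).mkQ.comp (away A a.1).val.toLinearMap = 0 from LinearMap.ext fun z =>
          (Submodule.Quotient.mk_eq_zero _).mpr z.2, LinearMap.lTensor_zero]
      rfl
    obtain ⟨t, ht⟩ := ((Module.Flat.lTensor_exact B ρ.exact_subtype_ker_map) e).mp h0
    let incl : LinearMap.ker ρ →ₗ[A] Ai :=
      { toFun := fun x => ⟨x.1, hker x.2⟩
        map_add' := fun _ _ => rfl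
        map_smul' := fun _ _ => rfl }
    refine ⟨incl.lTensor B t, ?_⟩
    rw [← ht, ← LinearMap.comp_apply, ← LinearMap.lTensor_comp]
    rfl
  obtain ⟨e', he'⟩ := he'
  let Θ : B ⊗[A] Ai →ₐ[B] B ⊗[A] K := Algebra.TensorProduct.map (AlgHom.id B B) (integralClosure A K).val
  have hΘl : (Θ.restrictScalars A).toLinearMap = (integralClosure A K).val.toLinearMap.lTensor B :=
    TensorProduct.ext' fun b t => rfl
  have hΘinj : Function.Injective Θ := by
    intro u v huv
    exact Module.Flat.lTensor_preserves_injective_linearMap (M := B)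
      (integralClosure A K).val.toLinearMap Subtype.val_injective
      ((LinearMap.congr_fun hΘl u).symm.trans (huv.trans (LinearMap.congr_fun hΘl v)))
  have hΘe : Θ e' = e := (LinearMap.congr_fun hΘl e').trans he'
  have := isLocalRing_tensor A hA B
  have hidem : IsIdempotentElem e' := hΘinj (by rw [map_mul, hΘe]; exact he)
  have h01 : e = 0 ∨ e = 1 := by
    rcases IsLocalRing.isUnit_or_isUnit_one_sub_self e' with h | h
    · have h1 : e' = 1 := h.mul_right_cancel (show e' * e' = 1 * e' by rw [one_mul]; exact hidem)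
      right; rw [← hΘe, h1, map_one]
    · have h1 : e' = 0 := h.mul_left_eq_zero.mp (show e' * (1 - e') = 0 by
        rw [mul_sub, mul_one, hidem.eq, sub_self])
      left; rw [← hΘe, h1, map_zero]
  rcases h01 with h | h
  · obtain ⟨Q, hQ, hQp⟩ := hgen P₁ hP₁
    have hQ1 : Q ∈ π ⁻¹' O₁ := hQ.mem_open hO₁ hP₁O
    rw [heO, h, PrimeSpectrum.basicOpen_zero] at hQ1
    exact hQ1
  · obtain ⟨Q, hQ, hQp⟩ := hgen P₂ hP₂
    have hQ1 : Q ∈ π ⁻¹' O₁ := by
      rw [heO, h, PrimeSpectrum.basicOpen_one]
      trivial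
    exact hsep _ hQp hQ1 (hQ.mem_open hO₂ hP₂O)

end Groth.Agent.Lib.Unram.PuncturedConnected
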