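import Groth.Agent.Lib.Unram.FibreConnected
import Groth.Agent.Lib.Unram.PuncturedConnected
import Mathlib.AlgebraicGeometry.Geometrically.Reduced
import Mathlib.RingTheory.Ideal.GoingDown

/-!
# The generic fibre over a geometrically unibranch local ring
-/

set_option autoImplicit false

universe u

open CategoryTheory AlgebraicGeometry IsLocalRing
open scoped TensorProduct

namespace Groth.Agent.Lib.Unram.FibreConnectedGeom

theorem isReduced_tensor (A B : Type u) [CommRing A] [CommRing B] [Algebra A B]
    [GeometricallyReduced (Spec.map (CommRingCat.ofHom (algebraMap A B)))]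
    (L : Type u) [Field L] [Algebra A L] : _root_.IsReduced (B ⊗[A] L) := by
  have h : IsReduced (Limits.pullback (Spec.map (CommRingCat.ofHom (algebraMap A B)))
      (Spec.map (CommRingCat.ofHom (algebraMap A L)))) :=
    pullback_of_geometrically GeometricallyReduced.geometrically_isReduced L _
  have : IsReduced (Spec (CommRingCat.of (B ⊗[A] L))) :=
    isReduced_of_isOpenImmersion (pullbackSpecIso A B L).inv
  exact (affine_isReduced_iff (CommRingCat.of (B ⊗[A] L))).mp this

theorem isGeomUnibranch_quotient_nilradical (A : Type u) [CommRing A] [IsLocalRing A]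
    (hA : CAlg2.IsGeomUnibranch A) :
    ∃ _ : IsLocalRing (A ⧸ nilradical A), CAlg2.IsGeomUnibranch (A ⧸ nilradical A) := by
  have : IsDomain (A ⧸ nilradical A) := hA.1.1
  have hN : (nilradical A).IsPrime := (Ideal.Quotient.isDomain_iff_prime _).mp hA.1.1
  have hs : Function.Surjective (algebraMap A (A ⧸ nilradical A)) := Ideal.Quotient.mk_surjective
  have huniq : ∀ P ∈ minimalPrimes A, P = nilradical A := fun P hP =>
    le_antisymm (hP.2 ⟨hN, bot_le⟩ (nilradical_le_prime P (H := hP.1.1)))
      (nilradical_le_prime P (H := hP.1.1))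
  have hker : (⊥ : Ideal (A ⧸ nilradical A)).comap (algebraMap A (A ⧸ nilradical A)) = nilradical A :=
    Ideal.mk_ker
  obtain ⟨h, h', -⟩ := (UnibranchBirationalAlg.main A (A ⧸ nilradical A) (fun Q hQ => by
      rw [le_bot_iff.mp (hQ.2 ⟨Ideal.isPrime_bot, bot_le⟩ bot_le), hker]
      exact ⟨⟨hN, bot_le⟩, fun P hP _ => nilradical_le_prime P (H := hP.1)⟩)
    (fun P hP => ⟨⊥, ⟨Ideal.isPrime_bot, hker.trans (huniq P hP).symm⟩, fun Q hQ =>
      Ideal.comap_injective_of_surjective _ hs (hQ.2.trans ((huniq P hP).trans hker.symm))⟩)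
    (fun P hP Q hQ hQP b => by
      obtain ⟨a, rfl⟩ := hs b
      exact ⟨a, 1, fun h => hP.1.1.ne_top ((Ideal.eq_top_iff_one _).mpr h), by simp⟩)).mp hA
  exact ⟨h, h'⟩

/-- A flat algebra with geometrically reduced fibres over a local domain whose normalization stays
local has connected generic fibre; general geometrically unibranch base. -/
theorem connectedSpace_fibre (A B : Type u) [CommRing A] [IsNoetherianRing A] [IsLocalRing A]
    [CommRing B] [IsLocalRing B] [Algebra A B] [IsLocalHom (algebraMap A B)] [Module.Flat A B]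
    (hred : ∀ (L : Type u) [Field L] [Algebra A L], _root_.IsReduced (B ⊗[A] L))
    (hA : CAlg2.IsGeomUnibranch A) :
    ConnectedSpace (PrimeSpectrum (FractionRing (A ⧸ nilradical A) ⊗[A] B)) := by
  let A₀ := A ⧸ nilradical A
  have : IsDomain A₀ := hA.1.1
  obtain ⟨hlocA₀, hA₀⟩ := isGeomUnibranch_quotient_nilradical A hA
  let B₀ := A₀ ⊗[A] B
  have hsurj : Function.Surjective (Algebra.TensorProduct.includeRight : B →ₐ[A] A₀ ⊗[A] B) :=
    Algebra.TensorProduct.includeRight_surjective B Ideal.Quotient.mk_surjective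
  have : Nontrivial B₀ := by
    have : Module.FaithfullyFlat A B := Module.FaithfullyFlat.of_flat_of_isLocalHom
    exact Module.FaithfullyFlat.rTensor_nontrivial A B A₀
  have : IsLocalRing B₀ := IsLocalRing.of_surjective' _ hsurj
  have : IsLocalHom (algebraMap A₀ B₀) := by
    refine ⟨fun x hx => ?_⟩
    obtain ⟨a, rfl⟩ := Ideal.Quotient.mk_surjective x
    have hloc := IsLocalHom.of_surjective
      (Algebra.TensorProduct.includeRight : B →ₐ[A] A₀ ⊗[A] B).toRingHom hsurj
    have h2 : algebraMap A₀ B₀ (Ideal.Quotient.mk _ a) =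
        (Algebra.TensorProduct.includeRight : B →ₐ[A] A₀ ⊗[A] B).toRingHom (algebraMap A B a) :=
      (IsScalarTower.algebraMap_apply A A₀ B₀ a).symm.trans (AlgHom.commutes _ a).symm
    rw [h2] at hx
    exact ((IsUnit.of_map _ _ hx).of_map _).map _
  have hred₀ : ∀ (L : Type u) [Field L] [Algebra A₀ L], _root_.IsReduced (B₀ ⊗[A₀] L) := by
    intro L _ _
    let : Algebra A L := Algebra.compHom L (algebraMap A A₀)
    have : IsScalarTower A A₀ L := IsScalarTower.of_algebraMap_eq fun _ => rfl
    have := hred L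
    let e : B₀ ⊗[A₀] L ≃+* B ⊗[A] L :=
      ((Algebra.TensorProduct.comm A₀ B₀ L).toRingEquiv.trans
        (Algebra.TensorProduct.cancelBaseChange A A₀ L L B).toRingEquiv).trans
        (Algebra.TensorProduct.comm A L B).toRingEquiv
    exact isReduced_of_injective e e.injective
  have := FibreConnected.connectedSpace_genericFibre hred₀
    (PuncturedConnected.isLocalRing_tensor A₀ hA₀ B₀)
  let K := FractionRing A₀
  exact (PrimeSpectrum.homeomorphOfRingEquiv
    ((Algebra.TensorProduct.comm A₀ B₀ K).toRingEquiv.trans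
      (Algebra.TensorProduct.cancelBaseChange A A₀ K K B).toRingEquiv)).connectedSpace_iff.mp this

/-- The complement of a closed set with nowhere dense image is connected. -/
theorem isConnected_compl (A B : Type u) [CommRing A] [IsNoetherianRing A] [IsLocalRing A]
    [CommRing B] [IsLocalRing B] [Algebra A B] [IsLocalHom (algebraMap A B)] [Module.Flat A B]
    (hred : ∀ (L : Type u) [Field L] [Algebra A L], _root_.IsReduced (B ⊗[A] L))
    (hA : CAlg2.IsGeomUnibranch A) (T : Set (PrimeSpectrum B))
    (hT' : ∀ P ∈ T, P.asIdeal.comap (algebraMap A B) ≠ nilradical A) : _root_.IsConnected Tᶜ := by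
  have : IsDomain (A ⧸ nilradical A) := hA.1.1
  have hN : (nilradical A).IsPrime := (Ideal.Quotient.isDomain_iff_prime _).mp hA.1.1
  have := connectedSpace_fibre A B hred hA
  let K := FractionRing (A ⧸ nilradical A)
  let π : PrimeSpectrum (K ⊗[A] B) → PrimeSpectrum B :=
    PrimeSpectrum.comap (Algebra.TensorProduct.includeRight : B →ₐ[A] K ⊗[A] B).toRingHom
  have hker : RingHom.ker (algebraMap A K) = nilradical A := by
    rw [IsScalarTower.algebraMap_eq A (A ⧸ nilradical A) K,
      RingHom.ker_comp_of_injective _ (IsFractionRing.injective _ _)]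
    exact Ideal.mk_ker
  have hπ : ∀ Q, (π Q).asIdeal.comap (algebraMap A B) = nilradical A := by
    intro Q
    change (Q.asIdeal.comap (Algebra.TensorProduct.includeRight : B →ₐ[A] K ⊗[A] B).toRingHom).comap _ = _
    rw [Ideal.comap_comap, AlgHom.toRingHom_eq_coe, AlgHom.comp_algebraMap,
      IsScalarTower.algebraMap_eq A K (K ⊗[A] B), ← Ideal.comap_comap]
    refine Eq.trans ?_ hker
    have : (Q.asIdeal.comap (algebraMap K (K ⊗[A] B))) = ⊥ :=
      (Ideal.eq_bot_or_top _).resolve_right (Ideal.IsPrime.comap _).ne_top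
    rw [this, ← RingHom.ker_eq_comap_bot]
  refine (isConnected_range (PrimeSpectrum.continuous_comap _) :
    _root_.IsConnected (Set.range π)).subset_closure ?_ fun P _ => ?_
  · rintro _ ⟨Q, rfl⟩ h
    exact hT' _ h (hπ Q)
  · have : (P.asIdeal).LiesOver (P.asIdeal.under A) := ⟨rfl⟩
    obtain ⟨Q, hQP, hQ, hQA⟩ := Ideal.exists_ideal_le_liesOver_of_le (R := A) (p := nilradical A)
      (q := P.asIdeal.under A) P.asIdeal (nilradical_le_prime _ (H := P.2.comap _))
    let f₀ : (A ⧸ nilradical A) →ₐ[A] Q.ResidueField :=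
      Ideal.Quotient.liftₐ _ (Algebra.ofId A _) fun a ha => by
        have : algebraMap A B a ∈ Q := Ideal.mem_comap.mp (hQA.over.le ha)
        change algebraMap A Q.ResidueField a = 0
        rw [IsScalarTower.algebraMap_apply A B Q.ResidueField, Ideal.algebraMap_residueField_eq_zero]
        exact this
    have hinj : Function.Injective f₀ := by
      rw [injective_iff_map_eq_zero]
      intro x hx
      obtain ⟨a, rfl⟩ := Ideal.Quotient.mk_surjective x
      change algebraMap A Q.ResidueField a = 0 at hx
      rw [IsScalarTower.algebraMap_apply A B Q.ResidueField, Ideal.algebraMap_residueField_eq_zero] at hx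
      exact Ideal.Quotient.eq_zero_iff_mem.mpr (hQA.over.ge hx)
    let χ : K ⊗[A] B →ₐ[A] Q.ResidueField :=
      Algebra.TensorProduct.lift (IsFractionRing.liftAlgHom (g := f₀) hinj)
        (IsScalarTower.toAlgHom A B Q.ResidueField) fun _ _ => Commute.all _ _
    have hχ : (π ⟨RingHom.ker χ, RingHom.ker_isPrime χ⟩).asIdeal = Q := by
      ext b
      change χ (1 ⊗ₜ b) = 0 ↔ _
      rw [Algebra.TensorProduct.lift_tmul, map_one, one_mul]
      exact Ideal.algebraMap_residueField_eq_zero
    exact mem_closure_iff.mpr fun U hU hPU => ⟨_,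
      ((PrimeSpectrum.le_iff_specializes _ P).mp (hχ.le.trans hQP)).mem_open hU hPU, ⟨_, rfl⟩⟩

end Groth.Agent.Lib.Unram.FibreConnectedGeom
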