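import Groth.Agent.Lib.Unram.FibreConnectedGeom
import Groth.Agent.Lib.Unram.ComplConnected
import Groth.Agent.Lib.Unram.BaseChangeNhd
import Mathlib.AlgebraicGeometry.Morphisms.Preimmersion

/-!
# Complements of sets with nowhere dense image, over geometrically unibranch schemes
-/

set_option autoImplicit false

universe u

open CategoryTheory AlgebraicGeometry Limits
open scoped TensorProduct

namespace Groth.Agent.Lib.Unram.FibreConnectedScheme

theorem isReduced_of_flat_preimmersion {W Z : Scheme.{u}} (g : W ⟶ Z) [Flat g] [IsPreimmersion g]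
    [IsReduced Z] : IsReduced W := by
  have : ∀ w : W, _root_.IsReduced (W.presheaf.stalk w) := fun w => by
    let φ := g.stalkMap w
    have hflat : φ.hom.Flat := (Flat.iff_flat_stalkMap g).mp inferInstance w
    have hsurj : Function.Surjective φ.hom := g.stalkMap_surjective w
    algebraize [φ.hom]
    have : Module.Flat (Z.presheaf.stalk (g w)) (W.presheaf.stalk w) := hflat
    have : IsLocalHom (algebraMap (Z.presheaf.stalk (g w)) (W.presheaf.stalk w)) :=
      inferInstanceAs (IsLocalHom (g.stalkMap w).hom)
    have : Module.FaithfullyFlat (Z.presheaf.stalk (g w)) (W.presheaf.stalk w) :=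
      Module.FaithfullyFlat.of_flat_of_isLocalHom
    let e := RingEquiv.ofBijective φ.hom
      ⟨FaithfulSMul.algebraMap_injective (Z.presheaf.stalk (g w)) (W.presheaf.stalk w), hsurj⟩
    exact isReduced_of_injective e.symm e.symm.injective
  exact isReduced_of_isReduced_stalk W

/-- The local algebras of a morphism with geometrically reduced fibres have geometrically reduced
fibres. -/
theorem geometricallyReduced_stalkMap {X Y : Scheme.{u}} (f : X ⟶ Y) [GeometricallyReduced f] (x : X) :
    GeometricallyReduced (Spec.map (f.stalkMap x)) := by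
  refine ⟨geometrically_iff_of_isClosedUnderIsomorphisms.mpr fun L _ y => ?_⟩
  let i := Y.fromSpecStalk (f x)
  let j := X.fromSpecStalk x
  have h1 : IsReduced (pullback f (y ≫ i)) :=
    pullback_of_geometrically GeometricallyReduced.geometrically_isReduced L _
  have := BaseChangeNhd.flat_fromSpecStalk x
  have h2 : IsReduced (pullback j (pullback.fst f (y ≫ i))) :=
    isReduced_of_flat_preimmersion (pullback.snd j (pullback.fst f (y ≫ i)))
  have h3 : IsReduced (pullback (j ≫ f) (y ≫ i)) :=
    isReduced_of_isOpenImmersion (pullbackRightPullbackFstIso f (y ≫ i) j).inv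
  have hp := IsPullback.of_isLimit (pullbackIsPullbackOfCompMono (Spec.map (f.stalkMap x)) y i)
  have : Spec.map (f.stalkMap x) ≫ i = j ≫ f := Scheme.SpecMap_stalkMap_fromSpecStalk f
  have h4 : IsReduced (pullback (Spec.map (f.stalkMap x) ≫ i) (y ≫ i)) :=
    isReduced_of_isOpenImmersion (pullback.congrHom this rfl).hom
  exact isReduced_of_isOpenImmersion hp.isoPullback.hom

theorem isConnected_compl {X Y : Scheme.{u}} [IsLocallyNoetherian X] [IsLocallyNoetherian Y]
    [ConnectedSpace X] (hY : ∀ y : Y, CAlg2.IsGeomUnibranch (Y.presheaf.stalk y))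
    (f : X ⟶ Y) [Flat f] [GeometricallyReduced f]
    (T : Set X) (hT : IsClosed T) (hT' : interior (closure (f '' T)) = ∅) : _root_.IsConnected Tᶜ := by
  have hmax : ∀ z ∈ T, ∃ η : Y, η ⤳ f z ∧ η ≠ f z := by
    intro z hz
    by_contra hη
    push Not at hη
    let W := (closure ({f z} : Set Y))ᶜ
    have hW : IsOpen W := isClosed_closure.isOpen_compl
    have hnot : f z ∉ closure W := fun hcl => by
      obtain ⟨η, hηW, hη'⟩ := ComplConnected.exists_generization_mem hW hcl
      exact hηW (by rw [hη η hη']; exact subset_closure rfl)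
    have hsub : (closure W)ᶜ ⊆ closure (f '' T) := fun w hw =>
      closure_mono (Set.singleton_subset_iff.mpr (show f z ∈ f '' T from ⟨z, hz, rfl⟩))
        (not_not.mp fun hwW => hw (subset_closure hwW))
    have := interior_maximal hsub isClosed_closure.isOpen_compl hnot
    rw [hT'] at this
    exact this
  have hloc : ∀ x : X, _root_.IsConnected (X.fromSpecStalk x ⁻¹' Tᶜ) := by
    intro x
    let A := Y.presheaf.stalk (f x)
    let B := X.presheaf.stalk x
    let φ := f.stalkMap x
    have hflat : φ.hom.Flat := (Flat.iff_flat_stalkMap f).mp inferInstance x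
    algebraize [φ.hom]
    have : Module.Flat A B := hflat
    have : IsLocalHom (algebraMap A B) := inferInstanceAs (IsLocalHom (f.stalkMap x).hom)
    have : GeometricallyReduced (Spec.map (CommRingCat.ofHom (algebraMap A B))) :=
      geometricallyReduced_stalkMap f x
    refine FibreConnectedGeom.isConnected_compl A B (FibreConnectedGeom.isReduced_tensor A B) (hY (f x))
      (X.fromSpecStalk x ⁻¹' T) fun P hP hPA => ?_
    obtain ⟨η, hη, hne⟩ := hmax _ hP
    have himg : f (X.fromSpecStalk x P) = Y.fromSpecStalk (f x) (Spec.map φ P) := by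
      rw [← Scheme.Hom.comp_apply, ← Scheme.SpecMap_stalkMap_fromSpecStalk]
      rfl
    rw [himg] at hη hne
    have h1 : η ∈ Set.range (Y.fromSpecStalk (f x)) := by
      rw [Scheme.range_fromSpecStalk]
      refine hη.trans ?_
      have := ((IsLocalRing.specializes_closedPoint (Spec.map φ P)).map
        (Y.fromSpecStalk (f x)).continuous)
      rwa [Scheme.fromSpecStalk_closedPoint] at this
    obtain ⟨η', rfl⟩ := h1
    refine hne (congrArg _ ?_)
    have h2 : η' ⤳ Spec.map φ P :=
      (Y.fromSpecStalk (f x)).isEmbedding.isInducing.specializes_iff.mp hη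
    have h3 := (PrimeSpectrum.le_iff_specializes (R := A) η' (Spec.map φ P)).mpr h2
    refine PrimeSpectrum.ext (le_antisymm h3 ?_)
    exact (show (Spec.map φ P).asIdeal = nilradical A from hPA).le.trans
      (nilradical_le_prime _ (H := η'.2))
  have hdense : ∀ x ∈ T, ∃ z ∉ T, z ⤳ x := fun x _ => by
    obtain ⟨q, hq⟩ := (hloc x).nonempty
    refine ⟨X.fromSpecStalk x q, hq, ?_⟩
    have := (IsLocalRing.specializes_closedPoint q).map (X.fromSpecStalk x).continuous
    rwa [Scheme.fromSpecStalk_closedPoint] at this
  refine ⟨?_, ComplConnected.isPreconnected_compl T hT hdense fun x _ => (hloc x).isPreconnected⟩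
  obtain ⟨x⟩ := (inferInstance : Nonempty X)
  obtain ⟨q, hq⟩ := (hloc x).nonempty
  exact ⟨_, hq⟩

end Groth.Agent.Lib.Unram.FibreConnectedScheme
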