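import Groth.Agent.Lib.Unram.FibreConnectedGeom
import Groth.Agent.Lib.GeomConn.Geometric
import Groth.Agent.Lib.Henselian.Unibranch
import Mathlib.RingTheory.DedekindDomain.IntegralClosure
import Mathlib.FieldTheory.PurelyInseparable.Basic

/-!
# Geometric connectedness of the fibres over a henselian base
-/

set_option autoImplicit false

universe u

open CategoryTheory AlgebraicGeometry IsLocalRing
open scoped TensorProduct

namespace Groth.Agent.Lib.Unram.FibreGeomConnected

/-- Transitivity of base change, with the factors exchanged. -/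
noncomputable def tensorEquiv (A B D X : Type u) [CommRing A] [CommRing B] [CommRing D] [CommRing X]
    [Algebra A B] [Algebra A D] [Algebra A X] [Algebra D X] [IsScalarTower A D X] :
    (D ⊗[A] B) ⊗[D] X ≃+* B ⊗[A] X :=
  ((Algebra.TensorProduct.comm D (D ⊗[A] B) X).toRingEquiv.trans
    (Algebra.TensorProduct.cancelBaseChange A D X X B).toRingEquiv).trans
    (Algebra.TensorProduct.comm A X B).toRingEquiv

variable (A B : Type u) [CommRing A] [CommRing B] [Algebra A B]

/-- Integral local domains over `A` stay local after base change to `B`. -/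
def StaysLocal : Prop :=
  ∀ (C : Type u) [CommRing C] [IsDomain C] [IsLocalRing C] [Algebra A C] [Algebra.IsIntegral A C],
    IsLocalRing (B ⊗[A] C)

variable [IsNoetherianRing A] [HenselianLocalRing A] [Module.Flat A B]

theorem connectedSpace_finite (hred : ∀ (L : Type u) [Field L] [Algebra A L], _root_.IsReduced (B ⊗[A] L))
    (hloc : StaysLocal A B) (p : Ideal A) [p.IsPrime] (L : Type u) [Field L]
    [Algebra p.ResidueField L] [FiniteDimensional p.ResidueField L] [Algebra A L]
    [IsScalarTower A p.ResidueField L] :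
    ConnectedSpace (PrimeSpectrum (B ⊗[A] L)) := by
  classical
  let k := p.ResidueField
  let : Algebra (A ⧸ p) L := ((algebraMap k L).comp (algebraMap (A ⧸ p) k)).toAlgebra
  have : IsScalarTower (A ⧸ p) k L := IsScalarTower.of_algebraMap_eq fun _ => rfl
  have : IsScalarTower A (A ⧸ p) L := IsScalarTower.of_algebraMap_eq fun a => by
    rw [IsScalarTower.algebraMap_apply A k L, IsScalarTower.algebraMap_apply A (A ⧸ p) k]
    rfl
  obtain ⟨s, b, hb⟩ := FiniteDimensional.exists_is_basis_integral (A ⧸ p) k L
  have hb' : ∀ y ∈ Set.range b, IsIntegral A y := by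
    rintro _ ⟨i, rfl⟩
    exact isIntegral_trans _ (hb i)
  let D := Algebra.adjoin A (Set.range b)
  have : Module.Finite A D :=
    Algebra.finite_adjoin_of_finite_of_isIntegral (Set.finite_range b) hb'
  have : IsNoetherianRing D := IsNoetherianRing.of_finite A D
  have : Algebra.IsIntegral A D := Algebra.IsIntegral.of_finite A D
  have : IsLocalRing D := Henselian.Unibranch.isLocalRing_of_isDomain A D
  have hfrac : IsFractionRing D L := by
    refine IsFractionRing.of_field D L fun z => ?_
    suffices ∃ x y : D, y ≠ 0 ∧ z * algebraMap D L y = algebraMap D L x by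
      obtain ⟨x, y, hy, h⟩ := this
      exact ⟨x, y, by rw [eq_div_iff ((map_ne_zero_iff _ Subtype.val_injective).mpr hy)]; exact h⟩
    have hz : z ∈ Submodule.span k (Set.range b) := b.span_eq ▸ Submodule.mem_top
    induction hz using Submodule.span_induction with
    | mem y hy => exact ⟨⟨y, Algebra.subset_adjoin hy⟩, 1, one_ne_zero, by rw [map_one, mul_one]; rfl⟩
    | zero => exact ⟨0, 1, one_ne_zero, by simp⟩
    | add y₁ y₂ _ _ h₁ h₂ =>
      obtain ⟨x₁, d₁, hd₁, e₁⟩ := h₁
      obtain ⟨x₂, d₂, hd₂, e₂⟩ := h₂
      exact ⟨x₁ * d₂ + x₂ * d₁, d₁ * d₂, mul_ne_zero hd₁ hd₂, by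
        simp only [map_add, map_mul, ← e₁, ← e₂]; ring⟩
    | smul c y _ h =>
      obtain ⟨x, d, hd, e⟩ := h
      obtain ⟨a, t, ht, rfl⟩ := IsFractionRing.div_surjective (A := A ⧸ p) c
      obtain ⟨a, rfl⟩ := Ideal.Quotient.mk_surjective a
      obtain ⟨t, rfl⟩ := Ideal.Quotient.mk_surjective t
      have h1 : ∀ r : A, algebraMap k L (algebraMap (A ⧸ p) k (Ideal.Quotient.mk p r)) =
          algebraMap A L r := fun r => (IsScalarTower.algebraMap_apply A (A ⧸ p) L r).symm
      have ht' : algebraMap A L t ≠ 0 := by
        rw [← h1]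
        exact (map_ne_zero_iff _ (algebraMap k L).injective).mpr
          (IsFractionRing.to_map_ne_zero_of_mem_nonZeroDivisors ht)
      refine ⟨algebraMap A D a * x, algebraMap A D t * d, mul_ne_zero
        (fun h0 => ht' (by rw [IsScalarTower.algebraMap_apply A D L, h0, map_zero])) hd, ?_⟩
      simp only [map_mul, ← IsScalarTower.algebraMap_apply A D L, ← e, Algebra.smul_def, map_div₀, h1]
      field_simp
  let e := FractionRing.algEquiv D L
  have hred' : ∀ (M : Type u) [Field M] [Algebra D M], _root_.IsReduced ((D ⊗[A] B) ⊗[D] M) := by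
    intro M _ _
    let : Algebra A M := Algebra.compHom M (algebraMap A D)
    have : IsScalarTower A D M := IsScalarTower.of_algebraMap_eq fun _ => rfl
    have := hred M
    exact isReduced_of_injective (tensorEquiv A B D M) (tensorEquiv A B D M).injective
  let C := integralClosure D (FractionRing D)
  have : Algebra.IsIntegral A C := Algebra.IsIntegral.trans D
  have : IsLocalRing C := Henselian.Unibranch.isLocalRing_of_isDomain A C
  have := hloc C
  have := FibreConnected.connectedSpace_genericFibre hred' (tensorEquiv A B D C).symm.isLocalRing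
  exact (PrimeSpectrum.homeomorphOfRingEquiv ((Algebra.TensorProduct.congr (AlgEquiv.refl : (D ⊗[A] B) ≃ₐ[D] (D ⊗[A] B)) e).toRingEquiv.trans
    (tensorEquiv A B D L))).connectedSpace_iff.mp this

/-- All fibres are geometrically connected. -/
theorem connectedSpace_fibre (hred : ∀ (L : Type u) [Field L] [Algebra A L], _root_.IsReduced (B ⊗[A] L))
    (hloc : StaysLocal A B) (K : Type u) [Field K] [Algebra A K] :
    ConnectedSpace (PrimeSpectrum (K ⊗[A] B)) := by
  let p := RingHom.ker (algebraMap A K)
  have : p.IsPrime := RingHom.ker_isPrime _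
  let k := p.ResidueField
  let : Algebra k K := (Ideal.ResidueField.lift p (algebraMap A K) le_rfl
    fun x hx => isUnit_iff_ne_zero.mpr hx).toAlgebra
  have : IsScalarTower A k K := IsScalarTower.of_algebraMap_eq fun a =>
    (Ideal.ResidueField.lift_algebraMap _ _ _ _ a).symm
  let R := k ⊗[A] B
  let X : Scheme.{u} := Spec (CommRingCat.of R)
  let : X.Over (Spec (CommRingCat.of k)) := ⟨Spec.map (CommRingCat.ofHom (algebraMap k R))⟩
  have hg : GeometricallyConnected (X ↘ Spec (CommRingCat.of k)) := by
    refine GeomConn.Geometric.geometricallyConnected_of_finite_separable k X fun k' _ _ _ _ => ?_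
    let : Algebra A k' := Algebra.compHom k' (algebraMap A k)
    have : IsScalarTower A k k' := IsScalarTower.of_algebraMap_eq fun _ => rfl
    have := connectedSpace_finite A B hred hloc p k'
    have : ConnectedSpace (PrimeSpectrum (R ⊗[k] k')) :=
      (PrimeSpectrum.homeomorphOfRingEquiv (tensorEquiv A B k k')).connectedSpace_iff.mpr this
    exact (pullbackSpecIso k R k').hom.homeomorph.connectedSpace_iff.mpr this
  have : ConnectedSpace (PrimeSpectrum (R ⊗[k] K)) :=
    (pullbackSpecIso k R K).hom.homeomorph.connectedSpace_iff.mp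
      (pullback_of_geometrically hg.geometrically_connectedSpace K _)
  exact (PrimeSpectrum.homeomorphOfRingEquiv ((tensorEquiv A B k K).trans
    (Algebra.TensorProduct.comm A B K).toRingEquiv)).connectedSpace_iff.mp this

omit [IsNoetherianRing A] [HenselianLocalRing A] [Module.Flat A B]

theorem staysLocal_of_isSepClosed [IsLocalRing A] [IsLocalRing B] [IsLocalHom (algebraMap A B)]
    [Module.Flat A B] [IsSepClosed (ResidueField A)] : StaysLocal A B := by
  intro C _ _ _ _ _
  have : Nontrivial (B ⊗[A] C) := by
    have : Module.FaithfullyFlat A B := Module.FaithfullyFlat.of_flat_of_isLocalHom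
    exact Module.FaithfullyFlat.lTensor_nontrivial A B C
  have : IsLocalHom (algebraMap A C) := ((local_hom_TFAE _).out 0 4 rfl rfl).mpr
    (eq_maximalIdeal (Ideal.isMaximal_comap_of_isIntegral_of_isMaximal (maximalIdeal C)))
  refine PuncturedConnected.isLocalRing_of_unique (B := B) fun φ ψ hφ hψ => ?_
  let Ω := AlgebraicClosure (ResidueField B)
  let : Algebra A Ω := ((algebraMap B Ω).comp (algebraMap A B)).toAlgebra
  let : Algebra (ResidueField A) Ω :=
    ((algebraMap (ResidueField B) Ω).comp (ResidueField.map (algebraMap A B))).toAlgebra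
  have hA : ∀ a : A, algebraMap (ResidueField A) Ω (residue A a) = algebraMap B Ω (algebraMap A B a) :=
    fun a => by
      change algebraMap (ResidueField B) Ω (ResidueField.map (algebraMap A B) (residue A a)) = _
      rw [ResidueField.map_residue, IsScalarTower.algebraMap_apply B (ResidueField B) Ω]
      rfl
  have hkerA : RingHom.ker (algebraMap A Ω) = maximalIdeal A := by
    rw [RingHom.algebraMap_toAlgebra, ← RingHom.comap_ker,
      IsScalarTower.algebraMap_eq B (ResidueField B) Ω,
      RingHom.ker_comp_of_injective _ (RingHom.injective _), ResidueField.algebraMap_eq, ker_residue]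
    exact ((local_hom_TFAE (algebraMap A B)).out 0 4 rfl rfl).mp inferInstance
  have hres : ∀ χ : B ⊗[A] C →+* Ω, χ.comp (algebraMap B (B ⊗[A] C)) = algebraMap B Ω →
      ∀ c ∈ maximalIdeal C, χ (1 ⊗ₜ c) = 0 ∧
      (χ.comp (Algebra.TensorProduct.includeRight : C →ₐ[A] B ⊗[A] C).toRingHom).comp (algebraMap A C) =
        algebraMap A Ω := by
    intro χ hχ c hc
    have hA' : (χ.comp (Algebra.TensorProduct.includeRight : C →ₐ[A] B ⊗[A] C).toRingHom).comp
        (algebraMap A C) = algebraMap A Ω := by
      rw [RingHom.comp_assoc, AlgHom.toRingHom_eq_coe, AlgHom.comp_algebraMap,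
        IsScalarTower.algebraMap_eq A B (B ⊗[A] C), ← RingHom.comp_assoc, hχ]
      rfl
    let P := RingHom.ker (χ.comp (Algebra.TensorProduct.includeRight : C →ₐ[A] B ⊗[A] C).toRingHom)
    have : P.IsPrime := RingHom.ker_isPrime _
    have hP : P.IsMaximal := Ideal.isMaximal_of_isIntegral_of_isMaximal_comap (R := A) P (by
      rw [RingHom.comap_ker, hA', hkerA]
      exact maximalIdeal.isMaximal A)
    exact ⟨(eq_maximalIdeal hP).ge hc, hA'⟩
  let φC : C →+* Ω := φ.comp (Algebra.TensorProduct.includeRight : C →ₐ[A] B ⊗[A] C).toRingHom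
  let ψC : C →+* Ω := ψ.comp (Algebra.TensorProduct.includeRight : C →ₐ[A] B ⊗[A] C).toRingHom
  let mk : ∀ χC : C →+* Ω, (∀ c ∈ maximalIdeal C, χC c = 0) → (χC.comp (algebraMap A C) = algebraMap A Ω) →
      (ResidueField C →ₐ[ResidueField A] Ω) := fun χC h0 h1 =>
    { Ideal.Quotient.lift (maximalIdeal C) χC h0 with
      commutes' := fun x => by
        obtain ⟨a, rfl⟩ := residue_surjective x
        exact (RingHom.congr_fun h1 a).trans (hA a).symm }
  have : Algebra.IsIntegral A (ResidueField C) := by
    have : Algebra.IsIntegral C (ResidueField C) :=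
      Algebra.IsIntegral.of_surjective (Algebra.ofId C _) residue_surjective
    exact Algebra.IsIntegral.trans C
  have : Algebra.IsIntegral (ResidueField A) (ResidueField C) :=
    Algebra.IsIntegral.tower_top (R := A)
  have : IsPurelyInseparable (ResidueField A) (ResidueField C) :=
    Algebra.IsAlgebraic.isPurelyInseparable_of_isSepClosed
  have h := Subsingleton.elim
    (mk φC (fun c hc => (hres φ hφ c hc).1) (hres φ hφ 0 (zero_mem _)).2)
    (mk ψC (fun c hc => (hres ψ hψ c hc).1) (hres ψ hψ 0 (zero_mem _)).2)
  refine Algebra.TensorProduct.ringHom_ext (hφ.trans hψ.symm) (RingHom.ext fun c => ?_)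
  exact AlgHom.congr_fun h (residue C c)

theorem staysLocal_of_bijective [IsLocalRing A] [IsLocalRing B] [IsLocalHom (algebraMap A B)]
    [Module.Flat A B] (hres : Function.Bijective (ResidueField.map (algebraMap A B))) :
    StaysLocal A B := by
  intro C _ _ _ _ _
  have : Nontrivial (B ⊗[A] C) := by
    have : Module.FaithfullyFlat A B := Module.FaithfullyFlat.of_flat_of_isLocalHom
    exact Module.FaithfullyFlat.lTensor_nontrivial A B C
  let iB := algebraMap B (B ⊗[A] C)
  let iC := (Algebra.TensorProduct.includeRight : C →ₐ[A] B ⊗[A] C).toRingHom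
  have key : ∀ z : B ⊗[A] C, ∃ c : C, z - iC c ∈ (maximalIdeal B).map iB := by
    intro z
    induction z using TensorProduct.induction_on with
    | zero => exact ⟨0, by simp⟩
    | tmul b c =>
      obtain ⟨r, hr⟩ := hres.2 (residue B b)
      obtain ⟨a, rfl⟩ := residue_surjective r
      rw [ResidueField.map_residue, ← sub_eq_zero, ← map_sub, residue_eq_zero_iff] at hr
      refine ⟨algebraMap A C a * c, ?_⟩
      have e : b ⊗ₜ[A] c - iC (algebraMap A C a * c) = iB (b - algebraMap A B a) * iC c := by
        rw [map_mul, map_sub, sub_mul,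
          show iC (algebraMap A C a) = iB (algebraMap A B a) from
            (AlgHom.commutes _ a).trans (IsScalarTower.algebraMap_apply A B _ a)]
        congr 1
        simp [iB, iC, Algebra.TensorProduct.algebraMap_apply]
      rw [e]
      exact Ideal.mul_mem_right _ _ (Ideal.mem_map_of_mem _ (by simpa using neg_mem hr))
    | add x y hx hy =>
      obtain ⟨c, hc⟩ := hx
      obtain ⟨d, hd⟩ := hy
      exact ⟨c + d, by rw [map_add, add_sub_add_comm]; exact add_mem hc hd⟩
  have hB : ∀ M : Ideal (B ⊗[A] C), M.IsMaximal → (maximalIdeal B).map iB ≤ M := fun M hM =>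
    Ideal.map_le_iff_le_comap.mpr
      (eq_maximalIdeal (Ideal.isMaximal_comap_of_isIntegral_of_isMaximal (R := B) M)).ge
  have hC : ∀ M : Ideal (B ⊗[A] C), M.IsMaximal → M.comap iC = maximalIdeal C := fun M hM => by
    have : (M.comap iC).IsPrime := Ideal.IsPrime.comap _
    refine eq_maximalIdeal (Ideal.isMaximal_of_isIntegral_of_isMaximal_comap (R := A) _ ?_)
    rw [Ideal.comap_comap, show iC.comp (algebraMap A C) = iB.comp (algebraMap A B) from
      RingHom.ext fun a => ((Algebra.TensorProduct.includeRight : C →ₐ[A] B ⊗[A] C).commutes a).trans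
        (IsScalarTower.algebraMap_apply A B (B ⊗[A] C) a),
      ← Ideal.comap_comap, eq_maximalIdeal (Ideal.isMaximal_comap_of_isIntegral_of_isMaximal (R := B) M),
      ((local_hom_TFAE (algebraMap A B)).out 0 4 rfl rfl).mp inferInstance]
    exact maximalIdeal.isMaximal A
  obtain ⟨M, hM⟩ := Ideal.exists_maximal (B ⊗[A] C)
  refine IsLocalRing.of_unique_max_ideal ⟨M, hM, fun N hN => hN.eq_of_le hM.ne_top fun z hz => ?_⟩
  obtain ⟨c, hc⟩ := key z
  have h1 : iC c ∈ N := by
    have h2 := sub_mem hz (hB N hN hc)
    rwa [sub_sub_cancel] at h2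
  have h3 : c ∈ M.comap iC := by
    rw [hC M hM, ← hC N hN]
    exact h1
  have h4 := add_mem (hB M hM hc) (Ideal.mem_comap.mp h3)
  rwa [sub_add_cancel] at h4

end Groth.Agent.Lib.Unram.FibreGeomConnected
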