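import Groth.Prelude.Def_MoreMor
import Groth.Agent.H54.GeomFibre
import Mathlib.FieldTheory.PurelyInseparable.Basic

/-!
# The number of points of a geometric fibre
-/

set_option autoImplicit false

universe u

open CategoryTheory CategoryTheory.Limits AlgebraicGeometry

namespace Groth.Agent.Lib.Unram.GeomCount

open Groth.Agent.H54.GeomLift

/-- The number of geometric lifts only depends on the underlying point. -/
theorem card_lift_congr {X Y : Scheme.{u}} (π : X ⟶ Y) [LocallyQuasiFinite π] {k k' : Type u}
    [Field k] [IsAlgClosed k] [Field k'] [IsAlgClosed k'] (ξ : Spec (CommRingCat.of k) ⟶ Y)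
    (ξ' : Spec (CommRingCat.of k') ⟶ Y) (h : pt ξ = pt ξ') :
    ENat.card (Lift π ξ) = ENat.card (Lift π ξ') := by
  have key : ∀ u : {u : X // π u = pt ξ},
      Nonempty ({s : Lift π ξ // pt s.1 = u.1} ≃ {s : Lift π ξ' // pt s.1 = u.1}) := fun u => by
    obtain ⟨h1, -, h2⟩ := card_pt_eq π ξ u.1 u.2
    obtain ⟨h1', -, h2'⟩ := card_pt_eq π ξ' u.1 (u.2.trans h)
    exact Finite.card_eq.mp (h2.trans h2'.symm)
  let a : Lift π ξ → {u : X // π u = pt ξ} := fun s => ⟨pt s.1, apply_pt s⟩
  let a' : Lift π ξ' → {u : X // π u = pt ξ} := fun s => ⟨pt s.1, (apply_pt s).trans h.symm⟩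
  let e : ∀ u, {s // a s = u} ≃ {s // a' s = u} := fun u =>
    (Equiv.subtypeEquivRight (fun s => (Subtype.ext_iff : a s = u ↔ pt s.1 = u.1))).trans
      ((key u).some.trans
        (Equiv.subtypeEquivRight (fun s => (Subtype.ext_iff : a' s = u ↔ pt s.1 = u.1).symm)))
  exact ENat.card_congr ((Equiv.sigmaFiberEquiv a).symm.trans
    ((Equiv.sigmaCongrRight e).trans (Equiv.sigmaFiberEquiv a')))

/-- Over a separably closed field every point of a locally quasi-finite scheme has exactly one
geometric lift. -/
theorem bijective_pt {G : Scheme.{u}} {S K : Type u} [Field S] [IsSepClosed S] [Field K]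
    [IsAlgClosed K] [Algebra S K] (q : G ⟶ Spec (CommRingCat.of S)) [LocallyQuasiFinite q] :
    Function.Bijective fun s : Lift q (Spec.map (CommRingCat.ofHom (algebraMap S K))) => pt s.1 := by
  refine ⟨fun s t hst => ?_, fun z => ?_⟩
  · simp only at hst
    obtain ⟨z, hz⟩ : ∃ z, pt s.1 = z := ⟨_, rfl⟩
    have hzt : pt t.1 = z := hst.symm.trans hz
    obtain ⟨e, he⟩ : ∃ e : G.residueField z ⟶ CommRingCat.of K,
        s.1 = Spec.map e ≫ G.fromSpecResidueField z := by subst hz; exact exists_of_pt s.1
    obtain ⟨e', he'⟩ : ∃ e' : G.residueField z ⟶ CommRingCat.of K,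
        t.1 = Spec.map e' ≫ G.fromSpecResidueField z := by subst hzt; exact exists_of_pt t.1
    let φ : CommRingCat.of S ⟶ G.residueField z := Spec.preimage (G.fromSpecResidueField z ≫ q)
    have hφ : Spec.map φ = G.fromSpecResidueField z ≫ q := Spec.map_preimage _
    have hqf : LocallyQuasiFinite (Spec.map φ) := by rw [hφ]; infer_instance
    have hqf' : φ.hom.QuasiFinite :=
      (HasRingHomProperty.Spec_iff (P := @LocallyQuasiFinite)).mp hqf
    algebraize [φ.hom]
    have : Module.Finite S (G.residueField z) := Module.Finite.of_quasiFinite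
    have : IsPurelyInseparable S (G.residueField z) := inferInstance
    have h1 : φ ≫ e = CommRingCat.ofHom (algebraMap S K) := by
      apply Spec.map_injective
      rw [Spec.map_comp, hφ, ← Category.assoc, ← he, s.2]
    have h2 : φ ≫ e' = CommRingCat.ofHom (algebraMap S K) := by
      apply Spec.map_injective
      rw [Spec.map_comp, hφ, ← Category.assoc, ← he', t.2]
    have : e = e' := CommRingCat.hom_ext (IsPurelyInseparable.injective_comp_algebraMap S _ K
      (congrArg CommRingCat.Hom.hom (h1.trans h2.symm)))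
    exact Subtype.ext (by rw [he, he', this])
  · exact exists_lift q _ z (Subsingleton.elim _ _)

/-- The number of points of the geometric fibre is the number of geometric lifts. -/
theorem card_geomFiber {X Y : Scheme.{u}} (f : X ⟶ Y) [LocallyQuasiFinite f] {k : Type u} [Field k]
    [IsAlgClosed k] (ξ : Spec (CommRingCat.of k) ⟶ Y) :
    ENat.card ↥(MoreMor.geomFiber f (pt ξ)) = ENat.card (Lift f ξ) := by
  generalize hy : pt ξ = y
  let S := SeparableClosure (Y.residueField y)
  let K := AlgebraicClosure S
  let q : MoreMor.geomFiber f y ⟶ Spec (CommRingCat.of S) := pullback.snd _ _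
  have : LocallyQuasiFinite (f.fiberToSpecResidueField y) :=
    MorphismProperty.pullback_snd _ _ ‹LocallyQuasiFinite f›
  have : LocallyQuasiFinite q := inferInstanceAs (LocallyQuasiFinite (pullback.snd _ _))
  have hc : IsPullback (pullback.fst (f.fiberToSpecResidueField y) _ ≫ f.fiberι y) q f
      (Spec.map (CommRingCat.ofHom (algebraMap (Y.residueField y) S)) ≫ Y.fromSpecResidueField y) :=
    (IsPullback.of_hasPullback (f.fiberToSpecResidueField y) _).paste_horiz
      (IsPullback.of_hasPullback f (Y.fromSpecResidueField y))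
  refine ((ENat.card_congr (Equiv.ofBijective _ (bijective_pt (K := K) q))).symm.trans
    (ENat.card_congr (baseChangeEquiv hc (Spec.map (CommRingCat.ofHom (algebraMap S K)))))).trans ?_
  refine card_lift_congr f _ ξ ?_
  rw [hy, ← Category.assoc, ← Spec.map_comp, pt_specMap_fromSpecResidueField]

end Groth.Agent.Lib.Unram.GeomCount
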