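import Groth.Agent.Lib.Unram.UnibranchNormalization
import Groth.Agent.Lib.Unram.UnibranchBirational
import Groth.Agent.Lib.Normalization.Basic
import Groth.Agent.Lib.UnivHomeo.Basic

/-!
# The normalization of a geometrically unibranch integral scheme
-/

set_option autoImplicit false

universe u

open CategoryTheory AlgebraicGeometry

namespace Groth.Agent.Lib.Unram.NormalizationUnivHomeo

theorem isUnivHomeo (X : Scheme.{u}) [IsIntegral X] [QuasiCompact (X.fromSpecStalk (genericPoint ↥X))]
    [QuasiSeparated (X.fromSpecStalk (genericPoint ↥X))]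
    (hX : ∀ x : X, CAlg2.IsGeomUnibranch (X.presheaf.stalk x)) :
    FlatMor.IsUnivHomeo (Curv2.normalizationι X) := by
  set ν := Curv2.normalizationι X
  rw [UnivHomeo.Basic.iff_integral_universallyInjective_surjective]
  refine ⟨inferInstance, ?_, ⟨Normalization.Basic.surjective_normalizationι X⟩⟩
  let S := {U : X.affineOpens // Nonempty U.1}
  have hcov : ⨆ U : S, U.1.1 = ⊤ := by
    refine eq_top_iff.2 fun x _ => ?_
    obtain ⟨W, hW, hxW, -⟩ := exists_isAffineOpen_mem_and_subset (x := x) (U := (⊤ : X.Opens)) trivial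
    exact TopologicalSpace.Opens.mem_iSup.mpr ⟨⟨⟨W, hW⟩, ⟨⟨x, hxW⟩⟩⟩, hxW⟩
  rw [IsZariskiLocalAtTarget.iff_of_iSup_eq_top (P := @UniversallyInjective) _ hcov]
  rintro ⟨⟨U, hU⟩, hne⟩
  change UniversallyInjective (ν ∣_ U)
  have : Nonempty U := hne
  have hV := Normalization.Basic.isAffineOpen_preimage X hU
  have hsq : hV.isoSpec.inv ≫ (ν ∣_ U) = Spec.map (ν.app U) ≫ hU.isoSpec.inv := by
    rw [← cancel_mono U.ι, Category.assoc, Category.assoc, morphismRestrict_ι, hU.isoSpec_inv_ι,
      ← Category.assoc, hV.isoSpec_inv_ι, Scheme.Hom.app_eq_appLE]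
    exact (IsAffineOpen.SpecMap_appLE_fromSpec ν hU hV le_rfl).symm
  suffices h : UniversallyInjective (Spec.map (ν.app U)) by
    have e : ν ∣_ U = hV.isoSpec.hom ≫ Spec.map (ν.app U) ≫ hU.isoSpec.inv := by
      rw [← hsq, Iso.hom_inv_id_assoc]
    rw [e]
    exact MorphismProperty.comp_mem @UniversallyInjective _ _ inferInstance
      (MorphismProperty.comp_mem @UniversallyInjective _ _ h inferInstance)
  let A := Γ(X, U)
  have : IsDomain A := IsIntegral.component_integral U
  have := functionField_isFractionRing_of_isAffineOpen X U hU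
  let e₀ : FractionRing A ≃ₐ[A] X.functionField := FractionRing.algEquiv A _
  let e : CommRingCat.of (integralClosure A (FractionRing A)) ≅ Γ(Curv2.normalization X, ν ⁻¹ᵁ U) :=
    ((AlgEquiv.mapIntegralClosure e₀).toRingEquiv.trans
      (Normalization.Basic.sectionsEquiv X hU).symm).toCommRingCatIso
  have hfac : ν.app U = CommRingCat.ofHom (algebraMap A (integralClosure A (FractionRing A))) ≫ e.hom := by
    refine CommRingCat.hom_ext (RingHom.ext fun a => (Normalization.Basic.sectionsEquiv X hU).injective ?_)
    refine (Normalization.Basic.sectionsEquiv_app X hU a).trans ?_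
    refine Eq.trans ?_ ((Normalization.Basic.sectionsEquiv X hU).apply_symm_apply _).symm
    exact ((AlgEquiv.mapIntegralClosure e₀).commutes a).symm
  rw [hfac, Spec.map_comp]
  have : UniversallyInjective (Spec.map (CommRingCat.ofHom (algebraMap A (integralClosure A (FractionRing A))))) := by
    rw [UnibranchNormalization.universallyInjective_iff]
    intro p _
    let P : Spec (Γ(X, U)) := ⟨p, inferInstance⟩
    have hxU : hU.fromSpec P ∈ U := hU.range_fromSpec.le ⟨P, rfl⟩
    have hP : hU.primeIdealOf ⟨_, hxU⟩ = P := by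
      refine hU.fromSpec.isOpenEmbedding.injective ?_
      exact hU.fromSpec_primeIdealOf ⟨_, hxU⟩
    have h := (UnibranchBirational.isGeomUnibranch_stalk_iff hU hxU).mp (hX _)
    have key : ∀ Q : PrimeSpectrum Γ(X, U), Q = P →
        CAlg2.IsGeomUnibranch (Localization.AtPrime Q.asIdeal) → CAlg2.IsGeomUnibranch (Localization.AtPrime p) := by
      rintro Q rfl hQ
      exact hQ
    exact key _ hP h
  exact MorphismProperty.comp_mem @UniversallyInjective _ _ inferInstance this

end Groth.Agent.Lib.Unram.NormalizationUnivHomeo
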