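import Groth.Agent.Lib.Flat55.FibreTransfer
import Groth.Agent.H75.BaseChange.Nhd
import Groth.Prelude.Def_ega3
import Groth.Prelude.Def_MoreMor

/-!
# Smooth / étale / unramified at a point, read on the fibre over a base
-/

universe u

open AlgebraicGeometry CategoryTheory CategoryTheory.Limits

namespace Groth.Agent.Lib.Unram.OnFibre

open Groth.Agent.Lib

variable {X Y S : Scheme.{u}} (f : X ⟶ Y) (g : Y ⟶ S)

theorem fiberMapOver_eq (s : S) :
    CohIII.fiberMapOver f (f ≫ g) g rfl s = MoreMor.fiberMap f g s := by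
  apply pullback.hom_ext
  · exact (pullback.lift_fst _ _ _).trans (pullback.lift_fst _ _ _).symm
  · refine (pullback.lift_snd _ _ _).trans ?_
    rw [Category.comp_id]
    exact (pullback.lift_snd _ _ _).symm

/-- A neighbourhood in the fibre gives one in `pullback f (g.fiberι s)`. -/
theorem exists_nhd_pullback (P : MorphismProperty Scheme.{u}) [P.RespectsIso] (s : S)
    (a : (f ≫ g).fiber s) (h : ∃ V : ((f ≫ g).fiber s).Opens, a ∈ V ∧
      P (V.ι ≫ MoreMor.fiberMap f g s)) :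
    ∃ w : ↑(pullback f (g.fiberι s)), pullback.fst f (g.fiberι s) w = (f ≫ g).fiberι s a ∧
      ∃ W : (pullback f (g.fiberι s)).Opens, w ∈ W ∧ P (W.ι ≫ pullback.snd f (g.fiberι s)) := by
  obtain ⟨V, haV, hV⟩ := h
  obtain ⟨e, he₁, he₂⟩ := Flat55.FibreTransfer.exists_iso_fiberMap f g s
  have hh : e.hom (e.inv a) = a := by
    rw [← Scheme.Hom.comp_apply, Iso.inv_hom_id]; rfl
  refine ⟨e.inv a, ?_, e.hom ⁻¹ᵁ V, ?_, ?_⟩
  · rw [← he₂, Scheme.Hom.comp_apply, hh]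
  · change e.hom (e.inv a) ∈ V
    rwa [hh]
  · rw [← he₁, ← Category.assoc, ← morphismRestrict_ι, Category.assoc]
    exact (P.cancel_left_of_respectsIso (e.hom ∣_ V) _).mpr hV

/-- A neighbourhood in `X` gives one in the fibre. -/
theorem exists_nhd_fiber (P : MorphismProperty Scheme.{u}) [P.IsStableUnderBaseChange] (s : S)
    (a : (f ≫ g).fiber s) (h : ∃ U : X.Opens, (f ≫ g).fiberι s a ∈ U ∧ P (U.ι ≫ f)) :
    ∃ V : ((f ≫ g).fiber s).Opens, a ∈ V ∧ P (V.ι ≫ MoreMor.fiberMap f g s) := by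
  obtain ⟨e, he₁, he₂⟩ := Flat55.FibreTransfer.exists_iso_fiberMap f g s
  have hh : e.hom (e.inv a) = a := by
    rw [← Scheme.Hom.comp_apply, Iso.inv_hom_id]; rfl
  have hh' : pullback.fst f (g.fiberι s) (e.inv a) = (f ≫ g).fiberι s a := by
    rw [← he₂, Scheme.Hom.comp_apply, hh]
  obtain ⟨W, hW, hPW⟩ := H75.BaseChange.nhd_baseChange P f (g.fiberι s) (e.inv a) (by rwa [hh'])
  refine ⟨e.inv ⁻¹ᵁ W, hW, ?_⟩
  have : e.inv ≫ pullback.snd f (g.fiberι s) = MoreMor.fiberMap f g s := by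
    rw [← he₁, Iso.inv_hom_id_assoc]
  rw [← this, ← Category.assoc, ← morphismRestrict_ι, Category.assoc]
  exact (P.cancel_left_of_respectsIso (e.inv ∣_ W) _).mpr hPW

theorem flat_of_nhd {A B : Scheme.{u}} (φ : A ⟶ B) (a : A)
    (h : ∃ U : A.Opens, a ∈ U ∧ Flat (U.ι ≫ φ)) : (φ.stalkMap a).hom.Flat :=
  Unram.AtPrime.flat_stalkMap_of_nhd φ a h

theorem unramified_iff [LocallyOfFiniteType g] [LocallyOfFinitePresentation (f ≫ g)] (s : S)
    (a : (f ≫ g).fiber s) :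
    (∃ U : X.Opens, (f ≫ g).fiberι s a ∈ U ∧ FormallyUnramified (U.ι ≫ f)) ↔
      ∃ V : ((f ≫ g).fiber s).Opens, a ∈ V ∧ FormallyUnramified (V.ι ≫ MoreMor.fiberMap f g s) := by
  have := Flat55.FibreTransfer.locallyOfFinitePresentation_of_comp (f := f) (g := g) ‹_› ‹_›
  refine ⟨exists_nhd_fiber f g @FormallyUnramified s a, fun h => ?_⟩
  obtain ⟨w, hw, hW⟩ := exists_nhd_pullback f g @FormallyUnramified s a h
  exact hw ▸ H75.BaseChange.unramified_nhd_descend f (g.fiberι s) w hW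

theorem smooth_iff [LocallyOfFiniteType g] [LocallyOfFinitePresentation (f ≫ g)] (s : S)
    (a : (f ≫ g).fiber s) (hflat : ((f ≫ g).stalkMap ((f ≫ g).fiberι s a)).hom.Flat) :
    (∃ U : X.Opens, (f ≫ g).fiberι s a ∈ U ∧ Smooth (U.ι ≫ f)) ↔
      ∃ V : ((f ≫ g).fiber s).Opens, a ∈ V ∧ Smooth (V.ι ≫ MoreMor.fiberMap f g s) := by
  have := Flat55.FibreTransfer.locallyOfFinitePresentation_of_comp (f := f) (g := g) ‹_› ‹_›
  refine ⟨exists_nhd_fiber f g @Smooth s a, fun h => ?_⟩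
  have hf := (Flat55.FibrewiseStalk.flat_stalkMap_of_fiberMap f g _ s a rfl hflat
    (flat_of_nhd _ a (by
      obtain ⟨V, haV, hV⟩ := h
      exact ⟨V, haV, inferInstance⟩))).1
  obtain ⟨w, hw, hW⟩ := exists_nhd_pullback f g @Smooth s a h
  exact hw ▸ H75.BaseChange.smooth_nhd_descend_of_flat_stalk f (g.fiberι s) w (hw ▸ hf) hW

theorem etale_iff [LocallyOfFiniteType g] [LocallyOfFinitePresentation (f ≫ g)] (s : S)
    (a : (f ≫ g).fiber s) (hflat : ((f ≫ g).stalkMap ((f ≫ g).fiberι s a)).hom.Flat) :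
    (∃ U : X.Opens, (f ≫ g).fiberι s a ∈ U ∧ Etale (U.ι ≫ f)) ↔
      ∃ V : ((f ≫ g).fiber s).Opens, a ∈ V ∧ Etale (V.ι ≫ MoreMor.fiberMap f g s) := by
  have := Flat55.FibreTransfer.locallyOfFinitePresentation_of_comp (f := f) (g := g) ‹_› ‹_›
  refine ⟨exists_nhd_fiber f g @Etale s a, fun h => ?_⟩
  have hf := (Flat55.FibrewiseStalk.flat_stalkMap_of_fiberMap f g _ s a rfl hflat
    (flat_of_nhd _ a (by
      obtain ⟨V, haV, hV⟩ := h
      exact ⟨V, haV, inferInstance⟩))).1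
  obtain ⟨V, haV, hV⟩ := h
  exact (Unram.AtPrime.exists_etale_nhd_iff f _).mpr ⟨hf,
    (Unram.AtPrime.exists_formallyUnramified_nhd_iff f _).mp
      ((unramified_iff f g s a).mpr ⟨V, haV, inferInstance⟩)⟩

end Groth.Agent.Lib.Unram.OnFibre
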