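import Groth.Agent.Lib.Henselian.Unibranch
import Mathlib.LinearAlgebra.Matrix.Charpoly.Basic
import Mathlib.RingTheory.Flat.EquationalCriterion
import Mathlib.RingTheory.Adjoin.FG
import Mathlib.RingTheory.TensorProduct.Quotient

/-!
# Punctured spectra over henselian local rings

If `D` is a henselian Noetherian local ring and `E` a flat local `D`-algebra with `mE = m_E` and the
same residue field, the punctured spectrum of `E` is as connected as that of `D`.
-/

set_option autoImplicit false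

universe u

open IsLocalRing
open scoped TensorProduct

namespace Groth.Agent.Lib.Unram.PuncturedHenselian

theorem exists_monic {D R : Type u} [CommRing D] [CommRing R] [Algebra D R] (I : Ideal D) {r : ℕ}
    (w : Fin r → R) (z : R) (M : Matrix (Fin r) (Fin r) D) (hM : ∀ i j, M i j ∈ I) (j₀ : Fin r)
    (hw : IsUnit (w j₀)) (h : ∀ i, z * w i = ∑ j, algebraMap D R (M i j) * w j) :
    ∃ p : Polynomial D, p.Monic ∧ Polynomial.aeval z p = 0 ∧
      p.map (Ideal.Quotient.mk I) = Polynomial.X ^ r := by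
  refine ⟨M.charpoly, M.charpoly_monic, ?_, ?_⟩
  · let A' : Matrix (Fin r) (Fin r) R := Matrix.scalar (Fin r) z - M.map (algebraMap D R)
    have hA : A'.mulVec w = 0 := by
      ext i
      rw [Matrix.sub_mulVec, Pi.sub_apply, Pi.zero_apply, sub_eq_zero, Matrix.scalar_apply,
        Matrix.mulVec_diagonal]
      exact h i
    have h1 := congrArg (fun v => (A'.adjugate.mulVec v) j₀) hA
    simp only [Matrix.mulVec_mulVec, Matrix.adjugate_mul, Matrix.smul_mulVec, Matrix.one_mulVec,
      Pi.smul_apply, smul_eq_mul, Matrix.mulVec_zero, Pi.zero_apply] at h1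
    rw [Polynomial.aeval_def, ← Polynomial.eval_map, ← Matrix.charpoly_map, Matrix.eval_charpoly]
    exact (hw.mul_left_eq_zero).mp h1
  · rw [← Matrix.charpoly_map, show M.map (Ideal.Quotient.mk I) = 0 from
      Matrix.ext fun i j => Ideal.Quotient.eq_zero_iff_mem.mpr (hM i j), Matrix.charpoly_zero,
      Fintype.card_fin]

theorem mem_of_root {D C : Type u} [CommRing D] [CommRing C] [Algebra D C] (I : Ideal D) {r : ℕ}
    {p : Polynomial D} {z : C} (hp : p.map (Ideal.Quotient.mk I) = Polynomial.X ^ r)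
    (hz : Polynomial.aeval z p = 0) (P : Ideal C) [P.IsPrime] (hI : I ≤ P.comap (algebraMap D C)) :
    z ∈ P := by
  let q : D ⧸ I →+* C ⧸ P := Ideal.quotientMap P (algebraMap D C) hI
  have h : (p.map (Ideal.Quotient.mk I)).eval₂ q (Ideal.Quotient.mk P z) = 0 := by
    rw [Polynomial.eval₂_map, show q.comp (Ideal.Quotient.mk I) = (Ideal.Quotient.mk P).comp (algebraMap D C)
      from RingHom.ext fun a => rfl, ← Polynomial.hom_eval₂, ← Polynomial.aeval_def, hz,
      map_zero]
  rw [hp, Polynomial.eval₂_X_pow] at h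
  exact Ideal.Quotient.eq_zero_iff_mem.mp (eq_zero_of_pow_eq_zero h)

variable (D E : Type u) [CommRing D] [CommRing E] [IsLocalRing D] [IsLocalRing E] [Algebra D E]

theorem comap_maximalIdeal_eq (hmax : (maximalIdeal D).map (algebraMap D E) = maximalIdeal E) :
    (maximalIdeal E).comap (algebraMap D E) = maximalIdeal D :=
  ((maximalIdeal.isMaximal D).eq_of_le (Ideal.comap_ne_top _ (maximalIdeal.isMaximal E).ne_top)
    (Ideal.map_le_iff_le_comap.mp hmax.le)).symm

theorem faithfullyFlat [Module.Flat D E]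
    (hmax : (maximalIdeal D).map (algebraMap D E) = maximalIdeal E) : Module.FaithfullyFlat D E := by
  have : IsLocalHom (algebraMap D E) :=
    ((IsLocalRing.local_hom_TFAE _).out 0 4 rfl rfl).mpr (comap_maximalIdeal_eq D E hmax)
  exact Module.FaithfullyFlat.of_flat_of_isLocalHom

theorem exists_sub_mem_pow (hmax : (maximalIdeal D).map (algebraMap D E) = maximalIdeal E)
    (hres : ∀ x : E, ∃ d, x - algebraMap D E d ∈ maximalIdeal E) :
    ∀ (N : ℕ) (x : E), ∃ d, x - algebraMap D E d ∈ (maximalIdeal D ^ N).map (algebraMap D E) := by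
  intro N
  induction N with
  | zero => exact fun x => ⟨0, by simp [Ideal.map_top]⟩
  | succ n ih =>
    intro x
    obtain ⟨d, hd⟩ := ih x
    have key : ∀ y ∈ (maximalIdeal D ^ n).map (algebraMap D E),
        ∃ d', y - algebraMap D E d' ∈ (maximalIdeal D ^ (n + 1)).map (algebraMap D E) := by
      intro y hy
      rw [Ideal.map] at hy
      induction hy using Submodule.span_induction with
      | mem z hz =>
        obtain ⟨a, ha, rfl⟩ := hz
        exact ⟨a, by simp⟩
      | zero => exact ⟨0, by simp⟩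
      | add y z _ _ hy hz =>
        obtain ⟨a, ha⟩ := hy
        obtain ⟨b, hb⟩ := hz
        exact ⟨a + b, by rw [map_add, add_sub_add_comm]; exact add_mem ha hb⟩
      | smul c y hy' hy =>
        obtain ⟨a, ha⟩ := hy
        obtain ⟨e, he⟩ := hres c
        refine ⟨e * a, ?_⟩
        rw [smul_eq_mul, map_mul,
          show c * y - algebraMap D E e * algebraMap D E a =
            (c - algebraMap D E e) * y + algebraMap D E e * (y - algebraMap D E a) by ring]
        refine add_mem ?_ (Ideal.mul_mem_left _ _ ha)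
        rw [pow_succ', Ideal.map_mul, hmax]
        exact Ideal.mul_mem_mul he hy'
    obtain ⟨d', hd'⟩ := key _ hd
    exact ⟨d + d', by rw [map_add, ← sub_sub]; exact hd'⟩

set_option maxHeartbeats 1600000 in
/-- The key step: an idempotent on the punctured spectrum over a henselian domain is trivial. -/
theorem trivial_split [HenselianLocalRing D] [IsDomain D] [IsNoetherianRing D] [Module.Flat D E]
    (hmax : (maximalIdeal D).map (algebraMap D E) = maximalIdeal E)
    (hres : ∀ x : E, ∃ d, x - algebraMap D E d ∈ maximalIdeal E)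
    {r : ℕ} (τ : Fin r → D) (hτ : ∀ i, τ i ≠ 0)
    (hτrad : maximalIdeal D ≤ (Ideal.span (Set.range τ)).radical)
    (u v : Fin r → E) (huv : ∀ i, algebraMap D E (τ i) = u i + v i) (hzero : ∀ i j, u i * v j = 0) :
    (∀ i, u i = 0) ∨ (∀ i, v i = 0) := by
  classical
  rcases Nat.eq_zero_or_pos r with hr | hr
  · subst hr
    exact Or.inl fun i => i.elim0
  let j₀ : Fin r := ⟨0, hr⟩
  have := faithfullyFlat D E hmax
  let T : Ideal D := Ideal.span (Set.range fun i => τ i ^ 2)
  have hT : maximalIdeal D ≤ T.radical := by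
    refine hτrad.trans (Ideal.radical_le_radical_iff.mpr ?_)
    rw [Ideal.span_le]
    rintro _ ⟨i, rfl⟩
    exact ⟨2, Ideal.subset_span ⟨i, rfl⟩⟩
  obtain ⟨c₀, hc₀⟩ := Ideal.exists_pow_le_of_le_radical_of_fg hT (IsNoetherian.noetherian _)
  let N := c₀ + 1
  have hN : maximalIdeal D ^ N ≤ maximalIdeal D * T := by
    rw [pow_succ']
    exact Ideal.mul_mono_right hc₀
  -- the cocycle `u` is approximated by a cocycle from `D`
  let f : ((Fin r × Fin r) → D) →ₗ[D] (Fin r → D) :=
    (Pi.basisFun D (Fin r × Fin r)).constr D fun ij => τ ij.2 • Pi.single ij.1 1 - τ ij.1 • Pi.single ij.2 1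
  let x' : (Fin r → D) →ₗ[D] E := (Pi.basisFun D (Fin r)).constr D u
  have hx' : ∀ i, x' (Pi.single i 1) = u i := fun i => by
    have := (Pi.basisFun D (Fin r)).constr_basis D u i
    rwa [Pi.basisFun_apply] at this
  have hcoc : ∀ i j, algebraMap D E (τ j) * u i = algebraMap D E (τ i) * u j := fun i j => by
    rw [huv, huv]
    have h1 : u i * v j = 0 := hzero i j
    have h2 : u j * v i = 0 := hzero j i
    linear_combination h1 - h2
  have hxf : x' ∘ₗ f = 0 := (Pi.basisFun D (Fin r × Fin r)).ext fun ij => by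
    rw [LinearMap.comp_apply, LinearMap.zero_apply, Module.Basis.constr_basis, map_sub, map_smul,
      map_smul, hx', hx', Algebra.smul_def, Algebra.smul_def, sub_eq_zero]
    exact hcoc ij.1 ij.2
  obtain ⟨k, g, y', hxy, hgf⟩ := Module.Flat.exists_factorization_of_comp_eq_zero_of_free hxf
  choose d hd using fun l : Fin k => exists_sub_mem_pow D E hmax hres N (y' (Finsupp.single l 1))
  let a₀ : Fin r → D := fun i => ∑ l, g (Pi.single i 1) l * d l
  have hdiff : ∀ i, u i - algebraMap D E (a₀ i) ∈ (maximalIdeal D ^ N).map (algebraMap D E) := by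
    intro i
    have h1 : u i = ∑ l, algebraMap D E (g (Pi.single i 1) l) * y' (Finsupp.single l 1) := by
      rw [← hx', hxy, LinearMap.comp_apply]
      conv_lhs => rw [← Finsupp.univ_sum_single (g (Pi.single i 1))]
      rw [map_sum]
      refine Finset.sum_congr rfl fun l _ => ?_
      rw [← Algebra.smul_def, ← map_smul, Finsupp.smul_single, smul_eq_mul, mul_one]
    rw [h1, map_sum, ← Finset.sum_sub_distrib]
    refine Ideal.sum_mem _ fun l _ => ?_
    rw [map_mul, ← mul_sub]
    exact Ideal.mul_mem_left _ _ (hd l)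
  have hcoc₀ : ∀ i j, τ j * a₀ i = τ i * a₀ j := by
    intro i j
    have h1 := LinearMap.congr_fun hgf ((Pi.basisFun D (Fin r × Fin r)) (i, j))
    rw [LinearMap.comp_apply, LinearMap.zero_apply, Module.Basis.constr_basis, map_sub, map_smul,
      map_smul, sub_eq_zero] at h1
    simp only [a₀, Finset.mul_sum, ← mul_assoc]
    refine Finset.sum_congr rfl fun l _ => ?_
    have h2 := DFunLike.congr_fun h1 l
    simp only [Finsupp.smul_apply, smul_eq_mul] at h2
    rw [h2]
  -- quadratic relation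
  have hsq : ∀ i, a₀ i ^ 2 - τ i * a₀ i ∈ maximalIdeal D ^ N := by
    intro i
    rw [← Ideal.comap_map_eq_self_of_faithfullyFlat (B := E) (maximalIdeal D ^ N), Ideal.mem_comap,
      map_sub, map_pow, map_mul]
    have hz : u i ^ 2 - algebraMap D E (τ i) * u i = 0 := by
      rw [huv]
      linear_combination -(hzero i i)
    have e : algebraMap D E (a₀ i) ^ 2 - algebraMap D E (τ i) * algebraMap D E (a₀ i) =
        (u i - algebraMap D E (a₀ i)) * (algebraMap D E (τ i) - u i - algebraMap D E (a₀ i)) := by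
      linear_combination hz
    rw [e]
    exact Ideal.mul_mem_right _ _ (hdiff i)
  let K := FractionRing D
  have hτK : ∀ i, algebraMap D K (τ i) ≠ 0 := fun i =>
    (map_ne_zero_iff _ (IsFractionRing.injective D K)).mpr (hτ i)
  let x : K := algebraMap D K (a₀ j₀) / algebraMap D K (τ j₀)
  have hxτ : ∀ i, x * algebraMap D K (τ i) = algebraMap D K (a₀ i) := fun i => by
    rw [div_mul_eq_mul_div, div_eq_iff (hτK j₀), ← map_mul, ← map_mul, mul_comm (a₀ j₀), hcoc₀ j₀ i,
      mul_comm]
  have hmem : ∀ s ∈ maximalIdeal D * T, ∃ c : Fin r → D,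
      (∀ j, c j ∈ maximalIdeal D) ∧ s = ∑ j, c j * τ j ^ 2 := by
    intro s hs
    obtain ⟨c, hc⟩ := (Submodule.mem_ideal_smul_span_iff_exists_sum (maximalIdeal D)
      (fun i => τ i ^ 2) s).mp (by simpa [T, smul_eq_mul] using hs)
    obtain ⟨hc1, hc2⟩ := hc
    refine ⟨fun j => c j, hc1, hc2.symm.trans ?_⟩
    rw [Finsupp.sum_fintype _ _ (by simp)]
    rfl
  choose M hM hMeq using fun i => hmem _ (hN (hsq i))
  obtain ⟨p, hpm, hp0, hpX⟩ := exists_monic (maximalIdeal D) (fun i => algebraMap D K (τ i) ^ 2)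
    (x ^ 2 - x) (Matrix.of M) hM j₀ ((hτK j₀).isUnit.pow 2) fun i => by
      have e : (x ^ 2 - x) * algebraMap D K (τ i) ^ 2 =
          algebraMap D K (a₀ i) ^ 2 - algebraMap D K (τ i) * algebraMap D K (a₀ i) := by
        rw [← hxτ i]; ring
      rw [e, ← map_pow, ← map_mul, ← map_sub, hMeq i, map_sum]
      simp [map_pow]
  let D' : Subalgebra D K := Algebra.adjoin D {x}
  have hxint : IsIntegral D x := by
    refine ⟨p.comp (Polynomial.X ^ 2 - Polynomial.X), hpm.comp ?_ ?_, ?_⟩
    · exact Polynomial.monic_X_pow_sub (by rw [Polynomial.degree_X]; norm_num)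
    · have : (Polynomial.X ^ 2 - Polynomial.X : Polynomial D).natDegree = 2 := by compute_degree!
      rw [this]; norm_num
    · rw [← Polynomial.aeval_def, Polynomial.aeval_comp, map_sub, map_pow, Polynomial.aeval_X, hp0]
  have : Module.Finite D D' :=
    Algebra.finite_adjoin_of_finite_of_isIntegral (Set.finite_singleton x) fun y hy => by
      rw [Set.mem_singleton_iff.mp hy]; exact hxint
  have : Algebra.IsIntegral D D' := Algebra.IsIntegral.of_finite D D'
  have : IsLocalRing D' := Henselian.Unibranch.isLocalRing_of_isDomain D D'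
  let X' : D' := ⟨x, Algebra.subset_adjoin rfl⟩
  have hM'D : maximalIdeal D ≤ (maximalIdeal D').comap (algebraMap D D') :=
    (eq_maximalIdeal (Ideal.isMaximal_comap_of_isIntegral_of_isMaximal (R := D) (maximalIdeal D'))).ge
  have hy : X' ^ 2 - X' ∈ maximalIdeal D' :=
    mem_of_root (maximalIdeal D) hpX ((injective_iff_map_eq_zero D'.val).mp Subtype.val_injective _
      ((Polynomial.aeval_algHom_apply D'.val (X' ^ 2 - X') p).symm.trans hp0)) _ hM'D
  -- the ring of `K`-multiples
  obtain ⟨R, _, _, ιE, ιK, hιE⟩ : ∃ (R : Type u) (_ : CommRing R) (_ : Algebra D R) (ιE : E →ₐ[D] R)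
      (_ : K →ₐ[D] R), Function.Injective ιE :=
    ⟨K ⊗[D] E, inferInstance, inferInstance, Algebra.TensorProduct.includeRight,
      Algebra.TensorProduct.includeLeft,
      Algebra.TensorProduct.includeRight_injective (IsFractionRing.injective D K)⟩
  let : Algebra E R := ιE.toRingHom.toAlgebra
  have : IsScalarTower D E R := IsScalarTower.of_algebraMap_eq fun a => (ιE.commutes a).symm
  let w : Fin r → R := fun i => ιE (algebraMap D E (τ i))
  have hwK : ∀ i, w i = ιK (algebraMap D K (τ i)) := fun i =>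
    (ιE.commutes _).trans (ιK.commutes _).symm
  have hwu : ∀ i, IsUnit (w i) := fun i => by rw [hwK]; exact (hτK i).isUnit.map ιK
  let ε : R := ιE (u j₀) * ιK (algebraMap D K (τ j₀))⁻¹
  have hετ : ∀ i, ε * w i = ιE (u i) := by
    intro i
    have h1 : ιE (u j₀) * w i = ιE (u i) * w j₀ := by
      simp only [w, ← map_mul]
      rw [mul_comm (u j₀), mul_comm (u i), hcoc j₀ i]
    calc ε * w i = ιE (u j₀) * w i * ιK (algebraMap D K (τ j₀))⁻¹ := by simp only [ε]; ring
      _ = ιE (u i) * (w j₀ * ιK (algebraMap D K (τ j₀))⁻¹) := by rw [h1]; ring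
      _ = ιE (u i) := by rw [hwK, ← map_mul, mul_inv_cancel₀ (hτK j₀), map_one, mul_one]
  have hεidem : ε * (1 - ε) = 0 := by
    refine (((hwu j₀).pow 2).mul_left_eq_zero).mp ?_
    have h1 : ιE (u j₀) * (w j₀ - ιE (u j₀)) = 0 := by
      simp only [w, ← map_sub, ← map_mul]
      rw [huv, add_sub_cancel_left, hzero, map_zero]
    calc ε * (1 - ε) * w j₀ ^ 2 = ε * w j₀ * (w j₀ - ε * w j₀) := by ring
      _ = 0 := by rw [hετ]; exact h1
  let z : R := ε - ιK x
  have hzw : ∀ i, z * w i = ιE (u i - algebraMap D E (a₀ i)) := fun i => by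
    rw [sub_mul, hετ, map_sub, hwK, ← map_mul, hxτ, ιK.commutes, ιE.commutes]
  have hmemE : ∀ i, ∃ c : Fin r → E, (∀ j, c j ∈ maximalIdeal E) ∧
      algebraMap D E (τ i) * (u i - algebraMap D E (a₀ i)) = ∑ j, c j * algebraMap D E (τ j) ^ 2 := by
    intro i
    have h1 : algebraMap D E (τ i) * (u i - algebraMap D E (a₀ i)) ∈
        maximalIdeal E • Ideal.span (Set.range fun j => algebraMap D E (τ j) ^ 2) := by
      rw [smul_eq_mul]
      refine Ideal.mul_mem_left _ _ ?_
      have h2 := Ideal.map_mono (f := algebraMap D E) hN (hdiff i)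
      rw [Ideal.map_mul, hmax, Ideal.map_span, ← Set.range_comp] at h2
      simpa [Function.comp_def, map_pow] using h2
    obtain ⟨c, hc1, hc2⟩ := (Submodule.mem_ideal_smul_span_iff_exists_sum (maximalIdeal E)
      (fun j => algebraMap D E (τ j) ^ 2) _).mp h1
    refine ⟨fun j => c j, hc1, hc2.symm.trans ?_⟩
    rw [Finsupp.sum_fintype _ _ (by simp)]
    rfl
  choose ME hME hMEeq using hmemE
  obtain ⟨q, hqm, hq0, hqX⟩ := exists_monic (maximalIdeal E) (fun i => w i ^ 2) z (Matrix.of ME) hME j₀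
    ((hwu j₀).pow 2) fun i => by
      have e : z * w i ^ 2 = ιE (algebraMap D E (τ i) * (u i - algebraMap D E (a₀ i))) := by
        rw [map_mul, ← hzw i]; simp only [w]; ring
      rw [e, hMEeq i, map_sum]
      simp [w, map_pow, RingHom.algebraMap_toAlgebra]
  -- a finite `E`-subalgebra containing `ε`
  let C : Subalgebra E R := Algebra.adjoin E {ιK x, z}
  have : Module.Finite E C :=
    Algebra.finite_adjoin_of_finite_of_isIntegral (Set.toFinite _) fun y hy => by
      rcases hy with rfl | rfl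
      · exact ((hxint.map ιK)).tower_top
      · exact ⟨q, hqm, hq0⟩
  have : Algebra.IsIntegral E C := Algebra.IsIntegral.of_finite E C
  let Xc : C := ⟨ιK x, Algebra.subset_adjoin (Or.inl rfl)⟩
  let Zc : C := ⟨z, Algebra.subset_adjoin (Or.inr rfl)⟩
  let ec : C := Xc + Zc
  have hec : (ec : R) = ε := by change ιK x + (ε - ιK x) = ε; ring
  have hφmem : ∀ d : D', ιK d.1 ∈ C := by
    intro d
    have hle : D' ≤ (C.restrictScalars D).comap ιK := Algebra.adjoin_le fun y hy => by
      rw [Set.mem_singleton_iff.mp hy]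
      exact Algebra.subset_adjoin (Or.inl rfl)
    exact hle d.2
  let φ : D' →+* C := ((ιK.toRingHom.comp D'.val.toRingHom)).codRestrict C hφmem
  have hφX : φ X' = Xc := rfl
  have hP : ∀ (P : Ideal C), P.IsMaximal → Zc ∈ P ∧ ∀ d ∈ maximalIdeal D', φ d ∈ P := by
    intro P hPm
    have hPE : P.comap (algebraMap E C) = maximalIdeal E := by
      have := hPm
      refine eq_maximalIdeal ?_
      exact Ideal.isMaximal_comap_of_isIntegral_of_isMaximal (R := E) (S := C) P
    refine ⟨mem_of_root (maximalIdeal E) hqX ((injective_iff_map_eq_zero C.val).mp Subtype.val_injective _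
      ((Polynomial.aeval_algHom_apply C.val Zc q).symm.trans hq0)) P hPE.ge, ?_⟩
    have hp' : (P.comap φ).IsPrime := Ideal.comap_isPrime φ P
    have hmax' : (P.comap φ).IsMaximal := by
      refine Ideal.isMaximal_of_isIntegral_of_isMaximal_comap (R := D) _ ?_
      have : (P.comap φ).comap (algebraMap D D') = maximalIdeal D := by
        rw [← comap_maximalIdeal_eq D E hmax, ← hPE, Ideal.comap_comap, Ideal.comap_comap]
        congr 1
        refine RingHom.ext fun a => Subtype.ext ?_
        exact (ιK.commutes a).trans (ιE.commutes a).symm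
      exact this ▸ maximalIdeal.isMaximal D
    exact fun d hd => (eq_maximalIdeal hmax').ge hd
  have hεec : ec * (1 - ec) = 0 := Subtype.ext (by
    push_cast
    rw [hec]; exact hεidem)
  have hunit : ∀ b : C, (∀ P : Ideal C, P.IsMaximal → b ∈ P) → IsUnit (1 - b) := fun b hb => by
    by_contra h
    obtain ⟨P, hPm, hbP⟩ := exists_max_ideal_of_mem_nonunits h
    exact hPm.ne_top ((Ideal.eq_top_iff_one P).mpr (by
      have := add_mem hbP (hb P hPm)
      rwa [sub_add_cancel] at this))
  rcases (maximalIdeal.isMaximal D').isPrime.mem_or_mem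
      (show X' * (X' - 1) ∈ maximalIdeal D' by convert hy using 1; ring) with hx | hx
  · left
    have h1 : ec = 0 := (hunit ec fun P hPm => by
      rw [show ec = φ X' + Zc by rw [hφX]]
      exact add_mem ((hP P hPm).2 _ hx) (hP P hPm).1).mul_left_eq_zero.mp hεec
    intro i
    refine hιE ?_
    rw [map_zero, ← hετ i, ← hec, h1, Subalgebra.coe_zero, zero_mul]
  · right
    have h2 : 1 - ec = 0 := by
      have hu := hunit (1 - ec) fun P hPm => by
        have := add_mem ((hP P hPm).2 _ hx) (hP P hPm).1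
        rw [map_sub, map_one, hφX] at this
        have := neg_mem this
        convert this using 1
        simp only [ec]; ring
      rw [show (1 : C) - (1 - ec) = ec by ring] at hu
      exact hu.mul_right_eq_zero.mp hεec
    intro i
    refine hιE ?_
    have h3 : ε = 1 := by
      have h5 : ec = 1 := by linear_combination -h2
      rw [← hec, h5, Subalgebra.coe_one]
    have h4 : ιE (u i) = w i := by rw [← hετ i, h3, one_mul]
    rw [map_zero, show v i = algebraMap D E (τ i) - u i by rw [huv]; ring, map_sub, h4, sub_self]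

/-- The punctured spectrum over a henselian domain is preconnected. -/
theorem isPreconnected_punctured_of_isDomain [HenselianLocalRing D] [IsDomain D] [IsNoetherianRing D]
    [Module.Flat D E] (hmax : (maximalIdeal D).map (algebraMap D E) = maximalIdeal E)
    (hres : ∀ x : E, ∃ d, x - algebraMap D E d ∈ maximalIdeal E) :
    IsPreconnected ({closedPoint E}ᶜ : Set (PrimeSpectrum E)) := by
  classical
  rw [isPreconnected_closed_iff]
  intro t t' ht ht' hU ⟨p₁, hp₁, hp₁t⟩ ⟨p₂, hp₂, hp₂t⟩
  by_contra hne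
  rw [Set.not_nonempty_iff_eq_empty] at hne
  obtain ⟨I, rfl⟩ := (PrimeSpectrum.isClosed_iff_zeroLocus_ideal t).mp ht
  obtain ⟨J, rfl⟩ := (PrimeSpectrum.isClosed_iff_zeroLocus_ideal t').mp ht'
  -- generators of the maximal ideal
  obtain ⟨s, hs⟩ := (IsNoetherian.noetherian (maximalIdeal D))
  let s' := s.erase 0
  let t₀ : Fin s'.card → D := fun i => (s'.equivFin.symm i).1
  have ht₀ : ∀ i, t₀ i ≠ 0 := fun i => (Finset.mem_erase.mp (s'.equivFin.symm i).2).1
  have hspan : maximalIdeal D ≤ Ideal.span (Set.range t₀) := by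
    rw [← hs]
    refine Submodule.span_le.mpr fun a ha => ?_
    rcases eq_or_ne a 0 with rfl | ha0
    · exact zero_mem _
    · exact Ideal.subset_span ⟨s'.equivFin ⟨a, Finset.mem_erase.mpr ⟨ha0, ha⟩⟩, by simp [t₀]⟩
  have ht₀m : ∀ i, algebraMap D E (t₀ i) ∈ maximalIdeal E := fun i =>
    hmax ▸ Ideal.mem_map_of_mem _ (hs ▸ Ideal.subset_span (Finset.mem_of_mem_erase (s'.equivFin.symm i).2))
  have hcl : ∀ P : PrimeSpectrum E, I ≤ P.asIdeal → J ≤ P.asIdeal → P = closedPoint E := by
    intro P hI hJ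
    by_contra hP
    have : P ∈ ({closedPoint E}ᶜ : Set _) ∩ (PrimeSpectrum.zeroLocus I ∩ PrimeSpectrum.zeroLocus J) :=
      ⟨hP, hI, hJ⟩
    rw [hne] at this
    exact this.elim
  have hrad : ∀ i, algebraMap D E (t₀ i) ∈ (I ⊔ J).radical := fun i => by
    rw [Ideal.radical_eq_sInf, Submodule.mem_sInf]
    rintro P ⟨hle, hP⟩
    have := hcl ⟨P, hP⟩ (le_sup_left.trans hle) (le_sup_right.trans hle)
    rw [show P = maximalIdeal E from congrArg PrimeSpectrum.asIdeal this]
    exact ht₀m i
  choose e he using fun i => Ideal.mem_radical_iff.mp (hrad i)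
  choose u₁ hu₁ v₁ hv₁ huv₁ using fun i => Submodule.mem_sup.mp (he i)
  let I₁ := Ideal.span (Set.range u₁)
  let J₁ := Ideal.span (Set.range v₁)
  have hI₁ : I₁ ≤ I := Ideal.span_le.mpr (Set.range_subset_iff.mpr hu₁)
  have hJ₁ : J₁ ≤ J := Ideal.span_le.mpr (Set.range_subset_iff.mpr hv₁)
  have hnil : I₁ * J₁ ≤ nilradical E := by
    rw [nilradical_eq_sInf]
    refine le_sInf fun P (hP : P.IsPrime) => ?_
    by_cases h : (⟨P, hP⟩ : PrimeSpectrum E) = closedPoint E
    · rw [show P = maximalIdeal E from congrArg PrimeSpectrum.asIdeal h]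
      exact Ideal.mul_le_left.trans (hI₁.trans
        ((show I ≤ p₁.asIdeal from hp₁t).trans (le_maximalIdeal p₁.isPrime.ne_top)))
    · rcases hU (show (⟨P, hP⟩ : PrimeSpectrum E) ∈ ({closedPoint E}ᶜ : Set _) from h) with hI | hJ
      · exact Ideal.mul_le_left.trans (hI₁.trans hI)
      · exact Ideal.mul_le_right.trans (hJ₁.trans hJ)
  obtain ⟨n, hn⟩ := Ideal.exists_pow_le_of_le_radical_of_fg (I := I₁ * J₁) (J := ⊥)
    hnil ((Submodule.fg_span (Set.finite_range u₁)).mul (Submodule.fg_span (Set.finite_range v₁)))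
  let n' := n + 1
  have hn' : I₁ ^ n' * J₁ ^ n' = ⊥ := by
    rw [← mul_pow, eq_bot_iff]
    exact (Ideal.pow_le_pow_right (Nat.le_succ n)).trans hn
  have hτ2 : ∀ i, ∃ u ∈ I₁ ^ n', ∃ v ∈ J₁ ^ n',
      u + v = algebraMap D E (t₀ i ^ (e i * (2 * n'))) := by
    intro i
    rw [pow_mul, map_pow, map_pow, ← huv₁ i, add_pow, ← Submodule.mem_sup]
    refine Ideal.sum_mem _ fun m hm => ?_
    refine Ideal.mul_mem_right _ _ ?_
    rcases le_or_gt n' m with h | h
    · exact Submodule.mem_sup_left (Ideal.mul_mem_right _ _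
        (Ideal.pow_le_pow_right h (Ideal.pow_mem_pow (Ideal.subset_span ⟨i, rfl⟩ : u₁ i ∈ I₁) m)))
    · refine Submodule.mem_sup_right (Ideal.mul_mem_left _ _
        (Ideal.pow_le_pow_right ?_ (Ideal.pow_mem_pow (Ideal.subset_span ⟨i, rfl⟩ : v₁ i ∈ J₁) _)))
      omega
  choose u hu v hv huv using hτ2
  let τ : Fin s'.card → D := fun i => t₀ i ^ (e i * (2 * n'))
  have hτrad : maximalIdeal D ≤ (Ideal.span (Set.range τ)).radical := hspan.trans (Ideal.span_le.mpr (by
    rintro _ ⟨i, rfl⟩
    exact ⟨_, Ideal.subset_span ⟨i, rfl⟩⟩))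
  have hzero : ∀ i j, u i * v j = 0 := fun i j => by
    have := Ideal.mul_mem_mul (hu i) (hv j)
    rwa [hn', Ideal.mem_bot] at this
  -- conclude
  have key : ∀ (Q : PrimeSpectrum E), (∀ i, algebraMap D E (τ i) ∈ Q.asIdeal) → Q = closedPoint E := by
    intro Q hQ
    refine PrimeSpectrum.ext (le_antisymm (le_maximalIdeal Q.isPrime.ne_top) ?_)
    change maximalIdeal E ≤ _
    rw [← hmax, Ideal.map_le_iff_le_comap]
    refine hτrad.trans ((Ideal.IsPrime.radical_le_iff inferInstance).mpr ?_)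
    rw [Ideal.span_le]
    rintro _ ⟨i, rfl⟩
    exact hQ i
  have hn0 : n' ≠ 0 := Nat.succ_ne_zero n
  rcases trivial_split D E hmax hres τ (fun i => pow_ne_zero _ (ht₀ i)) hτrad u v (fun i => (huv i).symm) hzero with h | h
  · refine hp₂ (key p₂ fun i => ?_)
    rw [← huv i, h i, zero_add]
    exact hp₂t (hJ₁ (Ideal.pow_le_self hn0 (hv i)))
  · refine hp₁ (key p₁ fun i => ?_)
    rw [← huv i, h i, add_zero]
    exact hp₁t (hI₁ (Ideal.pow_le_self hn0 (hu i)))

/-- The punctured spectrum over a henselian ring is preconnected iff that of the ring is. -/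
theorem isPreconnected_punctured_iff [HenselianLocalRing D] [IsNoetherianRing D] [Module.Flat D E]
    (hmax : (maximalIdeal D).map (algebraMap D E) = maximalIdeal E)
    (hres : ∀ x : E, ∃ d, x - algebraMap D E d ∈ maximalIdeal E) :
    IsPreconnected ({closedPoint E}ᶜ : Set (PrimeSpectrum E)) ↔
      IsPreconnected ({closedPoint D}ᶜ : Set (PrimeSpectrum D)) := by
  classical
  have := faithfullyFlat D E hmax
  let π : PrimeSpectrum E → PrimeSpectrum D := PrimeSpectrum.comap (algebraMap D E)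
  have hπ : ∀ x, π x = closedPoint D ↔ x = closedPoint E := fun x => by
    refine ⟨fun h => PrimeSpectrum.ext (le_antisymm (le_maximalIdeal x.isPrime.ne_top) ?_), fun h => ?_⟩
    · change maximalIdeal E ≤ _
      rw [← hmax, Ideal.map_le_iff_le_comap]
      exact (congrArg PrimeSpectrum.asIdeal h).ge
    · exact h ▸ PrimeSpectrum.ext (comap_maximalIdeal_eq D E hmax)
  have hsurj : Function.Surjective π := PrimeSpectrum.comap_surjective_of_faithfullyFlat
  have himg : π '' ({closedPoint E}ᶜ) = ({closedPoint D}ᶜ : Set _) := by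
    ext y
    refine ⟨?_, fun hy => ?_⟩
    · rintro ⟨x, hx, rfl⟩
      exact fun h => hx ((hπ x).mp h)
    · obtain ⟨x, rfl⟩ := hsurj y
      exact ⟨x, fun h => hy ((hπ x).mpr h), rfl⟩
  refine ⟨fun h => himg ▸ h.image π (PrimeSpectrum.continuous_comap _).continuousOn, fun h => ?_⟩
  -- over an irreducible closed set
  have hG : ∀ p : Ideal D, p.IsPrime →
      IsPreconnected {x : PrimeSpectrum E | x ≠ closedPoint E ∧ p ≤ (π x).asIdeal} := by
    intro p hp
    let I := p.map (algebraMap D E)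
    have hI : I ≤ maximalIdeal E := (Ideal.map_mono (le_maximalIdeal hp.ne_top)).trans hmax.le
    have : Nontrivial (E ⧸ I) := Ideal.Quotient.nontrivial_iff.mpr fun h' =>
      (maximalIdeal.isMaximal E).ne_top (top_le_iff.mp (h' ▸ hI))
    have hloc : IsLocalRing (E ⧸ I) := IsLocalRing.of_surjective' (Ideal.Quotient.mk I) Ideal.Quotient.mk_surjective
    have : IsLocalRing (D ⧸ p) := IsLocalRing.of_surjective' (Ideal.Quotient.mk p) Ideal.Quotient.mk_surjective
    have : HenselianLocalRing (D ⧸ p) := Henselian.LocalRing.henselianLocalRing_of_isIntegral D _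
    have : Module.Flat (D ⧸ p) (E ⧸ I) :=
      Module.Flat.of_linearEquiv (R := D ⧸ p) (Algebra.TensorProduct.quotIdealMapEquivQuotTensor E p).toLinearEquiv
    have hmaxq : ∀ (R : Type u) [CommRing R] [IsLocalRing R] (a : Ideal R) [IsLocalRing (R ⧸ a)],
        (maximalIdeal R).map (Ideal.Quotient.mk a) = maximalIdeal (R ⧸ a) := fun R _ _ a _ =>
      IsLocalRing.map_maximalIdeal_of_surjective _ Ideal.Quotient.mk_surjective
    have hmax' : (maximalIdeal (D ⧸ p)).map (algebraMap (D ⧸ p) (E ⧸ I)) = maximalIdeal (E ⧸ I) := by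
      rw [← hmaxq D p, Ideal.map_map, show (algebraMap (D ⧸ p) (E ⧸ I)).comp (Ideal.Quotient.mk p) =
        (Ideal.Quotient.mk I).comp (algebraMap D E) from RingHom.ext fun a => rfl, ← Ideal.map_map, hmax,
        hmaxq E I]
    have hres' : ∀ x : E ⧸ I, ∃ d, x - algebraMap (D ⧸ p) (E ⧸ I) d ∈ maximalIdeal (E ⧸ I) := fun x => by
      obtain ⟨x, rfl⟩ := Ideal.Quotient.mk_surjective x
      obtain ⟨d, hd⟩ := hres x
      refine ⟨Ideal.Quotient.mk p d, ?_⟩
      rw [← hmaxq E I]
      exact (map_sub (Ideal.Quotient.mk I) x _) ▸ Ideal.mem_map_of_mem _ hd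
    have hc := (isPreconnected_punctured_of_isDomain (D ⧸ p) (E ⧸ I) hmax' hres').image
      (PrimeSpectrum.comap (Ideal.Quotient.mk I)) (PrimeSpectrum.continuous_comap _).continuousOn
    convert hc using 1
    have : (closedPoint (E ⧸ I)).asIdeal.IsMaximal := maximalIdeal.isMaximal _
    have hcp : ∀ y, PrimeSpectrum.comap (Ideal.Quotient.mk I) y = closedPoint E ↔
        y = closedPoint (E ⧸ I) := fun y => by
      rw [← (PrimeSpectrum.comap_injective_of_surjective _ Ideal.Quotient.mk_surjective).eq_iff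
        (b := closedPoint (E ⧸ I))]
      rw [show PrimeSpectrum.comap (Ideal.Quotient.mk I) (closedPoint (E ⧸ I)) = closedPoint E from
        PrimeSpectrum.ext (eq_maximalIdeal (Ideal.comap_isMaximal_of_surjective _ Ideal.Quotient.mk_surjective))]
    ext x
    refine ⟨fun ⟨hx, hpx⟩ => ?_, ?_⟩
    · have hxr : x ∈ Set.range (PrimeSpectrum.comap (Ideal.Quotient.mk I)) := by
        rw [range_comap_of_surjective _ _ Ideal.Quotient.mk_surjective, PrimeSpectrum.mem_zeroLocus,
          Ideal.mk_ker]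
        exact Ideal.map_le_iff_le_comap.mpr hpx
      obtain ⟨y, rfl⟩ := hxr
      exact ⟨y, fun hy => hx ((hcp y).mpr hy), rfl⟩
    · rintro ⟨y, hy, rfl⟩
      refine ⟨fun h' => hy ((hcp y).mp h'), fun a ha => ?_⟩
      change Ideal.Quotient.mk I (algebraMap D E a) ∈ y.asIdeal
      rw [Ideal.Quotient.eq_zero_iff_mem.mpr (Ideal.mem_map_of_mem _ ha)]
      exact zero_mem _
  rw [isPreconnected_closed_iff] at h ⊢
  intro t t' ht ht' hU h₁ h₂
  by_contra hne
  let G : Ideal D → Set (PrimeSpectrum E) := fun p => {x | x ≠ closedPoint E ∧ p ≤ (π x).asIdeal}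
  have hside : ∀ p ∈ minimalPrimes D, G p ⊆ t ∨ G p ⊆ t' := fun p hp => by
    by_contra hh
    push Not at hh
    obtain ⟨x, hx, hxt⟩ := Set.not_subset.mp hh.1
    obtain ⟨y, hy, hyt⟩ := Set.not_subset.mp hh.2
    obtain ⟨w, hw, hw'⟩ := isPreconnected_closed_iff.mp (hG p hp.1.1) t t' ht ht'
      (fun a ha => hU ha.1) ⟨y, hy, (hU hy.1).resolve_right hyt⟩ ⟨x, hx, (hU hx.1).resolve_left hxt⟩
    exact hne ⟨w, hw.1, hw'⟩
  have hfin : (minimalPrimes D).Finite := minimalPrimes.finite_of_isNoetherianRing D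
  let F : Set (PrimeSpectrum E) → Set (PrimeSpectrum D) := fun a =>
    ⋃ p ∈ {p ∈ minimalPrimes D | G p ⊆ a}, PrimeSpectrum.zeroLocus (p : Set D)
  have hFc : ∀ a, IsClosed (F a) := fun a =>
    (hfin.subset fun _ hp => hp.1).isClosed_biUnion fun p _ => PrimeSpectrum.isClosed_zeroLocus _
  have hmin : ∀ y : PrimeSpectrum D, ∃ p ∈ minimalPrimes D, p ≤ y.asIdeal := fun y =>
    Ideal.exists_minimalPrimes_le bot_le
  have hF : ∀ a b, (∀ x, x ∈ ({closedPoint E}ᶜ : Set _) → x ∈ a → x ∈ b → False) →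
      (∀ p ∈ minimalPrimes D, G p ⊆ a ∨ G p ⊆ b) →
      (({closedPoint E}ᶜ : Set _) ∩ a).Nonempty → (({closedPoint D}ᶜ : Set _) ∩ F a).Nonempty := by
    rintro a b hab hs ⟨x, hx, hxa⟩
    obtain ⟨p, hp, hpx⟩ := hmin (π x)
    exact ⟨π x, fun h' => hx ((hπ x).mp h'), Set.mem_biUnion (show p ∈ {p ∈ minimalPrimes D | G p ⊆ a} from
      ⟨hp, (hs p hp).resolve_right fun h' => hab x hx hxa (h' ⟨hx, hpx⟩)⟩) hpx⟩
  obtain ⟨y, hy, hy₁, hy₂⟩ := h (F t) (F t') (hFc t) (hFc t') (fun y hy => by
      obtain ⟨p, hp, hpy⟩ := hmin y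
      exact (hside p hp).imp (fun h' => Set.mem_biUnion (show p ∈ {p ∈ minimalPrimes D | G p ⊆ t} from ⟨hp, h'⟩) hpy)
        (fun h' => Set.mem_biUnion (show p ∈ {p ∈ minimalPrimes D | G p ⊆ t'} from ⟨hp, h'⟩) hpy))
    (hF t t' (fun x a b c => hne ⟨x, a, b, c⟩) hside h₁)
    (hF t' t (fun x a b c => hne ⟨x, a, c, b⟩) (fun p hp => (hside p hp).symm) h₂)
  obtain ⟨x, rfl⟩ := hsurj y
  obtain ⟨p, hp, hpy⟩ := Set.mem_iUnion₂.mp hy₁
  obtain ⟨q, hq, hqy⟩ := Set.mem_iUnion₂.mp hy₂
  have hx : x ≠ closedPoint E := fun h' => hy ((hπ x).mpr h')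
  exact hne ⟨x, hx, hp.2 ⟨hx, hpy⟩, hq.2 ⟨hx, hqy⟩⟩

end Groth.Agent.Lib.Unram.PuncturedHenselian
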