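import Groth.Agent.Lib.Unram.OneBranch
import Mathlib.RingTheory.ZariskisMainTheorem
import Mathlib.RingTheory.Ideal.KrullsHeightTheorem
import Mathlib.RingTheory.Ideal.MinimalPrime.Localization
import Mathlib.RingTheory.Localization.FractionRing
import Mathlib.RingTheory.IntegralClosure.IntegralRestrict
import Mathlib.RingTheory.KrullDimension.Basic

/-!
# Integrality of functions on the punctured spectrum

An element of the total ring of fractions of a reduced Noetherian local ring which is a section on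
the punctured spectrum is integral, provided all maximal ideals of the normalization over the closed
point have height at least two.
-/

set_option autoImplicit false

universe u

open IsLocalRing
open scoped nonZeroDivisors

namespace Groth.Agent.Lib.Unram.PuncturedIntegral

variable {A : Type u} [CommRing A] [IsNoetherianRing A] [IsLocalRing A]

/-- The maximal ideals of the normalization over the closed point have height at least two. -/
def HeightHyp (A : Type u) [CommRing A] [IsLocalRing A] : Prop :=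
  ∀ (m' : Ideal ↥(integralClosure A (FractionRing A))), m'.IsMaximal →
    m'.comap (algebraMap A ↥(integralClosure A (FractionRing A))) = maximalIdeal A → 2 ≤ m'.height

theorem mem_nonZeroDivisors_of_notMem_minimalPrimes [IsReduced A] {x : A}
    (hx : ∀ P ∈ minimalPrimes A, x ∉ P) : x ∈ A⁰ := by
  rw [mem_nonZeroDivisors_iff_right]
  intro c hc
  refine IsNilpotent.eq_zero (mem_nilradical.mp ((OneBranch.mem_nilradical_iff_forall A c).mpr
    fun P hP => ?_))
  exact (hP.1.1.mem_or_mem (show c * x ∈ P by rw [hc]; exact zero_mem _)).resolve_right (hx P hP)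

theorem exists_regular [IsReduced A] (hdim : HeightHyp A) : ∃ a ∈ maximalIdeal A, a ∈ A⁰ := by
  by_contra hne
  push Not at hne
  have hmin : maximalIdeal A ∈ minimalPrimes A := by
    have hsub : (maximalIdeal A : Set A) ⊆ ⋃ P ∈ minimalPrimes A, (P : Set A) := fun a ha => by
      by_contra h
      simp only [Set.mem_iUnion, not_exists] at h
      exact hne a ha (mem_nonZeroDivisors_of_notMem_minimalPrimes fun P hP => h P hP)
    obtain ⟨P, hP, hle⟩ := (Ideal.subset_union_prime_finite
      (Ideal.finite_minimalPrimes_of_isNoetherianRing A ⊥) (f := id) ⊥ ⊥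
      fun P hP _ _ => hP.1.1).mp hsub
    rwa [le_antisymm (le_maximalIdeal (hP.1.1.ne_top)) hle] at hP
  obtain ⟨m', hm', hcomap⟩ := Ideal.exists_ideal_over_maximal_of_isIntegral
    (S := ↥(integralClosure A (FractionRing A))) (maximalIdeal A) (by
      rw [(RingHom.injective_iff_ker_eq_bot _).mp ?_]
      · exact bot_le
      · exact (IsFractionRing.injective A (FractionRing A)).of_comp (f := Subtype.val))
  have : m'.height = 0 := by
    rw [Ideal.height_eq_zero_iff]
    refine ⟨⟨hm'.isPrime, bot_le⟩, fun Q hQ hle => ?_⟩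
    have := hQ.1
    have h1 : maximalIdeal A ≤ Q.comap (algebraMap A _) := by
      refine hmin.2 ⟨Ideal.comap_isPrime _ _, bot_le⟩ ?_
      exact le_maximalIdeal (Ideal.IsPrime.ne_top inferInstance)
    have h2 : Q.IsMaximal := Ideal.isMaximal_of_isIntegral_of_isMaximal_comap (R := A) Q
      ((le_antisymm (le_maximalIdeal (Ideal.IsPrime.ne_top inferInstance)) h1) ▸
        maximalIdeal.isMaximal A)
    exact (h2.eq_of_le hm'.ne_top hle).ge
  have := this ▸ hdim m' hm' hcomap
  simp at this

section Core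

variable {K : Type u} [CommRing K] [Algebra A K]

/-- The key step: the inverse of a unit section cuts out a height one point. -/
theorem exists_height_le_one (f g : K) (hfg : f * g = 1) (hnint : ¬ IsIntegral A f)
    (hf : ∀ a ∈ maximalIdeal A, ∃ (N : ℕ) (c : A), algebraMap A K a ^ N * f = algebraMap A K c)
    (a₀ : A) (ha₀ : a₀ ∈ maximalIdeal A) (ha₀u : IsUnit (algebraMap A K a₀)) :
    ∃ m' : Ideal ↥(integralClosure A K), m'.IsMaximal ∧
      m'.comap (algebraMap A ↥(integralClosure A K)) = maximalIdeal A ∧ m'.height ≤ 1 := by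
  classical
  let D := Algebra.adjoin A ({g} : Set K)
  have : Algebra.FiniteType A D :=
    (Subalgebra.fg_iff_finiteType _).mp ⟨{g}, by rw [Finset.coe_singleton]⟩
  have : IsNoetherianRing D := Algebra.FiniteType.isNoetherianRing A D
  let γ : D := ⟨g, Algebra.subset_adjoin rfl⟩
  have hregK : ∀ x : D, IsUnit (x : K) → x ∈ nonZeroDivisors ↥D := fun x hx => by
    rw [mem_nonZeroDivisors_iff_right]
    intro c hc
    exact Subtype.ext ((hx.mul_left_eq_zero).mp (congrArg Subtype.val hc))
  -- `γ` is not a unit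
  have hγ : ¬ IsUnit γ := by
    intro hu
    obtain ⟨φ, hφ⟩ := hu.exists_right_inv
    have hφf : (φ : K) = f := by
      have h1 : g * (φ : K) = 1 := congrArg Subtype.val hφ
      calc (φ : K) = f * g * φ := by rw [hfg, one_mul]
        _ = f := by rw [mul_assoc, h1, mul_one]
    apply hnint
    have hmem : f ∈ Algebra.adjoin A ({g} : Set K) := hφf ▸ φ.2
    rw [Algebra.adjoin_singleton_eq_range_aeval] at hmem
    obtain ⟨p, hp⟩ := hmem
    change Polynomial.aeval g p = f at hp
    let n := p.natDegree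
    refine ⟨Polynomial.X ^ (n + 1) - p.reflect n, ?_, ?_⟩
    · refine (Polynomial.monic_X_pow _).sub_of_left ?_
      rw [Polynomial.degree_X_pow]
      refine lt_of_le_of_lt Polynomial.degree_le_natDegree ?_
      exact_mod_cast Nat.lt_succ_of_le ((Polynomial.natDegree_reflect_le).trans (by simp [n]))
    · rw [← Polynomial.aeval_def, map_sub, map_pow, Polynomial.aeval_X, sub_eq_zero]
      let : Invertible f := ⟨g, by rw [mul_comm, hfg], hfg⟩
      have h := Polynomial.eval₂_reflect_mul_pow (algebraMap A K) f n p le_rfl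
      have hg : g = ⅟f := rfl
      rw [hg, Polynomial.aeval_def] at hp
      rw [Polynomial.aeval_def]
      have h2 : Polynomial.eval₂ (algebraMap A K) (⅟f) p * f ^ n =
          Polynomial.eval₂ (algebraMap A K) f (p.reflect n) := by
        have h3 := Polynomial.eval₂_reflect_mul_pow (algebraMap A K) f n (p.reflect n)
          ((Polynomial.natDegree_reflect_le).trans (by simp [n]))
        rwa [Polynomial.reflect_reflect] at h3
      rw [← h2, hp, pow_succ, mul_comm]
  -- a minimal prime over `γ`
  obtain ⟨M, hM, hγM⟩ := Ideal.exists_le_maximal (Ideal.span {γ})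
    (fun h => hγ (Ideal.span_singleton_eq_top.mp h))
  obtain ⟨n, hn, -⟩ := Ideal.exists_minimalPrimes_le (J := M) hγM
  have hnp : n.IsPrime := hn.1.1
  have hγn : γ ∈ n := hn.1.2 (Ideal.mem_span_singleton_self γ)
  have hover : ∀ Q : Ideal D, Q.IsPrime → γ ∈ Q → Q.comap (algebraMap A D) = maximalIdeal A := by
    intro Q hQ hγQ
    refine le_antisymm (le_maximalIdeal (Ideal.IsPrime.ne_top inferInstance)) fun a ha => ?_
    obtain ⟨N, c, hc⟩ := hf a ha
    have h1 : algebraMap A D a ^ N = algebraMap A D c * γ := Subtype.ext (by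
      change algebraMap A K a ^ N = algebraMap A K c * g
      rw [← hc, mul_assoc, hfg, mul_one])
    have h2 : algebraMap A D a ^ N ∈ Q := h1 ▸ Ideal.mul_mem_left _ _ hγQ
    exact hQ.mem_of_pow_mem N h2
  have hcomap := hover n hnp hγn
  -- every element is congruent to a constant
  have hgen : ∀ x : D, ∃ a : A, x - algebraMap A D a ∈ Ideal.span ({γ} : Set D) := by
    intro x
    obtain ⟨x, hx⟩ := x
    induction hx using Algebra.adjoin_induction with
    | mem y hy =>
      rw [Set.mem_singleton_iff] at hy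
      subst hy
      exact ⟨0, by rw [map_zero, sub_zero]; exact Ideal.mem_span_singleton_self γ⟩
    | algebraMap r => exact ⟨r, by
        rw [show (⟨algebraMap A K r, _⟩ : D) = algebraMap A D r from rfl, sub_self]
        exact zero_mem _⟩
    | add y z hy hz ihy ihz =>
      obtain ⟨a, ha⟩ := ihy
      obtain ⟨b, hb⟩ := ihz
      refine ⟨a + b, ?_⟩
      have := add_mem ha hb
      rw [map_add]
      convert this using 1
      rw [show (⟨y + z, _⟩ : D) = ⟨y, hy⟩ + ⟨z, hz⟩ from rfl]
      ring
    | mul y z hy hz ihy ihz =>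
      obtain ⟨a, ha⟩ := ihy
      obtain ⟨b, hb⟩ := ihz
      refine ⟨a * b, ?_⟩
      have := add_mem (Ideal.mul_mem_right (⟨z, hz⟩ : D) _ ha) (Ideal.mul_mem_left _ (algebraMap A D a) hb)
      rw [map_mul]
      convert this using 1
      rw [show (⟨y * z, _⟩ : D) = ⟨y, hy⟩ * ⟨z, hz⟩ from rfl]
      ring
  have hnmax : n.IsMaximal := by
    refine Ideal.isMaximal_iff.mpr ⟨fun h => hnp.ne_top ((Ideal.eq_top_iff_one n).mpr h),
      fun J x hnJ hxn hxJ => ?_⟩
    obtain ⟨a, ha⟩ := hgen x
    have han : x - algebraMap A D a ∈ n := hn.1.2 ha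
    have hau : IsUnit a := by
      by_contra h
      have hmem : algebraMap A D a ∈ n := hcomap.symm.le (show a ∈ maximalIdeal A from h)
      exact hxn (by simpa using add_mem han hmem)
    have : algebraMap A D a ∈ J := by simpa using sub_mem hxJ (hnJ han)
    exact (Ideal.eq_top_iff_one J).mp (Ideal.eq_top_of_isUnit_mem J this (hau.map _))
  have hht : n.height ≤ 1 := Ideal.height_le_one_of_isPrincipal_of_mem_minimalPrimes _ n hn
  have hmin : ∀ Q : Ideal D, Q.IsPrime → Q ≤ n → maximalIdeal A ≤ Q.comap (algebraMap A D) → Q = n := by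
    intro Q hQ hle hm
    by_contra hne
    have h0 : Q.height = 0 := by
      have := Ideal.height_strict_mono_of_isPrime (lt_of_le_of_ne hle hne)
      exact Order.lt_one_iff.mp (this.trans_le hht)
    exact Set.disjoint_left.mp (Ideal.disjoint_nonZeroDivisors_of_mem_minimalPrimes
      (Ideal.height_eq_zero_iff.mp h0)) (hm ha₀) (hregK _ ha₀u)
  have hqf : Algebra.QuasiFiniteAt A n := by
    let J := (maximalIdeal A).map (algebraMap A D)
    let others : Set (PrimeSpectrum D) := ⋃ P ∈ J.minimalPrimes \ {n}, PrimeSpectrum.zeroLocus (P : Set D)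
    have hcl : IsClosed others :=
      Set.Finite.isClosed_biUnion ((Ideal.finite_minimalPrimes_of_isNoetherianRing D J).subset
        Set.sdiff_subset) fun P _ => PrimeSpectrum.isClosed_zeroLocus _
    refine Algebra.QuasiFiniteAt.of_isOpen_singleton_fiber (⟨n, hnp⟩ : PrimeSpectrum D) ?_
    refine isOpen_induced_iff.mpr ⟨othersᶜ, hcl.isOpen_compl, ?_⟩
    ext ⟨Q, hQ⟩
    have hQm : Q.asIdeal.comap (algebraMap A D) = maximalIdeal A :=
      (congrArg PrimeSpectrum.asIdeal hQ).trans hcomap
    simp only [Set.mem_preimage, Set.mem_compl_iff, Set.mem_singleton_iff, Subtype.mk.injEq]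
    constructor
    · intro h
      obtain ⟨P, hP, hPQ⟩ := Ideal.exists_minimalPrimes_le (J := Q.asIdeal)
        (Ideal.map_le_iff_le_comap.mpr hQm.ge : J ≤ Q.asIdeal)
      have hPn : P = n := by
        by_contra hne
        exact h (Set.mem_biUnion (show P ∈ J.minimalPrimes \ {n} from ⟨hP, hne⟩) hPQ)
      exact PrimeSpectrum.ext (hnmax.eq_of_le Q.2.ne_top (hPn ▸ hPQ)).symm
    · rintro rfl h
      obtain ⟨P, hP, hPQ⟩ := Set.mem_iUnion₂.mp h
      exact hP.2 (hmin P hP.1.1.1 hPQ (Ideal.map_le_iff_le_comap.mp hP.1.1.2))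
  obtain ⟨r, hr, hrint, hx⟩ :=
    Algebra.zariskisMainProperty_iff.mp (Algebra.ZariskisMainProperty.of_finiteType (R := A) n)
  -- the intermediate ring
  let Ai := integralClosure A K
  let E : Subalgebra A K := Ai ⊓ D
  let : Algebra E Ai := (Subalgebra.inclusion (inf_le_left : E ≤ Ai)).toRingHom.toAlgebra
  have : IsScalarTower A E Ai := IsScalarTower.of_algebraMap_eq fun _ => rfl
  have : Algebra.IsIntegral A Ai := inferInstance
  have : Algebra.IsIntegral E Ai := Algebra.IsIntegral.tower_top (R := A)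
  let ιD : E →+* D := (Subalgebra.inclusion (inf_le_right : E ≤ D)).toRingHom
  let rE : E := ⟨(r : K), hrint.map D.val, r.2⟩
  have hxE : ∀ x : D, ∃ (k : ℕ) (e : E), ιD e = r ^ k * x := fun x => by
    obtain ⟨k, hk⟩ := hx x
    exact ⟨k, ⟨((r ^ k * x : D) : K), hk.map D.val, (r ^ k * x).2⟩, rfl⟩
  let c : Ideal E := n.comap ιD
  have hcp : c.IsPrime := Ideal.comap_isPrime _ _
  obtain ⟨m', -, hm', hm'c⟩ := Ideal.exists_ideal_over_prime_of_isIntegral c (⊥ : Ideal Ai) (by
    rw [← RingHom.ker_eq_comap_bot, (RingHom.injective_iff_ker_eq_bot (algebraMap E Ai)).mp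
      (Subalgebra.inclusion_injective (inf_le_left : E ≤ Ai))]
    exact bot_le)
  have hm'A : m'.comap (algebraMap A Ai) = maximalIdeal A := by
    rw [← hcomap, IsScalarTower.algebraMap_eq A E Ai, ← Ideal.comap_comap, hm'c, Ideal.comap_comap]
    rfl
  refine ⟨m', Ideal.isMaximal_of_isIntegral_of_isMaximal_comap (R := A) m'
    (hm'A ▸ maximalIdeal.isMaximal A), hm'A, ?_⟩
  by_contra hlt
  have h2 : ((2 : ℕ) : ℕ∞) ≤ Order.height (⟨m', hm'⟩ : PrimeSpectrum Ai) := by
    rw [← PrimeSpectrum.height_eq_orderHeight]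
    exact Order.add_one_le_of_lt (not_le.mp hlt)
  obtain ⟨l, hlast, hlen⟩ := Order.exists_series_of_le_height _ h2
  have hle : ∀ i, (l i).asIdeal ≤ m' := fun i => by
    have := l.monotone (Fin.le_last i)
    rw [show l (Fin.last l.length) = ⟨m', hm'⟩ from hlast] at this
    exact this
  have hrE : ∀ i, rE ∉ (l i).asIdeal.comap (algebraMap E Ai) := fun i h =>
    hr (show rE ∈ c from hm'c ▸ Ideal.comap_mono (hle i) h)
  let Js : ∀ i, Ideal D := fun i =>
    { carrier := {x | ∃ (k : ℕ) (e : E), ιD e = r ^ k * x ∧ algebraMap E Ai e ∈ (l i).asIdeal}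
      zero_mem' := ⟨0, 0, by simp, by simp⟩
      add_mem' := by
        rintro x y ⟨k, e, he, hei⟩ ⟨k', e', he', he'i⟩
        refine ⟨k + k', rE ^ k' * e + rE ^ k * e', ?_, ?_⟩
        · rw [map_add, map_mul, map_mul, map_pow, map_pow, show ιD rE = r from rfl, he, he']
          ring
        · rw [map_add, map_mul, map_mul]
          exact add_mem (Ideal.mul_mem_left _ _ hei) (Ideal.mul_mem_left _ _ he'i)
      smul_mem' := by
        rintro z x ⟨k, e, he, hei⟩
        obtain ⟨j, d, hd⟩ := hxE z
        refine ⟨j + k, d * e, ?_, ?_⟩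
        · rw [map_mul, hd, he, smul_eq_mul]; ring
        · rw [map_mul]; exact Ideal.mul_mem_left _ _ hei }
  have hJmem : ∀ i (e : E), ιD e ∈ Js i ↔ algebraMap E Ai e ∈ (l i).asIdeal := by
    intro i e
    refine ⟨?_, fun h => ⟨0, e, by simp, h⟩⟩
    rintro ⟨k, e', he', he'i⟩
    have heq : e' = rE ^ k * e := Subalgebra.inclusion_injective (inf_le_right : E ≤ D) (by
      change ιD e' = ιD (rE ^ k * e)
      rw [map_mul, map_pow]
      exact he')
    rw [heq, map_mul, map_pow] at he'i
    exact ((l i).2.mem_or_mem he'i).resolve_left fun h => hrE i ((l i).2.mem_of_pow_mem k h)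
  have hJn : ∀ i, Js i ≤ n := by
    rintro i x ⟨k, e, he, hei⟩
    have hec : ιD e ∈ n := show e ∈ c from hm'c ▸ hle i hei
    rw [he] at hec
    exact (hnp.mem_or_mem hec).resolve_left fun h => hr (hnp.mem_of_pow_mem k h)
  have hJprime : ∀ i, (Js i).IsPrime := fun i => by
    refine ⟨fun h => hnp.ne_top (top_le_iff.mp (h ▸ hJn i)), ?_⟩
    rintro x y ⟨k, e, he, hei⟩
    obtain ⟨a, ex, hex⟩ := hxE x
    obtain ⟨b, ey, hey⟩ := hxE y
    have heq : rE ^ (a + b) * e = rE ^ k * (ex * ey) :=
      Subalgebra.inclusion_injective (inf_le_right : E ≤ D) (by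
        change ιD (rE ^ (a + b) * e) = ιD (rE ^ k * (ex * ey))
        rw [map_mul, map_mul, map_mul, map_pow, map_pow, show ιD rE = r from rfl, he, hex, hey]
        ring)
    have hmem : algebraMap E Ai (rE ^ k * (ex * ey)) ∈ (l i).asIdeal := by
      rw [← heq, map_mul]; exact Ideal.mul_mem_left _ _ hei
    rw [map_mul, map_mul, map_pow] at hmem
    rcases (l i).2.mem_or_mem hmem with h | h
    · exact absurd ((l i).2.mem_of_pow_mem k h) (hrE i)
    · exact ((l i).2.mem_or_mem h).imp (fun h => ⟨a, ex, hex, h⟩) fun h => ⟨b, ey, hey, h⟩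
  have hJlt : ∀ i j, i < j → Js i < Js j := fun i j hij => by
    refine lt_of_le_of_ne ?_ fun heq => ?_
    · rintro x ⟨k, e, he, hei⟩
      exact ⟨k, e, he, (l.monotone hij.le : (l i).asIdeal ≤ (l j).asIdeal) hei⟩
    · obtain ⟨e, hej, hei⟩ := SetLike.exists_of_lt
        (Ideal.IsIntegral.comap_lt_comap (R := E) (l.strictMono hij : (l i).asIdeal < (l j).asIdeal))
      exact hei ((hJmem i e).mp (heq ▸ (hJmem j e).mpr hej))
  let l' : LTSeries (PrimeSpectrum D) :=
    LTSeries.mk l.length (fun i => ⟨Js i, hJprime i⟩) fun i j hij => hJlt i j hij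
  have h3 : ((l.length : ℕ) : ℕ∞) ≤ Order.height (⟨n, hnp⟩ : PrimeSpectrum D) :=
    Order.length_le_height (p := l') (show l'.last ≤ ⟨n, hnp⟩ from hJn _)
  rw [← PrimeSpectrum.height_eq_orderHeight, hlen] at h3
  have := h3.trans hht
  exact absurd this (by norm_num)

end Core

/-- Sections on the punctured spectrum are integral. -/
theorem isIntegral_of_punctured [IsReduced A] (hdim : HeightHyp A) (f : FractionRing A)
    (hf : ∀ a ∈ maximalIdeal A, ∃ (N : ℕ) (c : A),
      algebraMap A (FractionRing A) a ^ N * f = algebraMap A (FractionRing A) c) :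
    IsIntegral A f := by
  classical
  let K := FractionRing A
  obtain ⟨a₀, ha₀, ha₀r⟩ := exists_regular hdim
  obtain ⟨x, s, rfl⟩ := IsLocalization.exists_mk'_eq A⁰ f
  -- make `f` a unit
  have hfinm : (minimalPrimes A).Finite := Ideal.finite_minimalPrimes_of_isNoetherianRing A ⊥
  choose e he he' using fun (P : Ideal A) (hP : P ∈ minimalPrimes A) =>
    (OneBranch.exists_separating A hfinm hP).2
  let b : A := ∑ P ∈ hfinm.toFinset.attach.filter (fun P => x ∈ P.1),
    e P.1 (hfinm.mem_toFinset.mp P.2)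
  have hb : ∀ P ∈ minimalPrimes A, b ∈ P ↔ x ∉ P := by
    intro P hP
    constructor
    · intro hbP hxP
      let P' : {Q // Q ∈ hfinm.toFinset} := ⟨P, hfinm.mem_toFinset.mpr hP⟩
      have hmem : P' ∈ hfinm.toFinset.attach.filter (fun Q => x ∈ Q.1) :=
        Finset.mem_filter.mpr ⟨Finset.mem_attach _ _, hxP⟩
      refine he P hP ?_
      have h := Finset.add_sum_erase _ (fun Q : {Q // Q ∈ hfinm.toFinset} =>
        e Q.1 (hfinm.mem_toFinset.mp Q.2)) hmem
      have hrest : (∑ Q ∈ (hfinm.toFinset.attach.filter (fun Q => x ∈ Q.1)).erase P',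
          e Q.1 (hfinm.mem_toFinset.mp Q.2)) ∈ P :=
        P.sum_mem fun Q hQ => he' Q.1 (hfinm.mem_toFinset.mp Q.2) P hP fun heq =>
          (Finset.mem_erase.mp hQ).1 (Subtype.ext heq.symm)
      have h2 : b ∈ P := hbP
      rw [show b = _ from h.symm] at h2
      simpa using sub_mem h2 hrest
    · intro hxP
      exact P.sum_mem fun Q hQ => he' Q.1 (hfinm.mem_toFinset.mp Q.2) P hP fun heq =>
        hxP (heq ▸ (Finset.mem_filter.mp hQ).2)
  have hreg : x + s * b ∈ A⁰ := mem_nonZeroDivisors_of_notMem_minimalPrimes fun P hP hmem => by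
    have hsP : (s : A) ∉ P := fun h =>
      Set.disjoint_left.mp (Ideal.disjoint_nonZeroDivisors_of_mem_minimalPrimes hP) h s.2
    by_cases hxP : x ∈ P
    · have hbP : b ∈ P := (hP.1.1.mem_or_mem (by simpa using sub_mem hmem hxP)).resolve_left hsP
      exact (hb P hP).mp hbP hxP
    · have hbP : b ∈ P := (hb P hP).mpr hxP
      exact hxP (by simpa using sub_mem hmem (P.mul_mem_left (s : A) hbP))
  set f' : K := IsLocalization.mk' K x s + algebraMap A K b with hf'
  have hf'u : IsUnit f' := by
    have h : f' * algebraMap A K s = algebraMap A K (x + s * b) := by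
      rw [hf', add_mul, IsLocalization.mk'_spec, map_add, map_mul]; ring
    have hu := IsLocalization.map_units K (⟨x + s * b, hreg⟩ : A⁰)
    rw [← h] at hu
    exact isUnit_of_mul_isUnit_left hu
  suffices hint : IsIntegral A f' by
    have := hint.sub (isIntegral_algebraMap (R := A) (x := b))
    rwa [hf', add_sub_cancel_right] at this
  by_contra hnint
  obtain ⟨g, hfg⟩ := hf'u.exists_right_inv
  obtain ⟨m', hm', hm'A, hht⟩ := exists_height_le_one f' g hfg hnint (fun a ha => by
    obtain ⟨N, c, hc⟩ := hf a ha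
    exact ⟨N, c + a ^ N * b, by rw [hf', mul_add, hc, map_add, map_mul, map_pow]⟩)
    a₀ ha₀ (IsLocalization.map_units K (⟨a₀, ha₀r⟩ : A⁰))
  exact absurd ((hdim m' hm' hm'A).trans hht) (by norm_num)

end Groth.Agent.Lib.Unram.PuncturedIntegral
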