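import Groth.Agent.Lib.Unram.PuncturedIntegral
import Groth.Prelude.Def_FEt

/-!
# Sections on the punctured spectrum as elements of the normalization
-/

set_option autoImplicit false

universe u

open CategoryTheory AlgebraicGeometry Opposite IsLocalRing
open scoped nonZeroDivisors

namespace Groth.Agent.Lib.Unram.PuncturedSections

theorem result (A : Type u) [CommRing A] [IsNoetherianRing A]
    [IsLocalRing A] [IsReduced A] (hdim : PuncturedIntegral.HeightHyp A) :
    (((Spec (CommRingCat.of A)).presheaf.map (homOfLE (le_top : FEt.puncturedSpec A ≤ ⊤)).op).hom.comp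
        (Scheme.ΓSpecIso (CommRingCat.of A)).inv.hom).IsIntegral ∧
      ∃ φ : ↑((Spec (CommRingCat.of A)).presheaf.obj (op (FEt.puncturedSpec A))) →+*
          ↥(integralClosure A (FractionRing A)),
        Function.Injective φ ∧
          φ.comp (((Spec (CommRingCat.of A)).presheaf.map (homOfLE (le_top : FEt.puncturedSpec A ≤ ⊤)).op).hom.comp
            (Scheme.ΓSpecIso (CommRingCat.of A)).inv.hom) =
              algebraMap A ↥(integralClosure A (FractionRing A)) := by
  let X := Spec (CommRingCat.of A)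
  let K := FractionRing A
  let ι : A ≃+* Γ(X, ⊤) := (Scheme.ΓSpecIso (CommRingCat.of A)).commRingCatIsoToRingEquiv.symm
  let ψ : Γ(X, ⊤) →+* K := (algebraMap A K).comp ι.symm.toRingHom
  have hψι : ∀ c, ψ (ι c) = algebraMap A K c := fun c => congrArg (algebraMap A K) (ι.symm_apply_apply c)
  have hψinj : Function.Injective ψ := (IsFractionRing.injective A K).comp ι.symm.injective
  let U := FEt.puncturedSpec A
  let r : ∀ {V W : X.Opens}, V ≤ W → Γ(X, W) →+* Γ(X, V) :=
    fun h => (X.presheaf.map (homOfLE h).op).hom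
  have hrr : ∀ {V W T : X.Opens} (h : V ≤ W) (h' : W ≤ T) (t : Γ(X, T)),
      r h (r h' t) = r (h.trans h') t := fun h h' t => by
    change (X.presheaf.map _).hom ((X.presheaf.map _).hom t) = _
    rw [← CommRingCat.comp_apply, ← X.presheaf.map_comp]
    rfl
  have hmap : ∀ c ∈ maximalIdeal A, X.basicOpen (ι c) ≤ U := by
    intro c hc q hq
    have h1 : q ∈ X.basicOpen ((Scheme.ΓSpecIso (CommRingCat.of A)).inv.hom c) := hq
    rw [basicOpen_eq_of_affine (R := CommRingCat.of A) c] at h1
    exact fun hpt => h1 ((congrArg PrimeSpectrum.asIdeal hpt).ge hc)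
  have hle : ∀ f g : Γ(X, ⊤), X.basicOpen (f * g) ≤ X.basicOpen f ⊓ X.basicOpen g :=
    fun f g => (X.basicOpen_mul f g).le
  have hloc := fun f : Γ(X, ⊤) => (isAffineOpen_top X).isLocalization_basicOpen f
  have hsurj : ∀ (f : Γ(X, ⊤)) (t : Γ(X, X.basicOpen f)),
      ∃ (n : ℕ) (x : Γ(X, ⊤)), t * r le_top f ^ n = r le_top x := by
    intro f t
    have := hloc f
    obtain ⟨n, x, hx⟩ := IsLocalization.Away.surj f t
    exact ⟨n, x, hx⟩
  have hzero : ∀ (f x : Γ(X, ⊤)), r (le_top : X.basicOpen f ≤ ⊤) x = 0 → ∃ k, f ^ k * x = 0 := by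
    intro f x hx
    have := hloc f
    obtain ⟨k, hk⟩ := IsLocalization.Away.exists_of_eq (S := Γ(X, X.basicOpen f)) f (a := x) (b := 0)
      (show r le_top x = r le_top 0 by rw [hx]; exact (map_zero _).symm)
    exact ⟨k, by simpa using hk⟩
  obtain ⟨a₀, ha₀, ha₀r⟩ := PuncturedIntegral.exists_regular hdim
  let a : Γ(X, ⊤) := ι a₀
  have ha : ∀ (n : ℕ) (z : Γ(X, ⊤)), a ^ n * z = 0 → z = 0 := fun n z h => by
    apply ι.symm.injective
    rw [map_zero]
    refine mem_nonZeroDivisors_iff.mp (pow_mem ha₀r n) |>.1 _ ?_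
    have := congrArg ι.symm h
    rwa [map_mul, map_pow, ι.symm_apply_apply, map_zero] at this
  have hau : IsUnit (ψ a) := by
    rw [hψι]; exact IsLocalization.map_units K (⟨a₀, ha₀r⟩ : A⁰)
  have := hloc a
  let L : Γ(X, X.basicOpen a) →+* K := IsLocalization.Away.lift a (g := ψ) hau
  have hL : ∀ x, L (r le_top x) = ψ x := fun x => IsLocalization.Away.lift_eq a hau x
  let Φ : Γ(X, U) →+* K := L.comp (r (hmap a₀ ha₀))
  -- the values are sections on the punctured spectrum
  have hsec : ∀ (s : Γ(X, U)) (c : A), c ∈ maximalIdeal A →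
      ∃ (N : ℕ) (d : A), algebraMap A K c ^ N * Φ s = algebraMap A K d := by
    intro s c hc
    obtain ⟨n, x, hx⟩ := hsurj a (r (hmap a₀ ha₀) s)
    obtain ⟨m, y, hy⟩ := hsurj (ι c) (r (hmap c hc) s)
    let w := a * ι c
    have hwa : X.basicOpen w ≤ X.basicOpen a := (hle _ _).trans inf_le_left
    have hwc : X.basicOpen w ≤ X.basicOpen (ι c) := (hle _ _).trans inf_le_right
    have hx' := congrArg (r hwa) hx
    have hy' := congrArg (r hwc) hy
    rw [map_mul, map_pow, hrr, hrr, hrr] at hx' hy'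
    obtain ⟨k, hk⟩ := hzero w (x * ι c ^ m - y * a ^ n) (by
      rw [map_sub, map_mul, map_mul, map_pow, map_pow, ← hx', ← hy']
      ring)
    have hk' : ι c ^ k * (x * ι c ^ m - y * a ^ n) = 0 := ha k _ (by linear_combination hk)
    refine ⟨k + m, c ^ k * ι.symm y, ?_⟩
    have hΦ : Φ s * ψ a ^ n = ψ x := by
      have h := congrArg L hx
      rw [map_mul, map_pow, hL, hL] at h
      exact h
    have h2 := congrArg ψ hk'
    rw [map_mul, map_sub, map_mul, map_mul, map_pow, map_pow, map_pow, map_zero, hψι, ← hΦ] at h2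
    refine (hau.pow n).mul_right_cancel ?_
    rw [map_mul, map_pow, show algebraMap A K (ι.symm y) = ψ y from rfl, pow_add]
    linear_combination h2
  have hint : ∀ s, IsIntegral A (Φ s) := fun s =>
    PuncturedIntegral.isIntegral_of_punctured hdim (Φ s) fun c hc => hsec s c hc
  have hinj : Function.Injective Φ := by
    rw [injective_iff_map_eq_zero]
    intro s hs
    obtain ⟨n, x, hx⟩ := hsurj a (r (hmap a₀ ha₀) s)
    have hx0 : x = 0 := hψinj (by
      rw [← hL, ← hx, map_mul, show L (r (hmap a₀ ha₀) s) = 0 from hs, zero_mul, map_zero])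
    have hsa : r (hmap a₀ ha₀) s = 0 := by
      have hu : IsUnit (r (le_top : X.basicOpen a ≤ ⊤) a) :=
        IsLocalization.Away.algebraMap_isUnit (S := Γ(X, X.basicOpen a)) a
      rw [hx0, map_zero] at hx
      exact (hu.pow n).mul_left_eq_zero.mp hx
    refine TopCat.Sheaf.eq_of_locally_eq' X.sheaf
      (fun c : {c : Γ(X, ⊤) // X.basicOpen c ≤ U} => X.basicOpen c.1) U (fun c => homOfLE c.2)
      (fun p hp => ?_) _ _ fun c => ?_
    · obtain ⟨_, ⟨_, ⟨c, rfl⟩, rfl⟩, hpc, hc⟩ :=
        (isBasis_basicOpen X).exists_subset_of_mem_open (a := p) hp U.2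
      exact TopologicalSpace.Opens.mem_iSup.mpr ⟨⟨c, hc⟩, hpc⟩
    · obtain ⟨c, hc⟩ := c
      change r hc s = r hc 0
      rw [map_zero]
      obtain ⟨j, t, ht⟩ := hsurj c (r hc s)
      have hca : X.basicOpen (a * c) ≤ X.basicOpen a := (hle a c).trans inf_le_left
      have hcc : X.basicOpen (a * c) ≤ X.basicOpen c := (hle a c).trans inf_le_right
      obtain ⟨i, hi⟩ := hzero (a * c) t (by
        have h1 := congrArg (r hcc) ht
        rw [map_mul, hrr, hrr, ← hrr hca (hmap a₀ ha₀) s, hsa, map_zero, zero_mul] at h1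
        exact h1.symm)
      have hi' : c ^ i * t = 0 := ha i _ (by linear_combination hi)
      have := hloc c
      have hu : IsUnit (r (le_top : X.basicOpen c ≤ ⊤) c) :=
        IsLocalization.Away.algebraMap_isUnit (S := Γ(X, X.basicOpen c)) c
      have ht0 : r (le_top : X.basicOpen c ≤ ⊤) t = 0 :=
        (hu.pow i).mul_right_eq_zero.mp (by rw [← map_pow, ← map_mul, hi', map_zero])
      exact (hu.pow j).mul_left_eq_zero.mp (ht.trans ht0)
  have hcomp : ∀ c, Φ (r le_top (ι c)) = algebraMap A K c := fun c => by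
    change L (r (hmap a₀ ha₀) (r le_top (ι c))) = _
    rw [hrr, hL, hψι]
  refine ⟨fun s => ?_, Φ.codRestrict (integralClosure A K).toSubring hint, ?_,
    RingHom.ext fun c => Subtype.ext (hcomp c)⟩
  · obtain ⟨p, hp, hps⟩ := hint s
    refine ⟨p, hp, hinj ?_⟩
    rw [Polynomial.hom_eval₂, map_zero, ← hps]
    congr 1
    exact RingHom.ext hcomp
  · intro s t hst
    exact hinj (congrArg Subtype.val hst)

end Groth.Agent.Lib.Unram.PuncturedSections
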