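import Groth.Agent.Lib.Unram.UnibranchEtale
import Mathlib.AlgebraicGeometry.SpreadingOut
import Mathlib.AlgebraicGeometry.Morphisms.Separated
import Mathlib.AlgebraicGeometry.Morphisms.FormallyUnramified

/-!
# Rational sections of unramified separated morphisms at geometrically unibranch points
-/

set_option autoImplicit false

universe u

open CategoryTheory CategoryTheory.Limits AlgebraicGeometry IsLocalRing Opposite TopologicalSpace

namespace Groth.Agent.Lib.Unram.RationalSections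

/-- An unramified local algebra inside the fraction field of a geometrically unibranch domain is trivial. -/
theorem exists_retraction (A C : Type u) [CommRing A] [IsLocalRing A] [IsDomain A] [CommRing C]
    [IsLocalRing C] [Algebra A C] [IsLocalHom (algebraMap A C)] [Algebra.EssFiniteType A C]
    [Algebra.FormallyUnramified A C] (hA : CAlg2.IsGeomUnibranch A)
    (g : C →+* FractionRing A) (hg : g.comp (algebraMap A C) = algebraMap A (FractionRing A)) :
    ∃ r : C →+* A, r.comp (algebraMap A C) = RingHom.id A ∧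
      (algebraMap A (FractionRing A)).comp r = g := by
  let I := RingHom.ker g
  let B := C ⧸ I
  have : Nontrivial B := Ideal.Quotient.nontrivial_iff.mpr (RingHom.ker_ne_top g)
  have : IsLocalRing B := IsLocalRing.of_surjective' (Ideal.Quotient.mk I) Ideal.Quotient.mk_surjective
  have : IsLocalHom (Ideal.Quotient.mk I) := IsLocalHom.of_surjective _ Ideal.Quotient.mk_surjective
  have : IsLocalHom (algebraMap A B) := RingHom.isLocalHom_comp (Ideal.Quotient.mk I) (algebraMap A C)
  have : Algebra.EssFiniteType A B := Algebra.EssFiniteType.comp A C B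
  have : Algebra.FormallyUnramified A B :=
    Algebra.FormallyUnramified.of_surjective (Ideal.Quotient.mkₐ A I) Ideal.Quotient.mk_surjective
  let gb : B →+* FractionRing A := RingHom.kerLift g
  have hgb : ∀ a, gb (algebraMap A B a) = algebraMap A (FractionRing A) a := fun a => RingHom.congr_fun hg a
  have hgbi : Function.Injective gb := RingHom.kerLift_injective g
  have hinj : Function.Injective (algebraMap A B) := fun a b h =>
    IsFractionRing.injective A (FractionRing A) (by rw [← hgb, ← hgb, h])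
  have := UnibranchEtaleAlg.flat_of_injective A B hA hinj
  have : Module.FaithfullyFlat A B := Module.FaithfullyFlat.of_flat_of_isLocalHom
  have hsurj : Function.Surjective (algebraMap A B) := fun b => by
    obtain ⟨⟨a, s⟩, has⟩ := IsLocalization.surj (nonZeroDivisors A) (gb b)
    dsimp only at has
    rw [← hgb, ← hgb, ← map_mul] at has
    have has' := hgbi has
    obtain ⟨t, ht⟩ : ∃ t, t * (s : A) = a := by
      have h1 : a ∈ ((Ideal.span {(s : A)}).map (algebraMap A B)).comap (algebraMap A B) := by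
        rw [Ideal.mem_comap, Ideal.map_span, Set.image_singleton]
        exact Ideal.mem_span_singleton'.mpr ⟨b, has'⟩
      rw [Ideal.comap_map_eq_self_of_faithfullyFlat] at h1
      exact Ideal.mem_span_singleton'.mp h1
    refine ⟨t, hgbi ?_⟩
    rw [hgb]
    refine (IsLocalization.map_units (FractionRing A) s).mul_left_injective ?_
    change algebraMap A _ t * algebraMap A _ (s : A) = gb b * algebraMap A _ (s : A)
    rw [← map_mul, ht, ← hgb a, ← hgb (s : A), ← map_mul, has']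
  let e := RingEquiv.ofBijective (algebraMap A B) ⟨hinj, hsurj⟩
  refine ⟨e.symm.toRingHom.comp (Ideal.Quotient.mk I), RingHom.ext fun a => e.symm_apply_apply a,
    RingHom.ext fun c => ?_⟩
  change algebraMap A _ (e.symm (Ideal.Quotient.mk I c)) = g c
  rw [← hgb, show algebraMap A B (e.symm (Ideal.Quotient.mk I c)) = Ideal.Quotient.mk I c from
    e.apply_symm_apply _]
  rfl

variable {X Y : Scheme.{u}}

/-- Near a unibranch point of a reduced scheme with locally finitely many components there is a single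
generic point. -/
theorem exists_nhd [IsReduced Y]
    (hcomp : LocallyFinite (fun Z : ↥(irreducibleComponents ↥Y) => (Z : Set ↥Y)))
    (y : Y) (hy : CAlg2.IsGeomUnibranch (Y.presheaf.stalk y)) :
    ∃ (_ : IsDomain (Y.presheaf.stalk y)) (V₀ : Y.Opens), y ∈ V₀ ∧
      ∀ z ∈ V₀, Y.fromSpecStalk y ⟨⊥, Ideal.isPrime_bot⟩ ⤳ z := by
  have hd : IsDomain (CAlg2.red (Y.presheaf.stalk y)) := hy.1.1
  have hnp := (Ideal.Quotient.isDomain_iff_prime _).mp hd
  rw [nilradical_eq_zero] at hnp
  have : (⊥ : Ideal (Y.presheaf.stalk y)).IsPrime := hnp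
  have hdom : IsDomain (Y.presheaf.stalk y) := IsDomain.of_bot_isPrime _
  let S := {Z : ↥(irreducibleComponents ↥Y) | y ∉ (Z : Set ↥Y)}
  have hC : IsClosed (⋃ Z : S, ((Z.1 : ↥(irreducibleComponents ↥Y)) : Set ↥Y)) :=
    (hcomp.comp_injective Subtype.val_injective).isClosed_iUnion fun Z =>
      isClosed_of_mem_irreducibleComponents _ Z.1.2
  refine ⟨hdom, ⟨_, hC.isOpen_compl⟩, fun h => ?_, fun z hz => ?_⟩
  · obtain ⟨Z, hZ⟩ := Set.mem_iUnion.mp h
    exact Z.2 hZ
  · have hyZ : y ∈ irreducibleComponent z := by_contra fun h => hz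
      (Set.mem_iUnion.mpr ⟨⟨⟨_, irreducibleComponent_mem_irreducibleComponents z⟩, h⟩, mem_irreducibleComponent⟩)
    obtain ⟨ζ, hζ⟩ := QuasiSober.sober (S := irreducibleComponent z) isIrreducible_irreducibleComponent
      isClosed_irreducibleComponent
    obtain ⟨P, rfl⟩ : ζ ∈ Set.range (Y.fromSpecStalk y) := by
      rw [Scheme.range_fromSpecStalk]
      exact hζ.specializes hyZ
    have h : (⟨⊥, Ideal.isPrime_bot⟩ : PrimeSpectrum (Y.presheaf.stalk y)) ⤳ P :=
      (PrimeSpectrum.le_iff_specializes _ _).mp (bot_le (α := Ideal _))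
    exact (h.map (Y.fromSpecStalk y).continuous).trans (hζ.specializes mem_irreducibleComponent)

/-- A rational section extends to every geometrically unibranch point in the closure of its image. -/
theorem exists_section [IsReduced Y]
    (hcomp : LocallyFinite (fun Z : ↥(irreducibleComponents ↥Y) => (Z : Set ↥Y)))
    (f : X ⟶ Y) [IsSeparated f] [LocallyOfFiniteType f] [FormallyUnramified f]
    (U : Y.Opens) (hU : Dense (U : Set ↥Y)) (u : (U : Scheme.{u}) ⟶ X) (hu : u ≫ f = U.ι)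
    (x : X) (hy : CAlg2.IsGeomUnibranch (Y.presheaf.stalk (f x))) (hx : x ∈ closure (Set.range u)) :
    ∃ (V : Y.Opens) (v : (V : Scheme.{u}) ⟶ X) (hV : f x ∈ V), v ≫ f = V.ι ∧
      Y.homOfLE (inf_le_left : U ⊓ V ≤ U) ≫ u = Y.homOfLE (inf_le_right : U ⊓ V ≤ V) ≫ v ∧
      v ⟨f x, hV⟩ = x := by
  obtain ⟨hdom, V₀, hyV₀, hV₀⟩ := exists_nhd hcomp (f x) hy
  let A := Y.presheaf.stalk (f x)
  let K : CommRingCat.{u} := CommRingCat.of (FractionRing A)
  let j : A ⟶ K := CommRingCat.ofHom (algebraMap A (FractionRing A))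
  let α : Spec K ⟶ Y := Spec.map j ≫ Y.fromSpecStalk (f x)
  let η := Y.fromSpecStalk (f x) ⟨⊥, Ideal.isPrime_bot⟩
  have hα : ∀ p, α p = η := fun p => by
    refine congrArg (Y.fromSpecStalk (f x)) (PrimeSpectrum.ext ?_)
    change p.asIdeal.comap (algebraMap A (FractionRing A)) = ⊥
    rw [show p.asIdeal = ⊥ from ((Ideal.eq_bot_or_top p.asIdeal).resolve_right p.isPrime.ne_top),
      ← RingHom.ker_eq_comap_bot]
    exact (RingHom.injective_iff_ker_eq_bot _).mp (IsFractionRing.injective A _)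
  obtain ⟨z₀, hz₀V, hz₀U⟩ := hU.inter_open_nonempty _ V₀.2 ⟨_, hyV₀⟩
  have hηU : η ∈ U := (hV₀ z₀ hz₀V).mem_open U.2 hz₀U
  have hrangeα : Set.range α ⊆ Set.range U.ι := by
    rintro _ ⟨p, rfl⟩
    rw [Scheme.Opens.range_ι, hα]
    exact hηU
  let σ₀ : Spec K ⟶ U := IsOpenImmersion.lift U.ι α hrangeα
  have hσ₀ : σ₀ ≫ U.ι = α := IsOpenImmersion.lift_fac _ _ _
  let σ : Spec K ⟶ X := σ₀ ≫ u
  have hσ : σ ≫ f = α := by rw [Category.assoc, hu, hσ₀]
  -- the generic point of the section specializes to `x`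
  have hζx : σ (closedPoint K) ⤳ x := by
    refine specializes_iff_forall_open.mpr fun O hO hxO => ?_
    obtain ⟨_, ⟨hwO, hwV⟩, w, rfl⟩ := mem_closure_iff.mp hx (O ∩ (f ⁻¹ᵁ V₀ : Set X))
      (hO.inter (f ⁻¹ᵁ V₀).2) ⟨hxO, hyV₀⟩
    have hw : f (u w) = w.1 := by
      rw [← Scheme.Hom.comp_apply, hu]
      rfl
    have h1 : σ₀ (closedPoint K) ⤳ w := by
      refine U.ι.isOpenEmbedding.isInducing.specializes_iff.mp ?_
      rw [← Scheme.Hom.comp_apply, hσ₀, hα]
      exact hV₀ _ (show w.1 ∈ V₀ from hw ▸ hwV)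
    exact (h1.map u.continuous).mem_open hO hwO
  let g : X.presheaf.stalk x ⟶ K := X.presheaf.stalkSpecializes hζx ≫ Scheme.stalkClosedPointTo σ
  have hg : Spec.map g ≫ X.fromSpecStalk x = σ := by
    rw [Spec.map_comp, Category.assoc, Scheme.SpecMap_stalkSpecializes_fromSpecStalk,
      Scheme.Spec_stalkClosedPointTo_fromSpecStalk]
  have hgc : f.stalkMap x ≫ g = j := by
    apply Spec.map_injective
    rw [← cancel_mono (Y.fromSpecStalk _), Spec.map_comp, Category.assoc,
      Scheme.SpecMap_stalkMap_fromSpecStalk, ← Category.assoc, hg, hσ]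
  obtain ⟨r, hr, hrg⟩ : ∃ r : X.presheaf.stalk x →+* A, r.comp (f.stalkMap x).hom = RingHom.id A ∧
      (algebraMap A (FractionRing A)).comp r = g.hom := by
    have hun := FormallyUnramified.stalkMap f x
    let : Algebra A (X.presheaf.stalk x) := (f.stalkMap x).hom.toAlgebra
    have : Algebra.FormallyUnramified A (X.presheaf.stalk x) := hun
    have : IsLocalHom (algebraMap A (X.presheaf.stalk x)) :=
      inferInstanceAs <| IsLocalHom (f.stalkMap x).hom
    have : Algebra.EssFiniteType A (X.presheaf.stalk x) := LocallyOfFiniteType.stalkMap f x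
    exact exists_retraction A _ hy g.hom (congrArg CommRingCat.Hom.hom hgc)
  let φ : X.presheaf.stalk x ⟶ A := CommRingCat.ofHom r
  have hφ : f.stalkMap x ≫ φ = 𝟙 A := CommRingCat.hom_ext hr
  have hv₀ : (Spec.map φ ≫ X.fromSpecStalk x) ≫ f = Y.fromSpecStalk (f x) ≫ 𝟙 Y := by
    rw [Category.assoc, ← Scheme.SpecMap_stalkMap_fromSpecStalk, ← Category.assoc, ← Spec.map_comp, hφ,
      Spec.map_id, Category.id_comp, Category.comp_id]
  -- germ injectivity
  have : IsIntegral (V₀ : Scheme.{u}) := by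
    have : IrreducibleSpace (V₀ : Scheme.{u}) := by
      have : Nonempty (V₀ : Scheme.{u}) := ⟨⟨_, hyV₀⟩⟩
      have hηV₀ : η ∈ V₀ := (hV₀ _ hyV₀).mem_open V₀.2 hyV₀
      have : IsIrreducible (V₀ : Set Y) := ⟨⟨_, hyV₀⟩, fun O₁ O₂ h₁ h₂ ⟨a, haV, ha⟩ ⟨b, hbV, hb⟩ =>
        ⟨η, hηV₀, (hV₀ a haV).mem_open h₁ ha, (hV₀ b hbV).mem_open h₂ hb⟩⟩
      exact Subtype.irreducibleSpace this
    exact isIntegral_of_irreducibleSpace_of_isReduced _
  have : Y.IsGermInjectiveAt (f x) :=
    (isGermInjectiveAt_iff_of_isOpenImmersion (f := V₀.ι) (x := ⟨f x, hyV₀⟩)).mpr inferInstance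
  obtain ⟨V₁, hV₁, v₁, hφv, hv₁⟩ := spread_out_of_isGermInjective' (𝟙 Y) f _ hv₀
  let V := V₁ ⊓ V₀
  have hyV : f x ∈ V := ⟨hV₁, hyV₀⟩
  refine ⟨V, Y.homOfLE inf_le_left ≫ v₁, hyV, ?_, ?_, ?_⟩
  · rw [Category.assoc, hv₁, Category.comp_id, Scheme.homOfLE_ι]
  · set W := U ⊓ V
    have hηV₁ : η ∈ V₁ := (hV₀ _ hyV₀).mem_open V₁.2 hV₁
    have hηW : η ∈ W := ⟨hηU, hηV₁, (hV₀ _ hyV₀).mem_open V₀.2 hyV₀⟩
    have hrangeW : Set.range α ⊆ Set.range W.ι := by
      rintro _ ⟨p, rfl⟩
      rw [Scheme.Opens.range_ι, hα]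
      exact hηW
    let ι : Spec K ⟶ W := IsOpenImmersion.lift W.ι α hrangeW
    have hι : ι ≫ W.ι = α := IsOpenImmersion.lift_fac _ _ _
    have : IsDominant ι := by
      refine ⟨dense_iff_inter_open.mpr fun O hO hne => ?_⟩
      obtain ⟨w, hw⟩ := hne
      refine ⟨ι (closedPoint K), (?_ : ι (closedPoint K) ⤳ w).mem_open hO hw, ⟨_, rfl⟩⟩
      refine W.ι.isOpenEmbedding.isInducing.specializes_iff.mp ?_
      rw [← Scheme.Hom.comp_apply, hι, hα]
      exact hV₀ _ w.2.2.2
    refine ext_of_isDominant_of_isSeparated f ?_ ι ?_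
    · rw [Category.assoc, Category.assoc, Category.assoc, hu, hv₁, Category.comp_id,
        Scheme.homOfLE_ι, Scheme.homOfLE_ι, Scheme.homOfLE_ι]
    · have e1 : ι ≫ Y.homOfLE (inf_le_left : U ⊓ V ≤ U) = σ₀ := by
        rw [← cancel_mono U.ι, Category.assoc, Scheme.homOfLE_ι, hι, hσ₀]
      have e2 : ι ≫ Y.homOfLE (inf_le_right : U ⊓ V ≤ V) ≫ Y.homOfLE (inf_le_left : V ≤ V₁) =
          Spec.map j ≫ V₁.fromSpecStalkOfMem (f x) hV₁ := by
        rw [← cancel_mono V₁.ι, Category.assoc, Category.assoc, Category.assoc, Scheme.homOfLE_ι,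
          Scheme.homOfLE_ι, hι, Scheme.Opens.fromSpecStalkOfMem_ι]
      calc ι ≫ Y.homOfLE (inf_le_left : U ⊓ V ≤ U) ≫ u = σ := by rw [← Category.assoc, e1]
        _ = Spec.map j ≫ Spec.map φ ≫ X.fromSpecStalk x := by
          rw [← hg, ← Category.assoc, ← Spec.map_comp]
          congr 2
          exact CommRingCat.hom_ext hrg.symm
        _ = ι ≫ Y.homOfLE (inf_le_right : U ⊓ V ≤ V) ≫ Y.homOfLE inf_le_left ≫ v₁ := by
          rw [hφv, ← Category.assoc, ← e2]
          simp only [Category.assoc]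
  · have hc : V₁.fromSpecStalkOfMem (f x) hV₁ (closedPoint A) = ⟨f x, hV₁⟩ := by
      refine V₁.ι.isOpenEmbedding.injective ?_
      rw [← Scheme.Hom.comp_apply, Scheme.Opens.fromSpecStalkOfMem_ι, Scheme.fromSpecStalk_closedPoint]
      rfl
    have : IsLocalHom r := IsLocalHom.of_surjective r fun a => ⟨_, RingHom.congr_fun hr a⟩
    rw [Scheme.Hom.comp_apply, show Y.homOfLE inf_le_left ⟨f x, hyV⟩ = ⟨f x, hV₁⟩ from by
      refine V₁.ι.isOpenEmbedding.injective ?_
      rw [← Scheme.Hom.comp_apply, Scheme.homOfLE_ι]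
      rfl, ← hc, ← Scheme.Hom.comp_apply, ← hφv, Scheme.Hom.comp_apply,
      show Spec.map φ (closedPoint A) = closedPoint (X.presheaf.stalk x) from comap_closedPoint r,
      Scheme.fromSpecStalk_closedPoint]

/-- A rational section extends to a geometrically unibranch point if images of irreducible closed sets
are closed. -/
theorem exists_section_of_closed [IsReduced Y]
    (hcomp : LocallyFinite (fun Z : ↥(irreducibleComponents ↥Y) => (Z : Set ↥Y)))
    (f : X ⟶ Y) [IsSeparated f] [LocallyOfFiniteType f] [FormallyUnramified f]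
    (U : Y.Opens) (hU : Dense (U : Set ↥Y)) (u : (U : Scheme.{u}) ⟶ X) (hu : u ≫ f = U.ι)
    (hcl : ∀ T : Set ↥X, IsClosed T → IsIrreducible T → IsClosed (f '' T))
    (y : Y) (hy : CAlg2.IsGeomUnibranch (Y.presheaf.stalk y)) :
    (closure (Set.range u) ∩ f ⁻¹' {y}).Nonempty := by
  obtain ⟨hdom, V₀, hyV₀, hV₀⟩ := exists_nhd hcomp y hy
  let η := Y.fromSpecStalk y ⟨⊥, Ideal.isPrime_bot⟩
  obtain ⟨z₀, hz₀V, hz₀U⟩ := hU.inter_open_nonempty _ V₀.2 ⟨_, hyV₀⟩
  have hηU : η ∈ U := (hV₀ z₀ hz₀V).mem_open U.2 hz₀U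
  let ζ := u ⟨η, hηU⟩
  have hζ : f ζ = η := by
    change f (u ⟨η, hηU⟩) = η
    rw [← Scheme.Hom.comp_apply, hu]
    rfl
  have h := hcl (closure {ζ}) isClosed_closure isIrreducible_singleton.closure
  obtain ⟨x, hx, hxy⟩ : y ∈ f '' closure {ζ} :=
    (hV₀ y hyV₀).mem_closed h ⟨ζ, subset_closure rfl, hζ⟩
  exact ⟨x, closure_mono (Set.singleton_subset_iff.mpr (Set.mem_range_self (f := u) _)) hx, hxy⟩

/-- The image of a maximal rational section over a unibranch base is open and closed. -/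
theorem isClopen_range [IsReduced Y]
    (hcomp : LocallyFinite (fun Z : ↥(irreducibleComponents ↥Y) => (Z : Set ↥Y)))
    (f : X ⟶ Y) [IsSeparated f] [LocallyOfFiniteType f] [FormallyUnramified f]
    (U : Y.Opens) (hU : Dense (U : Set ↥Y)) (u : (U : Scheme.{u}) ⟶ X) (hu : u ≫ f = U.ι)
    (hY : ∀ y : Y, CAlg2.IsGeomUnibranch (Y.presheaf.stalk y))
    (hmax : ∀ (V : Y.Opens) (v : (V : Scheme.{u}) ⟶ X), v ≫ f = V.ι →
      Y.homOfLE (inf_le_left : U ⊓ V ≤ U) ≫ u = Y.homOfLE (inf_le_right : U ⊓ V ≤ V) ≫ v → V ≤ U) :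
    IsOpen (Set.range u) ∧ IsClosed (Set.range u) := by
  refine ⟨?_, ?_⟩
  · have : (@IsOpenImmersion : MorphismProperty Scheme.{u}).HasOfPostcompProperty
        (MorphismProperty.diagonal @IsOpenImmersion) :=
      MorphismProperty.hasOfPostcompProperty_iff_le_diagonal.mpr le_rfl
    have hd : IsOpenImmersion (pullback.diagonal f) := inferInstance
    have : IsOpenImmersion u := MorphismProperty.of_postcomp (W := @IsOpenImmersion)
      (W' := MorphismProperty.diagonal @IsOpenImmersion) u f hd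
      (show IsOpenImmersion (u ≫ f) by rw [hu]; infer_instance)
    exact u.isOpenEmbedding.isOpen_range
  · refine isClosed_of_closure_subset fun x hx => ?_
    obtain ⟨V, v, hV, hvf, heq, hvx⟩ := exists_section hcomp f U hU u hu x (hY _) hx
    have hxU : f x ∈ U := hmax V v hvf heq hV
    refine ⟨⟨f x, hxU⟩, ?_⟩
    let w : ↥(U ⊓ V : Y.Opens) := ⟨f x, hxU, hV⟩
    have h1 : Y.homOfLE (inf_le_left : U ⊓ V ≤ U) w = ⟨f x, hxU⟩ := by
      refine U.ι.isOpenEmbedding.injective ?_
      rw [← Scheme.Hom.comp_apply, Scheme.homOfLE_ι]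
      rfl
    have h2 : Y.homOfLE (inf_le_right : U ⊓ V ≤ V) w = ⟨f x, hV⟩ := by
      refine V.ι.isOpenEmbedding.injective ?_
      rw [← Scheme.Hom.comp_apply, Scheme.homOfLE_ι]
      rfl
    rw [← h1, ← Scheme.Hom.comp_apply, heq, Scheme.Hom.comp_apply, h2, hvx]

end Groth.Agent.Lib.Unram.RationalSections
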