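import Groth.Agent.Lib.Unram.UnibranchEtaleAlg
import Groth.Agent.Lib.Unram.GeomCount
import Groth.Agent.Lib.Unram.BaseChangeNhd
import Groth.Agent.Lib.Unram.FinitePartNhd
import Groth.Agent.Lib.Unram.Radicial
import Groth.Agent.Lib.Henselian.FinitePart
import Groth.Agent.Lib.Henselian.Finite
import Groth.Prelude.Def_ResDeg
import Mathlib.AlgebraicGeometry.ZariskisMainTheorem

/-!
# The separable degree of fibres over geometrically unibranch points
-/

set_option autoImplicit false

universe u

open CategoryTheory CategoryTheory.Limits AlgebraicGeometry IsLocalRing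
open scoped TensorProduct

namespace Groth.Agent.Lib.Unram.SepDegreeBound

open Groth.Agent.H54.GeomLift
open Henselian.StrictHenselization (StrictHenselization)

theorem eq_of_le_maximal {A B : Type u} [CommRing A] [HenselianLocalRing A] [CommRing B]
    [Algebra A B] [Module.Finite A B] (P n n' : Ideal B) [P.IsPrime] [hn : n.IsMaximal]
    [hn' : n'.IsMaximal] (h : P ≤ n) (h' : P ≤ n') : n = n' := by
  classical
  by_contra hne
  obtain ⟨e, he⟩ := (Henselian.Finite.toPiLocalization_bijective (A := A) (B := B)).2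
    (Pi.single (⟨n, hn⟩ : MaximalSpectrum B) 1)
  have h1 : algebraMap B (Localization.AtPrime n) e = 1 := by
    have := congrFun he ⟨n, hn⟩
    rw [Pi.single_eq_same] at this
    exact this
  have h2 : algebraMap B (Localization.AtPrime n') e = 0 := by
    have := congrFun he ⟨n', hn'⟩
    rw [Pi.single_eq_of_ne (fun heq => hne (congrArg MaximalSpectrum.asIdeal heq).symm)] at this
    exact this
  obtain ⟨⟨c, hc⟩, hce⟩ := (IsLocalization.map_eq_zero_iff n'.primeCompl _ e).mp h2
  have he' : e ∈ P := ((Ideal.IsPrime.mem_or_mem ‹P.IsPrime›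
    (show c * e ∈ P from (show c * e = 0 from hce) ▸ P.zero_mem)).resolve_left fun hcP => hc (h' hcP))
  have h3 : ¬ IsUnit (algebraMap B (Localization.AtPrime n) e) := fun hu =>
    (IsLocalization.AtPrime.isUnit_to_map_iff (Localization.AtPrime n) n e).mp hu (h he')
  exact h3 (h1 ▸ isUnit_one)

theorem eq_of_specializes_finite {R : Type u} [CommRing R] [HenselianLocalRing R] {Z : Scheme.{u}}
    (g : Z ⟶ Spec (CommRingCat.of R)) [IsFinite g] {ζ w w' : Z} (hw : g w = closedPoint R)
    (hw' : g w' = closedPoint R) (h : ζ ⤳ w) (h' : ζ ⤳ w') : w = w' := by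
  have : IsAffine Z := isAffine_of_isAffineHom g
  let e := Z.isoSpec
  obtain ⟨φ, hφ⟩ := Spec.map_surjective (e.inv ≫ g)
  have hfin : φ.hom.Finite := by
    rw [← IsFinite.SpecMap_iff, hφ]
    infer_instance
  let : Algebra R Γ(Z, ⊤) := φ.hom.toAlgebra
  have : Module.Finite R Γ(Z, ⊤) := hfin
  apply (ConcreteCategory.bijective_of_isIso e.hom.base).1
  have hP : ∀ z, g z = closedPoint R → (e.hom z).asIdeal.IsMaximal := fun z hz => by
    refine Ideal.isMaximal_of_isIntegral_of_isMaximal_comap (R := R) _ ?_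
    have h0 : (e.inv ≫ g) (e.hom z) = closedPoint R := by
      rw [← Scheme.Hom.comp_apply, Iso.hom_inv_id_assoc, hz]
    rw [← hφ] at h0
    have h1 : (e.hom z).asIdeal.comap φ.hom = maximalIdeal R := congrArg PrimeSpectrum.asIdeal h0
    exact (show (e.hom z).asIdeal.comap (algebraMap R Γ(Z, ⊤)) = maximalIdeal R from h1) ▸
      maximalIdeal.isMaximal R
  have := hP w hw
  have := hP w' hw'
  exact PrimeSpectrum.ext (eq_of_le_maximal (A := R) (e.hom ζ).asIdeal (e.hom w).asIdeal
    (e.hom w').asIdeal ((PrimeSpectrum.le_iff_specializes _ _).mpr (h.map e.hom.continuous))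
    ((PrimeSpectrum.le_iff_specializes _ _).mpr (h'.map e.hom.continuous)))

/-- Over a henselian local ring, points of the closed fibre of a separated quasi-finite scheme have
no common generization. -/
theorem eq_of_specializes {R : Type u} [CommRing R] [HenselianLocalRing R] {X : Scheme.{u}}
    (f : X ⟶ Spec (CommRingCat.of R)) [LocallyQuasiFinite f] [LocallyOfFiniteType f] [IsSeparated f]
    {ζ w w' : X} (hw : f w = closedPoint R) (hw' : f w' = closedPoint R) (h : ζ ⤳ w) (h' : ζ ⤳ w') :
    w = w' := by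
  obtain ⟨_, ⟨V, hV, rfl⟩, hwV, -⟩ :=
    X.isBasis_affineOpens.exists_subset_of_mem_open (Set.mem_univ w) isOpen_univ
  obtain ⟨_, ⟨V', hV', rfl⟩, hwV', -⟩ :=
    X.isBasis_affineOpens.exists_subset_of_mem_open (Set.mem_univ w') isOpen_univ
  let U : X.Opens := V ⊔ V'
  have : CompactSpace ↥U := isCompact_iff_compactSpace.mp (by
    rw [TopologicalSpace.Opens.coe_sup]; exact hV.isCompact.union hV'.isCompact)
  have : QuasiCompact (U.ι ≫ f) := HasAffineProperty.iff_of_isAffine.mpr this
  obtain ⟨W, ⟨-, hfin, hW⟩, -⟩ := Henselian.FinitePart.existsUnique_finitePart (U.ι ≫ f)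
  let a : U := ⟨w, Or.inl hwV⟩
  let a' : U := ⟨w', Or.inr hwV'⟩
  have ha : (U.ι ≫ f) a = closedPoint R := hw
  have ha' : (U.ι ≫ f) a' = closedPoint R := hw'
  let z : U := ⟨ζ, h.mem_open U.isOpen (Or.inl hwV)⟩
  have hz : z ⤳ a := U.ι.isOpenEmbedding.isInducing.specializes_iff.mp h
  have hz' : z ⤳ a' := U.ι.isOpenEmbedding.isInducing.specializes_iff.mp h'
  let b : W := ⟨a, hW a ha⟩
  let b' : W := ⟨a', hW a' ha'⟩
  let c : W := ⟨z, hz.mem_open W.isOpen (hW a ha)⟩
  have := eq_of_specializes_finite (W.ι ≫ U.ι ≫ f) (ζ := c) (w := b) (w' := b') ha ha'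
    (W.ι.isOpenEmbedding.isInducing.specializes_iff.mp hz)
    (W.ι.isOpenEmbedding.isInducing.specializes_iff.mp hz')
  exact congrArg (fun x : W => x.1.1) this

/-- The strict henselization of a geometrically unibranch local domain is a domain. -/
theorem isDomain_strict (O : Type u) [CommRing O] [IsLocalRing O] [IsDomain O]
    (hO : CAlg2.IsGeomUnibranch O) : IsDomain (StrictHenselization O) := by
  obtain ⟨P, hP⟩ := (UnibranchEtaleAlg.minimalPrimes_strict_subsingleton_iff O).mpr hO
  have : IsReduced (StrictHenselization O) :=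
    (Henselian.Permanence.strict_isReduced_iff O (StrictHenselization O)).mp inferInstance
  have hPp : P.IsPrime := (show P ∈ minimalPrimes (StrictHenselization O) from hP ▸ rfl).1.1
  have hbot : P = ⊥ := by
    rw [← Ideal.zero_eq_bot, ← nilradical_eq_zero (StrictHenselization O)]
    refine Eq.symm (Ideal.ext fun x => ?_)
    rw [OneBranch.mem_nilradical_iff_forall, hP]
    simp
  have : (⊥ : Ideal (StrictHenselization O)).IsPrime := hbot ▸ hPp
  exact IsDomain.of_bot_isPrime _

theorem eq_bot_of_comap_eq_bot (O : Type u) [CommRing O] [IsLocalRing O] [IsDomain O]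
    [IsDomain (StrictHenselization O)] (P : Ideal (StrictHenselization O))
    (hP : P.comap (algebraMap O (StrictHenselization O)) = ⊥) : P = ⊥ := by
  classical
  rw [eq_bot_iff]
  intro x hx
  by_contra hx0
  obtain ⟨E, _, _, hE, v, hv⟩ := IndEtale.Basic.exists_lift
    (IndEtale.Basic.factors (Henselian.IndEtale.isIndEtale_lim : EtPBC.IsIndEtale O (StrictHenselization O)))
    {x}
  have : Algebra.Etale O E := hE
  obtain ⟨e, rfl⟩ := hv (Finset.mem_coe.mpr (Finset.mem_singleton_self x))
  have : Module.FaithfullyFlat O (StrictHenselization O) :=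
    Henselian.StrictHenselization.faithfullyFlat O (StrictHenselization O)
  have hinj : Function.Injective (algebraMap O (StrictHenselization O)) :=
    FaithfulSMul.algebraMap_injective O _
  let K := FractionRing O
  let L := FractionRing (StrictHenselization O)
  have : FaithfulSMul O L := (faithfulSMul_iff_algebraMap_injective O L).mpr (by
    rw [IsScalarTower.algebraMap_eq O (StrictHenselization O) L]
    exact (IsFractionRing.injective (StrictHenselization O) L).comp hinj)
  let : Algebra K L := FractionRing.liftAlgebra O L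
  have : Module.Finite K (K ⊗[O] E) := Algebra.FormallyUnramified.finite_of_free K _
  let χ : K ⊗[O] E →ₐ[K] L :=
    Algebra.TensorProduct.lift (Algebra.ofId K L)
      ((IsScalarTower.toAlgHom O (StrictHenselization O) L).comp v) fun _ _ => Commute.all _ _
  have h1 : IsIntegral K (χ (1 ⊗ₜ e)) := (Algebra.IsIntegral.isIntegral _).map χ
  have h2 : χ (1 ⊗ₜ e) = algebraMap (StrictHenselization O) L (v e) := by
    change Algebra.TensorProduct.lift _ _ _ ((1 : K) ⊗ₜ[O] e) = _
    rw [Algebra.TensorProduct.lift_tmul, map_one, one_mul]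
    rfl
  rw [h2] at h1
  have halg : IsAlgebraic O (v e) := (isAlgebraic_algebraMap_iff (IsFractionRing.injective _ L)).mp
    ((IsFractionRing.isAlgebraic_iff O K L).mpr h1.isAlgebraic)
  obtain ⟨a, ha, hdvd⟩ := halg.exists_nonzero_dvd (mem_nonZeroDivisors_of_ne_zero hx0)
  exact ha (by
    have : a ∈ P.comap (algebraMap O (StrictHenselization O)) :=
      Ideal.mem_comap.mpr (Ideal.mem_of_dvd P hdvd hx)
    rwa [hP] at this)

/-- Comparison of the geometric fibres at a geometrically unibranch point and at the generic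
point. -/
theorem card_lift_le {X Y : Scheme.{u}} [IsIntegral Y] (f : X ⟶ Y) [LocallyQuasiFinite f]
    [LocallyOfFiniteType f] [IsSeparated f]
    (hgen : ∀ x : X, ∃ ζ : X, ζ ⤳ x ∧ f ζ = genericPoint Y)
    (y : Y) (hy : CAlg2.IsGeomUnibranch (Y.presheaf.stalk y))
    {k k' : Type u} [Field k] [IsAlgClosed k] [Field k'] [IsAlgClosed k']
    (ξ : Spec (CommRingCat.of k) ⟶ Y) (hξ : pt ξ = y)
    (ξ' : Spec (CommRingCat.of k') ⟶ Y) (hξ' : pt ξ' = genericPoint Y) [Finite (Lift f ξ')] :
    Finite (Lift f ξ) ∧ Nat.card (Lift f ξ) ≤ Nat.card (Lift f ξ') := by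
  let O := Y.presheaf.stalk y
  have : IsDomain (StrictHenselization O) := isDomain_strict O hy
  let S := StrictHenselization O
  have hS : Hensel.IsStrictHenselization O S := inferInstance
  have := hS.isSepClosure.sep_closed
  have : Module.FaithfullyFlat O S := Henselian.StrictHenselization.faithfullyFlat O S
  have : IsLocalHom (algebraMap O S) := inferInstance
  let a : Spec (CommRingCat.of S) ⟶ Spec O := Spec.map (CommRingCat.ofHom (algebraMap O S))
  let p : Spec (CommRingCat.of S) ⟶ Y := a ≫ Y.fromSpecStalk y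
  have : Flat a := by
    rw [HasRingHomProperty.Spec_iff (P := @Flat)]
    exact (RingHom.flat_algebraMap_iff (R := O) (S := S)).mpr inferInstance
  have : Flat (Y.fromSpecStalk y) := BaseChangeNhd.flat_fromSpecStalk y
  have : Flat p := inferInstance
  have hpc : p (closedPoint S) = y := by
    have h0 : a (closedPoint S) = closedPoint O := IsLocalRing.comap_closedPoint (algebraMap O S)
    rw [Scheme.Hom.comp_apply, h0, Scheme.fromSpecStalk_closedPoint]
  let g₀ : Spec (CommRingCat.of S) := (⟨⊥, Ideal.isPrime_bot⟩ : PrimeSpectrum S)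
  have hinj : Function.Injective (algebraMap O S) := FaithfulSMul.algebraMap_injective O S
  have hgy : genericPoint Y ∈ Set.range (Y.fromSpecStalk y) := by
    rw [Scheme.range_fromSpecStalk]
    exact genericPoint_specializes y
  have hpg : p g₀ = genericPoint Y := by
    obtain ⟨q, hq⟩ := hgy
    have h0 : a g₀ ⤳ q := by
      refine (PrimeSpectrum.le_iff_specializes (a g₀ : PrimeSpectrum O) q).mp ?_
      intro x hx
      have h1 : algebraMap O S x = 0 := Ideal.mem_bot.mp hx
      rw [(injective_iff_map_eq_zero _).mp hinj x h1]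
      exact zero_mem _
    have h1 := h0.map (Y.fromSpecStalk y).continuous
    rw [hq] at h1
    exact (h1.antisymm (genericPoint_specializes _)).eq
  have hbot : ∀ P : Spec (CommRingCat.of S), p P = genericPoint Y → P = g₀ := by
    intro P hP
    refine PrimeSpectrum.ext (eq_bot_of_comap_eq_bot O P.asIdeal ?_)
    have h1 : a P = a g₀ := (Y.fromSpecStalk y).isEmbedding.injective
      (hP.trans hpg.symm)
    have h2 : P.asIdeal.comap (algebraMap O S) = (⊥ : Ideal S).comap (algebraMap O S) :=
      congrArg PrimeSpectrum.asIdeal h1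
    rw [h2, ← RingHom.ker_eq_comap_bot, (RingHom.injective_iff_ker_eq_bot _).mp hinj]
  let fT : pullback f p ⟶ Spec (CommRingCat.of S) := pullback.snd f p
  have hc : IsPullback (pullback.fst f p) fT f p := IsPullback.of_hasPullback f p
  have : LocallyQuasiFinite fT := MorphismProperty.pullback_snd _ _ ‹LocallyQuasiFinite f›
  have : Flat (pullback.fst f p) := inferInstance
  have hz : ∀ w : ↥(pullback f p), ∃ z, z ⤳ w ∧ fT z = g₀ := fun w => by
    obtain ⟨ζ, hζ, hfζ⟩ := hgen (pullback.fst f p w)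
    obtain ⟨z, hzw, hzζ⟩ := Flat.generalizingMap (pullback.fst f p) hζ
    refine ⟨z, hzw, hbot _ ?_⟩
    rw [← Scheme.Hom.comp_apply, ← pullback.condition, Scheme.Hom.comp_apply, hzζ, hfζ]
  choose z hzw hzg using hz
  -- geometric points of `S`
  let K := AlgebraicClosure (ResidueField S)
  let ρ : Spec (CommRingCat.of (ResidueField S)) ⟶ Spec (CommRingCat.of S) :=
    Spec.map (CommRingCat.ofHom (residue S))
  let χ₀ : Spec (CommRingCat.of K) ⟶ Spec (CommRingCat.of (ResidueField S)) :=
    Spec.map (CommRingCat.ofHom (algebraMap (ResidueField S) K))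
  have hχ₀ : pt (χ₀ ≫ ρ) = closedPoint S := by
    rw [pt_comp, Subsingleton.elim (α := PrimeSpectrum (ResidueField S)) (pt χ₀) (closedPoint _)]
    exact IsLocalRing.comap_closedPoint (residue S)
  obtain ⟨K', _, _, χ', hχ'⟩ := exists_pt_eq g₀
  have eη : Finite (Lift fT χ') ∧ Nat.card (Lift fT χ') = Nat.card (Lift f ξ') := by
    have h1 : ENat.card (Lift f (χ' ≫ p)) = ENat.card (Lift f ξ') :=
      GeomCount.card_lift_congr f _ _ (by rw [pt_comp, hχ', hpg, hξ'])
    have h2 := ENat.card_congr (baseChangeEquiv hc χ')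
    have h3 : ENat.card (Lift fT χ') < ⊤ := by
      rw [h2, h1]; exact ENat.card_lt_top.mpr inferInstance
    have : Finite (Lift fT χ') := ENat.card_lt_top.mp h3
    refine ⟨this, ?_⟩
    have h4 := h2.trans h1
    rw [ENat.card_eq_coe_natCard, ENat.card_eq_coe_natCard] at h4
    exact_mod_cast h4
  have := eη.1
  -- lifts at the closed point inject into lifts at the generic point
  have : IsClosedImmersion ρ :=
    IsClosedImmersion.spec_of_surjective _ residue_surjective
  let q : pullback fT ρ ⟶ Spec (CommRingCat.of (ResidueField S)) := pullback.snd fT ρ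
  have hcq : IsPullback (pullback.fst fT ρ) q fT ρ := IsPullback.of_hasPullback fT ρ
  have : LocallyQuasiFinite q := MorphismProperty.pullback_snd _ _ ‹LocallyQuasiFinite fT›
  have hptinj : Function.Injective fun s : Lift fT (χ₀ ≫ ρ) => pt s.1 := by
    intro s t hst
    obtain ⟨s, rfl⟩ := (baseChangeEquiv hcq χ₀).surjective s
    obtain ⟨t, rfl⟩ := (baseChangeEquiv hcq χ₀).surjective t
    refine congrArg _ ((GeomCount.bijective_pt q).1 ?_)
    exact (pullback.fst fT ρ).isClosedEmbedding.injective hst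
  have hlift : ∀ s : Lift fT (χ₀ ≫ ρ), ∃ t : Lift fT χ', pt t.1 = z (pt s.1) := fun s =>
    exists_lift fT χ' _ ((hzg _).trans hχ'.symm)
  choose F hF using hlift
  have hFinj : Function.Injective F := by
    intro s t hst
    apply hptinj
    have hz' : z (pt s.1) = z (pt t.1) := by rw [← hF s, ← hF t, hst]
    exact eq_of_specializes fT ((apply_pt s).trans hχ₀) ((apply_pt t).trans hχ₀)
      (hzw (pt s.1)) (hz' ▸ hzw (pt t.1))
  have : Finite (Lift fT (χ₀ ≫ ρ)) := Finite.of_injective F hFinj
  have h5 : ENat.card (Lift fT (χ₀ ≫ ρ)) = ENat.card (Lift f ξ) :=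
    (ENat.card_congr (baseChangeEquiv hc (χ₀ ≫ ρ))).trans
      (GeomCount.card_lift_congr f _ _ (by rw [pt_comp, hχ₀, hpc, hξ]))
  have : Finite (Lift f ξ) := ENat.card_lt_top.mp (h5 ▸ ENat.card_lt_top.mpr inferInstance)
  refine ⟨this, ?_⟩
  rw [ENat.card_eq_coe_natCard, ENat.card_eq_coe_natCard] at h5
  rw [← show Nat.card (Lift fT (χ₀ ≫ ρ)) = Nat.card (Lift f ξ) by exact_mod_cast h5, ← eη.2]
  exact Nat.card_le_card_of_injective F hFinj

theorem finsum_residueSepDegree {X Y : Scheme.{u}} (f : X ⟶ Y) [LocallyQuasiFinite f] {k : Type u}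
    [Field k] [IsAlgClosed k] (ξ : Spec (CommRingCat.of k) ⟶ Y) [Finite (Lift f ξ)] :
    (∑ᶠ u ∈ f ⁻¹' {pt ξ}, EGA4loc.residueSepDegree f u) = Nat.card (Lift f ξ) := by
  classical
  have : Finite {u : X // f u = pt ξ} := (finite_fibre f ξ).to_subtype
  let := Fintype.ofFinite {u : X // f u = pt ξ}
  let a : Lift f ξ → {u : X // f u = pt ξ} := fun s => ⟨pt s.1, apply_pt s⟩
  have hb : ∀ u : {u : X // f u = pt ξ}, Finite {s : Lift f ξ // a s = u} := fun u => inferInstance
  rw [finsum_mem_def, ← finsum_mem_def, ← Nat.card_congr (Equiv.sigmaFiberEquiv a), Nat.card_sigma,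
    ← finsum_set_coe_eq_finsum_mem (f ⁻¹' {pt ξ})]
  refine (finsum_eq_sum_of_fintype (α := {u : X // f u = pt ξ})
    (fun u => EGA4loc.residueSepDegree f u.1)).trans (Finset.sum_congr rfl fun u _ => ?_)
  rw [Nat.card_congr (Equiv.subtypeEquivRight
    (fun s => (Subtype.ext_iff : a s = u ↔ pt s.1 = u.1)))]
  exact (card_pt_eq f ξ u.1 u.2).2.2.symm

theorem residueSepDegree_ι_comp {X Y : Scheme.{u}} (f : X ⟶ Y) (U : X.Opens) (u : U) :
    EGA4loc.residueSepDegree (U.ι ≫ f) u = EGA4loc.residueSepDegree f (U.ι u) := by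
  change H54.FibreIntegral.sepDeg ((U.ι ≫ f).residueFieldMap u).hom =
    H54.FibreIntegral.sepDeg (f.residueFieldMap (U.ι u)).hom
  rw [Scheme.residueFieldMap_comp]
  exact H54.FibreIntegral.sepDeg_comp_bijective _ _ (Radicial.bijective_residueFieldMap U.ι u)

theorem residueSepDegree_le {X Y : Scheme.{u}} (f : X ⟶ Y) [LocallyOfFiniteType f] (x : X)
    (hx : f.QuasiFiniteAt x) : EGA4loc.residueSepDegree f x ≤ EGA4loc.residueDegree f x := by
  let u : f.quasiFiniteLocus := ⟨x, hx⟩
  have h1 := residueFieldMap_finite (f.quasiFiniteLocus.ι ≫ f) u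
  rw [Scheme.residueFieldMap_comp] at h1
  let e := RingEquiv.ofBijective (f.quasiFiniteLocus.ι.residueFieldMap u).hom
    (Radicial.bijective_residueFieldMap f.quasiFiniteLocus.ι u)
  have h2 : (f.residueFieldMap x).hom.Finite := by
    have h3 := (RingHom.Finite.of_surjective e.symm.toRingHom e.symm.surjective).comp h1
    have heq : e.symm.toRingHom.comp
        (f.residueFieldMap x ≫ f.quasiFiniteLocus.ι.residueFieldMap u).hom =
        (f.residueFieldMap x).hom := RingHom.ext fun r => e.symm_apply_apply _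
    exact heq ▸ h3
  let := (f.residueFieldMap x).hom.toAlgebra
  have : Module.Finite (Y.residueField (f x)) (X.residueField x) := h2
  exact Field.finSepDegree_le_finrank _ _

theorem exists_generization {X Y : Scheme.{u}} (f : X ⟶ Y) [IsIntegral Y]
    (hdom : ∀ Z ∈ irreducibleComponents ↥X, genericPoint Y ∈ f.base '' Z) (x : X) :
    ∃ ζ : X, ζ ⤳ x ∧ f ζ = genericPoint Y := by
  obtain ⟨Z, hZ, hxZ⟩ := exists_mem_irreducibleComponents_subset_of_isIrreducible {x}
    isIrreducible_singleton
  obtain ⟨z, hz, hfz⟩ := hdom Z hZ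
  obtain ⟨ζ, hζ⟩ := QuasiSober.sober hZ.1 (isClosed_of_mem_irreducibleComponents Z hZ)
  refine ⟨ζ, hζ.specializes (hxZ rfl), ?_⟩
  have h1 := (hζ.specializes hz).map f.continuous
  rw [show f z = genericPoint Y from hfz] at h1
  exact (h1.antisymm (genericPoint_specializes _)).eq

theorem bound {X Y : Scheme.{u}} (f : X ⟶ Y)
    [IsIntegral Y] [LocallyOfFiniteType f] [IsSeparated f]
    (hdom : ∀ Z ∈ irreducibleComponents ↥X, genericPoint Y ∈ f.base '' Z)
    (hfin : (f.base ⁻¹' {genericPoint Y}).Finite)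
    (y : Y) (hy : CAlg2.IsGeomUnibranch (Y.presheaf.stalk y)) :
    {x : X | f.base x = y ∧ f.QuasiFiniteAt x}.Finite ∧
    (∑ᶠ x ∈ {x : X | f.base x = y ∧ f.QuasiFiniteAt x}, EGA4loc.residueSepDegree f x) ≤
      ∑ x ∈ hfin.toFinset, EGA4loc.residueSepDegree f x ∧
    ∑ x ∈ hfin.toFinset, EGA4loc.residueSepDegree f x ≤
      ∑ x ∈ hfin.toFinset, EGA4loc.residueDegree f x := by
  let U := f.quasiFiniteLocus
  let g := U.ι ≫ f
  have hqη : ∀ x, f x = genericPoint Y → f.QuasiFiniteAt x := fun x hx =>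
    FinitePartNhd.quasiFiniteAt_of_finite_fibre f x (by rw [hx]; exact hfin)
  obtain ⟨k, _, _, ξ, hξ⟩ := exists_pt_eq y
  obtain ⟨k', _, _, ξ', hξ'⟩ := exists_pt_eq (genericPoint Y)
  have hgen : ∀ x : U, ∃ ζ : U, ζ ⤳ x ∧ g ζ = genericPoint Y := fun x => by
    obtain ⟨ζ, hζ, hfζ⟩ := exists_generization f hdom (U.ι x)
    exact ⟨⟨ζ, hqη ζ hfζ⟩, U.ι.isOpenEmbedding.isInducing.specializes_iff.mp hζ, hfζ⟩
  have : Finite (Lift g ξ') := finite_lift g ξ' (by
    rw [hξ']
    exact (hfin.preimage U.ι.isOpenEmbedding.injective.injOn).subset fun u hu => hu)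
  obtain ⟨hfinξ, hle⟩ := card_lift_le g hgen y hy ξ hξ ξ' hξ'
  have hset : ∀ v, U.ι '' (g ⁻¹' {v}) = {x : X | f.base x = v ∧ f.QuasiFiniteAt x} := fun v => by
    ext x
    constructor
    · rintro ⟨u, hu, rfl⟩; exact ⟨hu, u.2⟩
    · rintro ⟨h1, h2⟩; exact ⟨⟨x, h2⟩, h1, rfl⟩
  have hsum : ∀ v, (∑ᶠ x ∈ {x : X | f.base x = v ∧ f.QuasiFiniteAt x}, EGA4loc.residueSepDegree f x) =
      ∑ᶠ u ∈ g ⁻¹' {v}, EGA4loc.residueSepDegree g u := fun v => by
    rw [← hset v, finsum_mem_image U.ι.isOpenEmbedding.injective.injOn]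
    exact finsum_mem_congr rfl fun u _ => (residueSepDegree_ι_comp f U u).symm
  have hη : {x : X | f.base x = genericPoint Y ∧ f.QuasiFiniteAt x} = ↑hfin.toFinset := by
    ext x
    simp only [Set.Finite.coe_toFinset, Set.mem_preimage, Set.mem_singleton_iff, Set.mem_setOf_eq]
    exact ⟨fun h => h.1, fun h => ⟨h, hqη x h⟩⟩
  refine ⟨?_, ?_, ?_⟩
  · rw [← hset y]
    exact Set.Finite.image _ (by rw [← hξ]; exact finite_fibre g ξ)
  · rw [← finsum_mem_coe_finset, ← hη, hsum, hsum, ← hξ, ← hξ', finsum_residueSepDegree,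
      finsum_residueSepDegree]
    exact hle
  · refine Finset.sum_le_sum fun x hx => residueSepDegree_le f x (hqη x ?_)
    simpa using hx

end Groth.Agent.Lib.Unram.SepDegreeBound
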