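import Groth.Agent.Lib.Unram.SmoothBranches
import Groth.Agent.Lib.Unram.BranchNbhd
import Groth.Agent.Lib.Excellent.GenericNormal
import Mathlib.Algebra.CharP.Frobenius

/-!
# Branches of smooth algebras with purely inseparable residue extension
-/

set_option autoImplicit false

universe u

open IsLocalRing
open scoped TensorProduct
open Groth.Agent.Lib
open Henselian.Henselization (Henselization)

namespace Groth.Agent.Lib.Unram.SmoothHensBranches

/-- From unibranch points to unibranch local rings. -/
theorem isUnibranch_of_unique {R O : Type u} [CommRing R] [CommRing O] [IsLocalRing O] (p : Ideal R) [p.IsPrime]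
    (f : R →+* CAlg2.red O) (hf : Function.Injective f)
    (hp : ∀ s : R, s ∉ p ↔ IsUnit (f s))
    (hsurj : ∀ z : CAlg2.red O, ∃ r s : R, s ∉ p ∧ f s * z = f r)
    (R' : Type u) [CommRing R'] [IsDomain R'] [Algebra R R'] [Algebra.IsIntegral R R'] [IsIntegrallyClosed R']
    (hinj' : Function.Injective (algebraMap R R'))
    (hbir : ∀ x : R', ∃ a b : R, b ≠ 0 ∧ algebraMap R R' b * x = algebraMap R R' a)
    (m : Ideal R') (huniq : ∀ P : Ideal R', P.IsPrime → P.comap (algebraMap R R') = p → P = m) :
    CAlg2.IsUnibranch O := by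
  haveI : IsDomain R := hinj'.isDomain _
  let A := CAlg2.red O
  letI : Algebra R A := f.toAlgebra
  haveI : IsLocalization p.primeCompl A := by
    constructor
    constructor
    · exact fun y => (hp y.1).1 y.2
    · intro z
      obtain ⟨r, s, hs, h⟩ := hsurj z
      exact ⟨(r, ⟨s, hs⟩), by rw [mul_comm]; exact h⟩
    · exact fun {x y} h => ⟨1, by rw [hf h]⟩
  haveI hdom : IsDomain A :=
    IsLocalization.isDomain_of_le_nonZeroDivisors A p.primeCompl_le_nonZeroDivisors
  haveI : IsLocalRing A := IsLocalization.AtPrime.isLocalRing A p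
  let K := FractionRing A
  let N := CAlg2.normRed O
  let ι : R →+* K := (algebraMap A K).comp f
  have hι : Function.Injective ι := (IsFractionRing.injective A K).comp hf
  -- `R'` inside `K`
  let L := FractionRing R'
  let jL : R →+* L := (algebraMap R' L).comp (algebraMap R R')
  letI : Algebra R L := jL.toAlgebra
  have hjL : Function.Injective jL := (IsFractionRing.injective R' L).comp hinj'
  haveI : IsFractionRing R L := by
    constructor
    constructor
    · rintro ⟨y, hy⟩
      exact isUnit_iff_ne_zero.2 ((map_ne_zero_iff jL hjL).2 (nonZeroDivisors.ne_zero hy))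
    · intro z
      obtain ⟨x, y, hy, rfl⟩ := IsFractionRing.div_surjective (A := R') z
      obtain ⟨a, b, hb, hab⟩ := hbir x
      obtain ⟨c, d, hd, hcd⟩ := hbir y
      have hy0 : y ≠ 0 := nonZeroDivisors.ne_zero hy
      have hc : c ≠ 0 := by
        rintro rfl
        rw [map_zero] at hcd
        rcases mul_eq_zero.1 hcd with h | h
        · exact hd (hinj' (h.trans (map_zero _).symm))
        · exact hy0 h
      refine ⟨(a * d, ⟨b * c, mem_nonZeroDivisors_of_ne_zero (mul_ne_zero hb hc)⟩), ?_⟩
      show algebraMap R' L x / algebraMap R' L y *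
          (algebraMap R' L) (algebraMap R R' (b * c)) = (algebraMap R' L) (algebraMap R R' (a * d))
      have hyL : algebraMap R' L y ≠ 0 :=
        (map_ne_zero_iff _ (IsFractionRing.injective R' L)).2 hy0
      rw [div_mul_eq_mul_div, div_eq_iff hyL]
      simp only [map_mul]
      rw [← hab, ← hcd]
      simp only [map_mul]
      ring
    · intro x y h
      exact ⟨1, by simpa using hjL h⟩
  let φ : R' →+* K := (IsFractionRing.lift (K := L) hι).comp (algebraMap R' L)
  have hφinj : Function.Injective φ :=
    ((IsFractionRing.lift (K := L) hι).injective).comp (IsFractionRing.injective R' L)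
  have hφ : φ.comp (algebraMap R R') = ι :=
    RingHom.ext fun r => IsFractionRing.lift_algebraMap (K := L) hι r
  have hφN : ∀ x : R', φ x ∈ integralClosure A K := fun x => by
    obtain ⟨g, hg, hgx⟩ := Algebra.IsIntegral.isIntegral (R := R) x
    refine ⟨g.map f, hg.map _, ?_⟩
    rw [Polynomial.eval₂_map]
    show Polynomial.eval₂ ι (φ x) g = 0
    rw [← hφ, ← Polynomial.hom_eval₂, hgx, map_zero]
  let φN : R' →+* N := φ.codRestrict (integralClosure A K).toSubring hφN
  have hclear : ∀ z : N, ∃ (s : R) (w : R'), s ∉ p ∧ φN w = algebraMap A N (f s) * z := fun z => by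
    obtain ⟨⟨s, hs⟩, g, hg, hgz⟩ := IsIntegral.exists_multiple_integral_of_isLocalization
      p.primeCompl (z : K) z.2
    -- `s z` is integral over `R'`, hence in `R'`
    letI : Algebra R' L := inferInstance
    let zL := (z : K)
    obtain ⟨a, b, hb, hab⟩ := IsFractionRing.div_surjective (A := A) zL
    obtain ⟨r, t, ht, hrt⟩ := hsurj a
    obtain ⟨r', t', ht', hrt'⟩ := hsurj b
    have hr' : r' ≠ 0 := by
      rintro rfl
      rw [map_zero] at hrt'
      exact nonZeroDivisors.ne_zero hb (((hp t').1 ht').mul_right_eq_zero.1 hrt')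
    have ht0 : t ≠ 0 := fun h => ht (h ▸ p.zero_mem)
    let zR : L := jL (s * r * t') / jL (r' * t)
    have hzR : IsFractionRing.lift (K := L) hι zR = ι s * (z : K) := by
      have hbK : algebraMap A K b ≠ 0 :=
        (map_ne_zero_iff _ (IsFractionRing.injective A K)).2 (nonZeroDivisors.ne_zero hb)
      rw [map_div₀, show ∀ x, IsFractionRing.lift (K := L) hι (jL x) = ι x from fun x =>
          IsFractionRing.lift_algebraMap (K := L) hι x,
        show ∀ x, IsFractionRing.lift (K := L) hι (jL x) = ι x from fun x =>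
          IsFractionRing.lift_algebraMap (K := L) hι x,
        div_eq_iff ((map_ne_zero_iff ι hι).2 (mul_ne_zero hr' ht0)),
        show (z : K) = algebraMap A K a / algebraMap A K b from hab.symm]
      show algebraMap A K (f (s * r * t')) = algebraMap A K (f s) *
        (algebraMap A K a / algebraMap A K b) * algebraMap A K (f (r' * t))
      rw [← mul_div_assoc, div_mul_eq_mul_div, eq_div_iff hbK]
      simp only [map_mul, ← hrt, ← hrt']
      ring
    have hint : IsIntegral R' zR := by
      refine ⟨g.map (algebraMap R R'), hg.map _, (IsFractionRing.lift (K := L) hι).injective ?_⟩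
      rw [Polynomial.eval₂_map, map_zero, Polynomial.hom_eval₂, hzR,
        show (IsFractionRing.lift (K := L) hι).comp ((algebraMap R' L).comp (algebraMap R R')) = ι
          from hφ]
      rw [IsScalarTower.algebraMap_eq R A K, Submonoid.smul_def, Algebra.smul_def] at hgz
      exact hgz
    obtain ⟨w, hw⟩ := IsIntegrallyClosed.isIntegral_iff.1 hint
    refine ⟨s, w, hs, Subtype.ext ?_⟩
    show IsFractionRing.lift (K := L) hι (algebraMap R' L w) = ι s * (z : K)
    rw [hw, hzR]
  have hover : ∀ M : Ideal N, M.IsMaximal →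
      (M.comap φN) = m ∧ ∀ s : R, s ∉ p → algebraMap A N (f s) ∉ M := by
    intro M hM
    have hMA : M.comap (algebraMap A N) = IsLocalRing.maximalIdeal A :=
      IsLocalRing.eq_maximalIdeal (Ideal.isMaximal_comap_of_isIntegral_of_isMaximal M)
    have hmem : ∀ s : R, algebraMap A N (f s) ∈ M ↔ s ∈ p := fun s => by
      rw [← Ideal.mem_comap, hMA, IsLocalRing.mem_maximalIdeal, mem_nonunits_iff, ← hp, not_not]
    refine ⟨huniq _ (Ideal.comap_isPrime _ _) (Ideal.ext fun s => ?_), fun s hs h => hs ((hmem s).1 h)⟩
    rw [Ideal.mem_comap, Ideal.mem_comap, ← hmem s,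
      show φN (algebraMap R R' s) = algebraMap A N (f s) from
        Subtype.ext (RingHom.congr_fun hφ s)]
  have huniqN : ∀ M₁ M₂ : Ideal N, M₁.IsMaximal → M₂.IsMaximal → M₁ ≤ M₂ := by
    intro M₁ M₂ h₁ h₂ z hz
    obtain ⟨s, w, hs, hw⟩ := hclear z
    have hw₁ : φN w ∈ M₁ := hw ▸ M₁.mul_mem_left _ hz
    rw [← Ideal.mem_comap, (hover M₁ h₁).1, ← (hover M₂ h₂).1, Ideal.mem_comap, hw] at hw₁
    exact (h₂.isPrime.mem_or_mem hw₁).resolve_left ((hover M₂ h₂).2 s hs)
  haveI : Nontrivial N := inferInstance
  obtain ⟨M₀, hM₀⟩ := Ideal.exists_maximal N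
  exact ⟨hdom, IsLocalRing.of_unique_max_ideal ⟨M₀, hM₀,
    fun M hM => le_antisymm (huniqN M M₀ hM hM₀) (huniqN M₀ M hM₀ hM)⟩⟩

attribute [local instance] MvPolynomial.algebraMvPolynomial in
/-- Localized polynomial rings over a henselian local domain at points with purely inseparable
residue extension are unibranch. -/
theorem isUnibranch_poly_aux (S : Type u) [CommRing S] [HenselianLocalRing S] [IsDomain S]
    (S' : Type u) [CommRing S'] [IsDomain S'] [IsLocalRing S'] [Algebra S S'] [Algebra.IsIntegral S S']
    [IsIntegrallyClosed S'] (hinjS : Function.Injective (algebraMap S S'))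
    (hbir' : ∀ c : S', ∃ u v : S, v ≠ 0 ∧ algebraMap S S' v * c = algebraMap S S' u) (n : ℕ)
    (Q : Ideal (MvPolynomial (Fin n) S)) [Q.IsPrime] (hQ : Q.comap MvPolynomial.C = maximalIdeal S)
    (hX : ∀ i, ∃ (j : ℕ) (a : S),
      (MvPolynomial.X i) ^ (ringExpChar (ResidueField S)) ^ j - MvPolynomial.C a ∈ Q) :
    CAlg2.IsUnibranch (Localization.AtPrime Q) := by
  classical
  have : FaithfulSMul S S' := (faithfulSMul_iff_algebraMap_injective S S').mpr hinjS
  have : IsIntegrallyClosed (MvPolynomial (Fin n) S') :=
    Groth.Agent.Lib.Excellent.GenericNormal.isIntegrallyClosed_mvPolynomial_fin n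
  have : Algebra.IsIntegral (MvPolynomial (Fin n) S) (MvPolynomial (Fin n) S') := inferInstance
  let q := ringExpChar (ResidueField S)
  choose j a hja using hX
  let N := Finset.univ.sup j
  let κ' := ResidueField S'
  have : IsLocalHom (algebraMap S S') := ((local_hom_TFAE _).out 0 4 rfl rfl).mpr
    (eq_maximalIdeal (Ideal.isMaximal_comap_of_isIntegral_of_isMaximal (maximalIdeal S')))
  have : ExpChar κ' q :=
    expChar_of_injective_ringHom (ResidueField.map (algebraMap S S')).injective q
  let g : (MvPolynomial (Fin n) S') →+* κ' := MvPolynomial.eval₂Hom ((iterateFrobenius κ' q N).comp (residue S'))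
    fun i => residue S' (algebraMap S S' (a i)) ^ q ^ (N - j i)
  have hover : ∀ P₁ : Ideal (MvPolynomial (Fin n) S'), P₁.IsPrime → P₁.comap (algebraMap (MvPolynomial (Fin n) S) (MvPolynomial (Fin n) S')) = Q →
      ∀ t : (MvPolynomial (Fin n) S'), t ∈ P₁ ↔ g t = 0 := by
    intro P₁ hP₁ hP₁Q t
    have hC : P₁.comap MvPolynomial.C = maximalIdeal S' := by
      have : (P₁.comap (MvPolynomial.C : S' →+* (MvPolynomial (Fin n) S'))).IsPrime := Ideal.IsPrime.comap _
      refine eq_maximalIdeal (Ideal.isMaximal_of_isIntegral_of_isMaximal_comap (R := S) _ ?_)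
      rw [Ideal.comap_comap, show (MvPolynomial.C : S' →+* (MvPolynomial (Fin n) S')).comp (algebraMap S S') =
        (algebraMap (MvPolynomial (Fin n) S) (MvPolynomial (Fin n) S')).comp MvPolynomial.C from RingHom.ext fun r => (MvPolynomial.map_C _ r).symm,
        ← Ideal.comap_comap, hP₁Q, hQ]
      exact maximalIdeal.isMaximal S
    let ι : κ' →+* (MvPolynomial (Fin n) S') ⧸ P₁ := Ideal.quotientMap P₁ MvPolynomial.C hC.ge
    have : ExpChar ((MvPolynomial (Fin n) S') ⧸ P₁) q := expChar_of_injective_ringHom ι.injective q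
    let F : (MvPolynomial (Fin n) S') →+* (MvPolynomial (Fin n) S') ⧸ P₁ := (iterateFrobenius ((MvPolynomial (Fin n) S') ⧸ P₁) q N).comp (Ideal.Quotient.mk P₁)
    have hF : F = ι.comp g := by
      refine MvPolynomial.ringHom_ext (fun c => ?_) (fun i => ?_)
      · change (Ideal.Quotient.mk P₁ (MvPolynomial.C c)) ^ q ^ N = ι (g (MvPolynomial.C c))
        rw [show g (MvPolynomial.C c) = (residue S' c) ^ q ^ N from MvPolynomial.eval₂Hom_C _ _ _,
          map_pow]
        rfl
      · change (Ideal.Quotient.mk P₁ (MvPolynomial.X i)) ^ q ^ N = ι (g (MvPolynomial.X i))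
        rw [show g (MvPolynomial.X i) = residue S' (algebraMap S S' (a i)) ^ q ^ (N - j i) from
          MvPolynomial.eval₂Hom_X' _ _ _, map_pow]
        have h1 : (Ideal.Quotient.mk P₁ (MvPolynomial.X i)) ^ q ^ j i =
            ι (residue S' (algebraMap S S' (a i))) := by
          have h2 := hP₁Q.ge (hja i)
          rw [Ideal.mem_comap, map_sub, map_pow,
            show algebraMap (MvPolynomial (Fin n) S) (MvPolynomial (Fin n) S') (MvPolynomial.X i) = MvPolynomial.X i from MvPolynomial.map_X _ _,
            show algebraMap (MvPolynomial (Fin n) S) (MvPolynomial (Fin n) S') (MvPolynomial.C (a i)) = MvPolynomial.C (algebraMap S S' (a i)) from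
              MvPolynomial.map_C _ _] at h2
          rw [← map_pow]
          exact Ideal.Quotient.eq.mpr h2
        rw [← h1, ← pow_mul, ← pow_add, Nat.add_sub_cancel' (Finset.le_sup (Finset.mem_univ i))]
    rw [← Ideal.Quotient.eq_zero_iff_mem]
    refine Iff.trans ?_ (map_eq_zero_iff ι ι.injective)
    rw [show ι (g t) = F t from (RingHom.congr_fun hF t).symm]
    exact (pow_eq_zero_iff (pow_ne_zero _ (expChar_pos κ' q).ne')).symm
  let O := Localization.AtPrime Q
  have : IsDomain O := IsLocalization.isDomain_localization Q.primeCompl_le_nonZeroDivisors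
  let f : (MvPolynomial (Fin n) S) →+* CAlg2.red O := (Ideal.Quotient.mk (nilradical O)).comp (algebraMap (MvPolynomial (Fin n) S) O)
  have hnil : nilradical O = ⊥ := by rw [nilradical_eq_zero O]; rfl
  have hmk : Function.Injective (Ideal.Quotient.mk (nilradical O)) := by
    rw [RingHom.injective_iff_ker_eq_bot, Ideal.mk_ker, hnil]
  have : IsLocalHom (Ideal.Quotient.mk (nilradical O)) := by
    have : Nontrivial (CAlg2.red O) := Ideal.Quotient.nontrivial_iff.mpr (by rw [hnil]; exact bot_ne_top)
    exact IsLocalHom.of_surjective _ Ideal.Quotient.mk_surjective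
  obtain ⟨Q', hQ'⟩ : ∃ Q' : Ideal (MvPolynomial (Fin n) S'), Q'.IsPrime ∧ Q'.comap (algebraMap (MvPolynomial (Fin n) S) (MvPolynomial (Fin n) S')) = Q := by
    obtain ⟨Q', -, h1, h2⟩ := Ideal.exists_ideal_over_prime_of_isIntegral (S := (MvPolynomial (Fin n) S')) Q (⊥ : Ideal (MvPolynomial (Fin n) S')) (by
      intro x hx
      have hinj : Function.Injective (algebraMap (MvPolynomial (Fin n) S) (MvPolynomial (Fin n) S')) :=
        MvPolynomial.map_injective _ hinjS
      rw [hinj ((show algebraMap (MvPolynomial (Fin n) S) (MvPolynomial (Fin n) S') x = 0 from hx).trans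
        (map_zero _).symm)]
      exact zero_mem _)
    exact ⟨Q', h1, h2⟩
  refine isUnibranch_of_unique (O := O) Q f (hmk.comp (IsLocalization.injective O Q.primeCompl_le_nonZeroDivisors))
    (fun s => ?_) (fun z => ?_) (MvPolynomial (Fin n) S') (MvPolynomial.map_injective _ hinjS) (fun x => ?_) Q'
    fun P₁ h₁ h₁Q => Ideal.ext fun t => (hover P₁ h₁ h₁Q t).trans (hover Q' hQ'.1 hQ'.2 t).symm
  · change _ ↔ IsUnit (Ideal.Quotient.mk _ (algebraMap (MvPolynomial (Fin n) S) O s))
    rw [isUnit_map_iff]
    exact (IsLocalization.AtPrime.isUnit_to_map_iff O Q s).symm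
  · obtain ⟨z, rfl⟩ := Ideal.Quotient.mk_surjective z
    obtain ⟨r, ⟨s, hs⟩, rfl⟩ := IsLocalization.exists_mk'_eq Q.primeCompl z
    exact ⟨r, s, hs, by
      change Ideal.Quotient.mk _ _ * _ = _
      rw [← map_mul, show algebraMap (MvPolynomial (Fin n) S) O s * IsLocalization.mk' O r ⟨s, hs⟩ =
        algebraMap (MvPolynomial (Fin n) S) O r from IsLocalization.mk'_spec' O r (⟨s, hs⟩ : Q.primeCompl)]
      rfl⟩
  · induction x using MvPolynomial.induction_on with
    | C c =>
      obtain ⟨u, v, hv0, huv⟩ := hbir' c
      refine ⟨MvPolynomial.C u, MvPolynomial.C v, (map_ne_zero_iff _ (MvPolynomial.C_injective _ _)).mpr hv0, ?_⟩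
      change MvPolynomial.map _ (MvPolynomial.C v) * _ = MvPolynomial.map _ (MvPolynomial.C u)
      rw [MvPolynomial.map_C, MvPolynomial.map_C, ← map_mul, huv]
    | add x y hx hy =>
      obtain ⟨u₁, v₁, hv₁, h₁⟩ := hx
      obtain ⟨u₂, v₂, hv₂, h₂⟩ := hy
      exact ⟨u₁ * v₂ + u₂ * v₁, v₁ * v₂, mul_ne_zero hv₁ hv₂, by simp only [map_add, map_mul, ← h₁, ← h₂]; ring⟩
    | mul_X x i hx =>
      obtain ⟨u, v, hv, h⟩ := hx
      exact ⟨u * MvPolynomial.X i, v, hv, by
        rw [map_mul, ← h, show algebraMap (MvPolynomial (Fin n) S) (MvPolynomial (Fin n) S') (MvPolynomial.X i) = MvPolynomial.X i from MvPolynomial.map_X _ _,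
          mul_assoc]⟩

theorem isUnibranch_poly (S : Type u) [CommRing S] [HenselianLocalRing S] [IsDomain S] (n : ℕ)
    (Q : Ideal (MvPolynomial (Fin n) S)) [Q.IsPrime] (hQ : Q.comap MvPolynomial.C = maximalIdeal S)
    (hX : ∀ i, ∃ (j : ℕ) (a : S),
      (MvPolynomial.X i) ^ (ringExpChar (ResidueField S)) ^ j - MvPolynomial.C a ∈ Q) :
    CAlg2.IsUnibranch (Localization.AtPrime Q) := by
  have : IsLocalRing (integralClosure S (FractionRing S)) :=
    Henselian.Unibranch.isLocalRing_of_isDomain S _
  have hinjS : Function.Injective (algebraMap S (integralClosure S (FractionRing S))) :=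
    (IsFractionRing.injective S (FractionRing S)).of_comp (f := Subtype.val)
  have : IsIntegrallyClosed (integralClosure S (FractionRing S)) :=
    .of_isIntegrallyClosed_of_isIntegrallyClosedIn _ (FractionRing S)
  refine isUnibranch_poly_aux S (integralClosure S (FractionRing S)) hinjS (fun c => ?_) n Q hQ hX
  obtain ⟨u, v, hv, huv⟩ := IsFractionRing.div_surjective (A := S) (c : FractionRing S)
  refine ⟨u, v, nonZeroDivisors.ne_zero hv, Subtype.ext ?_⟩
  change algebraMap S (FractionRing S) v * (c : FractionRing S) = algebraMap S _ u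
  rw [← huv, mul_div_cancel₀]
  exact (map_ne_zero_iff _ (IsFractionRing.injective S (FractionRing S))).mpr (nonZeroDivisors.ne_zero hv)

/-- Over a henselian local ring, localized polynomial rings at points with purely inseparable residue
extension have the same branches. -/
theorem card_minimalPrimes_poly (S : Type u) [CommRing S] [HenselianLocalRing S] (n : ℕ)
    (Q : Ideal (MvPolynomial (Fin n) S)) [Q.IsPrime] (hQ : Q.comap MvPolynomial.C = maximalIdeal S)
    (hX : ∀ i, ∃ (j : ℕ) (a : S),
      (MvPolynomial.X i) ^ (ringExpChar (ResidueField S)) ^ j - MvPolynomial.C a ∈ Q) :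
    ENat.card (minimalPrimes (Henselization (Localization.AtPrime Q))) =
      ENat.card (minimalPrimes S) := by
  let Pn := MvPolynomial (Fin n) S
  let L := Localization.AtPrime Q
  let T := Henselization L
  have : Module.Flat S L := by
    have : Module.Flat Pn L := IsLocalization.flat L Q.primeCompl
    exact Module.Flat.trans S Pn L
  let : Algebra S T := ((algebraMap L T).comp (algebraMap S L)).toAlgebra
  have : IsScalarTower S L T := IsScalarTower.of_algebraMap_eq fun _ => rfl
  have : Module.Flat L T := Henselian.Henselization.flat L T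
  have : Module.Flat S T := Module.Flat.trans S L T
  refine SmoothBranches.card_eq_of_unique S T fun P hP => ?_
  have hPp := hP.1.1
  let S₁ := S ⧸ P
  have : IsLocalRing S₁ := IsLocalRing.of_surjective' (Ideal.Quotient.mk P) Ideal.Quotient.mk_surjective
  have : HenselianLocalRing S₁ := SmoothBranches.henselianLocalRing_quotient S P
  let π : Pn →+* MvPolynomial (Fin n) S₁ := MvPolynomial.map (Ideal.Quotient.mk P)
  have hπ : Function.Surjective π := MvPolynomial.map_surjective _ Ideal.Quotient.mk_surjective
  have hker : RingHom.ker π = P.map MvPolynomial.C := by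
    ext x
    rw [RingHom.mem_ker, MvPolynomial.mem_map_C_iff, MvPolynomial.ext_iff]
    refine forall_congr' fun e => ?_
    rw [show MvPolynomial.coeff e (π x) = Ideal.Quotient.mk P (MvPolynomial.coeff e x) from
      MvPolynomial.coeff_map _ _ _, MvPolynomial.coeff_zero, Ideal.Quotient.eq_zero_iff_mem]
  have hkerQ : RingHom.ker π ≤ Q := hker.le.trans
    (Ideal.map_le_iff_le_comap.mpr ((le_maximalIdeal hPp.ne_top).trans hQ.ge))
  let Q₁ := Q.map π
  have : Q₁.IsPrime := Ideal.map_isPrime_of_surjective hπ hkerQ
  have hQQ : Q = Q₁.comap π := by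
    rw [Ideal.comap_map_of_surjective _ hπ, ← RingHom.ker_eq_comap_bot, sup_eq_left.mpr hkerQ]
  have hmk : IsLocalHom (Ideal.Quotient.mk P) := IsLocalHom.of_surjective _ Ideal.Quotient.mk_surjective
  have hQ₁C : Q₁.comap MvPolynomial.C = maximalIdeal S₁ := by
    apply Ideal.comap_injective_of_surjective (Ideal.Quotient.mk P) Ideal.Quotient.mk_surjective
    rw [Ideal.comap_comap, show MvPolynomial.C.comp (Ideal.Quotient.mk P) = π.comp MvPolynomial.C from
      RingHom.ext fun a => (MvPolynomial.map_C _ a).symm, ← Ideal.comap_comap, ← hQQ, hQ]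
    exact (((local_hom_TFAE (Ideal.Quotient.mk P)).out 0 4 rfl rfl).mp hmk).symm
  have : ExpChar (ResidueField S₁) (ringExpChar (ResidueField S)) :=
    expChar_of_injective_ringHom (ResidueField.map (Ideal.Quotient.mk P)).injective _
  have hq : ringExpChar (ResidueField S₁) = ringExpChar (ResidueField S) := ringExpChar.eq _ _
  have hB : CAlg2.IsUnibranch (Localization.AtPrime Q₁) := isUnibranch_poly S₁ n Q₁ hQ₁C fun i => by
    obtain ⟨j, a, h⟩ := hX i
    refine ⟨j, Ideal.Quotient.mk P a, ?_⟩
    have h' := Ideal.mem_map_of_mem π h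
    rw [map_sub, map_pow, show π (MvPolynomial.X i) = MvPolynomial.X i from MvPolynomial.map_X _ _,
      show π (MvPolynomial.C a) = MvPolynomial.C (Ideal.Quotient.mk P a) from MvPolynomial.map_C _ _] at h'
    rwa [hq]
  let B := Localization.AtPrime Q₁
  let φ : L →+* B := Localization.localRingHom Q Q₁ π hQQ
  let : Algebra L B := φ.toAlgebra
  have hφ : Function.Surjective (algebraMap L B) := fun z => by
    obtain ⟨x, ⟨s, hs⟩, rfl⟩ := IsLocalization.exists_mk'_eq Q₁.primeCompl z
    obtain ⟨a, rfl⟩ := hπ x
    obtain ⟨t, rfl⟩ := hπ s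
    exact ⟨IsLocalization.mk' L a (⟨t, fun ht => hs (Ideal.mem_map_of_mem π ht)⟩ : Q.primeCompl),
      Localization.localRingHom_mk' _ _ _ _ _ _⟩
  have hJ : BranchFibre.J L B T = P.map (algebraMap S T) := by
    rw [IsScalarTower.algebraMap_eq S L T, ← Ideal.map_map]
    refine congrArg (Ideal.map (algebraMap L T)) ?_
    rw [IsScalarTower.algebraMap_eq S Pn L, ← Ideal.map_map]
    refine le_antisymm (fun z hz => ?_) ?_
    · obtain ⟨a, ⟨s, hs⟩, rfl⟩ := IsLocalization.exists_mk'_eq Q.primeCompl z
      have h1 : algebraMap (MvPolynomial (Fin n) S₁) B (π a) = 0 := by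
        have h2 := congrArg (algebraMap L B) (IsLocalization.mk'_spec L a (⟨s, hs⟩ : Q.primeCompl))
        rw [map_mul, show algebraMap L B (IsLocalization.mk' L a (⟨s, hs⟩ : Q.primeCompl)) = 0 from hz,
          zero_mul] at h2
        exact (Localization.localRingHom_to_map Q Q₁ π hQQ a).symm.trans h2.symm
      have h3 : π a = 0 :=
        (IsLocalization.to_map_eq_zero_iff B Q₁.primeCompl_le_nonZeroDivisors).mp h1
      rw [IsLocalization.mk'_mem_map_algebraMap_iff]
      exact ⟨1, one_mem _, by rw [one_mul]; exact hker.le h3⟩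
    · rw [Ideal.map_le_iff_le_comap, Ideal.map_le_iff_le_comap]
      intro a ha
      change φ (algebraMap Pn L (MvPolynomial.C a)) = 0
      rw [Localization.localRingHom_to_map, show π (MvPolynomial.C a) = 0 from
        hker.ge (Ideal.mem_map_of_mem _ ha), map_zero]
  rw [← hJ, ← BranchFibre.card_hens_quot L B hφ]
  exact (OneBranch.numBranches_eq_one_iff (A := B)).mpr hB

/-- A smooth algebra is locally ind-étale over a polynomial algebra. -/
theorem exists_model (R S : Type u) [CommRing R] [CommRing S] [Algebra R S] [Algebra.Smooth R S]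
    (q : Ideal S) [q.IsPrime] :
    ∃ (n : ℕ) (r : Ideal (MvPolynomial (Fin n) R)) (_ : r.IsPrime)
      (_ : Algebra (Localization.AtPrime r) (Localization.AtPrime q)),
      r.comap MvPolynomial.C = q.comap (algebraMap R S) ∧
      IsLocalHom (algebraMap (Localization.AtPrime r) (Localization.AtPrime q)) ∧
      EtPBC.IsIndEtale (Localization.AtPrime r) (Localization.AtPrime q) ∧
      ∀ a : R, algebraMap (Localization.AtPrime r) (Localization.AtPrime q)
        (algebraMap (MvPolynomial (Fin n) R) (Localization.AtPrime r) (MvPolynomial.C a)) =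
          algebraMap S (Localization.AtPrime q) (algebraMap R S a) := by
  obtain ⟨f, hfq, n, _, _, _⟩ := Algebra.IsSmoothAt.exists_isStandardEtale_mvPolynomial (R := R) (p := q)
  let Pn := MvPolynomial (Fin n) R
  let E := Localization.Away f
  let Sq := Localization.AtPrime q
  let φ : E →+* Sq := IsLocalization.Away.lift f (g := algebraMap S Sq)
    (IsLocalization.map_units Sq (⟨f, hfq⟩ : q.primeCompl))
  let : Algebra E Sq := φ.toAlgebra
  have : IsScalarTower S E Sq := IsScalarTower.of_algebraMap_eq fun x =>
    (IsLocalization.Away.lift_eq f _ x).symm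
  have : IsLocalization (Submonoid.map (algebraMap S E) q.primeCompl) Sq :=
    IsLocalization.isLocalization_of_submonoid_le E Sq (Submonoid.powers f) q.primeCompl
      (Submonoid.powers_le.mpr hfq)
  let : Algebra Pn Sq := ((algebraMap E Sq).comp (algebraMap Pn E)).toAlgebra
  have : IsScalarTower Pn E Sq := IsScalarTower.of_algebraMap_eq fun _ => rfl
  have hind : EtPBC.IsIndEtale Pn Sq :=
    IndEtale.Basic.of_factors (IndEtale.Zariski.factors_localization (IndEtale.Basic.impliesFP Pn)
      IndEtale.Zariski.stableAway_etale (IndEtale.Basic.factors IndEtale.Basic.of_etale)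
      (Submonoid.map (algebraMap S E) q.primeCompl) Sq)
  let r := (maximalIdeal Sq).comap (algebraMap Pn Sq)
  let Pr := Localization.AtPrime r
  let ψ : Pr →+* Sq := IsLocalization.lift (M := r.primeCompl) (g := algebraMap Pn Sq)
    fun y => notMem_maximalIdeal.mp y.2
  let : Algebra Pr Sq := ψ.toAlgebra
  have : IsScalarTower Pn Pr Sq := IsScalarTower.of_algebraMap_eq fun x =>
    (IsLocalization.lift_eq _ x).symm
  refine ⟨n, r, inferInstance, inferInstance, ?_, ?_, ?_, fun a => ?_⟩
  · change ((maximalIdeal Sq).comap (algebraMap Pn Sq)).comap MvPolynomial.C = _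
    rw [Ideal.comap_comap,
      show (algebraMap Pn Sq).comp MvPolynomial.C = (algebraMap S Sq).comp (algebraMap R S) from
        RingHom.ext fun a => by
          change algebraMap E Sq (algebraMap Pn E (algebraMap R Pn a)) = _
          rw [← IsScalarTower.algebraMap_apply R Pn E, IsScalarTower.algebraMap_apply R S E,
            ← IsScalarTower.algebraMap_apply S E Sq]
          rfl,
      ← Ideal.comap_comap]
    exact congrArg (Ideal.comap (algebraMap R S)) Localization.AtPrime.comap_maximalIdeal
  · refine ⟨fun x hx => ?_⟩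
    obtain ⟨a, ⟨s, hs⟩, rfl⟩ := IsLocalization.exists_mk'_eq r.primeCompl x
    rw [IsLocalization.AtPrime.isUnit_mk'_iff]
    intro ha
    have h2 : IsUnit (algebraMap Pn Sq a) := by
      have h3 := congrArg ψ (IsLocalization.mk'_spec Pr a (⟨s, hs⟩ : r.primeCompl))
      rw [map_mul] at h3
      have h4 : IsUnit (algebraMap Pn Sq s) := notMem_maximalIdeal.mp hs
      rw [IsLocalization.lift_eq, IsLocalization.lift_eq] at h3
      rw [← h3]
      exact hx.mul h4
    exact (mem_maximalIdeal _).mp (Ideal.mem_comap.mp ha) h2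
  · exact IndEtale.Basic.cancel (IndEtale.Basic.of_factors
      (IndEtale.Zariski.factors_localization (IndEtale.Basic.impliesFP Pn)
        IndEtale.Zariski.stableAway_etale (IndEtale.Basic.factors IndEtale.Basic.of_etale)
        r.primeCompl Pr)) hind
  · rw [← IsScalarTower.algebraMap_apply Pn Pr Sq]
    change algebraMap E Sq (algebraMap Pn E (algebraMap R Pn a)) = _
    rw [← IsScalarTower.algebraMap_apply R Pn E, IsScalarTower.algebraMap_apply R S E,
      ← IsScalarTower.algebraMap_apply S E Sq]

/-- Branches of a smooth algebra at a point with purely inseparable residue extension. -/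
theorem card_smooth (R S : Type u) [CommRing R] [CommRing S] [Algebra R S] [Algebra.Smooth R S]
    (q : Ideal S) [q.IsPrime] (p : Ideal R) [p.IsPrime] (hqp : p = q.comap (algebraMap R S))
    (hpi : @IsPurelyInseparable p.ResidueField q.ResidueField _ _
      (Ideal.ResidueField.map p q (algebraMap R S) hqp).toAlgebra) :
    ENat.card (minimalPrimes (Henselization (Localization.AtPrime q))) =
      ENat.card (minimalPrimes (Henselization (Localization.AtPrime p))) := by
  obtain ⟨n, r, _, _, hr, _, hind, hC⟩ := exists_model R S q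
  rw [← hqp] at hr
  have hsep := PuncturedStrict.isSeparable_residue _ _ hind
  let Pn := MvPolynomial (Fin n) R
  let A := Localization.AtPrime p
  let Pr := Localization.AtPrime r
  let Sq := Localization.AtPrime q
  let : Algebra p.ResidueField q.ResidueField := (Ideal.ResidueField.map p q (algebraMap R S) hqp).toAlgebra
  let : Algebra p.ResidueField r.ResidueField :=
    (Ideal.ResidueField.map p r MvPolynomial.C hr.symm).toAlgebra
  let : Algebra r.ResidueField q.ResidueField := (inferInstance : Algebra (ResidueField Pr) (ResidueField Sq))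
  have hkey : ∀ a : R, algebraMap p.ResidueField r.ResidueField (algebraMap R p.ResidueField a) =
      algebraMap Pn r.ResidueField (MvPolynomial.C a) := fun a =>
    Ideal.ResidueField.map_algebraMap p r MvPolynomial.C hr.symm a
  have : IsScalarTower p.ResidueField r.ResidueField q.ResidueField := by
    refine IsScalarTower.of_algebraMap_eq' (Ideal.ResidueField.ringHom_ext (RingHom.ext fun a => ?_))
    change Ideal.ResidueField.map p q (algebraMap R S) hqp (algebraMap R p.ResidueField a) =
      algebraMap r.ResidueField q.ResidueField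
        (algebraMap p.ResidueField r.ResidueField (algebraMap R p.ResidueField a))
    rw [hkey, Ideal.ResidueField.map_algebraMap]
    change residue Sq (algebraMap S Sq (algebraMap R S a)) =
      ResidueField.map (algebraMap Pr Sq) (residue Pr (algebraMap Pn Pr (MvPolynomial.C a)))
    rw [ResidueField.map_residue, hC]
  have : IsPurelyInseparable p.ResidueField q.ResidueField := hpi
  have : IsPurelyInseparable r.ResidueField q.ResidueField :=
    IsPurelyInseparable.tower_top p.ResidueField _ _
  have hpr : IsPurelyInseparable p.ResidueField r.ResidueField :=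
    IsPurelyInseparable.tower_bot p.ResidueField _ q.ResidueField
  have : Algebra.IsSeparable r.ResidueField q.ResidueField := hsep
  have hres : BranchNbhd.ResSurj (algebraMap Pr Sq) :=
    (BranchNbhd.surjective_map_iff _).mp
      (IsPurelyInseparable.surjective_algebraMap_of_isSeparable r.ResidueField q.ResidueField)
  obtain ⟨e₁⟩ := BranchNbhd.exists_hens_equiv Pr Sq hind hres
  rw [← BranchNbhd.card_congr e₁]
  let Sh := Henselization A
  have hSh : Hensel.IsHenselization A Sh := inferInstance
  have := hSh.henselian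
  let : Algebra R Sh := ((algebraMap A Sh).comp (algebraMap R A)).toAlgebra
  have : IsScalarTower R A Sh := IsScalarTower.of_algebraMap_eq fun _ => rfl
  let P' := MvPolynomial (Fin n) Sh
  let mp : Pn →+* P' := MvPolynomial.map (algebraMap R Sh)
  let : Algebra Pn P' := mp.toAlgebra
  have hRSh : EtPBC.IsIndEtale R Sh :=
    IndEtale.Basic.trans (IndEtale.Basic.of_factors
      (IndEtale.Zariski.factors_localization (IndEtale.Basic.impliesFP R)
        IndEtale.Zariski.stableAway_etale (IndEtale.Basic.factors IndEtale.Basic.of_etale)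
        p.primeCompl A)) Henselian.IndEtale.isIndEtale_lim
  have hP' : EtPBC.IsIndEtale Pn P' := by
    let e : Pn ⊗[R] Sh ≃+* P' := (Algebra.TensorProduct.comm R Pn Sh).toRingEquiv.trans
      (MvPolynomial.algebraTensorAlgEquiv R Sh).toRingEquiv
    refine IndEtale.Basic.of_algEquiv (IndEtale.Basic.baseChange Pn hRSh)
      (AlgEquiv.ofRingEquiv (f := e) fun x => ?_)
    change MvPolynomial.algebraTensorAlgEquiv R Sh ((1 : Sh) ⊗ₜ[R] x) = mp x
    rw [MvPolynomial.algebraTensorAlgEquiv_tmul, one_smul]
  let e : p.ResidueField ≃+* ResidueField Sh :=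
    RingEquiv.ofBijective (ResidueField.map (algebraMap A Sh)) (Henselian.Henselization.residue_bijective A Sh)
  let χ : Sh →+* r.ResidueField :=
    ((algebraMap p.ResidueField r.ResidueField).comp e.symm.toRingHom).comp (residue Sh)
  have hχ : ∀ a : R, χ (algebraMap R Sh a) = algebraMap Pn r.ResidueField (MvPolynomial.C a) := fun a => by
    rw [← hkey]
    refine congrArg (algebraMap p.ResidueField r.ResidueField) ?_
    exact (e.symm_apply_eq).mpr rfl
  let x : Fin n → r.ResidueField := fun i => algebraMap Pn r.ResidueField (MvPolynomial.X i)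
  let ev : P' →+* r.ResidueField := MvPolynomial.eval₂Hom χ x
  let Q := RingHom.ker ev
  have : Q.IsPrime := RingHom.ker_isPrime ev
  have hev : ev.comp mp = algebraMap Pn r.ResidueField := by
    refine MvPolynomial.ringHom_ext (fun a => ?_) (fun i => ?_)
    · change ev (mp (MvPolynomial.C a)) = _
      rw [show mp (MvPolynomial.C a) = MvPolynomial.C (algebraMap R Sh a) from MvPolynomial.map_C _ _,
        show ev (MvPolynomial.C (algebraMap R Sh a)) = χ (algebraMap R Sh a) from
          MvPolynomial.eval₂Hom_C _ _ _, hχ]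
    · change ev (mp (MvPolynomial.X i)) = _
      rw [show mp (MvPolynomial.X i) = MvPolynomial.X i from MvPolynomial.map_X _ _]
      exact MvPolynomial.eval₂Hom_X' _ _ _
  have hQr : r = Q.comap mp := by
    rw [show Q.comap mp = RingHom.ker (ev.comp mp) from RingHom.comap_ker ev mp, hev,
      Ideal.ker_algebraMap_residueField]
  have hQC : Q.comap MvPolynomial.C = maximalIdeal Sh := by
    rw [show Q.comap MvPolynomial.C = RingHom.ker (ev.comp MvPolynomial.C) from RingHom.comap_ker _ _,
      show ev.comp MvPolynomial.C = χ from RingHom.ext fun a => MvPolynomial.eval₂Hom_C _ _ a,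
      RingHom.ker_comp_of_injective _ (((algebraMap p.ResidueField r.ResidueField).comp e.symm.toRingHom).injective),
      ker_residue]
  let L := Localization.AtPrime Q
  let : Algebra Pr L := (Localization.localRingHom r Q mp hQr).toAlgebra
  have : IsLocalHom (algebraMap Pr L) := Localization.isLocalHom_localRingHom r Q mp hQr
  have : IsScalarTower Pn Pr L := IsScalarTower.of_algebraMap_eq fun a =>
    (Localization.localRingHom_to_map r Q mp hQr a).symm
  have hPL : EtPBC.IsIndEtale Pr L :=
    IndEtale.Basic.cancel (A := Pn) (IndEtale.Basic.of_factors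
      (IndEtale.Zariski.factors_localization (IndEtale.Basic.impliesFP Pn)
        IndEtale.Zariski.stableAway_etale (IndEtale.Basic.factors IndEtale.Basic.of_etale)
        r.primeCompl Pr))
      (IndEtale.Basic.of_factors
      (IndEtale.Zariski.factors_localization (IndEtale.Basic.impliesFP Pn)
        IndEtale.Zariski.stableAway_etale (IndEtale.Basic.factors hP') Q.primeCompl L))
  let evL : L →+* r.ResidueField := IsLocalization.lift (M := Q.primeCompl) (g := ev)
    fun y => isUnit_iff_ne_zero.mpr y.2
  have hevL : evL.comp (algebraMap Pr L) = residue Pr := by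
    refine IsLocalization.ringHom_ext r.primeCompl (RingHom.ext fun a => ?_)
    change evL (algebraMap Pr L (algebraMap Pn Pr a)) = algebraMap Pn r.ResidueField a
    rw [← IsScalarTower.algebraMap_apply Pn Pr L, ← hev]
    exact IsLocalization.lift_eq _ (mp a)
  have hresL : BranchNbhd.ResSurj (algebraMap Pr L) := fun y => by
    obtain ⟨z, hz⟩ := residue_surjective (R := Pr) (evL y)
    refine ⟨z, fun hu => ?_⟩
    refine (hu.map evL).ne_zero ?_
    rw [map_sub, sub_eq_zero, ← hz, ← hevL]
    rfl
  obtain ⟨e₂⟩ := BranchNbhd.exists_hens_equiv Pr L hPL hresL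
  rw [BranchNbhd.card_congr e₂]
  refine card_minimalPrimes_poly Sh n Q hQC fun i => ?_
  have hexp : ExpChar p.ResidueField (ringExpChar (ResidueField Sh)) :=
    expChar_of_injective_ringHom e.symm.toRingHom.injective _
  obtain ⟨j, w, hw⟩ := IsPurelyInseparable.pow_mem p.ResidueField (ringExpChar (ResidueField Sh)) (x i)
  obtain ⟨a, ha⟩ := residue_surjective (e w)
  refine ⟨j, a, ?_⟩
  rw [RingHom.mem_ker, map_sub, map_pow, sub_eq_zero]
  rw [show ev (MvPolynomial.X i) = x i from MvPolynomial.eval₂Hom_X' _ _ _,
    show ev (MvPolynomial.C a) = χ a from MvPolynomial.eval₂Hom_C _ _ _, ← hw]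
  refine congrArg (algebraMap p.ResidueField r.ResidueField) ?_
  exact ((e.symm_apply_eq).mpr ha).symm

end Groth.Agent.Lib.Unram.SmoothHensBranches
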