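import Groth.Agent.Lib.Unram.SmoothBranches

/-!
# Quotients of strict henselizations and primes in smooth algebras
-/

set_option autoImplicit false

universe u

open IsLocalRing
open scoped TensorProduct
open Groth.Agent.Lib
open Henselian.StrictHenselization (StrictHenselization)
open Groth.Agent.Lib.Unram.BranchFibre

namespace Groth.Agent.Lib.Unram.SmoothPrime

/-- The strict henselization of a quotient is the quotient of the strict henselization. -/
theorem exists_equiv_quot (A B : Type u) [CommRing A] [IsLocalRing A] [CommRing B] [IsLocalRing B]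
    [Algebra A B] (hq : Function.Surjective (algebraMap A B)) :
    Nonempty (StrictHenselization B ≃+*
      StrictHenselization A ⧸ BranchFibre.J A B (StrictHenselization A)) := by
  let S := StrictHenselization A
  let T := S ⧸ J A B S
  have hS : Hensel.IsStrictHenselization A S := inferInstance
  have := hS.isSepClosure.sep_closed
  have := hS.isSepClosure.separable
  have : IsLocalRing T := isLocalRing_quot A B S
  have : HenselianLocalRing T := henselian_quot A B S
  let : Algebra B T := (toQuot A B S hq).toAlgebra
  have : IsLocalHom (algebraMap B T) := isLocalHom_toQuot A B S hq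
  have : IsScalarTower A B T := IsScalarTower.of_algebraMap_eq fun a => (toQuot_algebraMap A B S hq a).symm
  have hmk : IsLocalHom (Ideal.Quotient.mk (J A B S)) :=
    IsLocalHom.of_surjective _ Ideal.Quotient.mk_surjective
  have : IsLocalHom (algebraMap A T) := RingHom.isLocalHom_comp (Ideal.Quotient.mk (J A B S)) (algebraMap A S)
  have : IsLocalHom (algebraMap A B) := IsLocalHom.of_surjective _ hq
  let eT : ResidueField S ≃+* ResidueField T := RingEquiv.ofBijective
    (ResidueField.map (Ideal.Quotient.mk (J A B S)))
    ⟨RingHom.injective _, fun z => by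
      obtain ⟨t, rfl⟩ := residue_surjective z
      obtain ⟨s, rfl⟩ := Ideal.Quotient.mk_surjective t
      exact ⟨residue S s, rfl⟩⟩
  let eA : ResidueField S ≃ₐ[ResidueField A] ResidueField T := AlgEquiv.ofRingEquiv (f := eT) fun x => by
    obtain ⟨a, rfl⟩ := residue_surjective x
    rfl
  have : Algebra.IsSeparable (ResidueField A) (ResidueField T) := AlgEquiv.Algebra.isSeparable eA
  have : IsScalarTower (ResidueField A) (ResidueField B) (ResidueField T) :=
    IsScalarTower.of_algebraMap_eq fun x => by
      obtain ⟨a, rfl⟩ := residue_surjective x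
      exact congrArg (residue T) (toQuot_algebraMap A B S hq a).symm
  have : Algebra.IsSeparable (ResidueField B) (ResidueField T) :=
    Algebra.isSeparable_tower_top_of_isSeparable (ResidueField A) _ _
  have : IsSepClosed (ResidueField T) := Henselian.StrictHenselization.isSepClosed_of_ringEquiv eT
  obtain ⟨e⟩ := UnibranchEtaleAlg.exists_strict_equiv B T
    (isIndEtale_toQuot A B S hq Henselian.IndEtale.isIndEtale_lim)
  let U := StrictHenselization T
  have hU : Hensel.IsStrictHenselization T U := inferInstance
  have := hU.isSepClosure.separable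
  have hres : Function.Surjective (ResidueField.map (algebraMap T U)) :=
    IsSepClosed.algebraMap_surjective (ResidueField T) (ResidueField U)
  let eU := RingEquiv.ofBijective _
    (UnibranchEtaleAlg.bijective_of_indEtale T U Henselian.IndEtale.isIndEtale_lim hres)
  exact ⟨e.trans eU.symm⟩

theorem isDomain_strict (B : Type u) [CommRing B] [IsDomain B] [IsLocalRing B]
    (hB : CAlg2.IsGeomUnibranch B) : IsDomain (StrictHenselization B) := by
  obtain ⟨P, hP⟩ := (UnibranchEtaleAlg.minimalPrimes_strict_subsingleton_iff B).mpr hB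
  have : IsReduced (StrictHenselization B) :=
    (Henselian.Permanence.strict_isReduced_iff B (StrictHenselization B)).mp inferInstance
  have hPp : P.IsPrime := (show P ∈ minimalPrimes (StrictHenselization B) from hP ▸ rfl).1.1
  have hbot : P = ⊥ := by
    rw [← Ideal.zero_eq_bot, ← nilradical_eq_zero (StrictHenselization B)]
    refine Eq.symm (Ideal.ext fun x => ?_)
    rw [OneBranch.mem_nilradical_iff_forall, hP]
    simp
  have : (⊥ : Ideal (StrictHenselization B)).IsPrime := hbot ▸ hPp
  exact IsDomain.of_bot_isPrime _

/-- The local ring of a quotient. -/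
theorem localRingHom_surjective {S S' : Type u} [CommRing S] [CommRing S'] (π : S →+* S')
    (hπ : Function.Surjective π) (q : Ideal S) [q.IsPrime] (q' : Ideal S') [q'.IsPrime]
    (h : q = q'.comap π) :
    Function.Surjective (Localization.localRingHom q q' π h) ∧
      RingHom.ker (Localization.localRingHom q q' π h) =
        (RingHom.ker π).map (algebraMap S (Localization.AtPrime q)) := by
  refine ⟨fun z => ?_, le_antisymm (fun z hz => ?_) ?_⟩
  · obtain ⟨x, ⟨s, hs⟩, rfl⟩ := IsLocalization.exists_mk'_eq q'.primeCompl z
    obtain ⟨a, rfl⟩ := hπ x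
    obtain ⟨t, rfl⟩ := hπ s
    exact ⟨IsLocalization.mk' _ a (⟨t, fun ht => hs (h.le ht)⟩ : q.primeCompl),
      Localization.localRingHom_mk' _ _ _ _ _ _⟩
  · obtain ⟨a, ⟨s, hs⟩, rfl⟩ := IsLocalization.exists_mk'_eq q.primeCompl z
    rw [RingHom.mem_ker, Localization.localRingHom_mk', IsLocalization.mk'_eq_zero_iff] at hz
    obtain ⟨⟨t, ht⟩, hta⟩ := hz
    obtain ⟨t, rfl⟩ := hπ t
    rw [IsLocalization.mk'_mem_map_algebraMap_iff]
    exact ⟨t, fun htq => ht (h.le htq), by rw [RingHom.mem_ker, map_mul]; exact hta⟩
  · rw [Ideal.map_le_iff_le_comap]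
    intro a ha
    rw [Ideal.mem_comap, RingHom.mem_ker, Localization.localRingHom_to_map,
      show π a = 0 from ha, map_zero]

/-- A prime element of a strictly henselian local ring stays prime in the strict local rings of
smooth algebras. -/
theorem prime_map (R R' : Type u) [CommRing R] [HenselianLocalRing R] [IsSepClosed (ResidueField R)]
    [CommRing R'] [Algebra R R'] [Algebra.Smooth R R'] (q : Ideal R') [q.IsPrime]
    (hq : q.comap (algebraMap R R') = maximalIdeal R)
    (T : Type u) [CommRing T] [IsLocalRing T] [Algebra (Localization.AtPrime q) T]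
    [IsLocalHom (algebraMap (Localization.AtPrime q) T)]
    [Hensel.IsStrictHenselization (Localization.AtPrime q) T] (Δ : R) (hΔ : Prime Δ) :
    Prime (algebraMap (Localization.AtPrime q) T
      (algebraMap R' (Localization.AtPrime q) (algebraMap R R' Δ))) := by
  let L := Localization.AtPrime q
  let S := StrictHenselization L
  suffices h : Prime (algebraMap L S (algebraMap R' L (algebraMap R R' Δ))) by
    have h' := (MulEquiv.prime_iff
      (Henselian.StrictHenselization.equivOfIsStrictHenselization L T).toMulEquiv).mpr h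
    change Prime (Henselian.StrictHenselization.equivOfIsStrictHenselization L T (algebraMap L S _)) at h'
    rwa [AlgEquiv.commutes] at h'
  let Δ' := algebraMap L S (algebraMap R' L (algebraMap R R' Δ))
  let I : Ideal R := Ideal.span {Δ}
  have hI : I.IsPrime := (Ideal.span_singleton_prime hΔ.ne_zero).mpr hΔ
  let R₁ := R ⧸ I
  have : IsLocalRing R₁ := IsLocalRing.of_surjective' (Ideal.Quotient.mk I) Ideal.Quotient.mk_surjective
  have : HenselianLocalRing R₁ := SmoothBranches.henselianLocalRing_quotient R I
  have hmk : IsLocalHom (Ideal.Quotient.mk I) := IsLocalHom.of_surjective _ Ideal.Quotient.mk_surjective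
  have : IsSepClosed (ResidueField R₁) := by
    refine Henselian.StrictHenselization.isSepClosed_of_ringEquiv (RingEquiv.ofBijective
      (ResidueField.map (Ideal.Quotient.mk I)) ⟨RingHom.injective _, fun z => ?_⟩)
    obtain ⟨t, rfl⟩ := residue_surjective z
    obtain ⟨s, rfl⟩ := Ideal.Quotient.mk_surjective t
    exact ⟨residue R s, rfl⟩
  let R₁' := R₁ ⊗[R] R'
  let π : R' →+* R₁' := (Algebra.TensorProduct.includeRight : R' →ₐ[R] R₁ ⊗[R] R').toRingHom
  have hπ : Function.Surjective π :=
    Algebra.TensorProduct.includeRight_surjective R' Ideal.Quotient.mk_surjective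
  have hker : RingHom.ker π = Ideal.span {algebraMap R R' Δ} := by
    refine le_antisymm (fun x hx => ?_) ?_
    · have hJI : ∀ r ∈ I, algebraMap R R' r ∈ Ideal.span {algebraMap R R' Δ} := fun r hr => by
        obtain ⟨c, rfl⟩ := Ideal.mem_span_singleton'.mp hr
        rw [map_mul]
        exact Ideal.mul_mem_left _ _ (Ideal.mem_span_singleton_self _)
      let g : R₁ ⊗[R] R' →ₐ[R] R' ⧸ Ideal.span {algebraMap R R' Δ} :=
        Algebra.TensorProduct.lift (Ideal.Quotient.liftₐ I (Algebra.ofId R _) fun r hr =>
          Ideal.Quotient.eq_zero_iff_mem.mpr (hJI r hr))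
          (IsScalarTower.toAlgHom R R' _) fun _ _ => Commute.all _ _
      have hgx : g (π x) = Ideal.Quotient.mk _ x := by
        change g (1 ⊗ₜ x) = _
        rw [Algebra.TensorProduct.lift_tmul, map_one, one_mul]
        rfl
      rw [show π x = 0 from hx, map_zero] at hgx
      exact Ideal.Quotient.eq_zero_iff_mem.mp hgx.symm
    · rw [Ideal.span_singleton_le_iff_mem, RingHom.mem_ker]
      change (Algebra.TensorProduct.includeRight : R' →ₐ[R] R₁ ⊗[R] R') (algebraMap R R' Δ) = 0
      rw [AlgHom.commutes, IsScalarTower.algebraMap_apply R R₁ (R₁ ⊗[R] R'),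
        show algebraMap R R₁ Δ = 0 from Ideal.Quotient.eq_zero_iff_mem.mpr (Ideal.mem_span_singleton_self Δ),
        map_zero]
  have hΔm : Δ ∈ maximalIdeal R := hΔ.not_unit
  have hkq : RingHom.ker π ≤ q := by
    rw [hker, Ideal.span_singleton_le_iff_mem]
    exact hq.ge hΔm
  let q₁ := q.map π
  have : q₁.IsPrime := Ideal.map_isPrime_of_surjective hπ hkq
  have hqq : q = q₁.comap π := by
    rw [Ideal.comap_map_of_surjective _ hπ, ← RingHom.ker_eq_comap_bot, sup_eq_left.mpr hkq]
  have hq₁ : q₁.comap (algebraMap R₁ R₁') = maximalIdeal R₁ := by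
    apply Ideal.comap_injective_of_surjective (Ideal.Quotient.mk I) Ideal.Quotient.mk_surjective
    rw [Ideal.comap_comap, show (algebraMap R₁ R₁').comp (Ideal.Quotient.mk I) = π.comp (algebraMap R R') from
      RingHom.ext fun a => ((IsScalarTower.algebraMap_apply R R₁ R₁' a).symm).trans
        ((Algebra.TensorProduct.includeRight : R' →ₐ[R] R₁ ⊗[R] R').commutes a).symm,
      ← Ideal.comap_comap, ← hqq, hq]
    exact (((local_hom_TFAE (Ideal.Quotient.mk I)).out 0 4 rfl rfl).mp hmk).symm
  have hR₁ : CAlg2.IsGeomUnibranch (Localization.AtPrime (maximalIdeal R₁)) :=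
    UnibranchBirationalAlg.isGeomUnibranch_of_ringEquiv
      (IsLocalization.atUnits R₁ (maximalIdeal R₁).primeCompl fun x hx => notMem_maximalIdeal.mp hx).toRingEquiv
      (SmoothBranches.isGeomUnibranch_henselian R₁)
  let B := Localization.AtPrime q₁
  have : IsDomain B := SmoothBranches.isDomain_smooth R₁ R₁' q₁ (maximalIdeal R₁) hq₁ hR₁
  have := isDomain_strict B (SmoothBranches.isGeomUnibranch_smooth R₁ R₁' q₁ (maximalIdeal R₁) hq₁ hR₁)
  let : Algebra L B := (Localization.localRingHom q q₁ π hqq).toAlgebra
  obtain ⟨hsurj, hkL⟩ := localRingHom_surjective π hπ q q₁ hqq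
  obtain ⟨e⟩ := exists_equiv_quot L B hsurj
  have hJ : BranchFibre.J L B S = Ideal.span {Δ'} := by
    change Ideal.map _ (RingHom.ker (Localization.localRingHom q q₁ π hqq)) = _
    rw [hkL, hker, Ideal.map_span, Set.image_singleton, Ideal.map_span, Set.image_singleton]
  have : (BranchFibre.J L B S).IsPrime := by
    have : IsDomain (S ⧸ BranchFibre.J L B S) := e.symm.toMulEquiv.isDomain _
    exact (Ideal.Quotient.isDomain_iff_prime _).mp this
  refine (Ideal.span_singleton_prime ?_).mp (hJ ▸ this)
  let : Algebra R S := ((algebraMap L S).comp ((algebraMap R' L).comp (algebraMap R R'))).toAlgebra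
  have : IsScalarTower R L S := IsScalarTower.of_algebraMap_eq fun a => by
    rw [IsScalarTower.algebraMap_apply R R' L]
    rfl
  have : Module.Flat L S := Henselian.StrictHenselization.flat L S
  have : Module.Flat R' L := IsLocalization.flat L q.primeCompl
  have : Module.Flat R L := Module.Flat.trans R R' L
  have : Module.Flat R S := Module.Flat.trans R L S
  have : IsLocalHom (algebraMap R S) := by
    refine ((local_hom_TFAE _).out 0 4 rfl rfl).mpr ?_
    change (maximalIdeal S).comap ((algebraMap L S).comp ((algebraMap R' L).comp (algebraMap R R'))) = _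
    rw [← Ideal.comap_comap, ((local_hom_TFAE (algebraMap L S)).out 0 4 rfl rfl).mp inferInstance,
      ← Ideal.comap_comap]
    exact (congrArg (Ideal.comap (algebraMap R R')) Localization.AtPrime.comap_maximalIdeal).trans hq
  have : Module.FaithfullyFlat R S := Module.FaithfullyFlat.of_flat_of_isLocalHom
  exact fun h0 => hΔ.ne_zero (FaithfulSMul.algebraMap_injective R S (h0.trans (map_zero _).symm))

end Groth.Agent.Lib.Unram.SmoothPrime
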