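import Groth.Agent.Lib.Unram.SmoothPrime

/-!
# Universally prime elements and smooth algebras
-/

set_option autoImplicit false

universe u

open IsLocalRing
open scoped TensorProduct
open Groth.Agent.Lib
open Henselian.StrictHenselization (StrictHenselization)
open Groth.Agent.Lib.Unram.UnibranchEtaleAlg

namespace Groth.Agent.Lib.Unram.SmoothPrimeUniv

/-- Strict henselizations along local ind-étale algebras, compatibly with the base. -/
theorem exists_strict_equiv_comp (A B : Type u) [CommRing A] [IsLocalRing A] [CommRing B] [IsLocalRing B]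
    [Algebra A B] [IsLocalHom (algebraMap A B)] [Algebra.IsSeparable (ResidueField A) (ResidueField B)]
    (hind : EtPBC.IsIndEtale A B) :
    ∃ e : StrictHenselization A ≃+* StrictHenselization B,
      ∀ a, e (algebraMap A _ a) = algebraMap B _ (algebraMap A B a) := by
  let S := StrictHenselization A
  let T := StrictHenselization B
  have hS : Hensel.IsStrictHenselization A S := inferInstance
  have hT : Hensel.IsStrictHenselization B T := inferInstance
  have := hS.isSepClosure.sep_closed
  have := hS.isSepClosure.separable
  have := hT.isSepClosure.sep_closed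
  have := hT.isSepClosure.separable
  let f : A →+* T := (algebraMap B T).comp (algebraMap A B)
  have : IsLocalHom f := RingHom.isLocalHom_comp _ _
  let : Algebra (ResidueField A) (ResidueField T) := (ResidueField.map f).toAlgebra
  have : IsScalarTower (ResidueField A) (ResidueField B) (ResidueField T) :=
    IsScalarTower.of_algebraMap_eq fun y => by
      obtain ⟨a, rfl⟩ := residue_surjective y
      rfl
  have : Algebra.IsSeparable (ResidueField A) (ResidueField T) :=
    Algebra.IsSeparable.trans (ResidueField A) (ResidueField B) (ResidueField T)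
  let τ : ResidueField S →ₐ[ResidueField A] ResidueField T := IsSepClosed.lift
  obtain ⟨g, ⟨hg, hgτ⟩, -⟩ := hS.universal T f τ.toRingHom (RingHom.ext fun x => τ.commutes x)
  have : IsLocalHom g := ⟨fun x hx => by
    by_contra hu
    have h := hgτ x
    rw [(residue_eq_zero_iff x).mpr hu, map_zero] at h
    exact (hx.map (residue T)).ne_zero h⟩
  let : Algebra S T := g.toAlgebra
  have : IsLocalHom (algebraMap S T) := ‹IsLocalHom g›
  let : Algebra A T := f.toAlgebra
  have : IsScalarTower A B T := IsScalarTower.of_algebraMap_eq fun a => rfl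
  have : IsScalarTower A S T := IsScalarTower.of_algebraMap_eq fun a => (RingHom.congr_fun hg a).symm
  have hST : EtPBC.IsIndEtale S T :=
    IndEtale.Basic.cancel Henselian.IndEtale.isIndEtale_lim
      (IndEtale.Basic.trans hind Henselian.IndEtale.isIndEtale_lim)
  have hmap : ResidueField.map (algebraMap S T) = τ.toRingHom := RingHom.ext fun y => by
    obtain ⟨s, rfl⟩ := residue_surjective y
    exact hgτ s
  have hres : Function.Surjective (ResidueField.map (algebraMap S T)) := by
    rw [hmap]
    let : Algebra (ResidueField S) (ResidueField T) := τ.toRingHom.toAlgebra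
    have : IsScalarTower (ResidueField A) (ResidueField S) (ResidueField T) :=
      IsScalarTower.of_algebraMap_eq fun y => (τ.commutes y).symm
    have : Algebra.IsSeparable (ResidueField S) (ResidueField T) :=
      Algebra.isSeparable_tower_top_of_isSeparable (ResidueField A) _ _
    exact IsSepClosed.algebraMap_surjective (ResidueField S) (ResidueField T)
  exact ⟨RingEquiv.ofBijective _ (bijective_of_indEtale S T hST hres), fun a => RingHom.congr_fun hg a⟩

theorem isUnit_or_prime (R R' : Type u) [CommRing R] [CommRing R'] [Algebra R R'] [Algebra.Smooth R R']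
    (Δ : R) (p : Ideal R) [p.IsPrime] (q : Ideal R') [q.IsPrime] (hp : q.comap (algebraMap R R') = p)
    (hΔ : Prime (algebraMap (Localization.AtPrime p) (StrictHenselization (Localization.AtPrime p))
      (algebraMap R (Localization.AtPrime p) Δ)))
    (T : Type u) [CommRing T] [IsLocalRing T] [Algebra (Localization.AtPrime q) T]
    [IsLocalHom (algebraMap (Localization.AtPrime q) T)]
    [Hensel.IsStrictHenselization (Localization.AtPrime q) T] :
    Prime (algebraMap (Localization.AtPrime q) T
      (algebraMap R' (Localization.AtPrime q) (algebraMap R R' Δ))) := by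
  let A := Localization.AtPrime p
  let Sh := StrictHenselization A
  have hSh : Hensel.IsStrictHenselization A Sh := inferInstance
  have := hSh.henselian
  have := hSh.isSepClosure.sep_closed
  have := hSh.isSepClosure.separable
  let : Algebra R Sh := ((algebraMap A Sh).comp (algebraMap R A)).toAlgebra
  have : IsScalarTower R A Sh := IsScalarTower.of_algebraMap_eq fun _ => rfl
  let R'' := Sh ⊗[R] R'
  let mp : R' →+* R'' := (Algebra.TensorProduct.includeRight : R' →ₐ[R] Sh ⊗[R] R').toRingHom
  let : Algebra R' R'' := mp.toAlgebra
  have hRSh : EtPBC.IsIndEtale R Sh :=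
    IndEtale.Basic.trans (IndEtale.Basic.of_factors
      (IndEtale.Zariski.factors_localization (IndEtale.Basic.impliesFP R)
        IndEtale.Zariski.stableAway_etale (IndEtale.Basic.factors IndEtale.Basic.of_etale)
        p.primeCompl A)) Henselian.IndEtale.isIndEtale_lim
  have hR'' : EtPBC.IsIndEtale R' R'' :=
    IndEtale.Basic.of_algEquiv (IndEtale.Basic.baseChange R' hRSh)
      (AlgEquiv.ofRingEquiv (f := (Algebra.TensorProduct.comm R R' Sh).toRingEquiv) fun x => rfl)
  let Ω := AlgebraicClosure q.ResidueField
  let v : R' →+* Ω := (algebraMap q.ResidueField Ω).comp (algebraMap R' q.ResidueField)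
  have hv : RingHom.ker v = q := by
    rw [RingHom.ker_comp_of_injective _ (algebraMap q.ResidueField Ω).injective,
      Ideal.ker_algebraMap_residueField]
  let : Algebra R Ω := (v.comp (algebraMap R R')).toAlgebra
  have hc : ∀ a, algebraMap R Ω a = 0 ↔ a ∈ p := fun a => by
    rw [← hp, Ideal.mem_comap]
    exact SetLike.ext_iff.mp hv (algebraMap R R' a)
  let cA : A →+* Ω := IsLocalization.lift (M := p.primeCompl) (g := algebraMap R Ω)
    fun y => isUnit_iff_ne_zero.mpr fun h => y.2 ((hc _).mp h)
  have hcA : ∀ x ∈ maximalIdeal A, cA x = 0 := by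
    rw [← Localization.AtPrime.map_eq_maximalIdeal]
    intro x hx
    refine (Ideal.map_le_iff_le_comap.mpr (fun a ha => ?_) : _ ≤ RingHom.ker cA) hx
    rw [Ideal.mem_comap, RingHom.mem_ker, IsLocalization.lift_eq]
    exact (hc a).mpr ha
  let : Algebra (ResidueField A) Ω := (Ideal.Quotient.lift (maximalIdeal A) cA hcA).toAlgebra
  let τ : ResidueField Sh →ₐ[ResidueField A] Ω := IsAlgClosed.lift
  let χ : Sh →ₐ[R] Ω := { τ.toRingHom.comp (residue Sh) with
    commutes' := fun a => (τ.commutes (residue A (algebraMap R A a))).trans (IsLocalization.lift_eq _ a) }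
  let ev : R'' →ₐ[R] Ω :=
    Algebra.TensorProduct.lift χ { v with commutes' := fun _ => rfl } fun _ _ => Commute.all _ _
  let Q := RingHom.ker ev.toRingHom
  have : Q.IsPrime := RingHom.ker_isPrime ev.toRingHom
  have hQq : q = Q.comap mp := by
    ext x
    change x ∈ q ↔ ev (1 ⊗ₜ x) = 0
    rw [Algebra.TensorProduct.lift_tmul, map_one, one_mul]
    exact (SetLike.ext_iff.mp hv x).symm
  have hQS : Q.comap (algebraMap Sh R'') = maximalIdeal Sh := by
    ext x
    rw [← ker_residue]
    change ev (x ⊗ₜ 1) = 0 ↔ residue Sh x = 0
    rw [Algebra.TensorProduct.lift_tmul, map_one, mul_one]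
    exact map_eq_zero_iff _ τ.toRingHom.injective
  let L := Localization.AtPrime q
  let L'' := Localization.AtPrime Q
  let : Algebra L L'' := (Localization.localRingHom q Q mp hQq).toAlgebra
  have : IsLocalHom (algebraMap L L'') := Localization.isLocalHom_localRingHom q Q mp hQq
  have : IsScalarTower R' L L'' := IsScalarTower.of_algebraMap_eq fun a =>
    (Localization.localRingHom_to_map q Q mp hQq a).symm
  have hPL : EtPBC.IsIndEtale L L'' :=
    IndEtale.Basic.cancel (A := R') (IndEtale.Basic.of_factors
      (IndEtale.Zariski.factors_localization (IndEtale.Basic.impliesFP R')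
        IndEtale.Zariski.stableAway_etale (IndEtale.Basic.factors IndEtale.Basic.of_etale)
        q.primeCompl L))
      (IndEtale.Basic.of_factors
      (IndEtale.Zariski.factors_localization (IndEtale.Basic.impliesFP R')
        IndEtale.Zariski.stableAway_etale (IndEtale.Basic.factors hR'') Q.primeCompl L''))
  have := PuncturedStrict.isSeparable_residue _ _ hPL
  obtain ⟨e, he⟩ := exists_strict_equiv_comp L L'' hPL
  have h1 := SmoothPrime.prime_map Sh R'' Q hQS (StrictHenselization L'') (algebraMap R Sh Δ) hΔ
  have h2 : Prime (algebraMap L (StrictHenselization L) (algebraMap R' L (algebraMap R R' Δ))) := by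
    refine (MulEquiv.prime_iff e.toMulEquiv).mp ?_
    change Prime (e _)
    rw [he, ← IsScalarTower.algebraMap_apply R' L L'', IsScalarTower.algebraMap_apply R' R'' L'']
    rwa [show algebraMap R' R'' (algebraMap R R' Δ) = algebraMap Sh R'' (algebraMap R Sh Δ) from
      ((Algebra.TensorProduct.includeRight : R' →ₐ[R] Sh ⊗[R] R').commutes Δ).trans
        (IsScalarTower.algebraMap_apply R Sh R'' Δ)]
  have h' := (MulEquiv.prime_iff
    (Henselian.StrictHenselization.equivOfIsStrictHenselization L T).toMulEquiv).mpr h2
  change Prime (Henselian.StrictHenselization.equivOfIsStrictHenselization L T (algebraMap L _ _)) at h'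
  rwa [AlgEquiv.commutes] at h'

end Groth.Agent.Lib.Unram.SmoothPrimeUniv
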