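import Mathlib.AlgebraicGeometry.Morphisms.Etale
import Mathlib.AlgebraicGeometry.Morphisms.UniversallyInjective
import Mathlib.RingTheory.Unramified.LocalRing
import Groth.Agent.Lib.Unram.AtPrime

/-!
# Unramified / etale / monomorphism criteria via `𝒪_x / 𝔪_y 𝒪_x`
-/

universe u

open AlgebraicGeometry CategoryTheory Limits IsLocalRing

namespace Groth.Agent.Lib.Unram.StalkCriterion

section Ring

variable {R S : Type u} [CommRing R] [CommRing S] [Algebra R S] [IsLocalRing R] [IsLocalRing S]
  [IsLocalHom (algebraMap R S)]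

theorem quotEquiv_quotientMap (H : (maximalIdeal R).map (algebraMap R S) = maximalIdeal S)
    (r : R ⧸ maximalIdeal R) :
    Ideal.quotEquivOfEq H (Ideal.quotientMap ((maximalIdeal R).map (algebraMap R S)) (algebraMap R S)
      Ideal.le_comap_map r) = algebraMap (ResidueField R) (ResidueField S) r := by
  obtain ⟨r, rfl⟩ := Ideal.Quotient.mk_surjective r
  rfl

theorem map_eq_maximalIdeal_of_isField
    (h : IsField (S ⧸ (maximalIdeal R).map (algebraMap R S))) :
    (maximalIdeal R).map (algebraMap R S) = maximalIdeal S :=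
  eq_maximalIdeal ((Ideal.Quotient.maximal_ideal_iff_isField_quotient _).mpr h)

variable [Algebra.EssFiniteType R S]

theorem formallyUnramified_iff :
    Algebra.FormallyUnramified R S ↔
      letI := (Ideal.quotientMap ((maximalIdeal R).map (algebraMap R S)) (algebraMap R S)
        Ideal.le_comap_map).toAlgebra
      IsField (S ⧸ (maximalIdeal R).map (algebraMap R S)) ∧
        Module.Finite (R ⧸ maximalIdeal R) (S ⧸ (maximalIdeal R).map (algebraMap R S)) ∧
        Algebra.IsSeparable (R ⧸ maximalIdeal R) (S ⧸ (maximalIdeal R).map (algebraMap R S)) := by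
  letI inst := (Ideal.quotientMap ((maximalIdeal R).map (algebraMap R S)) (algebraMap R S)
    Ideal.le_comap_map).toAlgebra
  letI : Field (R ⧸ maximalIdeal R) := Ideal.Quotient.field _
  constructor
  · intro hu
    have hF := Algebra.FormallyUnramified.isField_quotient_map_maximalIdeal (R := R) (S := S)
    have H := map_eq_maximalIdeal_of_isField hF
    let e₁ : ResidueField R ≃+* R ⧸ maximalIdeal R := RingEquiv.refl _
    let e₂ : ResidueField S ≃+* S ⧸ (maximalIdeal R).map (algebraMap R S) :=
      (Ideal.quotEquivOfEq H).symm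
    have he : (algebraMap (R ⧸ maximalIdeal R) (S ⧸ (maximalIdeal R).map (algebraMap R S))).comp
          (e₁ : ResidueField R →+* R ⧸ maximalIdeal R) =
        (e₂ : ResidueField S →+* _).comp
          (algebraMap (ResidueField R) (ResidueField S)) := by
      refine RingHom.ext fun r => ?_
      exact ((Ideal.quotEquivOfEq H).symm_apply_eq.mpr (quotEquiv_quotientMap H r).symm).symm
    exact ⟨hF, Module.Finite.of_equiv_equiv e₁ e₂ he,
      Algebra.IsSeparable.of_equiv_equiv e₁ e₂ he⟩
  · rintro ⟨hF, -, hsep⟩
    have H := map_eq_maximalIdeal_of_isField hF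
    let e₁ : R ⧸ maximalIdeal R ≃+* ResidueField R := RingEquiv.refl _
    let e₂ : (S ⧸ (maximalIdeal R).map (algebraMap R S)) ≃+* ResidueField S :=
      Ideal.quotEquivOfEq H
    have he : (algebraMap (ResidueField R) (ResidueField S)).comp
          (e₁ : R ⧸ maximalIdeal R →+* ResidueField R) =
        (e₂ : _ →+* ResidueField S).comp
          (algebraMap (R ⧸ maximalIdeal R) (S ⧸ (maximalIdeal R).map (algebraMap R S))) :=
      RingHom.ext fun r => (quotEquiv_quotientMap H r).symm
    have : Algebra.IsSeparable (ResidueField R) (ResidueField S) :=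
      Algebra.IsSeparable.of_equiv_equiv e₁ e₂ he
    exact Algebra.FormallyUnramified.of_map_maximalIdeal H

theorem bijective_iff :
    Function.Bijective (Ideal.quotientMap ((maximalIdeal R).map (algebraMap R S)) (algebraMap R S)
        Ideal.le_comap_map) ↔
      Algebra.FormallyUnramified R S ∧
        Function.Surjective (algebraMap (ResidueField R) (ResidueField S)) := by
  constructor
  · intro hb
    have hF : IsField (S ⧸ (maximalIdeal R).map (algebraMap R S)) :=
      (RingEquiv.ofBijective _ hb).symm.toMulEquiv.isField (Field.toIsField (ResidueField R))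
    have H := map_eq_maximalIdeal_of_isField hF
    have hs : Function.Surjective (algebraMap (ResidueField R) (ResidueField S)) := fun z => by
      obtain ⟨r, hr⟩ := hb.2 ((Ideal.quotEquivOfEq H).symm z)
      exact ⟨r, by rw [← quotEquiv_quotientMap H, hr]; exact RingEquiv.apply_symm_apply _ _⟩
    refine ⟨?_, hs⟩
    have : Algebra.IsSeparable (ResidueField R) (ResidueField S) :=
      ⟨fun z => by obtain ⟨r, rfl⟩ := hs z; exact isSeparable_algebraMap r⟩
    exact Algebra.FormallyUnramified.of_map_maximalIdeal H
  · rintro ⟨hu, hs⟩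
    have H := Algebra.FormallyUnramified.map_maximalIdeal (R := R) (S := S)
    refine ⟨fun a b hab => (algebraMap (ResidueField R) (ResidueField S)).injective (by
      rw [← quotEquiv_quotientMap H, ← quotEquiv_quotientMap H, hab]), fun z => ?_⟩
    obtain ⟨r, hr⟩ := hs (Ideal.quotEquivOfEq H z)
    exact ⟨r, (Ideal.quotEquivOfEq H).injective (by rw [quotEquiv_quotientMap H]; exact hr)⟩

end Ring

variable {X Y : Scheme.{u}} (f : X ⟶ Y)

theorem formallyUnramified_iff_stalk [LocallyOfFiniteType f] :
    FormallyUnramified f ↔ ∀ x, (f.stalkMap x).hom.FormallyUnramified := by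
  refine ⟨fun h x => (AtPrime.exists_formallyUnramified_nhd_iff f x).mp
    ⟨⊤, trivial, IsZariskiLocalAtSource.comp h (Scheme.Opens.ι ⊤)⟩,
    fun h => ?_⟩
  choose U hxU hU using fun x => (AtPrime.exists_formallyUnramified_nhd_iff f x).mpr (h x)
  exact IsZariskiLocalAtSource.of_iSup_eq_top U
    (eq_top_iff.mpr fun x _ => TopologicalSpace.Opens.mem_iSup.mpr ⟨x, hxU x⟩) hU

theorem etale_iff [LocallyOfFinitePresentation f] :
    Etale f ↔ Flat f ∧ ∀ x : X,
      letI φ := (f.stalkMap x).hom
      letI 𝔪 := maximalIdeal (Y.presheaf.stalk (f x))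
      letI := (Ideal.quotientMap (𝔪.map φ) φ Ideal.le_comap_map).toAlgebra
      IsField (X.presheaf.stalk x ⧸ 𝔪.map φ) ∧
        Module.Finite (Y.presheaf.stalk (f x) ⧸ 𝔪) (X.presheaf.stalk x ⧸ 𝔪.map φ) ∧
        Algebra.IsSeparable (Y.presheaf.stalk (f x) ⧸ 𝔪) (X.presheaf.stalk x ⧸ 𝔪.map φ) := by
  rw [Etale.iff_flat_and_formallyUnramified]
  simp only [‹LocallyOfFinitePresentation f›, and_true]
  refine and_congr_right fun _ => (formallyUnramified_iff_stalk f).trans (forall_congr' fun x => ?_)
  letI := (f.stalkMap x).hom.toAlgebra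
  haveI : IsLocalHom (algebraMap (Y.presheaf.stalk (f x)) (X.presheaf.stalk x)) :=
    inferInstanceAs (IsLocalHom (f.stalkMap x).hom)
  haveI : Algebra.EssFiniteType (Y.presheaf.stalk (f x)) (X.presheaf.stalk x) :=
    LocallyOfFiniteType.stalkMap f x
  exact formallyUnramified_iff

theorem isPurelyInseparable_residueFieldMap_iff (x : X) :
    (f.residueFieldMap x).hom.IsPurelyInseparable ↔
      letI := (f.stalkMap x).hom.toAlgebra
      letI : IsLocalHom (algebraMap (Y.presheaf.stalk (f x)) (X.presheaf.stalk x)) :=
        inferInstanceAs (IsLocalHom (f.stalkMap x).hom)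
      IsPurelyInseparable (ResidueField (Y.presheaf.stalk (f x)))
        (ResidueField (X.presheaf.stalk x)) := by
  letI := (f.stalkMap x).hom.toAlgebra
  haveI : IsLocalHom (algebraMap (Y.presheaf.stalk (f x)) (X.presheaf.stalk x)) :=
    inferInstanceAs (IsLocalHom (f.stalkMap x).hom)
  have e : (f.residueFieldMap x).hom =
      algebraMap (ResidueField (Y.presheaf.stalk (f x))) (ResidueField (X.presheaf.stalk x)) :=
    RingHom.ext fun z => by
      obtain ⟨z, rfl⟩ := residue_surjective z
      rfl
  exact (iff_of_eq (congrArg RingHom.IsPurelyInseparable e)).trans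
    (RingHom.isPurelyInseparable_algebraMap_iff (F := ResidueField (Y.presheaf.stalk (f x)))
      (E := ResidueField (X.presheaf.stalk x)))

theorem mono_iff [LocallyOfFiniteType f] :
    Mono f ↔ ∀ x : X, (∀ x' : X, f x' = f x → x' = x) ∧
      Function.Bijective (Ideal.quotientMap
        ((maximalIdeal (Y.presheaf.stalk (f x))).map (f.stalkMap x).hom) (f.stalkMap x).hom
        Ideal.le_comap_map) := by
  constructor
  · intro hm x
    refine ⟨fun x' h => f.injective h, ?_⟩
    haveI : IsIso (pullback.diagonal f) := (pullback.isIso_diagonal_iff f).mpr hm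
    have hu := (formallyUnramified_iff_stalk f).mp inferInstance x
    have hpi := (((tfae_universallyInjective f).out 0 2
      (b := Function.Injective f ∧ ∀ x, (f.residueFieldMap x).hom.IsPurelyInseparable)).mp
        (inferInstance : UniversallyInjective f)).2 x
    letI := (f.stalkMap x).hom.toAlgebra
    haveI : IsLocalHom (algebraMap (Y.presheaf.stalk (f x)) (X.presheaf.stalk x)) :=
      inferInstanceAs (IsLocalHom (f.stalkMap x).hom)
    haveI : Algebra.EssFiniteType (Y.presheaf.stalk (f x)) (X.presheaf.stalk x) :=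
      LocallyOfFiniteType.stalkMap f x
    haveI : Algebra.FormallyUnramified (Y.presheaf.stalk (f x)) (X.presheaf.stalk x) := hu
    haveI : IsPurelyInseparable (ResidueField (Y.presheaf.stalk (f x)))
        (ResidueField (X.presheaf.stalk x)) := (isPurelyInseparable_residueFieldMap_iff f x).mp hpi
    exact bijective_iff.mpr ⟨hu, IsPurelyInseparable.surjective_algebraMap_of_isSeparable _ _⟩
  · intro h
    have h' : ∀ x, (f.stalkMap x).hom.FormallyUnramified ∧
        (f.residueFieldMap x).hom.IsPurelyInseparable := fun x => by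
      letI := (f.stalkMap x).hom.toAlgebra
      haveI : IsLocalHom (algebraMap (Y.presheaf.stalk (f x)) (X.presheaf.stalk x)) :=
        inferInstanceAs (IsLocalHom (f.stalkMap x).hom)
      haveI : Algebra.EssFiniteType (Y.presheaf.stalk (f x)) (X.presheaf.stalk x) :=
        LocallyOfFiniteType.stalkMap f x
      obtain ⟨hu, hs⟩ := bijective_iff.mp (h x).2
      refine ⟨hu, ?_⟩
      refine (isPurelyInseparable_residueFieldMap_iff f x).mpr ?_
      exact ⟨⟨fun z => by obtain ⟨r, rfl⟩ := hs z; exact isIntegral_algebraMap⟩, fun z _ => hs z⟩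
    haveI : FormallyUnramified f := (formallyUnramified_iff_stalk f).mpr fun x => (h' x).1
    haveI : UniversallyInjective f := ((tfae_universallyInjective f).out 0 2
      (b := Function.Injective f ∧ ∀ x, (f.residueFieldMap x).hom.IsPurelyInseparable)).mpr
      ⟨fun a b hab => ((h b).1 a hab), fun x => (h' x).2⟩
    haveI : Surjective (pullback.diagonal f) := (UniversallyInjective.iff_diagonal f).mp inferInstance
    exact (pullback.isIso_diagonal_iff f).mp
      ((isIso_iff_isOpenImmersion_and_surjective _).mpr ⟨inferInstance, inferInstance⟩)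

end Groth.Agent.Lib.Unram.StalkCriterion
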