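import Groth.Agent.Lib.Unram.StrictGalois
import Groth.Agent.Lib.Henselian.Permanence
import Mathlib.RingTheory.Flat.FaithfullyFlat.Algebra

/-!
# Fraction fields of the branches of a strict henselization

For a prime `Q` of the strict henselization `S` and a finite stage `E` from which `Q` is extended,
the subfields of `Frac (S/Q)` generated by stage elements meet `S/Q` inside the image of `E`.
-/

universe u

open IsLocalRing Polynomial

namespace Groth.Agent.Lib.Unram.StrictFractions

open StrictGalois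

variable {A S : Type u} [CommRing A] [HenselianLocalRing A] [IsNoetherianRing A] [CommRing S]
  [IsLocalRing S] [Algebra A S] [IsLocalHom (algebraMap A S)] [Hensel.IsStrictHenselization A S]

section

variable (A S)

/-- A stage from which finitely many prescribed ideals are extended. -/
theorem exists_stage_ideals (I : Set (Ideal S)) (hI : I.Finite) (s : Finset S) :
    ∃ P : GaloisStage A S, (s : Set S) ⊆ P.E ∧
      ∀ J ∈ I, J = Ideal.map (algebraMap P.E S) (J.comap (algebraMap P.E S)) := by
  classical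
  haveI : IsNoetherianRing S :=
    (Lib.Henselian.Permanence.strict_isNoetherianRing_iff A S).mp inferInstance
  have hg : ∀ J : Ideal S, ∃ g : Finset S, Ideal.span (g : Set S) = J := fun J =>
    IsNoetherian.noetherian J
  choose g hg using hg
  obtain ⟨P, hP⟩ := exists_galoisStage A S (s ∪ hI.toFinset.biUnion g)
  refine ⟨P, fun x hx => hP (Finset.mem_union_left _ hx), fun J hJ => le_antisymm ?_ Ideal.map_comap_le⟩
  conv_lhs => rw [← hg J]
  refine Ideal.span_le.mpr fun x hx => ?_
  have hxE : x ∈ P.E := hP (Finset.mem_union_right _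
    (Finset.mem_biUnion.mpr ⟨J, hI.mem_toFinset.mpr hJ, hx⟩))
  exact Ideal.mem_map_of_mem (algebraMap P.E S)
    (show (⟨x, hxE⟩ : P.E) ∈ J.comap (algebraMap P.E S) from
      hg J ▸ Ideal.subset_span (s := (g J : Set S)) hx)

end

/-- An element divides, modulo the kernel of a map to a field, an element of the base. -/
theorem exists_mul_eq {E Ω : Type u} [CommRing E] [Algebra A E] [Field Ω] (f : E →+* Ω) (b : E)
    (hb : IsIntegral A b) (hb0 : f b ≠ 0) :
    ∃ c : E, ∃ β : A, f (b * c) = f (algebraMap A E β) ∧ f (algebraMap A E β) ≠ 0 := by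
  obtain ⟨p, hp, hpb⟩ := hb
  replace hpb : f (aeval b p) = 0 := by rw [aeval_def, hpb, map_zero]
  induction hn : p.natDegree using Nat.strong_induction_on generalizing p with
  | _ n IH =>
    subst hn
    by_cases h0 : p.natDegree = 0
    · rw [hp.natDegree_eq_zero.mp h0, map_one, map_one] at hpb
      exact (one_ne_zero hpb).elim
    have hdec : aeval b p = b * aeval b p.divX + algebraMap A E (p.coeff 0) := by
      conv_lhs => rw [← X_mul_divX_add p]
      rw [map_add, map_mul, aeval_X, aeval_C]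
    by_cases ha : f (algebraMap A E (p.coeff 0)) = 0
    · rw [hdec, map_add, ha, add_zero, map_mul, mul_eq_zero] at hpb
      have hdeg : p.divX.natDegree = p.natDegree - 1 := natDegree_divX_eq_natDegree_tsub_one
      refine IH p.divX.natDegree (by omega) p.divX ?_ (hpb.resolve_left hb0) rfl
      rw [Monic, leadingCoeff, hdeg, coeff_divX, Nat.sub_add_cancel (by omega)]
      exact hp
    · refine ⟨-aeval b p.divX, p.coeff 0, ?_, ha⟩
      rw [hdec, map_add] at hpb
      rw [mul_neg, map_neg]
      linear_combination -hpb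

section Branch

variable (Q : Ideal S) [Q.IsPrime]

/-- The map `S → Frac (S/Q)`. -/
noncomputable def toFrac : S →+* FractionRing (S ⧸ Q) :=
  (algebraMap (S ⧸ Q) (FractionRing (S ⧸ Q))).comp (Ideal.Quotient.mk Q)

omit [IsLocalRing S] in
theorem toFrac_eq_zero_iff {x : S} : toFrac Q x = 0 ↔ x ∈ Q := by
  rw [toFrac, RingHom.comp_apply, map_eq_zero_iff _ (IsFractionRing.injective _ _),
    Ideal.Quotient.eq_zero_iff_mem]

theorem toFrac_algebraMap (a : A) :
    toFrac Q (algebraMap A S a) = algebraMap A (FractionRing (S ⧸ Q)) a := by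
  rw [IsScalarTower.algebraMap_apply A (S ⧸ Q) (FractionRing (S ⧸ Q))]
  rfl

/-- The map from a stage to `Frac (S/Q)`. -/
noncomputable def stageFrac (E : Subalgebra A S) : E →+* FractionRing (S ⧸ Q) :=
  (toFrac Q).comp (algebraMap E S)

theorem stageFrac_algebraMap (E : Subalgebra A S) (a : A) :
    stageFrac Q E (algebraMap A E a) = algebraMap A (FractionRing (S ⧸ Q)) a :=
  toFrac_algebraMap Q a

/-- An element of `S/Q` with a base multiple coming from the stage comes from the stage. -/
theorem exists_stage_eq (E : Subalgebra A S) [Module.FaithfullyFlat E S]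
    (hQ : Q = Ideal.map (algebraMap E S) (Q.comap (algebraMap E S))) {x : S} {e : E} {β : A}
    (hβ : algebraMap A (FractionRing (S ⧸ Q)) β ≠ 0)
    (h : toFrac Q x * algebraMap A (FractionRing (S ⧸ Q)) β = stageFrac Q E e) :
    ∃ y : E, toFrac Q x = stageFrac Q E y := by
  have hd : x * algebraMap A S β - (e : S) ∈ Q := by
    rw [← toFrac_eq_zero_iff, map_sub, map_mul, toFrac_algebraMap, h]
    exact sub_self _
  let J : Ideal E := Q.comap (algebraMap E S) ⊔ Ideal.span {algebraMap A E β}
  have hmem : algebraMap E S e ∈ J.map (algebraMap E S) := by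
    rw [Ideal.map_sup, ← hQ, Ideal.map_span, Set.image_singleton]
    rw [show algebraMap E S e = -(x * algebraMap A S β - (e : S)) + x * algebraMap A S β by
      show (e : S) = _; ring]
    exact add_mem (Ideal.mem_sup_left (neg_mem hd))
      (Ideal.mem_sup_right (Ideal.mem_span_singleton'.mpr ⟨x, rfl⟩))
  have heJ : e ∈ J := by
    rw [← Ideal.comap_map_eq_self_of_faithfullyFlat (B := S) J]
    exact hmem
  obtain ⟨u, hu, v, hv, rfl⟩ := Submodule.mem_sup.mp heJ
  obtain ⟨y, rfl⟩ := Ideal.mem_span_singleton'.mp hv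
  refine ⟨y, mul_right_cancel₀ hβ ?_⟩
  rw [h, map_add, map_mul, stageFrac_algebraMap]
  have : stageFrac Q E u = 0 := (toFrac_eq_zero_iff Q).mpr hu
  rw [this, zero_add]

/-- The subfield generated over the image of `A` by a set. -/
noncomputable abbrev gen (t : Set (FractionRing (S ⧸ Q))) : Subfield (FractionRing (S ⧸ Q)) :=
  Subfield.closure (Set.range (algebraMap A (FractionRing (S ⧸ Q))) ∪ t)

theorem algebraMap_mem_gen (t : Set (FractionRing (S ⧸ Q))) (a : A) :
    algebraMap A (FractionRing (S ⧸ Q)) a ∈ gen (A := A) Q t :=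
  Subfield.subset_closure (Or.inl ⟨a, rfl⟩)

variable (A) in
/-- A stage from which `Q` and prescribed ideals are extended, whose fractions contain `t`. -/
theorem exists_stage_gen (t : Finset (FractionRing (S ⧸ Q))) (I : Set (Ideal S)) (hI : I.Finite) :
    ∃ P : GaloisStage A S, Q = Ideal.map (algebraMap P.E S) (Q.comap (algebraMap P.E S)) ∧
      (∀ J ∈ I, J = Ideal.map (algebraMap P.E S) (J.comap (algebraMap P.E S))) ∧
      ∀ z ∈ gen (A := A) Q (t : Set (FractionRing (S ⧸ Q))), ∃ c : P.E, ∃ β : A,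
        algebraMap A (FractionRing (S ⧸ Q)) β ≠ 0 ∧
          z * algebraMap A (FractionRing (S ⧸ Q)) β = stageFrac Q P.E c := by
  classical
  have hfr : ∀ z : FractionRing (S ⧸ Q), ∃ p q : S, toFrac Q q ≠ 0 ∧
      z = toFrac Q p / toFrac Q q := fun z => by
    obtain ⟨p, q, hq, h⟩ := IsFractionRing.div_surjective (S ⧸ Q) z
    obtain ⟨p, rfl⟩ := Ideal.Quotient.mk_surjective p
    obtain ⟨q, rfl⟩ := Ideal.Quotient.mk_surjective q
    exact ⟨p, q, (map_ne_zero_iff _ (IsFractionRing.injective (S ⧸ Q) (FractionRing (S ⧸ Q)))).mpr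
      (nonZeroDivisors.ne_zero hq), h.symm⟩
  choose p q hq hpq using hfr
  obtain ⟨P, hst, hP⟩ := exists_stage_ideals A S (I ∪ {Q}) (hI.union (Set.finite_singleton Q))
    (t.image p ∪ t.image q)
  refine ⟨P, hP Q (Or.inr rfl), fun J hJ => hP J (Or.inl hJ), fun z hz => ?_⟩
  let ψ := stageFrac (A := A) Q P.E
  have hcl : z ∈ Subfield.closure (Set.range ψ) := by
    refine (Subfield.closure_le.mpr ?_ : gen (A := A) Q _ ≤ _) hz
    rintro w (⟨a, rfl⟩ | hw)
    · exact Subfield.subset_closure ⟨algebraMap A P.E a, stageFrac_algebraMap Q P.E a⟩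
    · rw [hpq w]
      exact div_mem
        (Subfield.subset_closure ⟨⟨p w, hst (Finset.mem_union_left _ (Finset.mem_image_of_mem _ hw))⟩, rfl⟩)
        (Subfield.subset_closure ⟨⟨q w, hst (Finset.mem_union_right _ (Finset.mem_image_of_mem _ hw))⟩, rfl⟩)
  obtain ⟨a, ha, b, hb, rfl⟩ := Subfield.mem_closure_iff.mp hcl
  rw [show Set.range ψ = ψ.range from rfl, Subring.closure_eq] at ha hb
  obtain ⟨a, rfl⟩ := ha
  obtain ⟨b, rfl⟩ := hb
  by_cases hb0 : ψ b = 0
  · refine ⟨0, 1, by rw [map_one]; exact one_ne_zero, ?_⟩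
    rw [hb0, div_zero, zero_mul, map_zero]
  obtain ⟨c, β, hcβ, hβ⟩ := exists_mul_eq (A := A) ψ b (Algebra.IsIntegral.isIntegral b) hb0
  have hψA : ψ (algebraMap A P.E β) = algebraMap A (FractionRing (S ⧸ Q)) β :=
    stageFrac_algebraMap Q P.E β
  refine ⟨a * c, β, hψA ▸ hβ, ?_⟩
  show _ = ψ (a * c)
  rw [← hψA, ← hcβ, map_mul, map_mul, ← mul_assoc, div_mul_cancel₀ _ hb0]

theorem exists_stage_eq_of_mem {t : Set (FractionRing (S ⧸ Q))} {P : GaloisStage A S}
    (hQ : Q = Ideal.map (algebraMap P.E S) (Q.comap (algebraMap P.E S)))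
    (hP : ∀ z ∈ gen (A := A) Q t, ∃ c : P.E, ∃ β : A, algebraMap A (FractionRing (S ⧸ Q)) β ≠ 0 ∧
          z * algebraMap A (FractionRing (S ⧸ Q)) β = stageFrac Q P.E c)
    {x : S} (hx : toFrac Q x ∈ gen (A := A) Q t) : ∃ y : P.E, toFrac Q x = stageFrac Q P.E y := by
  obtain ⟨c, β, hβ, h⟩ := hP _ hx
  exact exists_stage_eq Q P.E hQ hβ h

/-- The subalgebra `L ∩ S/Q`. -/
noncomputable def inter (t : Set (FractionRing (S ⧸ Q))) : Subalgebra A (S ⧸ Q) where
  carrier := (algebraMap (S ⧸ Q) (FractionRing (S ⧸ Q))) ⁻¹' (gen (A := A) Q t : Set _)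
  mul_mem' {a b} ha hb := by
    show algebraMap _ _ (a * b) ∈ gen (A := A) Q t
    rw [map_mul]; exact mul_mem ha hb
  add_mem' {a b} ha hb := by
    show algebraMap _ _ (a + b) ∈ gen (A := A) Q t
    rw [map_add]; exact add_mem ha hb
  algebraMap_mem' a := by
    show algebraMap _ _ (algebraMap A (S ⧸ Q) a) ∈ gen (A := A) Q t
    rw [← IsScalarTower.algebraMap_apply]; exact algebraMap_mem_gen Q t a

theorem mem_inter {t : Set (FractionRing (S ⧸ Q))} {x : S ⧸ Q} :
    x ∈ inter (A := A) Q t ↔ algebraMap _ (FractionRing (S ⧸ Q)) x ∈ gen (A := A) Q t := Iff.rfl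

theorem isLocalHom_inter (t : Set (FractionRing (S ⧸ Q))) :
    IsLocalHom (algebraMap (inter (A := A) Q t) (S ⧸ Q)) := ⟨fun x hx => by
  obtain ⟨v, hv⟩ := (show IsUnit (x : S ⧸ Q) from hx).exists_right_inv
  have hv' : v ∈ inter (A := A) Q t := by
    rw [mem_inter]
    have h1 : algebraMap _ (FractionRing (S ⧸ Q)) (x : S ⧸ Q) *
        algebraMap _ (FractionRing (S ⧸ Q)) v = 1 := by rw [← map_mul, hv, map_one]
    rw [eq_inv_of_mul_eq_one_right h1]
    exact inv_mem x.2
  exact isUnit_iff_exists_inv.mpr ⟨⟨v, hv'⟩, Subtype.ext hv⟩⟩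

variable (A) in
theorem finite_inter (t : Finset (FractionRing (S ⧸ Q))) :
    Module.Finite A (inter (A := A) Q (t : Set (FractionRing (S ⧸ Q)))) := by
  obtain ⟨P, hQ, -, hP⟩ := exists_stage_gen A Q t ∅ Set.finite_empty
  let φ : P.E →ₐ[A] S ⧸ Q := (Ideal.Quotient.mkₐ A Q).comp P.E.val
  have hle : inter (A := A) Q (t : Set (FractionRing (S ⧸ Q))) ≤ φ.range := fun x hx => by
    obtain ⟨x, rfl⟩ := Ideal.Quotient.mk_surjective x
    obtain ⟨y, hy⟩ := exists_stage_eq_of_mem Q hQ hP (x := x) hx
    exact ⟨y, IsFractionRing.injective (S ⧸ Q) (FractionRing (S ⧸ Q)) hy.symm⟩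
  haveI : Module.Finite A φ.range := Module.Finite.of_surjective φ.rangeRestrict.toLinearMap
    φ.rangeRestrict_surjective
  exact Module.Finite.of_injective (Subalgebra.inclusion hle).toLinearMap
    (Subalgebra.inclusion_injective hle)

theorem isLocalRing_inter (t : Set (FractionRing (S ⧸ Q))) : IsLocalRing (inter (A := A) Q t) :=
  haveI := isLocalHom_inter (A := A) Q t
  haveI : IsLocalRing (S ⧸ Q) := IsLocalRing.of_surjective' (Ideal.Quotient.mk Q)
    Ideal.Quotient.mk_surjective
  RingHom.domain_isLocalRing (algebraMap (inter (A := A) Q t) (S ⧸ Q))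

variable (A) in
theorem formallyUnramified_inter (t : Finset (FractionRing (S ⧸ Q))) :
    Algebra.FormallyUnramified A (inter (A := A) Q (t : Set (FractionRing (S ⧸ Q)))) := by
  obtain ⟨P, hQ, -, hP⟩ := exists_stage_gen A Q t ∅ Set.finite_empty
  let D := inter (A := A) Q (t : Set (FractionRing (S ⧸ Q)))
  haveI : IsLocalRing (S ⧸ Q) := IsLocalRing.of_surjective' (Ideal.Quotient.mk Q)
    Ideal.Quotient.mk_surjective
  haveI : IsLocalHom (Ideal.Quotient.mk Q) :=
    IsLocalHom.of_surjective _ Ideal.Quotient.mk_surjective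
  haveI := isLocalHom_inter (A := A) Q (t : Set (FractionRing (S ⧸ Q)))
  haveI := isLocalRing_inter (A := A) Q (t : Set (FractionRing (S ⧸ Q)))
  haveI : Module.Finite A D := finite_inter A Q t
  let φ : P.E →ₐ[A] S ⧸ Q := (Ideal.Quotient.mkₐ A Q).comp P.E.val
  let ψ := stageFrac (A := A) Q P.E
  let H := fixer P.act ψ (gen (A := A) Q (t : Set (FractionRing (S ⧸ Q))) : Set _)
  obtain ⟨eH, heH⟩ := exists_tr_eq_one P.act P.tr_e H
  have hfix : ∀ z : P.E, φ (tr P.act H (eH * z)) ∈ D := fun z =>
    mem_of_invariant P.act P.tr_e P.fixed ψ (gen (A := A) Q _)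
      (fun a => by
        show stageFrac Q P.E _ ∈ _
        rw [stageFrac_algebraMap]; exact algebraMap_mem_gen Q _ a)
      _ fun g hg => congrArg ψ (act_tr P.act H hg _)
  haveI : IsLocalHom (algebraMap A D) := by
    refine ⟨fun a ha => ?_⟩
    have h1 : IsUnit (Ideal.Quotient.mk Q (algebraMap A S a)) :=
      ha.map (algebraMap D (S ⧸ Q))
    exact IsUnit.of_map (algebraMap A S) a (IsUnit.of_map (Ideal.Quotient.mk Q) _ h1)
  have hmax : (maximalIdeal A).map (algebraMap A D) = maximalIdeal D := by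
    refine le_antisymm (map_maximalIdeal_le _) fun x hx => ?_
    obtain ⟨s, hs⟩ := Ideal.Quotient.mk_surjective (x : S ⧸ Q)
    obtain ⟨y, hy⟩ := exists_stage_eq_of_mem Q hQ hP (x := s) (by
      show algebraMap _ _ (Ideal.Quotient.mk Q s) ∈ _
      rw [hs]; exact x.2)
    have hφy : φ y = x := hs ▸ (IsFractionRing.injective (S ⧸ Q) _ hy).symm
    have hy' : y ∈ maximalIdeal P.E := fun hu => hx (IsUnit.of_map (algebraMap D (S ⧸ Q)) _
      (show IsUnit (x : S ⧸ Q) from hφy ▸ hu.map φ))
    have hmem : y ∈ (maximalIdeal A) • (⊤ : Submodule A P.E) := by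
      rw [Ideal.smul_top_eq_map, Submodule.restrictScalars_mem, P.map_maximalIdeal]; exact hy'
    have key : (⟨φ (tr P.act H (eH * y)), hfix y⟩ : D) ∈ (maximalIdeal A).map (algebraMap A D) := by
      refine Submodule.smul_induction_on
        (p := fun w => (⟨φ (tr P.act H (eH * w)), hfix w⟩ : D) ∈
          (maximalIdeal A).map (algebraMap A D)) hmem (fun m hm w _ => ?_) (fun u v hu hv => ?_)
      · have : (⟨φ (tr P.act H (eH * m • w)), hfix _⟩ : D) =
            algebraMap A D m * ⟨φ (tr P.act H (eH * w)), hfix w⟩ := by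
          refine Subtype.ext ?_
          show φ _ = algebraMap A (S ⧸ Q) m * φ _
          rw [mul_smul_comm, tr_smul, map_smul, Algebra.smul_def]
        rw [this]
        exact Ideal.mul_mem_right _ _ (Ideal.mem_map_of_mem _ hm)
      · have : (⟨φ (tr P.act H (eH * (u + v))), hfix _⟩ : D) =
            ⟨φ (tr P.act H (eH * u)), hfix u⟩ + ⟨φ (tr P.act H (eH * v)), hfix v⟩ := by
          refine Subtype.ext ?_
          show φ _ = φ _ + φ _
          rw [mul_add, tr_add, map_add]
        rw [this]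
        exact add_mem hu hv
    have hval : φ (tr P.act H (eH * y)) = x := by
      rw [← hφy]
      refine IsFractionRing.injective (S ⧸ Q) (FractionRing (S ⧸ Q)) ?_
      exact map_tr_mul P.act ψ H heH fun h hh => mem_fixer P.act |>.mp hh y (by
        show stageFrac Q P.E y ∈ _
        rw [← hy]
        show algebraMap _ _ (Ideal.Quotient.mk Q s) ∈ _
        rw [hs]; exact x.2)
    rwa [show (⟨φ (tr P.act H (eH * y)), hfix y⟩ : D) = x from Subtype.ext hval] at key
  haveI : Algebra.IsSeparable (ResidueField A) (ResidueField D) := by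
    haveI := (Hensel.IsStrictHenselization.isSepClosure (R := A) (S := S)).separable
    haveI : IsLocalHom (algebraMap A (S ⧸ Q)) := ⟨fun a ha =>
      IsUnit.of_map (algebraMap A S) a (IsUnit.of_map (Ideal.Quotient.mk Q) _ ha)⟩
    let σ : ResidueField S →ₐ[ResidueField A] ResidueField (S ⧸ Q) :=
      { ResidueField.map (Ideal.Quotient.mk Q) with
        commutes' := fun a => by
          obtain ⟨a, rfl⟩ := residue_surjective a
          rfl }
    have hσ : Function.Surjective σ := fun z => by
      obtain ⟨z, rfl⟩ := residue_surjective z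
      obtain ⟨z, rfl⟩ := Ideal.Quotient.mk_surjective z
      exact ⟨residue S z, rfl⟩
    haveI : Algebra.IsSeparable (ResidueField A) (ResidueField (S ⧸ Q)) :=
      AlgEquiv.Algebra.isSeparable (AlgEquiv.ofBijective σ ⟨σ.toRingHom.injective, hσ⟩)
    let τ : ResidueField D →ₐ[ResidueField A] ResidueField (S ⧸ Q) :=
      { ResidueField.map (algebraMap D (S ⧸ Q)) with
        commutes' := fun a => by
          obtain ⟨a, rfl⟩ := residue_surjective a
          rfl }
    exact Algebra.IsSeparable.of_algHom _ _ τ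
  exact Algebra.FormallyUnramified.of_map_maximalIdeal hmax

end Branch

end Groth.Agent.Lib.Unram.StrictFractions
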