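import Groth.Agent.H24.EssEtale.Galois
import Mathlib.FieldTheory.Fixed
import Mathlib.FieldTheory.Galois.Basic
import Mathlib.RingTheory.Trace.Basic
import Mathlib.RingTheory.Unramified.LocalRing

/-!
# Galois descent along the finite stages of a strict henselization

* `mem_of_invariant`: for a finite group `G` acting on `E` with fixed ring the base, a ring map
  `ψ : E → Ω` to a field and a subfield `L` containing the base, an element whose image is invariant
  under the automorphisms fixing `ψ⁻¹ L` pointwise (after `ψ`) has image in `L`.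
* `exists_galoisStage`: every finite subset of the strict henselization of a Noetherian henselian
  local ring lies in a finite étale local subalgebra with such a group action.
-/

universe u

open IsLocalRing Polynomial

namespace Groth.Agent.Lib.Unram.StrictGalois

section Invariant

variable {A E : Type u} [CommRing A] [CommRing E] [Algebra A E] {G : Type u} [Group G] [Fintype G]
  (act : G →* (E ≃ₐ[A] E))

theorem act_mul (g h : G) (x : E) : act (g * h) x = act g (act h x) := by
  rw [map_mul]; rfl

theorem act_one (x : E) : act 1 x = x := by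
  rw [map_one]; rfl

/-- The subgroup of a finite group given by a submonoid. -/
def ofSubmonoid (M : Submonoid G) : Subgroup G where
  toSubmonoid := M
  inv_mem' {g} hg := by
    have h : g⁻¹ = g ^ (orderOf g - 1) := by
      apply inv_eq_of_mul_eq_one_right
      rw [← pow_succ', Nat.sub_add_cancel (orderOf_pos g), pow_orderOf_eq_one]
    rw [h]
    exact M.pow_mem hg _

/-- The elements fixing pointwise, after `ψ`, the preimage of `L`. -/
def fixer {Ω : Type u} [Field Ω] (ψ : E →+* Ω) (L : Set Ω) : Subgroup G :=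
  ofSubmonoid
    { carrier := {g | ∀ y, ψ y ∈ L → ψ (act g y) = ψ y}
      one_mem' := fun y _ => by rw [act_one]
      mul_mem' := fun {g h} hg hh y hy => by
        rw [act_mul, hg _ (by rw [hh y hy]; exact hy), hh y hy] }

theorem mem_fixer {Ω : Type u} [Field Ω] {ψ : E →+* Ω} {L : Set Ω} {g : G} :
    g ∈ fixer act ψ L ↔ ∀ y, ψ y ∈ L → ψ (act g y) = ψ y := Iff.rfl

open Classical in
/-- The trace over a subgroup. -/
noncomputable def tr (H : Subgroup G) (x : E) : E := ∑ h : H, act (h : G) x

theorem act_tr (H : Subgroup G) {g : G} (hg : g ∈ H) (x : E) : act g (tr act H x) = tr act H x := by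
  classical
  unfold tr
  rw [map_sum]
  exact Fintype.sum_equiv (Equiv.mulLeft (⟨g, hg⟩ : H)) _ _ fun h => (act_mul act g h x).symm

theorem tr_smul (H : Subgroup G) (a : A) (x : E) : tr act H (a • x) = a • tr act H x := by
  classical
  unfold tr
  rw [Finset.smul_sum]
  exact Finset.sum_congr rfl fun h _ => map_smul (act (h : G)) a x

theorem tr_add (H : Subgroup G) (x y : E) : tr act H (x + y) = tr act H x + tr act H y := by
  classical
  unfold tr
  rw [← Finset.sum_add_distrib]
  exact Finset.sum_congr rfl fun h _ => map_add (act (h : G)) x y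

theorem map_tr_mul {Ω : Type u} [CommRing Ω] (ψ : E →+* Ω) (H : Subgroup G) {e z : E}
    (he : tr act H e = 1) (hz : ∀ h ∈ H, ψ (act h z) = ψ z) : ψ (tr act H (e * z)) = ψ z := by
  classical
  unfold tr at he ⊢
  calc ψ (∑ h : H, act (h : G) (e * z)) = ∑ h : H, ψ (act (h : G) e) * ψ z := by
        rw [map_sum]
        refine Finset.sum_congr rfl fun h _ => ?_
        rw [map_mul, map_mul, hz _ h.2]
    _ = ψ z := by rw [← Finset.sum_mul, ← map_sum, he, map_one, one_mul]

theorem tr_mul_of_fixed (H : Subgroup G) {e z : E} (he : tr act H e = 1)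
    (hz : ∀ h ∈ H, act h z = z) : tr act H (e * z) = z :=
  map_tr_mul act (RingHom.id E) H he hz

theorem exists_tr_eq_one {e : E} (he : tr act ⊤ e = 1) (H : Subgroup G) :
    ∃ eH, tr act H eH = 1 := by
  classical
  refine ⟨∑ q : G ⧸ H, act (q.out)⁻¹ e, ?_⟩
  have hbij : Function.Bijective (fun p : H × (G ⧸ H) => (p.1 : G) * (p.2.out)⁻¹) := by
    constructor
    · rintro ⟨h, q⟩ ⟨h', q'⟩ heq
      have heq' := congrArg (·⁻¹) (show (h : G) * q.out⁻¹ = h' * q'.out⁻¹ from heq)
      simp only [mul_inv_rev, inv_inv] at heq'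
      have hq : q = q' := by
        rw [← QuotientGroup.out_eq' q, ← QuotientGroup.out_eq' q']
        rw [QuotientGroup.eq]
        have : (q.out)⁻¹ * q'.out = (h : G)⁻¹ * (h' : G) := by
          rw [inv_mul_eq_iff_eq_mul, ← mul_assoc, heq', mul_assoc, inv_mul_cancel, mul_one]
        rw [this]
        exact H.mul_mem (H.inv_mem h.2) h'.2
      subst hq
      rw [mul_right_inj, inv_inj, SetLike.coe_eq_coe] at heq'
      rw [heq']
    · intro g
      have h1 : ((g⁻¹ : G) : G ⧸ H).out⁻¹ * g⁻¹ ∈ H := by
        rw [← QuotientGroup.eq, QuotientGroup.out_eq']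
      exact ⟨(⟨_, H.inv_mem h1⟩, ((g⁻¹ : G) : G ⧸ H)), by simp [mul_assoc]⟩
  rw [← he]
  unfold tr
  calc ∑ h : H, act (h : G) (∑ q : G ⧸ H, act (q.out)⁻¹ e)
      = ∑ p : H × (G ⧸ H), act ((p.1 : G) * (p.2.out)⁻¹) e := by
        rw [Fintype.sum_prod_type]
        refine Finset.sum_congr rfl fun h _ => ?_
        rw [map_sum]
        exact Finset.sum_congr rfl fun q _ => (act_mul act _ _ e).symm
    _ = ∑ g : G, act g e := hbij.sum_comp (fun g => act g e)
    _ = _ := Fintype.sum_equiv Subgroup.topEquiv.symm.toEquiv _ _ fun g => rfl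

/-- The main descent lemma. -/
theorem mem_of_invariant {e : E} (he : tr act ⊤ e = 1)
    (hfix : ∀ x, (∀ g, act g x = x) → x ∈ (algebraMap A E).range)
    {Ω : Type u} [Field Ω] (ψ : E →+* Ω) (L : Subfield Ω) (hA : ∀ a, ψ (algebraMap A E a) ∈ L)
    (z : E) (hz : ∀ g ∈ fixer act ψ (L : Set Ω), ψ (act g z) = ψ z) : ψ z ∈ L := by
  classical
  let H : Subgroup G := ofSubmonoid
    { carrier := {g | ∀ x, ψ x = 0 → ψ (act g x) = 0}
      one_mem' := fun x hx => by rw [act_one]; exact hx
      mul_mem' := fun {g h} hg hh x hx => by rw [act_mul]; exact hg _ (hh x hx) }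
  have hHiff : ∀ h ∈ H, ∀ x, ψ (act h x) = 0 ↔ ψ x = 0 := fun h hh x =>
    ⟨fun hx => by
      have := H.inv_mem hh _ hx
      rwa [← act_mul, inv_mul_cancel, act_one] at this, fun hx => hh x hx⟩
  -- an element fixed by `H` supported only at `ψ`
  have hw : ∀ f : G, ∃ w : E, ψ w ≠ 0 ∧ (f ∉ H → ψ (act f⁻¹ w) = 0) := fun f => by
    by_cases hf : f ∈ H
    · exact ⟨1, by rw [map_one]; exact one_ne_zero, fun h => (h hf).elim⟩
    · have hf' : ¬ ∀ x, ψ x = 0 → ψ (act f x) = 0 := hf
      push Not at hf'
      obtain ⟨x, hx, hfx⟩ := hf'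
      exact ⟨act f x, hfx, fun _ => by rwa [← act_mul, inv_mul_cancel, act_one]⟩
  choose w hw0 hwf using hw
  let W := ∏ f : G, w f
  have hW0 : ψ W ≠ 0 := by
    rw [map_prod]; exact Finset.prod_ne_zero_iff.mpr fun f _ => hw0 f
  let N0 := ∏ h : H, act (h : G) W
  have hN00 : ψ N0 ≠ 0 := by
    rw [map_prod]
    exact Finset.prod_ne_zero_iff.mpr fun h _ => fun h0 => hW0 ((hHiff _ h.2 W).mp h0)
  have hN0fix : ∀ g ∈ H, act g N0 = N0 := fun g hg => by
    show act g (∏ h : H, act (h : G) W) = _
    rw [map_prod]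
    exact Fintype.prod_equiv (Equiv.mulLeft (⟨g, hg⟩ : H)) _ _ fun h => (act_mul act g h W).symm
  have hN0 : ∀ g, g ∉ H → ψ (act g N0) = 0 := fun g hg => by
    have h1 : (g * 1)⁻¹ ∉ H := by rw [mul_one, Subgroup.inv_mem_iff]; exact hg
    rw [map_prod, map_prod]
    refine Finset.prod_eq_zero (Finset.mem_univ (1 : H)) ?_
    rw [← act_mul, map_prod, map_prod]
    refine Finset.prod_eq_zero (Finset.mem_univ (g * 1)⁻¹) ?_
    have := hwf _ h1
    rw [inv_inv] at this
    simpa using this
  obtain ⟨eH, heH⟩ := exists_tr_eq_one act he H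
  -- `H`-invariant images are ratios from the base
  have key : ∀ a, (∀ h ∈ H, ψ (act h a) = ψ a) →
      ∃ α : A, ψ (algebraMap A E α) = ψ a * ψ N0 := fun a ha => by
    obtain ⟨α, hα⟩ := hfix (∑ g : G, act g (eH * (a * N0))) fun g => by
      rw [map_sum]
      exact Fintype.sum_equiv (Equiv.mulLeft g) _ _ fun h => (act_mul act g h _).symm
    refine ⟨α, ?_⟩
    rw [hα, map_sum]
    have h2 : ∑ g : G, ψ (act g (eH * (a * N0))) =
        ∑ g ∈ Finset.univ.filter (· ∈ H), ψ (act g (eH * (a * N0))) := by
      refine (Finset.sum_subset (Finset.filter_subset _ _) fun g _ hg => ?_).symm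
      have hg' : g ∉ H := fun h => hg (Finset.mem_filter.mpr ⟨Finset.mem_univ _, h⟩)
      rw [map_mul, map_mul, map_mul, map_mul, hN0 g hg', mul_zero, mul_zero]
    rw [h2, Finset.sum_subtype (Finset.univ.filter (· ∈ H)) (p := (· ∈ H)) (fun x => by simp),
      ← map_sum, ← map_mul]
    exact map_tr_mul act ψ H heH fun h hh => by
      rw [map_mul, map_mul, ha h hh, hN0fix h hh, map_mul]
  obtain ⟨α₁, hα₁⟩ := key 1 fun h _ => by rw [map_one]
  rw [map_one, one_mul] at hα₁
  have hnorm : ∀ b, ψ b ≠ 0 → ∃ c, ψ (b * c) ≠ 0 ∧ ∀ h ∈ H, ψ (act h (b * c)) = ψ (b * c) := fun b hb => by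
    refine ⟨∏ h ∈ (Finset.univ : Finset H).erase 1, act (h : G) b, ?_, ?_⟩
    all_goals
      have heq : b * ∏ h ∈ (Finset.univ : Finset H).erase 1, act (h : G) b =
          ∏ h : H, act (h : G) b := by
        rw [← Finset.mul_prod_erase Finset.univ _ (Finset.mem_univ (1 : H))]
        congr 1
        exact (act_one act b).symm
      rw [heq]
    · rw [map_prod]
      exact Finset.prod_ne_zero_iff.mpr fun h _ => fun h0 => hb ((hHiff _ h.2 b).mp h0)
    · intro g hg
      refine congrArg ψ ?_
      rw [map_prod]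
      exact Fintype.prod_equiv (Equiv.mulLeft (⟨g, hg⟩ : H)) _ _ fun h => (act_mul act g h b).symm
  -- the residue field at `ψ` with its `H`-action
  let Q := RingHom.ker ψ
  haveI : Q.IsPrime := RingHom.ker_isPrime ψ
  let q : E →+* E ⧸ Q := Ideal.Quotient.mk Q
  let M := FractionRing (E ⧸ Q)
  let ψb : E ⧸ Q →+* Ω := Ideal.Quotient.lift Q ψ fun x hx => hx
  have hψb : Function.Injective ψb := RingHom.lift_injective_of_ker_le_ideal Q _ le_rfl
  let ι : M →+* Ω := IsFractionRing.lift hψb
  have hι : ∀ x, ι (algebraMap (E ⧸ Q) M (q x)) = ψ x := fun x => IsFractionRing.lift_algebraMap hψb _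
  let aq : H → (E ⧸ Q ≃+* E ⧸ Q) := fun h =>
    Ideal.quotientEquiv Q Q (act (h : G)).toRingEquiv (by
      ext x
      constructor
      · intro hx
        have h1 : ψ (act ((h : G)⁻¹) x) = 0 := (hHiff _ (H.inv_mem h.2) x).mpr hx
        have := Ideal.mem_map_of_mem (act (h : G)).toRingEquiv.toRingHom
          (show act ((h : G)⁻¹) x ∈ Q from h1)
        have h3 : act (h : G) (act ((h : G)⁻¹) x) = x := by rw [← act_mul, mul_inv_cancel, act_one]
        exact h3 ▸ this
      · intro hx
        refine (Ideal.map_le_iff_le_comap.mpr fun y hy => ?_ : Ideal.map _ Q ≤ Q) hx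
        exact (hHiff _ h.2 y).mpr hy)
  have haq : ∀ h x, aq h (q x) = q (act (h : G) x) := fun h x => rfl
  let am : H → (M ≃+* M) := fun h => IsFractionRing.ringEquivOfRingEquiv (aq h)
  have ham : ∀ h x, am h (algebraMap (E ⧸ Q) M (q x)) = algebraMap (E ⧸ Q) M (q (act (h : G) x)) :=
    fun h x => (IsFractionRing.ringEquivOfRingEquiv_algebraMap (aq h) _).trans (by rw [haq])
  let aM : H →* RingAut M := MonoidHom.mk' am fun g h => by
    apply RingEquiv.toRingHom_injective
    refine IsLocalization.ringHom_ext (nonZeroDivisors (E ⧸ Q)) (RingHom.ext fun y => ?_)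
    obtain ⟨x, rfl⟩ := Ideal.Quotient.mk_surjective y
    show am (g * h) (algebraMap _ M (q x)) = am g (am h (algebraMap _ M (q x)))
    rw [ham, ham, ham, Subgroup.coe_mul, act_mul]
  letI : MulSemiringAction H M := MulSemiringAction.compHom M aM
  have hsmul : ∀ (h : H) x, h • algebraMap (E ⧸ Q) M (q x) =
      algebraMap (E ⧸ Q) M (q (act (h : G) x)) := ham
  let F0 := FixedPoints.subfield H M
  have hF0 : ∀ x ∈ F0, ι x ∈ L := fun x hx => by
    obtain ⟨a, b, hb, rfl⟩ := IsFractionRing.div_surjective (E ⧸ Q) x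
    obtain ⟨a, rfl⟩ := Ideal.Quotient.mk_surjective a
    obtain ⟨b, rfl⟩ := Ideal.Quotient.mk_surjective b
    have hb0 : ψ b ≠ 0 := fun h0 => nonZeroDivisors.ne_zero hb (Ideal.Quotient.eq_zero_iff_mem.mpr h0)
    obtain ⟨c, hc0, hc⟩ := hnorm b hb0
    have hιx : ι (algebraMap _ M (q a) / algebraMap _ M (q b)) = ψ (a * c) / ψ (b * c) := by
      rw [map_div₀, hι, hι, map_mul, map_mul,
        mul_div_mul_right _ _ (fun h => hc0 (by rw [map_mul, h, mul_zero]))]
    have hac : ∀ h ∈ H, ψ (act h (a * c)) = ψ (a * c) := fun h hh => by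
      have h1 : ι ((⟨h, hh⟩ : H) • (algebraMap _ M (q a) / algebraMap _ M (q b))) =
          ι (algebraMap _ M (q a) / algebraMap _ M (q b)) := by rw [hx ⟨h, hh⟩]
      have h2 : (⟨h, hh⟩ : H) • (algebraMap _ M (q a) / algebraMap _ M (q b)) =
          algebraMap _ M (q (act h a)) / algebraMap _ M (q (act h b)) := by
        show am ⟨h, hh⟩ (_ / _) = _
        rw [map_div₀, ham, ham]
      rw [h2, map_div₀, map_div₀, hι, hι, hι, hι,
        div_eq_div_iff (fun h0 => hb0 ((hHiff h hh b).mp h0)) hb0] at h1
      have h3 := hc h hh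
      rw [map_mul (act h), map_mul, map_mul] at h3
      rw [map_mul (act h), map_mul, map_mul]
      refine mul_right_cancel₀ hb0 ?_
      linear_combination (ψ (act h c)) * h1 + (ψ a) * h3
    obtain ⟨α, hα⟩ := key _ hac
    obtain ⟨β, hβ⟩ := key _ hc
    rw [hιx, ← mul_div_mul_right _ _ hN00, ← hα, ← hβ]
    exact div_mem (hA α) (hA β)
  let L' : IntermediateField F0 M := (L.comap ι).toIntermediateField fun x => hF0 x x.2
  haveI : IsGalois F0 M := ⟨⟩
  have hzL : algebraMap (E ⧸ Q) M (q z) ∈ IntermediateField.fixedField L'.fixingSubgroup := by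
    rw [IntermediateField.mem_fixedField_iff]
    intro σ hσ
    obtain ⟨h, rfl⟩ := FixedPoints.toAlgAut_surjective H M σ
    show h • (algebraMap (E ⧸ Q) M (q z)) = algebraMap (E ⧸ Q) M (q z)
    rw [hsmul]
    have hmem : (h : G) ∈ fixer act ψ (L : Set Ω) := fun y hy => by
      have h1 := (IntermediateField.mem_fixingSubgroup_iff _ _).mp hσ (algebraMap _ M (q y))
        (show ι (algebraMap _ M (q y)) ∈ L by rw [hι]; exact hy)
      have h2 : h • algebraMap (E ⧸ Q) M (q y) = algebraMap (E ⧸ Q) M (q y) := h1
      rw [hsmul] at h2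
      rw [← hι, ← hι y, h2]
    have h3 := hz _ hmem
    rw [← hι, ← hι z] at h3
    exact ι.injective h3
  rw [IsGalois.fixedField_fixingSubgroup] at hzL
  rw [← hι z]
  exact hzL

open Classical in
/-- A family of dual elements for the action. -/
def IsDual (l : List (E × E)) : Prop :=
  ∀ g, (l.map fun p => p.1 * act g p.2).sum = if g = 1 then 1 else 0

theorem exists_dual (h : ∀ g, g ≠ 1 → ∃ x, IsUnit (x - act g x)) :
    ∃ l : List (E × E), IsDual act l := by
  classical
  suffices ∀ T : Finset G, ∃ l : List (E × E), (l.map fun p => p.1 * p.2).sum = 1 ∧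
      ∀ g ∈ T, g ≠ 1 → (l.map fun p => p.1 * act g p.2).sum = 0 by
    obtain ⟨l, h1, h2⟩ := this Finset.univ
    refine ⟨l, fun g => ?_⟩
    split
    · next hg => subst hg; simpa only [act_one] using h1
    · next hg => exact h2 g (Finset.mem_univ g) hg
  intro T
  induction T using Finset.induction_on with
  | empty => exact ⟨[(1, 1)], by simp, fun g hg => by simp at hg⟩
  | insert g₀ T _ IH =>
    obtain ⟨l, h1, h2⟩ := IH
    by_cases hg₀ : g₀ = 1
    · exact ⟨l, h1, fun g hg hg1 =>
        h2 g ((Finset.mem_insert.mp hg).resolve_left (fun h => hg1 (h.trans hg₀))) hg1⟩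
    obtain ⟨x, hx⟩ := h g₀⁻¹ (inv_ne_one.mpr hg₀)
    obtain ⟨v, hv⟩ := hx.exists_left_inv
    refine ⟨(l.map fun p => (v * x * p.1, p.2)) ++ (l.map fun p => (-v * p.1, act g₀⁻¹ x * p.2)),
      ?_, fun g hg hg1 => ?_⟩
    · rw [List.map_append, List.sum_append, List.map_map, List.map_map]
      have e1 : (l.map fun p => v * x * p.1 * p.2).sum = v * x * (l.map fun p => p.1 * p.2).sum := by
        rw [← List.sum_map_mul_left]; simp only [mul_assoc]
      have e2 : (l.map fun p => -v * p.1 * (act g₀⁻¹ x * p.2)).sum =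
          -v * act g₀⁻¹ x * (l.map fun p => p.1 * p.2).sum := by
        rw [← List.sum_map_mul_left]; congr 1; refine List.map_congr_left fun p _ => ?_; ring
      simp only [Function.comp_def]
      rw [e1, e2, h1]
      linear_combination hv
    · rw [List.map_append, List.sum_append, List.map_map, List.map_map]
      have e1 : (l.map fun p => v * x * p.1 * act g p.2).sum =
          v * x * (l.map fun p => p.1 * act g p.2).sum := by
        rw [← List.sum_map_mul_left]; simp only [mul_assoc]
      have e2 : (l.map fun p => -v * p.1 * act g (act g₀⁻¹ x * p.2)).sum =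
          -v * act g (act g₀⁻¹ x) * (l.map fun p => p.1 * act g p.2).sum := by
        rw [← List.sum_map_mul_left]; congr 1; refine List.map_congr_left fun p _ => ?_
        rw [map_mul]; ring
      simp only [Function.comp_def]
      rw [e1, e2]
      rcases Finset.mem_insert.mp hg with rfl | hg'
      · rw [← act_mul, mul_inv_cancel, act_one]
        ring
      · rw [h2 g hg' hg1, mul_zero, mul_zero, add_zero]

open Classical in
theorem sum_tr_mul (H : Subgroup G) (f : E → E) (l : List (E × E)) (x : E) :
    (l.map fun p => f p.1 * tr act H (p.2 * x)).sum =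
      ∑ h : H, (l.map fun p => f p.1 * act (h : G) p.2).sum * act (h : G) x := by
  classical
  induction l with
  | nil => simp
  | cons a l IH =>
    simp only [List.map_cons, List.sum_cons]
    rw [IH]
    unfold tr
    rw [Finset.mul_sum, ← Finset.sum_add_distrib]
    refine Finset.sum_congr rfl fun h _ => ?_
    rw [map_mul, add_mul, mul_assoc]

theorem decomp {l : List (E × E)} (hl : IsDual act l) (H : Subgroup G) (x : E) :
    (l.map fun p => p.1 * tr act H (p.2 * x)).sum = x := by
  classical
  rw [show (l.map fun p => p.1 * tr act H (p.2 * x)) = l.map fun p => id p.1 * tr act H (p.2 * x)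
    from rfl, sum_tr_mul]
  simp only [id]
  rw [Finset.sum_eq_single (1 : H)]
  · rw [hl, if_pos (OneMemClass.coe_one H), OneMemClass.coe_one, act_one, one_mul]
  · intro h _ hne
    rw [hl, if_neg (fun e : (h : G) = 1 => hne (Subtype.ext e)), zero_mul]
  · exact fun h => (h (Finset.mem_univ _)).elim

/-- An element fixing the fixed ring of a subgroup lies in it. -/
theorem mem_of_fix_fixed [Nontrivial E] {l : List (E × E)} (hl : IsDual act l) (H : Subgroup G)
    {g : G} (hg : ∀ y, (∀ h ∈ H, act h y = y) → act g y = y) : g ∈ H := by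
  classical
  by_contra hgH
  have key := congrArg (act g) (decomp act hl H (1 : E))
  rw [map_list_sum, List.map_map, map_one] at key
  have h1 : (act g ∘ fun p : E × E => p.1 * tr act H (p.2 * 1)) =
      fun p => act g p.1 * tr act H (p.2 * 1) := funext fun p => by
    simp only [Function.comp_apply]
    rw [map_mul, hg _ fun h hh => act_tr act H hh _]
  rw [h1, sum_tr_mul] at key
  refine one_ne_zero (key.symm.trans (Finset.sum_eq_zero fun h _ => ?_))
  have h2 : (l.map fun p => act g p.1 * act (h : G) p.2).sum =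
      act g ((l.map fun p => p.1 * act (g⁻¹ * h) p.2).sum) := by
    rw [map_list_sum, List.map_map]
    congr 1
    refine List.map_congr_left fun p _ => ?_
    simp only [Function.comp_apply]
    rw [map_mul, ← act_mul, mul_inv_cancel_left]
  rw [h2, hl, if_neg, map_zero, zero_mul]
  rw [inv_mul_eq_one]
  exact fun e => hgH (e ▸ h.2)

/-- A stable ideal is generated by its fixed elements. -/
theorem mem_span_fixed {l : List (E × E)} (hl : IsDual act l) (H : Subgroup G) (I : Ideal E)
    (hI : ∀ h ∈ H, ∀ x ∈ I, act h x ∈ I) {x : E} (hx : x ∈ I) :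
    x ∈ Ideal.span {y | y ∈ I ∧ ∀ h ∈ H, act h y = y} := by
  classical
  rw [← decomp act hl H x]
  refine list_sum_mem fun t ht => ?_
  obtain ⟨p, -, rfl⟩ := List.mem_map.mp ht
  refine Ideal.mul_mem_left _ _ (Ideal.subset_span ⟨?_, fun h hh => act_tr act H hh _⟩)
  unfold tr
  exact Ideal.sum_mem _ fun h _ => hI h h.2 _ (I.mul_mem_left _ hx)

end Invariant

section Stage

variable (A S : Type u) [CommRing A] [HenselianLocalRing A] [IsNoetherianRing A] [CommRing S]
  [IsLocalRing S] [Algebra A S] [IsLocalHom (algebraMap A S)] [Hensel.IsStrictHenselization A S]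

/-- A finite étale local subalgebra with a group of automorphisms cutting out the base. -/
structure GaloisStage where
  E : Subalgebra A S
  isLocalRing : IsLocalRing E
  finite : Module.Finite A E
  essEtale : EGA4loc.IsEssentiallyEtale A E
  isLocalHom : IsLocalHom (algebraMap E S)
  faithfullyFlat : Module.FaithfullyFlat E S
  henselian : HenselianLocalRing E
  map_maximalIdeal : (maximalIdeal A).map (algebraMap A E) = maximalIdeal E
  G : Type u
  group : Group G
  fintype : Fintype G
  act : G →* (E ≃ₐ[A] E)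
  e : E
  tr_e : tr act ⊤ e = 1
  fixed : ∀ x, (∀ g, act g x = x) → x ∈ (algebraMap A E).range
  dual : List (E × E)
  isDual : IsDual act dual

attribute [instance] GaloisStage.isLocalRing GaloisStage.finite GaloisStage.isLocalHom
  GaloisStage.faithfullyFlat GaloisStage.henselian GaloisStage.group GaloisStage.fintype

theorem exists_galoisStage (s : Finset S) : ∃ P : GaloisStage A S, (s : Set S) ⊆ P.E := by
  classical
  haveI := (Hensel.IsStrictHenselization.isSepClosure (R := A) (S := S)).separable
  haveI := Hensel.IsStrictHenselization.isSepClosure (R := A) (S := S)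
  haveI : IsGalois (ResidueField A) (ResidueField S) := IsSepClosure.isGalois
  let k := ResidueField A
  obtain ⟨F, _, hsF, hFloc, hF, hFff⟩ := H24.EssEtale.exists_stage (A := A) s
  haveI := hFloc
  haveI := H24.EssEtale.isLocalHom hF
  obtain ⟨_, _⟩ := Lib.Henselian.EssEtale.formallyEtale hF
  let ρF : ResidueField F →ₐ[k] ResidueField S :=
    IsScalarTower.toAlgHom k (ResidueField F) (ResidueField S)
  haveI : Module.Finite k (ResidueField F) := inferInstance
  let N := IntermediateField.normalClosure k ρF.fieldRange (ResidueField S)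
  haveI : FiniteDimensional k ρF.fieldRange :=
    Module.Finite.equiv (AlgEquiv.ofInjectiveField ρF).toLinearEquiv
  haveI : FiniteDimensional k N := inferInstance
  obtain ⟨θN, hθN⟩ := Field.exists_primitive_element k N
  have hθ : IntermediateField.adjoin k {(θN : ResidueField S)} = N := by
    have := congrArg (IntermediateField.map N.val) hθN
    rw [IntermediateField.adjoin_map, Set.image_singleton, ← AlgHom.fieldRange_eq_map,
      IntermediateField.fieldRange_val] at this
    exact this
  haveI hnor : Normal k (IntermediateField.adjoin k {(θN : ResidueField S)}) := by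
    rw [hθ]; infer_instance
  obtain ⟨η, _, hη, hEloc, hE, hEff, hEfin, -⟩ :=
    H24.EssEtale.Galois.exists_adjoin (A := A) (θN : ResidueField S)
  haveI := hEloc; haveI := hEff; haveI := hEfin
  have hFE : F ≤ Algebra.adjoin A ({η} : Set S) := H24.EssEtale.Galois.le_adjoin hF fun x hx => by
    rw [hη, hθ]
    exact IntermediateField.le_normalClosure _ ⟨residue F ⟨x, hx⟩, rfl⟩
  obtain ⟨E, hEdef⟩ : ∃ E, E = Algebra.adjoin A ({η} : Set S) := ⟨_, rfl⟩
  subst hEdef
  let E := Algebra.adjoin A ({η} : Set S)
  haveI : IsLocalHom (algebraMap A E) := H24.EssEtale.isLocalHom hE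
  haveI : HenselianLocalRing E := Lib.Henselian.LocalRing.henselianLocalRing_of_isIntegral A E
  let ρ : ResidueField E →ₐ[k] ResidueField S :=
    IsScalarTower.toAlgHom k (ResidueField E) (ResidueField S)
  have hρres : ∀ x : E, ρ (residue E x) = residue S x := fun x => rfl
  have hρ : ρ.fieldRange = IntermediateField.adjoin k {(θN : ResidueField S)} := by
    refine le_antisymm (fun z hz => ?_) (IntermediateField.adjoin_simple_le_iff.mpr ?_)
    · obtain ⟨w, rfl⟩ := hz
      obtain ⟨w, rfl⟩ := residue_surjective w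
      rw [← hη]
      exact H24.EssEtale.Galois.residue_mem w.2
    · exact ⟨residue E ⟨η, Algebra.subset_adjoin rfl⟩, (hρres _).trans hη⟩
  haveI : Normal k ρ.fieldRange := by rw [hρ]; exact hnor
  haveI : Normal k (ResidueField E) :=
    Normal.of_algEquiv (F := k) (E := ρ.fieldRange) (AlgEquiv.ofInjectiveField ρ).symm
  haveI : Algebra.IsSeparable k (ResidueField E) := Algebra.IsSeparable.of_algHom _ _ ρ
  haveI : IsGalois k (ResidueField E) := ⟨⟩
  obtain ⟨_, _⟩ := Lib.Henselian.EssEtale.formallyEtale hE
  haveI : FiniteDimensional k (ResidueField E) := inferInstance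
  have hmap : (maximalIdeal A).map (algebraMap A E) = maximalIdeal E :=
    Algebra.FormallyUnramified.map_maximalIdeal
  obtain ⟨Ψ, hΨ⟩ := H24.EssEtale.Galois.exists_autLift hE
  let G := ResidueField E ≃ₐ[k] ResidueField E
  -- an element of trace one
  obtain ⟨θ, hθ1⟩ := Algebra.trace_surjective k (ResidueField E) 1
  obtain ⟨e₀, rfl⟩ := residue_surjective θ
  have hres : residue E (tr Ψ ⊤ e₀) = 1 := by
    rw [← map_one (algebraMap k (ResidueField E)), ← hθ1, trace_eq_sum_automorphisms]
    unfold tr
    rw [map_sum]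
    exact Fintype.sum_equiv Subgroup.topEquiv.toEquiv _ _ fun g => hΨ g e₀
  obtain ⟨v, hv⟩ := (show IsUnit (tr Ψ ⊤ e₀) by
    rw [← notMem_maximalIdeal, ← residue_eq_zero_iff, hres]; exact one_ne_zero).exists_right_inv
  have hvfix : ∀ g, Ψ g v = v := fun g => by
    refine left_inv_eq_right_inv ?_ hv
    rw [mul_comm, ← act_tr Ψ ⊤ (Subgroup.mem_top g), ← map_mul, hv, map_one]
  have he1 : tr Ψ ⊤ (e₀ * v) = 1 := by
    rw [← hv]
    unfold tr
    rw [Finset.sum_mul]
    exact Finset.sum_congr rfl fun g _ => by rw [map_mul, hvfix]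
  have hfixed : ∀ x, (∀ g, Ψ g x = x) → x ∈ (algebraMap A E).range := by
    let N : Submodule A E :=
      { carrier := {x | ∀ g, Ψ g x = x}
        add_mem' := fun {a b} ha hb g => by rw [map_add, ha g, hb g]
        zero_mem' := fun g => map_zero _
        smul_mem' := fun c x hx g => by rw [map_smul, hx g] }
    have hN : N ≤ LinearMap.range (Algebra.linearMap A E) := by
      refine Submodule.le_of_le_smul_of_le_jacobson_bot (IsNoetherian.noetherian N)
        (maximalIdeal_le_jacobson _) fun x hx => ?_
      have hbot : residue E x ∈ (⊥ : IntermediateField k (ResidueField E)) :=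
        (IsGalois.mem_bot_iff_fixed _).mpr fun g => by rw [← hΨ, hx g]
      obtain ⟨a, ha⟩ := IntermediateField.mem_bot.mp hbot
      obtain ⟨a, rfl⟩ := residue_surjective a
      rw [ResidueField.algebraMap_residue] at ha
      have hmem : x - algebraMap A E a ∈ (maximalIdeal A) • (⊤ : Submodule A E) := by
        rw [Ideal.smul_top_eq_map, Submodule.restrictScalars_mem, hmap, ← residue_eq_zero_iff,
          map_sub, ha, sub_self]
      have hy : ∀ g, Ψ g (x - algebraMap A E a) = x - algebraMap A E a := fun g => by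
        rw [map_sub, hx g, AlgEquiv.commutes]
      have htr : tr Ψ ⊤ (e₀ * v * (x - algebraMap A E a)) ∈ (maximalIdeal A) • N := by
        refine Submodule.smul_induction_on
          (p := fun y => tr Ψ ⊤ (e₀ * v * y) ∈ (maximalIdeal A) • N) hmem
          (fun m hm w _ => ?_) (fun y z hy hz => ?_)
        · rw [mul_smul_comm, tr_smul]
          exact Submodule.smul_mem_smul hm fun g => act_tr Ψ ⊤ (Subgroup.mem_top g) _
        · rw [mul_add, tr_add]; exact add_mem hy hz
      rw [tr_mul_of_fixed Ψ ⊤ he1 fun g _ => hy g] at htr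
      rw [show x = Algebra.linearMap A E a + (x - algebraMap A E a) from
        (add_sub_cancel _ x).symm]
      exact add_mem (Submodule.mem_sup_left ⟨a, rfl⟩) (Submodule.mem_sup_right htr)
    exact fun x hx => hN hx
  obtain ⟨dl, hdl⟩ := exists_dual Ψ fun g hg => by
    by_contra hne
    push Not at hne
    refine hg (AlgEquiv.ext fun z => ?_)
    obtain ⟨z, rfl⟩ := residue_surjective z
    have h1 : residue E (z - Ψ g z) = 0 := (residue_eq_zero_iff _).mpr (hne z)
    rw [map_sub, sub_eq_zero, hΨ] at h1
    exact h1.symm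
  exact ⟨{ E := E, isLocalRing := inferInstance, finite := inferInstance, essEtale := hE,
           isLocalHom := inferInstance, faithfullyFlat := inferInstance, henselian := inferInstance,
           map_maximalIdeal := hmap, G := G, group := inferInstance, fintype := inferInstance,
           act := Ψ, e := e₀ * v, tr_e := he1, fixed := hfixed, dual := dl, isDual := hdl },
    fun x hx => hFE (hsF hx)⟩

end Stage

end Groth.Agent.Lib.Unram.StrictGalois
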