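import Groth.Agent.Lib.Unram.StrictResidue
import Mathlib.RingTheory.Filtration

/-!
# Noetherian intermediate rings of a strict henselization
-/

universe u

set_option maxHeartbeats 1600000

open IsLocalRing

namespace Groth.Agent.Lib.Unram.StrictNoetherian

open StrictGalois StrictFractions StrictStage StrictResidue

theorem isNoetherianRing_S (A S : Type u) [CommRing A] [HenselianLocalRing A] [CommRing S] [IsLocalRing S] [Algebra A S]
    [IsLocalHom (algebraMap A S)] [Hensel.IsStrictHenselization A S] [IsNoetherianRing A] :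
    IsNoetherianRing S :=
  (Lib.Henselian.Permanence.strict_isNoetherianRing_iff A S).mp inferInstance

theorem isReduced_S (A S : Type u) [CommRing A] [HenselianLocalRing A] [CommRing S] [IsLocalRing S] [Algebra A S]
    [IsLocalHom (algebraMap A S)] [Hensel.IsStrictHenselization A S] [IsReduced A] :
    IsReduced S :=
  (Lib.Henselian.Permanence.strict_isReduced_iff A S).mp inferInstance

variable {A S : Type u} [CommRing A] [HenselianLocalRing A] [IsNoetherianRing A] [IsReduced A]
  [CommRing S] [IsLocalRing S] [Algebra A S] [IsLocalHom (algebraMap A S)]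
  [Hensel.IsStrictHenselization A S] (D : Subalgebra A S)

theorem unr_le_self : unr A (resField D) ≤ D := unr_le le_rfl

/-- Every maximal ideal of the normalization comes from a minimal prime of `S`. -/
theorem exists_eq_MM (M : Ideal (integralClosure D (FractionRing D))) [M.IsMaximal] :
    ∃ (Q : Ideal S) (_ : Q.IsPrime) (hQ : Q ∈ minimalPrimes S), M = MM D hQ := by
  classical
  haveI := isNoetherianRing_S A S
  haveI := isReduced_S A S
  haveI : Fintype (minimalPrimes S) := (minimalPrimes.finite_of_isNoetherianRing S).fintype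
  let K : minimalPrimes S → Ideal (integralClosure D (FractionRing D)) := fun Q' =>
    haveI := Q'.2.1.1
    RingHom.ker ((liftFrac D Q'.2).comp (integralClosure D (FractionRing D)).val.toRingHom)
  have hinf : Finset.univ.inf K ≤ M := fun y hy => by
    have hy0 : y = 0 := by
      obtain ⟨⟨e, s⟩, hes⟩ := IsLocalization.surj (nonZeroDivisors D) (y : FractionRing D)
      have he : e = 0 := by
        refine Subtype.ext (IsReduced.eq_zero (e : S) ?_)
        rw [← mem_nilradical, nilradical, ← Ideal.sInf_minimalPrimes, Submodule.mem_sInf]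
        intro Q' hQ'
        haveI := hQ'.1.1
        have h1 := congrArg (liftFrac D hQ') hes
        rw [map_mul, liftFrac_algebraMap, liftFrac_algebraMap,
          show liftFrac D hQ' (y : FractionRing D) = 0 from
            (Submodule.mem_finsetInf.mp hy) ⟨Q', hQ'⟩ (Finset.mem_univ _), zero_mul] at h1
        exact (toFrac_eq_zero_iff Q').mp h1.symm
      rw [he, map_zero] at hes
      exact Subtype.ext ((IsLocalization.map_units (FractionRing D) s).mul_left_eq_zero.mp hes)
    rw [hy0]; exact M.zero_mem
  obtain ⟨⟨Q, hQ⟩, -, hle⟩ := (Ideal.IsPrime.inf_le' inferInstance).mp hinf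
  haveI := hQ.1.1
  refine ⟨Q, inferInstance, hQ, ?_⟩
  let μ' : integralClosure D (FractionRing D) →+* T2 (A := A) Q :=
    ((liftFrac D hQ).comp (integralClosure D (FractionRing D)).val.toRingHom).codRestrict
      (T2 (A := A) Q) fun y => isIntegral_liftFrac D hQ y
  letI := μ'.toAlgebra
  haveI : IsScalarTower A (integralClosure D (FractionRing D)) (T2 (A := A) Q) :=
    IsScalarTower.of_algebraMap_eq fun a => Subtype.ext (by
      show algebraMap A (FractionRing (S ⧸ Q)) a =
        liftFrac D hQ (algebraMap A (FractionRing D) a)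
      rw [IsScalarTower.algebraMap_apply A D (FractionRing D), liftFrac_algebraMap]
      exact (toFrac_algebraMap Q a).symm)
  haveI : Algebra.IsIntegral (integralClosure D (FractionRing D)) (T2 (A := A) Q) :=
    Algebra.IsIntegral.tower_top (R := A)
  have hker : RingHom.ker (algebraMap (integralClosure D (FractionRing D)) (T2 (A := A) Q)) ≤ M :=
    fun y hy => hle (show liftFrac D hQ _ = 0 from congrArg Subtype.val hy)
  obtain ⟨N, hN, hNM⟩ :=
    Ideal.exists_ideal_over_maximal_of_isIntegral (S := T2 (A := A) Q) M hker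
  haveI := hN
  rw [eq_maximalIdeal hN] at hNM
  rw [← hNM]
  ext y
  rw [Ideal.mem_comap, mem_MM]
  exact (residue_eq_zero_iff _).symm

theorem unr_mono {l l' : IntermediateField (ResidueField A) (ResidueField S)} (h : l ≤ l') :
    unr A l ≤ unr A l' := fun _ hz =>
  let ⟨F, hF, hFl, hzF⟩ := hz
  ⟨F, hF, hFl.trans h, hzF⟩

/-- `unr (k₀ ⊔ L)` is finite over `unr k₀`. -/
theorem exists_gens (l : IntermediateField (ResidueField A) (ResidueField S))
    (L : IntermediateField (ResidueField A) (ResidueField S)) [FiniteDimensional (ResidueField A) L] :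
    ∃ N : Subalgebra (unr A l) S, Module.Finite (unr A l) N ∧
      (∀ x ∈ unr A (l ⊔ L), x ∈ N) ∧ ∀ x ∈ N, x ∈ unr A (l ⊔ L) := by
  classical
  obtain ⟨F, hF, hFL⟩ := exists_isStage (A := A) L
  haveI := hF.finite
  obtain ⟨g, hg⟩ := (Subalgebra.fg_top F).mp (Algebra.FiniteType.out : (⊤ : Subalgebra A F).FG)
  haveI := isIntegral_S (A := A) (S := S)
  haveI : Algebra.IsIntegral (unr A l) S := Algebra.IsIntegral.tower_top (R := A)
  let N := Algebra.adjoin (unr A l) (g : Set S)
  refine ⟨N, Algebra.finite_adjoin_of_finite_of_isIntegral g.finite_toSet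
    (fun y _ => Algebra.IsIntegral.isIntegral y), ?_, ?_⟩
  · have h : unr A (l ⊔ L) ≤ N.restrictScalars A := by
      refine unr_le (sup_le (fun z hz => ?_) (fun z hz => ?_))
      · rw [← resField_unr (A := A) (l := l)] at hz
        obtain ⟨d, hd, rfl⟩ := mem_resField.mp hz
        exact ⟨d, N.algebraMap_mem ⟨d, hd⟩, rfl⟩
      · rw [← hFL] at hz
        obtain ⟨d, hd, rfl⟩ := mem_resField.mp hz
        exact ⟨d, (hg ▸ Algebra.adjoin_le (fun y hy => Algebra.subset_adjoin hy) :
          F ≤ N.restrictScalars A) hd, rfl⟩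
    exact fun x hx => h hx
  · intro x hx
    induction hx using Algebra.adjoin_induction with
    | mem y hy => exact ⟨F, hF, hFL ▸ le_sup_right, hg ▸ Algebra.subset_adjoin hy⟩
    | algebraMap r =>
      obtain ⟨G, hG, hGl, hrG⟩ := r.2
      exact ⟨G, hG, hGl.trans le_sup_left, hrG⟩
    | add a b _ _ ha hb => exact add_mem ha hb
    | mul a b _ _ ha hb => exact mul_mem ha hb

attribute [local irreducible] StrictResidue.mu StrictResidue.iota StrictResidue.j

/-- The residue of an element fixed by the stabilizer of `Q` over `D`. -/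
theorem exists_separable_of_fixed {Q : Ideal S} [Q.IsPrime] (hQ : Q ∈ minimalPrimes S)
    [(MM D hQ).IsMaximal] (P : GaloisStage A S) (y : P.E)
    (hy : ∀ h ∈ fixer P.act (stageFrac Q P.E) (fieldOf (Q := Q) D : Set _), P.act h y = y) :
    ∃ γ, IsSeparable (kk D hQ) γ ∧ iota D hQ γ = j (A := A) Q (residue S (y : S)) := by
  haveI := isNoetherianRing_S A S
  refine exists_separable D hQ (z := (y : S)) ?_
  refine mem_of_invariant P.act P.tr_e P.fixed (stageFrac Q P.E) (fieldOf (Q := Q) D) (fun a => ?_) y
    fun g hg => congrArg _ (hy g hg)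
  rw [stageFrac_algebraMap, ← toFrac_algebraMap]
  exact Subfield.subset_closure ⟨algebraMap A D a, rfl⟩

theorem mem_fieldOf {Q : Ideal S} [Q.IsPrime] {x : S} (hx : x ∈ D) :
    toFrac Q x ∈ fieldOf (Q := Q) D :=
  Subfield.subset_closure ⟨⟨x, hx⟩, rfl⟩

theorem exists_sum_eq {K : Type u} [Field K] {k : Subfield K} {M : IntermediateField k K} {ι : Type*}
    [Fintype ι] (b : Module.Basis ι k M) {γ : K} (hγ : γ ∈ M) :
    ∃ c : ι → k, γ = ∑ i, (c i : K) * (b i : K) := by
  refine ⟨fun i => b.repr ⟨γ, hγ⟩ i, ?_⟩
  have h := congrArg M.val.toLinearMap (b.sum_repr ⟨γ, hγ⟩)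
  rw [map_sum] at h
  refine h.symm.trans (Finset.sum_congr rfl fun i _ => ?_)
  rw [map_smul, Algebra.smul_def]
  rfl

theorem exists_images {K F R₀ : Type u} [Field K] [Field F] [Field R₀] (ι : K →+* F) (jj : R₀ →+* F)
    {k : Subfield K} (R : Set R₀) (hk : ∀ c ∈ k, ∃ ζ ∈ R, jj ζ = ι c)
    (hs : ∀ γ, IsSeparable k γ → ∃ ζ, jj ζ = ι γ) [FiniteDimensional k (separableClosure k K)] :
    ∃ Z : Finset R₀, ∀ γ ζ, IsSeparable k γ → ι γ = jj ζ → ζ ∈ Subfield.closure (R ∪ (Z : Set R₀)) := by
  classical
  let b := Module.finBasis k (separableClosure k K)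
  choose z hz using fun i => hs (b i : K) (mem_separableClosure_iff.mp (b i).2)
  refine ⟨Finset.univ.image z, fun γ ζ hγ he => ?_⟩
  obtain ⟨c, hc⟩ := exists_sum_eq b (mem_separableClosure_iff.mpr hγ)
  choose κ hκR hκ using fun i => hk (c i : K) (c i).2
  rw [show ζ = ∑ i, κ i * z i from jj.injective (by
    rw [← he, map_sum, hc, map_sum]
    exact Finset.sum_congr rfl fun i _ => by rw [map_mul, map_mul, hκ, hz])]
  exact sum_mem fun i _ => mul_mem (Subfield.subset_closure (Or.inl (hκR i)))
    (Subfield.subset_closure (Or.inr (Finset.mem_image_of_mem z (Finset.mem_univ i))))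

theorem separableClosure_eq_bot_of {K F : Type u} [Field K] [Field F] (ι : K →+* F) {k : Subfield K}
    (h : ∀ γ, IsSeparable k γ → ∃ c ∈ k, ι c = ι γ) : separableClosure k K = ⊥ := by
  rw [eq_bot_iff]
  intro γ hγ
  obtain ⟨c, hc, he⟩ := h γ (mem_separableClosure_iff.mp hγ)
  rw [IntermediateField.mem_bot]
  exact ⟨⟨c, hc⟩, ι.injective he⟩

theorem exists_finite_module {Q : Ideal S} [Q.IsPrime] (hQ : Q ∈ minimalPrimes S)
    [(MM D hQ).IsMaximal]
    [FiniteDimensional (kk D hQ) (separableClosure (kk D hQ) (MM D hQ).ResidueField)] :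
    ∃ N : Submodule (unr A (resField D)) (FractionRing (S ⧸ Q)),
      Module.Finite (unr A (resField D)) N ∧ ∀ x ∈ D, toFrac Q x ∈ N := by
  classical
  haveI := isNoetherianRing_S A S
  let B := unr A (resField D)
  obtain ⟨Z, hZ⟩ := exists_images (iota D hQ) (j (A := A) Q) (resField D : Set (ResidueField S))
    (fun c hc => exists_of_mem_kk D hQ hc) (fun γ hγ => exists_j_eq D hQ hγ)
  haveI := (Hensel.IsStrictHenselization.isSepClosure (R := A) (S := S)).separable
  let L := IntermediateField.adjoin (ResidueField A) (Z : Set (ResidueField S))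
  haveI : FiniteDimensional (ResidueField A) L :=
    IntermediateField.finiteDimensional_adjoin fun x _ => Algebra.IsIntegral.isIntegral x
  obtain ⟨N, hNfin, hN, -⟩ := exists_gens (A := A) (resField D) L
  let f : S →ₗ[B] FractionRing (S ⧸ Q) :=
    ((IsScalarTower.toAlgHom B (S ⧸ Q) (FractionRing (S ⧸ Q))).comp
      (Ideal.Quotient.mkₐ B Q)).toLinearMap
  refine ⟨(Subalgebra.toSubmodule N).map f,
    Module.Finite.iff_fg.mpr ((Module.Finite.iff_fg.mp hNfin).map f), fun x hx => ?_⟩
  obtain ⟨P, hP⟩ := exists_galoisStage A S ({x} : Finset S)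
  let x' : P.E := ⟨x, hP (Finset.mem_singleton_self x)⟩
  let H := fixer P.act (stageFrac Q P.E) (fieldOf (Q := Q) D : Set _)
  obtain ⟨eH, heH⟩ := exists_tr_eq_one P.act P.tr_e H
  let w := tr P.act H (eH * x')
  have hw : stageFrac Q P.E w = toFrac Q x :=
    map_tr_mul P.act _ H heH fun g hg => mem_fixer P.act |>.mp hg x' (mem_fieldOf D hx)
  obtain ⟨F, hF, hFl, -, hwF⟩ := fixed_mem_unr P H (resField D ⊔ L) (fun y hy => by
    obtain ⟨γ, hγ, hγe⟩ := exists_separable_of_fixed D hQ P y hy
    exact (Subfield.closure_le.mpr (Set.union_subset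
      (fun ζ hζ => le_sup_left (b := L) hζ)
      (fun ζ hζ => le_sup_right (a := resField D) (IntermediateField.subset_adjoin _ _ hζ))) :
      Subfield.closure _ ≤ (resField D ⊔ L).toSubfield) (hZ γ _ hγ hγe))
    w fun g hg => act_tr P.act H hg _
  exact ⟨w, hN _ ⟨F, hF, hFl, hwF⟩, hw⟩

theorem isNoetherianRing_of_finiteDimensional
    (h : ∀ (M : Ideal (integralClosure D (FractionRing D))) [M.IsMaximal],
      FiniteDimensional (Subfield.closure (Set.range ((algebraMap (integralClosure D (FractionRing D)) M.ResidueField).comp (algebraMap D (integralClosure D (FractionRing D)))))) (separableClosure (Subfield.closure (Set.range ((algebraMap (integralClosure D (FractionRing D)) M.ResidueField).comp (algebraMap D (integralClosure D (FractionRing D)))))) M.ResidueField)) :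
    IsNoetherianRing D := by
  classical
  haveI := isNoetherianRing_S A S
  haveI := isReduced_S A S
  haveI : Fintype (minimalPrimes S) := (minimalPrimes.finite_of_isNoetherianRing S).fintype
  let B := unr A (resField D)
  haveI : IsNoetherianRing B := isNoetherianRing_unr
  letI : Algebra B D := (Subalgebra.inclusion (unr_le_self D)).toRingHom.toAlgebra
  have hQf : ∀ Q : minimalPrimes S, haveI := Q.2.1.1
      ∃ N : Submodule B (FractionRing (S ⧸ (Q : Ideal S))),
        Module.Finite B N ∧ ∀ x ∈ D, toFrac (Q : Ideal S) x ∈ N := by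
    rintro ⟨Q, hQ⟩
    haveI := hQ.1.1
    haveI := isMaximal_MM D hQ
    haveI := h (MM D hQ)
    exact exists_finite_module D hQ
  choose N hNfin hN using hQf
  let g : D →ₗ[B] ((Q : minimalPrimes S) → N Q) :=
    { toFun := fun x Q => haveI := Q.2.1.1; ⟨toFrac (Q : Ideal S) (x : S), hN Q _ x.2⟩
      map_add' := fun x y => funext fun Q => Subtype.ext (haveI := Q.2.1.1; map_add (toFrac (Q : Ideal S)) _ _)
      map_smul' := fun c x => funext fun Q => Subtype.ext (by
        haveI := Q.2.1.1
        show toFrac (Q : Ideal S) ((c : S) * x) = c • toFrac (Q : Ideal S) (x : S)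
        rw [map_mul, Algebra.smul_def]; rfl) }
  have hg : Function.Injective g := (injective_iff_map_eq_zero _).mpr fun x hx => by
    refine Subtype.ext (IsReduced.eq_zero (x : S) ?_)
    rw [← mem_nilradical, nilradical, ← Ideal.sInf_minimalPrimes, Submodule.mem_sInf]
    intro Q' hQ'
    haveI := hQ'.1.1
    exact (toFrac_eq_zero_iff Q').mp (congrArg Subtype.val (congrFun hx ⟨Q', hQ'⟩))
  haveI : Module.Finite B D := Module.Finite.of_injective g hg
  exact IsNoetherianRing.of_finite B D

theorem exists_le_unr [IsNoetherianRing D] :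
    ∃ L : IntermediateField (ResidueField A) (ResidueField S), FiniteDimensional (ResidueField A) L ∧
      D ≤ unr A (resField D ⊔ L) := by
  classical
  haveI := isLocalRing_sub D
  haveI := isLocalHom_sub D
  obtain ⟨G, hG⟩ := (IsNoetherian.noetherian (maximalIdeal D))
  obtain ⟨P, hP⟩ := exists_galoisStage A S (G.image fun d : D => (d : S))
  have hPS := isStage_E P
  haveI := P.finite
  haveI := finite_resField (D := P.E)
  refine ⟨resField P.E, inferInstance, fun x hx => ?_⟩
  let l := resField D ⊔ resField P.E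
  let A2 := unr A l
  have hGm : ∀ g ∈ G, g ∈ maximalIdeal D := fun g hg => hG ▸ Submodule.subset_span hg
  have hmS : maximalIdeal S = (maximalIdeal A).map (algebraMap A S) :=
    (Lib.Henselian.StrictHenselization.map_maximalIdeal A S).symm
  have approx : ∀ n, ∀ y ∈ D, ∃ a ∈ A2, y - a ∈ maximalIdeal S ^ n := by
    intro n
    induction n with
    | zero => exact fun y _ => ⟨0, A2.zero_mem, by rw [pow_zero, Ideal.one_eq_top]; trivial⟩
    | succ n IH =>
      intro y hy
      obtain ⟨a₀, ha₀, hres⟩ : ∃ a ∈ unr A (resField D), residue S a = residue S y :=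
        mem_resField.mp (by rw [resField_unr]; exact ⟨y, hy, rfl⟩)
      have hd : (⟨y - a₀, sub_mem hy (unr_le_self D ha₀)⟩ : D) ∈ maximalIdeal D := fun hu =>
        (residue_eq_zero_iff (y - a₀)).mp (by rw [map_sub, hres, sub_self]) (hu.map (algebraMap D S))
      rw [← hG, Submodule.mem_span_finset'] at hd
      obtain ⟨c, hc⟩ := hd
      choose a haA ha using fun g : G => IH (c g : S) (c g).2
      refine ⟨a₀ + ∑ g : G, a g * ((g : D) : S), add_mem
        (unr_mono (le_sup_left (b := resField P.E)) ha₀)
        (sum_mem fun g _ => mul_mem (haA g) ⟨P.E, hPS, le_sup_right,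
          hP (Finset.mem_image_of_mem _ g.2)⟩), ?_⟩
      have hc' : y - a₀ = ∑ g : G, (c g : S) * ((g : D) : S) := by
        have := congrArg (algebraMap D S) hc
        rw [map_sum] at this
        simp only [smul_eq_mul, map_mul] at this
        exact this.symm
      rw [show y - (a₀ + ∑ g : G, a g * ((g : D) : S)) =
        ∑ g : G, ((c g : S) - a g) * ((g : D) : S) by
        rw [← sub_sub, hc', ← Finset.sum_sub_distrib]; simp only [sub_mul], pow_succ]
      refine Ideal.sum_mem _ fun g _ => Ideal.mul_mem_mul (ha g) ?_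
      exact fun hu => hGm g g.2 (IsUnit.of_map (algebraMap D S) _ hu)
  obtain ⟨Px, hPx⟩ := exists_galoisStage A S ({x} : Finset S)
  haveI := Px.finite
  haveI := finite_resField (D := Px.E)
  obtain ⟨N, hNfin, hN, hN'⟩ := exists_gens (A := A) l (resField Px.E)
  haveI : IsNoetherianRing A2 := isNoetherianRing_unr
  haveI := isLocalRing_sub A2
  let W : Submodule A2 N := LinearMap.range (Algebra.linearMap A2 N)
  let I : Ideal A2 := (maximalIdeal A).map (algebraMap A A2)
  have hI : I ≤ Ideal.jacobson ⊥ := (Ideal.map_le_iff_le_comap.mpr fun a ha hu =>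
    ha (IsUnit.of_map (algebraMap A S) a (hu.map (algebraMap A2 S))) :
      I ≤ maximalIdeal A2).trans (maximalIdeal_le_jacobson _)
  let x' : N := ⟨x, hN x ⟨Px.E, isStage_E Px, le_sup_right, hPx (Finset.mem_singleton_self x)⟩⟩
  have hmem : Submodule.Quotient.mk x' ∈ ⨅ n, I ^ n • (⊤ : Submodule A2 (N ⧸ W)) := by
    rw [Submodule.mem_iInf]
    intro n
    obtain ⟨a, haA, ha⟩ := approx n x hx
    let U := unr A (l ⊔ resField Px.E)
    let a' : N := algebraMap A2 N ⟨a, haA⟩
    let eN : U →+* N := (U.val.toRingHom).codRestrict N.toSubring fun z => hN z z.2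
    have hz : (⟨x - a, hN' _ (sub_mem x'.2 a'.2)⟩ : U) ∈ ((maximalIdeal A) ^ n).map (algebraMap A U) := by
      rw [← comap_map_unr (((maximalIdeal A) ^ n).map (algebraMap A U)), Ideal.mem_comap,
        Ideal.map_map, ← IsScalarTower.algebraMap_eq, Ideal.map_pow, ← hmS]
      exact ha
    have h3 : x' - a' ∈ (I ^ n • (⊤ : Submodule A2 N)) := by
      rw [Ideal.smul_top_eq_map, Submodule.restrictScalars_mem, ← Ideal.map_pow, Ideal.map_map,
        ← IsScalarTower.algebraMap_eq]
      have h4 := Ideal.mem_map_of_mem eN hz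
      rw [Ideal.map_map,
        show eN.comp (algebraMap A U) = algebraMap A N from RingHom.ext fun _ => rfl] at h4
      exact h4
    have h5 : Submodule.Quotient.mk x' = W.mkQ (x' - a') := by
      rw [map_sub, show W.mkQ a' = 0 from (Submodule.Quotient.mk_eq_zero W).mpr ⟨⟨a, haA⟩, rfl⟩,
        sub_zero]
      rfl
    rw [h5]
    exact (Submodule.map_smul'' _ _ _).le.trans (Submodule.smul_mono le_rfl le_top)
      (Submodule.mem_map_of_mem h3)
  rw [Ideal.iInf_pow_smul_eq_bot_of_le_jacobson I hI, Submodule.mem_bot,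
    Submodule.Quotient.mk_eq_zero] at hmem
  obtain ⟨r, hr⟩ := hmem
  have : (r : S) = x := congrArg Subtype.val hr
  exact this ▸ r.2

theorem finiteDimensional_of_image {K F R₀ : Type u} [Field K] [Field F] [Field R₀] (ι : K →+* F)
    (jj : R₀ →+* F) {k : Subfield K} (R : Subring R₀) (T : Finset R₀)
    (hR : ∀ r ∈ R, ∃ c ∈ k, ι c = jj r)
    (hs : ∀ γ, IsSeparable k γ → ∃ ζ ∈ Submodule.span R (T : Set R₀), jj ζ = ι γ) :
    FiniteDimensional k (separableClosure k K) := by
  classical
  letI : Algebra k F := (ι.comp k.subtype).toAlgebra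
  let W : Submodule k F := Submodule.span k ((T.image jj : Finset F) : Set F)
  haveI : Module.Finite k W := Module.Finite.span_of_finite _ (Finset.finite_toSet _)
  have hW : ∀ x : separableClosure k K, ι x ∈ W := fun x => by
    obtain ⟨ζ, hζ, he⟩ := hs x (mem_separableClosure_iff.mp x.2)
    rw [← he]
    clear he
    induction hζ using Submodule.span_induction with
    | mem v hv => exact Submodule.subset_span (Finset.mem_image_of_mem jj hv)
    | zero => rw [map_zero]; exact W.zero_mem
    | add a b _ _ ha hb => rw [map_add]; exact W.add_mem ha hb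
    | smul r a _ ha =>
      obtain ⟨c, hc, hcr⟩ := hR r r.2
      rw [show r • a = (r : R₀) * a from rfl, map_mul, ← hcr]
      exact W.smul_mem ⟨c, hc⟩ ha
  let f : separableClosure k K →ₗ[k] W :=
    { toFun := fun x => ⟨ι x, hW x⟩
      map_add' := fun a b => Subtype.ext (map_add ι _ _)
      map_smul' := fun c a => Subtype.ext (by
        show ι ((c : K) * (a : K)) = ι (c : K) * ι (a : K)
        exact map_mul ι _ _) }
  exact FiniteDimensional.of_injective f
    fun a b h => Subtype.ext (ι.injective (congrArg Subtype.val h))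

theorem exists_span_data [IsNoetherianRing D] (Q : Ideal S) :
    ∃ (l : IntermediateField (ResidueField A) (ResidueField S)) (gens : Finset S),
      D ≤ unr A l ∧ Q ≤ Ideal.span ((Q : Set S) ∩ unr A l) ∧
      ∀ ζ ∈ l, ζ ∈ Submodule.span (resField D).toSubfield.toSubring
        ((fun v : S => residue S v) '' (gens : Set S)) := by
  classical
  haveI := isNoetherianRing_S A S
  obtain ⟨L, hL, hle⟩ := exists_le_unr D
  obtain ⟨G, hG⟩ := IsNoetherian.noetherian Q
  obtain ⟨P, hP⟩ := exists_galoisStage A S G
  haveI := hL; haveI := P.finite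
  haveI := finite_resField (D := P.E)
  obtain ⟨N, hNfin, hN, hN'⟩ := exists_gens (A := A) (resField D) (L ⊔ resField P.E)
  let l := resField D ⊔ (L ⊔ resField P.E)
  have hQl : Q ≤ Ideal.span ((Q : Set S) ∩ unr A l) := by
    conv_lhs => rw [← hG]
    exact Submodule.span_mono fun g hg => ⟨hG ▸ Submodule.subset_span hg,
      ⟨P.E, isStage_E P, le_sup_right.trans le_sup_right, hP hg⟩⟩
  obtain ⟨gens, hgens⟩ := (Module.Finite.iff_fg (N := Subalgebra.toSubmodule N)).mp hNfin
  refine ⟨l, gens, hle.trans (unr_mono (sup_le_sup_left le_sup_left _)), hQl, fun ζ hζl => ?_⟩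
  obtain ⟨z, hz, rfl⟩ : ∃ z ∈ unr A l, residue S z = ζ :=
    mem_resField.mp (by rw [resField_unr]; exact hζl)
  have hzN : z ∈ Submodule.span (unr A (resField D)) (gens : Set S) := hgens ▸ hN z hz
  clear hζl hz
  induction hzN using Submodule.span_induction with
  | mem v hv => exact Submodule.subset_span ⟨v, hv, rfl⟩
  | zero => rw [map_zero]; exact Submodule.zero_mem _
  | add a b _ _ ha hb => rw [map_add]; exact Submodule.add_mem _ ha hb
  | smul c a _ ha =>
    rw [show c • a = (c : S) * a from rfl, map_mul]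
    exact Submodule.smul_mem _
      (⟨residue S (c : S), residue_mem_of_mem_unr c.2⟩ : (resField D).toSubfield.toSubring) ha

theorem exists_kk_eq {Q : Ideal S} [Q.IsPrime] (hQ : Q ∈ minimalPrimes S) [(MM D hQ).IsMaximal]
    {r : ResidueField S} (hr : r ∈ (resField D).toSubfield.toSubring) :
    ∃ c ∈ kk D hQ, iota D hQ c = j (A := A) Q r := by
  obtain ⟨d, hd, rfl⟩ := mem_resField.mp (show r ∈ resField D from hr)
  refine ⟨((algebraMap (integralClosure D (FractionRing D)) (MM D hQ).ResidueField).comp
    (algebraMap D (integralClosure D (FractionRing D)))) ⟨d, hd⟩,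
    Subfield.subset_closure ⟨_, rfl⟩, ?_⟩
  rw [RingHom.comp_apply, iota_algebraMap, mu_algebraMap]

theorem finiteDimensional_MM [IsNoetherianRing D] {Q : Ideal S} [Q.IsPrime] (hQ : Q ∈ minimalPrimes S)
    [(MM D hQ).IsMaximal] :
    FiniteDimensional (Subfield.closure (Set.range ((algebraMap (integralClosure D (FractionRing D)) (MM D hQ).ResidueField).comp (algebraMap D (integralClosure D (FractionRing D)))))) (separableClosure (Subfield.closure (Set.range ((algebraMap (integralClosure D (FractionRing D)) (MM D hQ).ResidueField).comp (algebraMap D (integralClosure D (FractionRing D)))))) (MM D hQ).ResidueField) := by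
  classical
  refine (exists_span_data D Q).elim fun l hl => hl.elim fun gens h => ?_
  refine finiteDimensional_of_image (iota D hQ) (j (A := A) Q) (resField D).toSubfield.toSubring
    (gens.image fun v : S => residue S v) (fun r hr => exists_kk_eq D hQ hr) fun γ hγ => ?_
  exact (exists_mem_of_separable D hQ l h.1 h.2.1 hγ).elim fun ζ hζ =>
    ⟨ζ, by rw [Finset.coe_image]; exact h.2.2 ζ hζ.1, hζ.2⟩

theorem finiteDimensional_of_isNoetherianRing [IsNoetherianRing D]
    (M : Ideal (integralClosure D (FractionRing D))) [M.IsMaximal] :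
    FiniteDimensional (Subfield.closure (Set.range ((algebraMap (integralClosure D (FractionRing D)) M.ResidueField).comp (algebraMap D (integralClosure D (FractionRing D)))))) (separableClosure (Subfield.closure (Set.range ((algebraMap (integralClosure D (FractionRing D)) M.ResidueField).comp (algebraMap D (integralClosure D (FractionRing D)))))) M.ResidueField) := by
  have e := @exists_eq_MM A S _ _ _ _ _ _ _ _ _ D M _
  obtain ⟨Q, hQp, hQ, h⟩ := e
  subst h
  exact @finiteDimensional_MM A S _ _ _ _ _ _ _ _ _ D _ Q _ hQ _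

/-- When `D` meets the residue criterion for equality, it is the unramified ring and all minimal
primes are extended from it. -/
theorem eq_unr_of_bot
    (h : ∀ (M : Ideal (integralClosure D (FractionRing D))) [M.IsMaximal],
      separableClosure (Subfield.closure (Set.range ((algebraMap (integralClosure D (FractionRing D)) M.ResidueField).comp (algebraMap D (integralClosure D (FractionRing D)))))) M.ResidueField = ⊥) :
    D = unr A (resField D) ∧
      ∀ Q ∈ minimalPrimes S, Q = Ideal.map (algebraMap D S) (Q.comap (algebraMap D S)) := by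
  classical
  haveI := isNoetherianRing_S A S
  haveI := isReduced_S A S
  -- fixed elements of the stabilizers are unramified
  have key : ∀ (P : GaloisStage A S) (Q : Ideal S) (_ : Q.IsPrime) (_ : Q ∈ minimalPrimes S) (y : P.E),
      (∀ g ∈ fixer P.act (stageFrac Q P.E) (fieldOf (Q := Q) D : Set _), P.act g y = y) →
      ∃ F : Subalgebra A S, IsStage F ∧ resField F ≤ resField D ∧ F ≤ P.E ∧ (y : S) ∈ F := by
    intro P Q _ hQ y hy
    refine fixed_mem_unr P _ _ (fun z hz => ?_) y hy
    haveI := isMaximal_MM D hQ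
    obtain ⟨γ, hγ, hγe⟩ := exists_separable_of_fixed D hQ P z hz
    have hmem : γ ∈ separableClosure (kk D hQ) (MM D hQ).ResidueField :=
      mem_separableClosure_iff.mpr hγ
    rw [h (MM D hQ), IntermediateField.mem_bot] at hmem
    obtain ⟨c, rfl⟩ := hmem
    obtain ⟨ζ, hζ, he⟩ := exists_of_mem_kk D hQ c.2
    rw [← (j (A := A) Q).injective (he.trans hγe)]
    exact hζ
  constructor
  · refine le_antisymm (fun x hx => ?_) (unr_le_self D)
    obtain ⟨P, hxP, hext⟩ := exists_stage_ideals A S (minimalPrimes S)
      (minimalPrimes.finite_of_isNoetherianRing S) ({x} : Finset S)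
    let x' : P.E := ⟨x, hxP (Finset.mem_singleton_self x)⟩
    let ψ : P.E →+* ResidueField S := (residue S).comp (algebraMap P.E S)
    let H0 := fixer P.act ψ ((resField D).toSubfield : Set _)
    have hxfix : ∀ g ∈ H0, P.act g x' = x' := fun g hg => by
      refine Subtype.ext (sub_eq_zero.mp (IsReduced.eq_zero _ ?_))
      rw [← mem_nilradical, nilradical, ← Ideal.sInf_minimalPrimes, Submodule.mem_sInf]
      intro Q hQ
      haveI := hQ.1.1
      have hgH : g ∈ fixer P.act (stageFrac Q P.E) (fieldOf (Q := Q) D : Set _) := by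
        haveI : Nontrivial P.E := inferInstance
        refine mem_of_fix_fixed P.act P.isDual _ fun y hy => ?_
        obtain ⟨F, hF, hFl, hFE, hyF⟩ := key P Q inferInstance hQ y hy
        exact hF.fixed hFE (fun v hv => mem_fixer P.act |>.mp hg v (hFl ⟨_, hv, rfl⟩)) y hyF
      have h1 := mem_fixer P.act |>.mp hgH x' (mem_fieldOf D hx)
      rw [← toFrac_eq_zero_iff Q, map_sub]
      exact sub_eq_zero.mpr h1
    obtain ⟨F, hF, hFl, -, hxF⟩ := fixed_mem_unr P H0 (resField D) (fun y hy =>
      mem_of_invariant P.act P.tr_e P.fixed ψ (resField D).toSubfield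
        (fun a => (resField D).algebraMap_mem (residue A a)) y fun g hg => congrArg ψ (hy g hg))
      x' hxfix
    exact ⟨F, hF, hFl, hxF⟩
  · intro Q hQ
    haveI := hQ.1.1
    refine le_antisymm ?_ Ideal.map_comap_le
    obtain ⟨P, -, hext⟩ := exists_stage_ideals A S {Q} (Set.finite_singleton Q) ∅
    conv_lhs => rw [hext Q rfl]
    refine Ideal.map_le_iff_le_comap.mpr fun w hw => ?_
    let H := fixer P.act (stageFrac Q P.E) (fieldOf (Q := Q) D : Set _)
    have hstable : ∀ g ∈ H, ∀ v ∈ Q.comap (algebraMap P.E S), P.act g v ∈ Q.comap (algebraMap P.E S) :=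
      fun g hg v hv => by
        have h0 : stageFrac Q P.E v = 0 := (toFrac_eq_zero_iff Q).mpr hv
        have := mem_fixer P.act |>.mp hg v (by rw [h0]; exact (fieldOf (Q := Q) D).zero_mem)
        exact (toFrac_eq_zero_iff Q).mp (this.trans h0)
    refine (Ideal.span_le.mpr ?_ : Ideal.span _ ≤ _) (mem_span_fixed P.act P.isDual H _ hstable hw)
    rintro v ⟨hvQ, hvfix⟩
    obtain ⟨F, hF, hFl, -, hvF⟩ := key P Q inferInstance hQ v hvfix
    have hvD : (v : S) ∈ D := unr_le_self D ⟨F, hF, hFl, hvF⟩
    exact Ideal.mem_map_of_mem (algebraMap D S)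
      (show (⟨v, hvD⟩ : D) ∈ Q.comap (algebraMap D S) from hvQ)

/-- Conversely. -/
theorem bot_of_le_unr (hD : D ≤ unr A (resField D))
    (hext : ∀ Q ∈ minimalPrimes S, Q = Ideal.map (algebraMap D S) (Q.comap (algebraMap D S)))
    (M : Ideal (integralClosure D (FractionRing D))) [M.IsMaximal] :
    separableClosure (Subfield.closure (Set.range ((algebraMap (integralClosure D (FractionRing D)) M.ResidueField).comp (algebraMap D (integralClosure D (FractionRing D)))))) M.ResidueField = ⊥ := by
  classical
  have e := @exists_eq_MM A S _ _ _ _ _ _ _ _ _ D M _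
  obtain ⟨Q, hQp, hQ, h⟩ := e
  subst h
  have hQl : Q ≤ Ideal.span ((Q : Set S) ∩ unr A (resField D)) := by
    conv_lhs => rw [hext Q hQ]
    refine Ideal.map_le_iff_le_comap.mpr fun d hd => Ideal.subset_span ⟨hd, hD d.2⟩
  refine separableClosure_eq_bot_of (iota D hQ) fun γ hγ => ?_
  obtain ⟨ζ, hζl, hζ⟩ := exists_mem_of_separable D hQ (resField D) hD hQl hγ
  obtain ⟨d, hd, rfl⟩ := mem_resField.mp hζl
  refine ⟨((algebraMap (integralClosure D (FractionRing D)) (MM D hQ).ResidueField).comp
      (algebraMap D (integralClosure D (FractionRing D)))) ⟨d, hd⟩,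
    Subfield.subset_closure ⟨_, rfl⟩, ?_⟩
  rw [RingHom.comp_apply, iota_algebraMap, mu_algebraMap]
  exact hζ

end Groth.Agent.Lib.Unram.StrictNoetherian
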