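import Groth.Agent.Lib.Unram.StrictStage
import Mathlib.FieldTheory.SeparableClosure
import Mathlib.RingTheory.Spectrum.Prime.RingHom

/-!
# Residue fields of normalizations of intermediate rings of a strict henselization

For an intermediate ring `D` of `S/A` and a minimal prime `Q` of `S`, a maximal ideal of the
normalization of `D` lies over `Q`; its residue field embeds into that of the integral closure of
`A` in `Frac (S/Q)`, and the part separable over the residue field of `D` corresponds to the residues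
of the stage elements with image in `Frac` of the image of `D`.
-/

universe u

open IsLocalRing Polynomial

namespace Groth.Agent.Lib.Unram.StrictResidue

open StrictGalois StrictFractions StrictStage

variable {A S : Type u} [CommRing A] [HenselianLocalRing A] [IsNoetherianRing A] [CommRing S]
  [IsLocalRing S] [Algebra A S] [IsLocalHom (algebraMap A S)] [Hensel.IsStrictHenselization A S]

variable (Q : Ideal S) [Q.IsPrime]

/-- The integral closure of `A` in `Frac (S/Q)`. -/
abbrev T2 := integralClosure A (FractionRing (S ⧸ Q))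

omit [IsNoetherianRing A] [IsLocalRing S] [IsLocalHom (algebraMap A S)]
  [Hensel.IsStrictHenselization A S] in
instance isLocalRing_T2 : IsLocalRing (T2 (A := A) Q) :=
  haveI : Algebra.IsIntegral A (T2 (A := A) Q) := inferInstance
  Lib.Henselian.Unibranch.isLocalRing_of_isDomain A (T2 (A := A) Q)

/-- The map from `S`. -/
noncomputable def toT2 : S →ₐ[A] T2 (A := A) Q :=
  AlgHom.codRestrict
    ((IsScalarTower.toAlgHom A (S ⧸ Q) (FractionRing (S ⧸ Q))).comp (Ideal.Quotient.mkₐ A Q))
    (T2 (A := A) Q) fun x => by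
      haveI := isIntegral_S (A := A) (S := S)
      exact (Algebra.IsIntegral.isIntegral (R := A) x).map _

theorem coe_toT2 (x : S) : (toT2 (A := A) Q x : FractionRing (S ⧸ Q)) = toFrac Q x := rfl

instance isLocalHom_toT2 : IsLocalHom (toT2 (A := A) Q).toRingHom := by
  letI := (toT2 (A := A) Q).toRingHom.toAlgebra
  haveI : IsScalarTower A S (T2 (A := A) Q) :=
    IsScalarTower.of_algebraMap_eq fun a => ((toT2 (A := A) Q).commutes a).symm
  haveI : Algebra.IsIntegral S (T2 (A := A) Q) := Algebra.IsIntegral.tower_top (R := A)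
  refine ((local_hom_TFAE (toT2 (A := A) Q).toRingHom).out 0 4).mpr ?_
  haveI := Ideal.isMaximal_comap_of_isIntegral_of_isMaximal (R := S) (maximalIdeal (T2 (A := A) Q))
  exact eq_maximalIdeal this

/-- The embedding of residue fields. -/
noncomputable def j : ResidueField S →+* ResidueField (T2 (A := A) Q) :=
  ResidueField.map (toT2 (A := A) Q).toRingHom

theorem j_residue (x : S) : j (A := A) Q (residue S x) = residue _ (toT2 (A := A) Q x) := rfl

variable (D : Subalgebra A S)

theorem comap_mem_minimalPrimes {Q' : Ideal S} (hQ : Q' ∈ minimalPrimes S) :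
    Q'.comap (algebraMap D S) ∈ minimalPrimes D := by
  haveI := hQ.1.1
  haveI := Lib.Henselian.StrictHenselization.faithfullyFlat A S
  haveI := isIntegral_S (A := A) (S := S)
  refine ⟨⟨inferInstance, bot_le⟩, fun p ⟨hp, _⟩ hle => le_of_eq ?_⟩
  haveI := hp
  by_contra hne
  haveI : Algebra.IsIntegral A D := ⟨fun x => isIntegral_algHom_iff D.val Subtype.val_injective |>.mp
    (Algebra.IsIntegral.isIntegral (R := A) (x : S))⟩
  have hlt : p < Q'.comap (algebraMap D S) := lt_of_le_of_ne hle fun h => hne h.symm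
  have hA : p.comap (algebraMap A D) < (Q'.comap (algebraMap D S)).comap (algebraMap A D) :=
    Ideal.IsIntegral.comap_lt_comap hlt
  rw [Ideal.comap_comap, ← IsScalarTower.algebraMap_eq] at hA
  have hmin : Q'.comap (algebraMap A S) ∈ minimalPrimes A := by
    refine ⟨⟨inferInstance, bot_le⟩, fun q ⟨hq, _⟩ hqle => ?_⟩
    haveI := hq
    haveI : Q'.LiesOver (Q'.comap (algebraMap A S)) := ⟨rfl⟩
    obtain ⟨P, hP, hPprime, hPover⟩ :=
      Ideal.exists_ideal_le_liesOver_of_le (S := S) (p := q) (q := Q'.comap (algebraMap A S)) Q' hqle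
    have hQP : Q' ≤ P := hQ.2 ⟨hPprime, bot_le⟩ hP
    rw [hPover.over]
    exact Ideal.comap_mono hQP
  exact (lt_irrefl _) (hA.trans_le (hmin.2 ⟨inferInstance, bot_le⟩ hA.le))

variable {Q} (hQ : Q ∈ minimalPrimes S)

/-- The image of `FractionRing D` in `Frac (S/Q)`. -/
noncomputable def liftFrac : FractionRing D →+* FractionRing (S ⧸ Q) :=
  IsLocalization.lift (M := nonZeroDivisors D) (g := (toFrac Q).comp (algebraMap D S)) fun d => by
    refine isUnit_iff_ne_zero.mpr fun h0 => ?_
    exact Set.disjoint_left.mp (Ideal.disjoint_nonZeroDivisors_of_mem_minimalPrimes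
      (comap_mem_minimalPrimes D hQ)) ((toFrac_eq_zero_iff Q).mp h0) d.2

theorem liftFrac_algebraMap (d : D) :
    liftFrac D hQ (algebraMap D (FractionRing D) d) = toFrac Q (d : S) :=
  IsLocalization.lift_eq _ d

/-- The subfield generated by the image of `D`. -/
noncomputable abbrev fieldOf : Subfield (FractionRing (S ⧸ Q)) :=
  Subfield.closure (Set.range ((toFrac Q).comp (algebraMap D S)))

theorem isIntegral_liftFrac (y : integralClosure D (FractionRing D)) :
    IsIntegral A (liftFrac D hQ (y : FractionRing D)) := by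
  haveI := isIntegral_S (A := A) (S := S)
  haveI : Algebra.IsIntegral A D := ⟨fun x => isIntegral_algHom_iff D.val Subtype.val_injective |>.mp
    (Algebra.IsIntegral.isIntegral (R := A) (x : S))⟩
  have h1 : IsIntegral A (y : FractionRing D) := isIntegral_trans _ y.2
  refine h1.map ({ liftFrac D hQ with commutes' := fun a => ?_ } :
    FractionRing D →ₐ[A] FractionRing (S ⧸ Q))
  show liftFrac D hQ (algebraMap A (FractionRing D) a) = _
  rw [IsScalarTower.algebraMap_apply A D, liftFrac_algebraMap]
  exact toFrac_algebraMap Q a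

/-- Integral elements of the field generated by `D` lift to the normalization of `D`. -/
theorem exists_lift [IsReduced A] [IsNoetherianRing S] {x : FractionRing (S ⧸ Q)}
    (hx : x ∈ fieldOf (Q := Q) D) (hint : IsIntegral A x) :
    ∃ y : integralClosure D (FractionRing D), liftFrac D hQ (y : FractionRing D) = x := by
  classical
  haveI : IsReduced S := (Lib.Henselian.Permanence.strict_isReduced_iff A S).mp inferInstance
  obtain ⟨a, ha, b, hb, rfl⟩ := Subfield.mem_closure_iff.mp hx
  rw [show Set.range ((toFrac Q).comp (algebraMap D S)) =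
    ((toFrac Q).comp (algebraMap D S)).range from rfl, Subring.closure_eq] at ha hb
  obtain ⟨a, rfl⟩ := ha
  obtain ⟨b, rfl⟩ := hb
  by_cases hb0 : (toFrac Q).comp (algebraMap D S) b = 0
  · exact ⟨0, by rw [hb0, div_zero]; exact map_zero _⟩
  let T := {Q' : Ideal S | Q' ∈ minimalPrimes S ∧
    Q'.comap (algebraMap D S) ≠ Q.comap (algebraMap D S)}
  have hT : T.Finite :=
    (minimalPrimes.finite_of_isNoetherianRing S).subset fun Q' h => h.1
  have hc : ∀ Q' : hT.toFinset, ∃ c : D, (c : S) ∈ (Q' : Ideal S) ∧ (c : S) ∉ Q := fun Q' => by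
    obtain ⟨h1, h2⟩ := hT.mem_toFinset.mp Q'.2
    by_contra hcon
    push Not at hcon
    haveI := h1.1.1
    have hle : (Q' : Ideal S).comap (algebraMap D S) ≤ Q.comap (algebraMap D S) := fun c hc =>
      hcon c hc
    exact h2 (le_antisymm hle ((comap_mem_minimalPrimes D hQ).2 ⟨inferInstance, bot_le⟩ hle))
  choose c hcmem hcQ using hc
  let C : D := ∏ Q' : hT.toFinset, c Q'
  have hC0 : (toFrac Q).comp (algebraMap D S) C ≠ 0 := by
    rw [map_prod]
    exact Finset.prod_ne_zero_iff.mpr fun Q' _ h => hcQ Q' ((toFrac_eq_zero_iff Q).mp h)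
  have hCmem : ∀ Q' ∈ T, (C : S) ∈ Q' := fun Q' hQ' => by
    have h1 := Finset.dvd_prod_of_mem c (Finset.mem_univ (⟨Q', hT.mem_toFinset.mpr hQ'⟩ : hT.toFinset))
    obtain ⟨w, hw⟩ := h1
    show (algebraMap D S) C ∈ Q'
    rw [show C = _ from hw, map_mul]
    exact Ideal.mul_mem_right _ _ (hcmem ⟨Q', hT.mem_toFinset.mpr hQ'⟩)
  obtain ⟨d, hdQ, hd⟩ : ∃ d : D, (d : S) ∈ Q ∧ ∀ Q' ∈ T, (d : S) ∉ Q' := by
    by_contra hcon
    push Not at hcon
    have hsub : ((Q.comap (algebraMap D S) : Ideal D) : Set D) ⊆
        ⋃ Q' ∈ (hT.toFinset : Set (Ideal S)), ((Q'.comap (algebraMap D S) : Ideal D) : Set D) :=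
      fun d hd => by
        obtain ⟨Q', hQ', h⟩ := hcon d hd
        exact Set.mem_biUnion (hT.mem_toFinset.mpr hQ') h
    rcases hT.toFinset.eq_empty_or_nonempty with he | ⟨Q₀, hQ₀⟩
    · obtain ⟨Q', hQ', -⟩ := hcon 0 Q.zero_mem
      exact Finset.notMem_empty Q' (he ▸ hT.mem_toFinset.mpr hQ')
    · obtain ⟨Q', hQ', hle⟩ := (Ideal.subset_union_prime Q₀ Q₀ fun Q' hQ' _ _ => by
        haveI := (hT.mem_toFinset.mp hQ').1.1.1; infer_instance).mp hsub
      obtain ⟨h1, h2⟩ := hT.mem_toFinset.mp hQ'
      haveI := h1.1.1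
      exact h2 (le_antisymm ((comap_mem_minimalPrimes D h1).2 ⟨inferInstance, bot_le⟩ hle) hle)
  have hzero : ∀ e : D, (∀ Q' ∈ minimalPrimes S, (e : S) ∈ Q') → e = 0 := fun e he => by
    refine Subtype.ext (IsReduced.eq_zero (e : S) ?_)
    rw [← mem_nilradical, nilradical, ← Ideal.sInf_minimalPrimes, Submodule.mem_sInf]
    exact he
  have hnzd : C * b + d ∈ nonZeroDivisors D := by
    rw [mem_nonZeroDivisors_iff_right]
    intro e he
    refine hzero e fun Q' hQ' => ?_
    haveI := hQ'.1.1
    have hmem : (e : S) * ((C : S) * b + d) ∈ Q' := by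
      have := congrArg (algebraMap D S) he
      rw [map_mul, map_add, map_mul, map_zero] at this
      rw [show (e : S) * ((C : S) * b + d) = 0 from this]
      exact Q'.zero_mem
    refine (‹Q'.IsPrime›.mem_or_mem hmem).resolve_right fun h => ?_
    by_cases hp : Q'.comap (algebraMap D S) = Q.comap (algebraMap D S)
    · have hd' : d ∈ Q'.comap (algebraMap D S) := by rw [hp]; exact hdQ
      have hCb : C * b ∈ Q.comap (algebraMap D S) := by
        rw [← hp, Ideal.mem_comap]
        have := Q'.sub_mem h hd'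
        rwa [show algebraMap D S d = (d : S) from rfl, add_sub_cancel_right] at this
      rw [Ideal.mem_comap, map_mul] at hCb
      exact mul_ne_zero hC0 hb0 (by
        rw [← map_mul]; exact (toFrac_eq_zero_iff Q).mpr (by rw [map_mul]; exact hCb))
    · have := Q'.sub_mem h (Q'.mul_mem_right (b : S) (hCmem Q' ⟨hQ', hp⟩))
      rw [add_sub_cancel_left] at this
      exact hd Q' ⟨hQ', hp⟩ this
  let y : FractionRing D := IsLocalization.mk' (FractionRing D) (C * a) ⟨C * b + d, hnzd⟩
  have hy : liftFrac D hQ y = (toFrac Q).comp (algebraMap D S) a / (toFrac Q).comp (algebraMap D S) b := by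
    rw [liftFrac, IsLocalization.lift_mk'_spec]
    show (toFrac Q).comp (algebraMap D S) (C * a) =
      (toFrac Q).comp (algebraMap D S) (C * b + d) * _
    rw [map_add, map_mul, map_mul,
      show (toFrac Q).comp (algebraMap D S) d = 0 from (toFrac_eq_zero_iff Q).mpr hdQ, add_zero,
      mul_assoc, mul_div_cancel₀ _ hb0]
  obtain ⟨f, hf, hfx⟩ := hint
  refine ⟨⟨y, ?_⟩, hy⟩
  refine IsIntegral.tower_top (R := A) ⟨X * f, monic_X.mul hf, ?_⟩
  rw [← aeval_def, map_mul, aeval_X]
  obtain ⟨⟨e, s⟩, hes⟩ := IsLocalization.surj (nonZeroDivisors D) (y * aeval y f)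
  have hmap : ∀ {Q' : Ideal S} [Q'.IsPrime] (hQ' : Q' ∈ minimalPrimes S),
      (e : S) ∈ Q' ↔ liftFrac D hQ' (y * aeval y f) = 0 := fun {Q'} _ hQ' => by
    have h1 := congrArg (liftFrac D hQ') hes
    rw [map_mul, liftFrac_algebraMap, liftFrac_algebraMap] at h1
    have hs : toFrac Q' ((s : D) : S) ≠ 0 := fun h0 =>
      Set.disjoint_left.mp (Ideal.disjoint_nonZeroDivisors_of_mem_minimalPrimes
        (comap_mem_minimalPrimes D hQ')) ((toFrac_eq_zero_iff Q').mp h0) s.2
    rw [← toFrac_eq_zero_iff Q', ← h1, mul_eq_zero, or_iff_left hs]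
  have he0 : e = 0 := hzero e fun Q' hQ' => by
    haveI := hQ'.1.1
    by_cases hp : Q'.comap (algebraMap D S) = Q.comap (algebraMap D S)
    · have h0 : (e : S) ∈ Q := by
        rw [hmap hQ, map_mul, hy]
        let π : FractionRing D →ₐ[A] FractionRing (S ⧸ Q) :=
          { liftFrac D hQ with
            commutes' := fun t => by
              show liftFrac D hQ (algebraMap A (FractionRing D) t) = _
              rw [IsScalarTower.algebraMap_apply A D, liftFrac_algebraMap]
              exact toFrac_algebraMap Q t }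
        rw [show liftFrac D hQ (aeval y f) = aeval (π y) f from (aeval_algHom_apply π y f).symm,
          show π y = _ from hy, aeval_def, hfx, mul_zero]
      have : e ∈ Q.comap (algebraMap D S) := h0
      rw [← hp] at this
      exact this
    · rw [hmap hQ', map_mul]
      have hy0 : liftFrac D hQ' y = 0 := by
        rw [liftFrac, IsLocalization.lift_mk'_spec]
        rw [mul_zero]
        refine (toFrac_eq_zero_iff Q').mpr ?_
        rw [map_mul]
        exact Q'.mul_mem_right _ (hCmem Q' ⟨hQ', hp⟩)
      rw [hy0, zero_mul]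
  rw [he0, map_zero] at hes
  exact (IsLocalization.map_units (FractionRing D) s).mul_left_eq_zero.mp hes

/-- The composite to the residue field of `T2`. -/
noncomputable def mu : integralClosure D (FractionRing D) →+* ResidueField (T2 (A := A) Q) :=
  (residue _).comp
    (((liftFrac D hQ).comp (integralClosure D (FractionRing D)).val.toRingHom).codRestrict
      (T2 (A := A) Q) fun y => isIntegral_liftFrac D hQ y)

theorem mu_algebraMap (d : D) :
    mu D hQ (algebraMap D _ d) = j (A := A) Q (residue S (d : S)) := by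
  rw [j_residue]
  refine congrArg (residue _) (Subtype.ext ?_)
  exact liftFrac_algebraMap D hQ d

/-- The maximal ideal of the normalization of `D` attached to `Q`. -/
noncomputable def MM : Ideal (integralClosure D (FractionRing D)) := RingHom.ker (mu D hQ)

theorem mem_MM {y : integralClosure D (FractionRing D)} : y ∈ MM D hQ ↔ mu D hQ y = 0 := Iff.rfl

theorem isMaximal_MM : (MM D hQ).IsMaximal := by
  haveI := isLocalRing_sub D
  haveI := isLocalHom_sub D
  haveI : (MM D hQ).IsPrime := RingHom.ker_isPrime _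
  refine Ideal.isMaximal_of_isIntegral_of_isMaximal_comap (R := D) (MM D hQ) ?_
  have h : (MM D hQ).comap (algebraMap D _) = maximalIdeal D := by
    ext d
    rw [Ideal.mem_comap, mem_MM, mu_algebraMap, map_eq_zero, residue_eq_zero_iff]
    exact ⟨fun h hd => h (hd.map (algebraMap D S)), fun h hd => h (IsUnit.of_map (algebraMap D S) d hd)⟩
  rw [h]
  exact maximalIdeal.isMaximal D

/-- The residue field of `MM` inside that of `T2`. -/
noncomputable def iota [(MM D hQ).IsMaximal] :
    (MM D hQ).ResidueField →+* ResidueField (T2 (A := A) Q) :=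
  RingHom.liftOfSurjective (algebraMap _ (MM D hQ).ResidueField)
    (Ideal.algebraMap_residueField_surjective _)
    ⟨mu D hQ, by rw [Ideal.ker_algebraMap_residueField]; exact le_refl (RingHom.ker (mu D hQ))⟩

theorem iota_algebraMap [(MM D hQ).IsMaximal] (y : integralClosure D (FractionRing D)) :
    iota D hQ (algebraMap _ (MM D hQ).ResidueField y) = mu D hQ y :=
  RingHom.liftOfRightInverse_comp_apply _ _ _ _ y

/-- The image of `D` in the residue field of `MM`. -/
noncomputable abbrev kk [(MM D hQ).IsMaximal] : Subfield (MM D hQ).ResidueField :=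
  Subfield.closure (Set.range ((algebraMap (integralClosure D (FractionRing D))
    (MM D hQ).ResidueField).comp (algebraMap D (integralClosure D (FractionRing D)))))

theorem exists_of_mem_kk [(MM D hQ).IsMaximal] {c : (MM D hQ).ResidueField} (hc : c ∈ kk D hQ) :
    ∃ ζ ∈ resField D, j (A := A) Q ζ = iota D hQ c := by
  suffices h : kk D hQ ≤ (Subfield.map (j (A := A) Q) (resField D).toSubfield).comap (iota D hQ) by
    obtain ⟨ζ, hζ, he⟩ := Subfield.mem_map.mp (h hc)
    exact ⟨ζ, hζ, he⟩
  refine Subfield.closure_le.mpr ?_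
  rintro _ ⟨d, rfl⟩
  refine Subfield.mem_map.mpr ⟨residue S (d : S), mem_resField.mpr ⟨d, d.2, rfl⟩, ?_⟩
  rw [RingHom.comp_apply, iota_algebraMap, mu_algebraMap]

/-- An element separable over the residue field of `D` has image in the residue field of `S`. -/
theorem exists_j_eq [(MM D hQ).IsMaximal] {γ : (MM D hQ).ResidueField}
    (hγ : IsSeparable (kk D hQ) γ) : ∃ ζ, j (A := A) Q ζ = iota D hQ γ := by
  haveI : IsSepClosed (ResidueField S) :=
    (Hensel.IsStrictHenselization.isSepClosure (R := A) (S := S)).sep_closed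
  have hrange : ∀ c : kk D hQ, iota D hQ (c : (MM D hQ).ResidueField) ∈ (j (A := A) Q).range :=
    fun c => by
      obtain ⟨ζ, -, he⟩ := exists_of_mem_kk D hQ c.2
      exact ⟨ζ, he⟩
  let e : ResidueField S ≃+* (j (A := A) Q).range :=
    RingEquiv.ofBijective (j (A := A) Q).rangeRestrict
      ⟨fun a b h => (j (A := A) Q).injective (congrArg Subtype.val h),
        (j (A := A) Q).rangeRestrict_surjective⟩
  let φ : kk D hQ →+* ResidueField S := e.symm.toRingHom.comp
    (((iota D hQ).comp (kk D hQ).subtype).codRestrict (j (A := A) Q).range hrange)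
  have hφ : (j (A := A) Q).comp φ = (iota D hQ).comp (algebraMap (kk D hQ) _) := RingHom.ext fun c =>
    congrArg Subtype.val (e.apply_symm_apply _)
  letI := (j (A := A) Q).toAlgebra
  have hroot : aeval (iota D hQ γ) ((minpoly (kk D hQ) γ).map φ) = 0 := by
    rw [aeval_def, eval₂_map, show (algebraMap (ResidueField S) _).comp φ = _ from hφ,
      ← hom_eval₂, ← aeval_def, minpoly.aeval, map_zero]
  have hsep : IsSeparable (ResidueField S) (iota D hQ γ) :=
    Separable.of_dvd ((show (minpoly (kk D hQ) γ).Separable from hγ).map (f := φ))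
      (minpoly.dvd _ _ hroot)
  obtain ⟨ζ, hζ⟩ := IsSepClosed.exists_root (minpoly (ResidueField S) (iota D hQ γ))
    (minpoly.degree_pos hsep.isIntegral).ne' hsep
  have hdeg := degree_eq_one_of_irreducible_of_root (minpoly.irreducible hsep.isIntegral) hζ
  exact minpoly.mem_range_of_degree_eq_one (ResidueField S) _ hdeg

/-- Residues of stage elements with image in the field generated by `D` are separable residues of
its normalization. -/
theorem exists_separable [IsReduced A] [IsNoetherianRing S] [(MM D hQ).IsMaximal] {z : S}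
    (hz : toFrac Q z ∈ fieldOf (Q := Q) D) :
    ∃ γ, IsSeparable (kk D hQ) γ ∧ iota D hQ γ = j (A := A) Q (residue S z) := by
  haveI := (Hensel.IsStrictHenselization.isSepClosure (R := A) (S := S)).separable
  obtain ⟨y, hy⟩ := exists_lift D hQ hz (toT2 (A := A) Q z).2
  have hγ : iota D hQ (algebraMap _ (MM D hQ).ResidueField y) = j (A := A) Q (residue S z) := by
    rw [iota_algebraMap, j_residue]
    exact congrArg (residue _) (Subtype.ext hy)
  refine ⟨_, ?_, hγ⟩
  let g0 : D →+* (MM D hQ).ResidueField :=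
    (algebraMap (integralClosure D (FractionRing D)) (MM D hQ).ResidueField).comp
      (algebraMap D (integralClosure D (FractionRing D)))
  have hg0 : ∀ d : D, iota D hQ (g0 d) = j (A := A) Q (residue S (d : S)) := fun d => by
    rw [RingHom.comp_apply, iota_algebraMap, mu_algebraMap]
  let g : A →+* kk D hQ :=
    (g0.comp (algebraMap A D)).codRestrict (kk D hQ) fun a =>
      Subfield.subset_closure ⟨algebraMap A D a, rfl⟩
  have hg : ∀ a, iota D hQ (g a : (MM D hQ).ResidueField) = j (A := A) Q (residue S (algebraMap A S a)) :=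
    fun a => hg0 (algebraMap A D a)
  have hker : ∀ a ∈ maximalIdeal A, g a = 0 := fun a ha => Subtype.ext ((iota D hQ).injective (by
    rw [hg, ZeroMemClass.coe_zero, map_zero, map_eq_zero, residue_eq_zero_iff]
    exact map_nonunit (algebraMap A S) a ha))
  let φ : ResidueField A →+* kk D hQ := Ideal.Quotient.lift (maximalIdeal A) g hker
  have hcomp : ((iota D hQ).comp (algebraMap (kk D hQ) _)).comp φ =
      (j (A := A) Q).comp (algebraMap (ResidueField A) (ResidueField S)) := RingHom.ext fun a => by
    obtain ⟨a, rfl⟩ := residue_surjective a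
    exact hg a
  obtain ⟨P, hP, hsep⟩ : ∃ P : Polynomial (ResidueField A), aeval (residue S z) P = 0 ∧ P.Separable :=
    ⟨_, minpoly.aeval _ _, Algebra.IsSeparable.isSeparable (ResidueField A) (residue S z)⟩
  refine Separable.of_dvd (hsep.map (f := φ)) (minpoly.dvd _ _ ((iota D hQ).injective ?_))
  rw [map_zero, aeval_def, hom_eval₂, eval₂_map, hcomp, hγ, ← hom_eval₂, ← aeval_def, hP, map_zero]

/-- Separable residues of the normalization of `D` come from `l`, if `D` and generators of `Q` lie
in `unr l`. -/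
theorem exists_mem_of_separable [(MM D hQ).IsMaximal]
    (l : IntermediateField (ResidueField A) (ResidueField S)) (hDl : D ≤ unr A l)
    (hQl : Q ≤ Ideal.span ((Q : Set S) ∩ unr A l)) {γ : (MM D hQ).ResidueField}
    (hγ : IsSeparable (kk D hQ) γ) : ∃ ζ ∈ l, j (A := A) Q ζ = iota D hQ γ := by
  classical
  haveI : IsNoetherianRing S :=
    (Lib.Henselian.Permanence.strict_isNoetherianRing_iff A S).mp inferInstance
  obtain ⟨ζ, hζ⟩ := exists_j_eq D hQ hγ
  refine ⟨ζ, ?_, hζ⟩
  obtain ⟨z, rfl⟩ := residue_surjective ζ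
  obtain ⟨y, rfl⟩ := Ideal.algebraMap_residueField_surjective (MM D hQ) γ
  rw [iota_algebraMap] at hζ
  obtain ⟨⟨a, b⟩, hab⟩ := IsLocalization.surj (nonZeroDivisors D) (y : FractionRing D)
  have hb0 : toFrac Q ((b : D) : S) ≠ 0 := fun h0 =>
    Set.disjoint_left.mp (Ideal.disjoint_nonZeroDivisors_of_mem_minimalPrimes
      (comap_mem_minimalPrimes D hQ)) ((toFrac_eq_zero_iff Q).mp h0) b.2
  have hx : liftFrac D hQ (y : FractionRing D) = toFrac Q (a : S) / toFrac Q ((b : D) : S) := by
    have h1 := congrArg (liftFrac D hQ) hab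
    rw [map_mul, liftFrac_algebraMap, liftFrac_algebraMap] at h1
    rw [eq_div_iff hb0, h1]
  -- a stage carrying `a`, `b` and generators of `Q`
  obtain ⟨G, hGsub, hG⟩ := (Submodule.fg_span_iff_fg_span_finset_subset _).mp
    (IsNoetherian.noetherian (Submodule.span S ((Q : Set S) ∩ (unr A l : Set S))))
  obtain ⟨F, hF, hFl, hsF⟩ := exists_isStage_of_subset (A := A) (l := l)
    (insert (a : S) (insert ((b : D) : S) G)) (fun w hw => by
      rcases Finset.mem_insert.mp hw with rfl | hw
      · exact hDl a.2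
      rcases Finset.mem_insert.mp hw with rfl | hw
      · exact hDl (b : D).2
      · exact (hGsub hw).2)
  haveI := hF.finite
  obtain ⟨gF, hgF⟩ := (Subalgebra.fg_top F).mp (Algebra.FiniteType.out : (⊤ : Subalgebra A F).FG)
  obtain ⟨P, hP⟩ := exists_galoisStage A S (insert z gF)
  have hFE : F ≤ P.E := hgF ▸ Algebra.adjoin_le fun w hw => hP (Finset.mem_insert_of_mem hw)
  let z' : P.E := ⟨z, hP (Finset.mem_insert_self z gF)⟩
  let ψ : P.E →+* ResidueField S := (residue S).comp (algebraMap P.E S)
  refine mem_of_invariant P.act P.tr_e P.fixed ψ l.toSubfield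
    (fun c => by
      show residue S (algebraMap A S c) ∈ l
      exact l.algebraMap_mem (residue A c)) z' fun g hg => ?_
  -- `g` fixes `F`
  have hfix : ∀ w : P.E, (w : S) ∈ F → P.act g w = w := fun w hw =>
    hF.fixed hFE (fun v hv => mem_fixer P.act |>.mp hg v (hFl ⟨_, hv, rfl⟩)) w hw
  -- hence stabilises `Q`
  let QE := Q.comap (algebraMap P.E S)
  have hQeq : ∀ w : P.E, w ∈ QE ↔ w ∈ Ideal.span
      {v : P.E | (v : S) ∈ G} := fun w => by
    constructor
    · intro hw
      rw [← Ideal.comap_map_eq_self_of_faithfullyFlat (B := S) (Ideal.span _), Ideal.mem_comap,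
        Ideal.map_span]
      have : (w : S) ∈ Submodule.span S (G : Set S) := by rw [← hG]; exact hQl hw
      refine Ideal.span_mono (fun v hv => ?_) this
      exact ⟨⟨v, hFE (hsF (Finset.mem_insert_of_mem (Finset.mem_insert_of_mem hv)))⟩, hv, rfl⟩
    · refine fun hw => (Ideal.span_le.mpr (fun v hv => ?_) : Ideal.span _ ≤ QE) hw
      exact (hGsub hv).1
  have hstab : ∀ g' : P.G, (∀ w : P.E, (w : S) ∈ F → P.act g' w = w) → ∀ w ∈ QE, P.act g' w ∈ QE := by
    intro g' hg' w hw
    rw [hQeq] at hw ⊢
    have := Ideal.mem_map_of_mem (P.act g').toRingEquiv.toRingHom hw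
    rw [Ideal.map_span] at this
    refine Ideal.span_mono ?_ this
    rintro _ ⟨v, hv, rfl⟩
    show (P.act g' v : S) ∈ G
    rw [hg' v (hsF (Finset.mem_insert_of_mem (Finset.mem_insert_of_mem hv)))]
    exact hv
  have hfix' : ∀ w : P.E, (w : S) ∈ F → P.act g⁻¹ w = w := fun w hw => by
    conv_lhs => rw [← hfix w hw]
    rw [← act_mul, inv_mul_cancel, act_one]
  -- the automorphism of the fraction field
  let σq : (P.E ⧸ QE) ≃ₐ[A] (P.E ⧸ QE) := Ideal.quotientEquivAlg QE QE (P.act g) (by
    ext w
    constructor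
    · intro hw
      have h2 := Ideal.mem_map_of_mem (P.act g : P.E →+* P.E) (hstab g⁻¹ hfix' w hw)
      have h3 : P.act g (P.act g⁻¹ w) = w := by rw [← act_mul, mul_inv_cancel, act_one]
      exact h3 ▸ h2
    · intro hw
      exact (Ideal.map_le_iff_le_comap.mpr fun v hv => hstab g hfix v hv : Ideal.map _ QE ≤ QE) hw)
  haveI : QE.IsPrime := inferInstance
  let M0 := FractionRing (P.E ⧸ QE)
  let σ : M0 ≃ₐ[A] M0 := AlgEquiv.ofRingEquiv
    (f := IsFractionRing.ringEquivOfRingEquiv σq.toRingEquiv) fun c => by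
      rw [IsScalarTower.algebraMap_apply A (P.E ⧸ QE) M0,
        IsFractionRing.ringEquivOfRingEquiv_algebraMap]
      exact congrArg _ (σq.commutes c)
  let ψb : (P.E ⧸ QE) →ₐ[A] FractionRing (S ⧸ Q) := Ideal.Quotient.liftₐ QE
    (((IsScalarTower.toAlgHom A (S ⧸ Q) (FractionRing (S ⧸ Q))).comp (Ideal.Quotient.mkₐ A Q)).comp
      P.E.val) fun w hw => (toFrac_eq_zero_iff Q).mpr hw
  have hψb : Function.Injective ψb := (injective_iff_map_eq_zero _).mpr fun w hw => by
    obtain ⟨w, rfl⟩ := Ideal.Quotient.mk_surjective w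
    exact Ideal.Quotient.eq_zero_iff_mem.mpr ((toFrac_eq_zero_iff Q).mp hw)
  let ι0 : M0 →ₐ[A] FractionRing (S ⧸ Q) := IsFractionRing.liftAlgHom hψb
  let q : P.E → M0 := fun w => algebraMap (P.E ⧸ QE) M0 (Ideal.Quotient.mk QE w)
  have hι0 : ∀ w, ι0 (q w) = toFrac Q (w : S) := fun w => IsFractionRing.lift_algebraMap hψb _
  have hσ : ∀ w, σ (q w) = q (P.act g w) := fun w =>
    IsFractionRing.ringEquivOfRingEquiv_algebraMap σq.toRingEquiv _
  let a' : P.E := ⟨a, hFE (hsF (Finset.mem_insert_self _ _))⟩
  let b' : P.E := ⟨(b : D), hFE (hsF (Finset.mem_insert_of_mem (Finset.mem_insert_self _ _)))⟩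
  have hu : ∀ w : P.E, ι0 (q w - q a' / q b') = toFrac Q (w : S) - liftFrac D hQ (y : FractionRing D) :=
    fun w => by
      rw [map_sub, map_div₀, hι0, hι0, hι0, hx]
  haveI : IsLocalRing (integralClosure A M0) :=
    Lib.Henselian.Unibranch.isLocalRing_of_isDomain A (integralClosure A M0)
  have hint : ∀ w : P.E, IsIntegral A (q w - q a' / q b') := fun w =>
    (isIntegral_algHom_iff ι0 ι0.injective).mp (by
      rw [hu]; exact (toT2 (A := A) Q (w : S)).2.sub (isIntegral_liftFrac D hQ y))
  let θ : integralClosure A M0 →ₐ[A] T2 (A := A) Q := ι0.mapIntegralClosure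
  haveI : IsLocalHom θ.toRingHom := by
    letI := θ.toRingHom.toAlgebra
    haveI : IsScalarTower A (integralClosure A M0) (T2 (A := A) Q) :=
      IsScalarTower.of_algebraMap_eq fun c => (θ.commutes c).symm
    haveI : Algebra.IsIntegral (integralClosure A M0) (T2 (A := A) Q) :=
      Algebra.IsIntegral.tower_top (R := A)
    refine ((local_hom_TFAE θ.toRingHom).out 0 4).mpr ?_
    haveI := Ideal.isMaximal_comap_of_isIntegral_of_isMaximal (R := integralClosure A M0)
      (maximalIdeal (T2 (A := A) Q))
    exact eq_maximalIdeal this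
  let U : P.E → integralClosure A M0 := fun w => ⟨q w - q a' / q b', hint w⟩
  have hres : ∀ w : P.E, residue _ (θ (U w)) = j (A := A) Q (residue S (w : S)) - mu D hQ y :=
    fun w => by
      rw [j_residue]
      show _ = residue _ _ - residue _ _
      rw [← map_sub]
      exact congrArg (residue _) (Subtype.ext (hu w))
  have hnu : ¬ IsUnit (U z') := fun h => by
    have h1 := h.map θ.toRingHom
    have h2 : residue _ (θ (U z')) = 0 := by
      rw [hres]; exact sub_eq_zero.mpr hζ
    exact (residue_eq_zero_iff _).mp h2 h1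
  have hσU : σ.toAlgHom.mapIntegralClosure (U z') = U (P.act g z') := Subtype.ext (by
    show σ (q z' - q a' / q b') = _
    rw [map_sub, map_div₀, hσ, hσ, hσ, hfix a' (hsF (Finset.mem_insert_self _ _)),
      hfix b' (hsF (Finset.mem_insert_of_mem (Finset.mem_insert_self _ _)))])
  have hnu' : ¬ IsUnit (U (P.act g z')) := fun h => hnu (by
    have h1 := h.map σ.symm.toAlgHom.mapIntegralClosure
    rw [← hσU] at h1
    have : σ.symm.toAlgHom.mapIntegralClosure (σ.toAlgHom.mapIntegralClosure (U z')) = U z' :=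
      Subtype.ext (σ.symm_apply_apply _)
    rwa [this] at h1)
  have h3 : residue _ (θ (U (P.act g z'))) = 0 :=
    (residue_eq_zero_iff _).mpr fun h => hnu' (IsUnit.of_map θ.toRingHom _ h)
  rw [hres, sub_eq_zero, ← hζ] at h3
  exact (j (A := A) Q).injective h3

end Groth.Agent.Lib.Unram.StrictResidue
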