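import Groth.Agent.Lib.Unram.StrictFractions
import Groth.Agent.H24.EssEtale.IndEtale
import Groth.Agent.Lib.Henselian.Unibranch

/-!
# Unramified intermediate rings of a strict henselization

For a subfield `l` of the residue field of the strict henselization, `unr l` is the union of the
finite étale local stages whose residues lie in `l`.
-/

universe u

open IsLocalRing Polynomial

namespace Groth.Agent.Lib.Unram.StrictStage

open StrictGalois StrictFractions

variable {A S : Type u} [CommRing A] [HenselianLocalRing A] [IsNoetherianRing A] [CommRing S]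
  [IsLocalRing S] [Algebra A S] [IsLocalHom (algebraMap A S)] [Hensel.IsStrictHenselization A S]

omit [IsNoetherianRing A] in
theorem isIntegral_S : Algebra.IsIntegral A S := ⟨fun x => by
  obtain ⟨F, _, hxF, hloc, hF, -⟩ := H24.EssEtale.exists_stage (A := A) ({x} : Finset S)
  haveI := hloc
  obtain ⟨η, _, -, hloc', -, -, hfin, -⟩ := H24.EssEtale.Galois.exists_adjoin (A := A)
    (residue S x)
  obtain ⟨_, _⟩ := Lib.Henselian.EssEtale.formallyEtale hF
  haveI := H24.EssEtale.isLocalHom hF
  haveI := (Hensel.IsStrictHenselization.isSepClosure (R := A) (S := S)).separable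
  let k := ResidueField A
  let ρF : ResidueField F →ₐ[k] ResidueField S :=
    IsScalarTower.toAlgHom k (ResidueField F) (ResidueField S)
  haveI : Module.Finite k (ResidueField F) := inferInstance
  haveI : FiniteDimensional k ρF.fieldRange :=
    Module.Finite.equiv (AlgEquiv.ofInjectiveField ρF).toLinearEquiv
  obtain ⟨θ, hθ⟩ := Field.exists_primitive_element k ρF.fieldRange
  obtain ⟨η', _, hη', hloc'', -, -, hfin', -⟩ :=
    H24.EssEtale.Galois.exists_adjoin (A := A) (θ : ResidueField S)
  haveI := hloc''; haveI := hfin'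
  have hle : F ≤ Algebra.adjoin A ({η'} : Set S) := H24.EssEtale.Galois.le_adjoin hF fun y hy => by
    have h1 : IntermediateField.adjoin k {(θ : ResidueField S)} = ρF.fieldRange := by
      have := congrArg (IntermediateField.map ρF.fieldRange.val) hθ
      rw [IntermediateField.adjoin_map, Set.image_singleton, ← AlgHom.fieldRange_eq_map,
        IntermediateField.fieldRange_val] at this
      exact this
    rw [hη', h1]
    exact ⟨residue F ⟨y, hy⟩, rfl⟩
  exact (Algebra.IsIntegral.isIntegral (R := A)
    (⟨x, hle (hxF (Finset.mem_singleton_self x))⟩ : Algebra.adjoin A ({η'} : Set S))).map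
      (Algebra.adjoin A ({η'} : Set S)).val⟩

/-- Finite étale local stages. -/
structure IsStage (F : Subalgebra A S) : Prop where
  isLocalRing : IsLocalRing F
  finite : Module.Finite A F
  isLocalHom : IsLocalHom (algebraMap F S)
  essEtale : EGA4loc.IsEssentiallyEtale A F
  faithfullyFlat : Module.FaithfullyFlat F S

theorem isStage_E (P : GaloisStage A S) : IsStage P.E :=
  ⟨P.isLocalRing, P.finite, P.isLocalHom, P.essEtale, P.faithfullyFlat⟩

omit [IsNoetherianRing A] in
/-- A subalgebra of the strict henselization is local, with local inclusion. -/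
theorem isLocalHom_sub (D : Subalgebra A S) : IsLocalHom (algebraMap D S) := by
  haveI := isIntegral_S (A := A) (S := S)
  haveI : Algebra.IsIntegral D S := Algebra.IsIntegral.tower_top (R := A)
  exact ⟨fun x hx => (Algebra.IsIntegral.isLocalHom (R := D) (S := S)).map_nonunit x hx⟩

omit [IsNoetherianRing A] in
theorem isLocalRing_sub (D : Subalgebra A S) : IsLocalRing D := by
  haveI := isLocalHom_sub D
  exact RingHom.domain_isLocalRing (algebraMap D S)

omit [IsNoetherianRing A] in
theorem henselian_sub (D : Subalgebra A S) : HenselianLocalRing D := by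
  haveI := isLocalRing_sub D
  haveI := isIntegral_S (A := A) (S := S)
  haveI : Algebra.IsIntegral A D := ⟨fun x => isIntegral_algHom_iff D.val Subtype.val_injective |>.mp
    (Algebra.IsIntegral.isIntegral (R := A) (x : S))⟩
  exact Lib.Henselian.LocalRing.henselianLocalRing_of_isIntegral A D

omit [IsNoetherianRing A] in
theorem IsStage.le {F D : Subalgebra A S} (hF : IsStage F)
    (h : ∀ x ∈ F, ∃ y ∈ D, residue S y = residue S x) : F ≤ D := by
  haveI := hF.isLocalRing; haveI := hF.isLocalHom
  haveI := isLocalHom_sub D; haveI := henselian_sub D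
  refine H24.EssEtale.IndEtale.le_of_henselian hF.essEtale fun x => ?_
  obtain ⟨y, hy, he⟩ := h x x.2
  exact ⟨⟨y, hy⟩, he⟩

omit [IsNoetherianRing A] in
/-- Automorphisms of a stage fixing the residues of a smaller stage fix that stage. -/
theorem IsStage.fixed {F : Subalgebra A S} (hF : IsStage F) {P : GaloisStage A S} (hle : F ≤ P.E)
    {g : P.G} (h : ∀ y : P.E, (y : S) ∈ F → residue S (P.act g y : S) = residue S (y : S))
    (y : P.E) (hy : (y : S) ∈ F) : P.act g y = y := by
  haveI := hF.isLocalRing; haveI := hF.isLocalHom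
  haveI : HenselianLocalRing S := Hensel.IsStrictHenselization.henselian (R := A)
  have key : (P.E.val.comp ((P.act g).toAlgHom.comp (Subalgebra.inclusion hle))) = F.val :=
    Lib.Henselian.EssEtale.algHom_ext hF.essEtale fun x => h (Subalgebra.inclusion hle x) x.2
  exact Subtype.ext (AlgHom.congr_fun key ⟨y, hy⟩)

/-- The residue field of a subalgebra. -/
noncomputable def resField (D : Subalgebra A S) :
    IntermediateField (ResidueField A) (ResidueField S) :=
  let R : Subalgebra (ResidueField A) (ResidueField S) :=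
    { carrier := residue S '' (D : Set S)
      mul_mem' := by
        rintro _ _ ⟨a, ha, rfl⟩ ⟨b, hb, rfl⟩; exact ⟨a * b, mul_mem ha hb, map_mul _ _ _⟩
      add_mem' := by
        rintro _ _ ⟨a, ha, rfl⟩ ⟨b, hb, rfl⟩; exact ⟨a + b, add_mem ha hb, map_add _ _ _⟩
      algebraMap_mem' := fun a => by
        obtain ⟨a, rfl⟩ := residue_surjective a
        exact ⟨algebraMap A S a, D.algebraMap_mem a, rfl⟩ }
  R.toIntermediateField fun x hx =>
    haveI := (Hensel.IsStrictHenselization.isSepClosure (R := A) (S := S)).separable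
    R.inv_mem_of_algebraic (x := ⟨x, hx⟩) (Algebra.IsAlgebraic.isAlgebraic _)

omit [IsNoetherianRing A] in
theorem mem_resField {D : Subalgebra A S} {z : ResidueField S} :
    z ∈ resField D ↔ ∃ d ∈ D, residue S d = z := Iff.rfl

omit [IsNoetherianRing A] in
theorem finite_resField {D : Subalgebra A S} [Module.Finite A D] :
    FiniteDimensional (ResidueField A) (resField D) := by
  let f : D →ₗ[A] resField D :=
    { toFun := fun d => ⟨residue S d, d, d.2, rfl⟩
      map_add' := fun a b => Subtype.ext (map_add (residue S) _ _)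
      map_smul' := fun a d => Subtype.ext (by
        show residue S ((a • d : D) : S) = a • residue S (d : S)
        rw [Subalgebra.coe_smul, Algebra.smul_def, Algebra.smul_def, map_mul]; rfl) }
  have hf : Function.Surjective f := fun z => by
    obtain ⟨d, hd, hdz⟩ := mem_resField.mp z.2
    exact ⟨⟨d, hd⟩, Subtype.ext hdz⟩
  haveI : Module.Finite A (resField D) := Module.Finite.of_surjective f hf
  exact Module.Finite.of_restrictScalars_finite A (ResidueField A) (resField D)

omit [IsNoetherianRing A] in
theorem exists_isStage (L : IntermediateField (ResidueField A) (ResidueField S))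
    [FiniteDimensional (ResidueField A) L] :
    ∃ F : Subalgebra A S, IsStage F ∧ resField F = L := by
  haveI := (Hensel.IsStrictHenselization.isSepClosure (R := A) (S := S)).separable
  obtain ⟨θ, hθ⟩ := Field.exists_primitive_element (ResidueField A) L
  have h1 : IntermediateField.adjoin (ResidueField A) {(θ : ResidueField S)} = L := by
    have := congrArg (IntermediateField.map L.val) hθ
    rw [IntermediateField.adjoin_map, Set.image_singleton, ← AlgHom.fieldRange_eq_map,
      IntermediateField.fieldRange_val] at this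
    exact this
  obtain ⟨η, hl, hη, hloc, hess, hff, hfin, -⟩ :=
    H24.EssEtale.Galois.exists_adjoin (A := A) (θ : ResidueField S)
  refine ⟨Algebra.adjoin A ({η} : Set S), ⟨hl, hfin, hloc, hess, hff⟩, le_antisymm ?_ ?_⟩
  · rintro z ⟨d, hd, rfl⟩
    rw [← h1, ← hη]
    exact H24.EssEtale.Galois.residue_mem hd
  · refine h1.ge.trans (IntermediateField.adjoin_simple_le_iff.mpr ?_)
    exact ⟨η, Algebra.subset_adjoin rfl, hη⟩

section Unr

variable (A) (l : IntermediateField (ResidueField A) (ResidueField S))

/-- The union of the stages with residues in `l`. -/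
noncomputable def unr : Subalgebra A S where
  carrier := {x | ∃ F : Subalgebra A S, IsStage F ∧ resField F ≤ l ∧ x ∈ F}
  algebraMap_mem' a := by
    haveI : FiniteDimensional (ResidueField A)
        (⊥ : IntermediateField (ResidueField A) (ResidueField S)) := inferInstance
    obtain ⟨F, hF, hres⟩ := exists_isStage (⊥ : IntermediateField (ResidueField A) (ResidueField S))
    exact ⟨F, hF, hres ▸ bot_le, F.algebraMap_mem a⟩
  mul_mem' {a b} := by
    rintro ⟨F, hF, hFl, haF⟩ ⟨G, hG, hGl, hbG⟩
    haveI := hF.finite; haveI := hG.finite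
    haveI := finite_resField (D := F); haveI := finite_resField (D := G)
    obtain ⟨H, hH, hres⟩ := exists_isStage (resField F ⊔ resField G)
    have h1 : ∀ K : Subalgebra A S, resField K ≤ resField H → IsStage K → K ≤ H := fun K hK hKS =>
      hKS.le fun x hx => mem_resField.mp (hK ⟨x, hx, rfl⟩)
    exact ⟨H, hH, hres ▸ sup_le hFl hGl,
      mul_mem (h1 F (hres ▸ le_sup_left) hF haF) (h1 G (hres ▸ le_sup_right) hG hbG)⟩
  add_mem' {a b} := by
    rintro ⟨F, hF, hFl, haF⟩ ⟨G, hG, hGl, hbG⟩
    haveI := hF.finite; haveI := hG.finite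
    haveI := finite_resField (D := F); haveI := finite_resField (D := G)
    obtain ⟨H, hH, hres⟩ := exists_isStage (resField F ⊔ resField G)
    have h1 : ∀ K : Subalgebra A S, resField K ≤ resField H → IsStage K → K ≤ H := fun K hK hKS =>
      hKS.le fun x hx => mem_resField.mp (hK ⟨x, hx, rfl⟩)
    exact ⟨H, hH, hres ▸ sup_le hFl hGl,
      add_mem (h1 F (hres ▸ le_sup_left) hF haF) (h1 G (hres ▸ le_sup_right) hG hbG)⟩

variable {A l}

theorem mem_unr {x : S} :
    x ∈ unr A l ↔ ∃ F : Subalgebra A S, IsStage F ∧ resField F ≤ l ∧ x ∈ F := Iff.rfl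

theorem residue_mem_of_mem_unr {x : S} (hx : x ∈ unr A l) : residue S x ∈ l := by
  obtain ⟨F, -, hFl, hxF⟩ := hx
  exact hFl ⟨x, hxF, rfl⟩

theorem resField_unr : resField (unr A l) = l := by
  refine le_antisymm (fun z hz => ?_) (fun z hz => ?_)
  · obtain ⟨d, hd, rfl⟩ := mem_resField.mp hz
    exact residue_mem_of_mem_unr hd
  · haveI := (Hensel.IsStrictHenselization.isSepClosure (R := A) (S := S)).separable
    haveI := IntermediateField.adjoin.finiteDimensional
      (K := ResidueField A) (x := z) (Algebra.IsIntegral.isIntegral z)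
    obtain ⟨F, hF, hres⟩ := exists_isStage (IntermediateField.adjoin (ResidueField A) {z})
    have hz' : z ∈ resField F := hres ▸ IntermediateField.mem_adjoin_simple_self _ z
    obtain ⟨d, hd, hdz⟩ := mem_resField.mp hz'
    exact ⟨d, ⟨F, hF, hres ▸ IntermediateField.adjoin_simple_le_iff.mpr hz, hd⟩, hdz⟩

/-- Finitely many elements of `unr l` lie in one stage with residues in `l`. -/
theorem exists_isStage_of_subset (s : Finset S) (hs : (s : Set S) ⊆ unr A l) :
    ∃ F : Subalgebra A S, IsStage F ∧ resField F ≤ l ∧ (s : Set S) ⊆ F := by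
  classical
  induction s using Finset.induction_on with
  | empty =>
    obtain ⟨F, hF, hres, -⟩ := (unr A l).one_mem
    exact ⟨F, hF, hres, by simp⟩
  | insert a t _ IH =>
    obtain ⟨F, hF, hFl, hts⟩ := IH fun x hx => hs (Finset.mem_insert_of_mem hx)
    obtain ⟨G, hG, hGl, haG⟩ := hs (Finset.mem_insert_self a t)
    haveI := hF.finite; haveI := hG.finite
    haveI := finite_resField (D := F); haveI := finite_resField (D := G)
    obtain ⟨H, hH, hres⟩ := exists_isStage (resField F ⊔ resField G)
    refine ⟨H, hH, hres ▸ sup_le hFl hGl, fun x hx => ?_⟩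
    rcases Finset.mem_insert.mp hx with rfl | hx
    · exact hG.le (fun y hy => mem_resField.mp
        ((hres ▸ le_sup_right : resField G ≤ resField H) ⟨y, hy, rfl⟩)) haG
    · exact hF.le (fun y hy => mem_resField.mp
        ((hres ▸ le_sup_left : resField F ≤ resField H) ⟨y, hy, rfl⟩)) (hts hx)

/-- A subalgebra whose residue field contains `l` contains `unr l`. -/
theorem unr_le {D : Subalgebra A S} (h : l ≤ resField D) : unr A l ≤ D := by
  rintro x ⟨F, hF, hFl, hxF⟩
  exact hF.le (fun y hy => mem_resField.mp (h (hFl ⟨y, hy, rfl⟩))) hxF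

theorem comap_map_unr (I : Ideal (unr A l)) :
    (I.map (algebraMap (unr A l) S)).comap (algebraMap (unr A l) S) = I := by
  classical
  refine le_antisymm (fun x hx => ?_) Ideal.le_comap_map
  obtain ⟨c, hc⟩ := Submodule.mem_span_set'.mp (show algebraMap (unr A l) S x ∈
    Submodule.span S (algebraMap (unr A l) S '' (I : Set (unr A l))) from hx)
  obtain ⟨a, v, hv⟩ := hc
  choose w hwI hw using fun i => (v i).2
  obtain ⟨F, hF, hFl, hsF⟩ := exists_isStage_of_subset
    (insert (x : S) (Finset.univ.image fun i => (w i : S))) (fun y hy => by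
      rcases Finset.mem_insert.mp hy with rfl | hy
      · exact x.2
      · obtain ⟨i, -, rfl⟩ := Finset.mem_image.mp hy
        exact (w i).2)
  haveI := hF.faithfullyFlat
  let ι : F →ₐ[A] unr A l :=
    Subalgebra.inclusion (show F ≤ unr A l from fun y hy => mem_unr.mpr ⟨F, hF, hFl, hy⟩)
  let wF : Fin c → F := fun i =>
    ⟨(w i : S), hsF (Finset.mem_insert_of_mem (Finset.mem_image_of_mem _ (Finset.mem_univ i)))⟩
  let J : Ideal F := Ideal.span (Set.range wF)
  have hxJ : (⟨(x : S), hsF (Finset.mem_insert_self _ _)⟩ : F) ∈ J := by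
    rw [← Ideal.comap_map_eq_self_of_faithfullyFlat (B := S) J, Ideal.mem_comap]
    show (x : S) ∈ _
    rw [show (x : S) = algebraMap (unr A l) S x from rfl, ← hv]
    refine Ideal.sum_mem _ fun i _ => Ideal.mul_mem_left _ _ ?_
    rw [← hw i]
    exact Ideal.mem_map_of_mem (algebraMap F S) (show wF i ∈ J from Ideal.subset_span ⟨i, rfl⟩)
  have h2 := Ideal.mem_map_of_mem ι hxJ
  have hle : J.map ι ≤ I := Ideal.map_le_iff_le_comap.mpr (Ideal.span_le.mpr (by
    rintro _ ⟨i, rfl⟩; exact hwI i))
  exact hle h2

theorem isNoetherianRing_unr : IsNoetherianRing (unr A l) := by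
  haveI : IsNoetherianRing S :=
    (Lib.Henselian.Permanence.strict_isNoetherianRing_iff A S).mp inferInstance
  let φ : Ideal (unr A l) → Ideal S := fun I => I.map (algebraMap (unr A l) S)
  have hmono : StrictMono φ := fun I J hIJ => lt_of_le_of_ne (Ideal.map_mono hIJ.le) fun h =>
    hIJ.ne (by rw [← comap_map_unr I, ← comap_map_unr J]; exact congrArg (Ideal.comap _) h)
  exact isNoetherian_mk hmono.wellFoundedGT

end Unr

/-- The fixed ring of a subgroup consists of elements of `unr l` if its residues lie in `l`. -/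
theorem fixed_mem_unr (P : GaloisStage A S) (H : Subgroup P.G)
    (l : IntermediateField (ResidueField A) (ResidueField S))
    (hl : ∀ y : P.E, (∀ h ∈ H, P.act h y = y) → residue S (y : S) ∈ l)
    (z : P.E) (hz : ∀ h ∈ H, P.act h z = z) :
    ∃ F : Subalgebra A S, IsStage F ∧ resField F ≤ l ∧ F ≤ P.E ∧ (z : S) ∈ F := by
  haveI := P.faithfullyFlat
  let R : Subalgebra A S :=
    ({ carrier := {y : P.E | ∀ h ∈ H, P.act h y = y}
       mul_mem' := fun {a b} ha hb h hh => by rw [map_mul, ha h hh, hb h hh]
       add_mem' := fun {a b} ha hb h hh => by rw [map_add, ha h hh, hb h hh]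
       algebraMap_mem' := fun a h _ => AlgEquiv.commutes _ a } : Subalgebra A P.E).map P.E.val
  have hR : ∀ {x : S}, x ∈ R ↔ ∃ y : P.E, (∀ h ∈ H, P.act h y = y) ∧ (y : S) = x := Iff.rfl
  have hRE : R ≤ P.E := fun x hx => by obtain ⟨y, -, rfl⟩ := hR.mp hx; exact y.2
  haveI : Module.Finite A R := Module.Finite.of_injective (Subalgebra.inclusion hRE).toLinearMap
    (Subalgebra.inclusion_injective hRE)
  haveI := finite_resField (D := R)
  obtain ⟨F, hF, hFres⟩ := exists_isStage (resField R)
  have hFR : F ≤ R := hF.le fun x hx => mem_resField.mp (hFres ▸ (⟨x, hx, rfl⟩ : residue S x ∈ resField F))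
  have hFl : resField F ≤ l := by
    rw [hFres]
    rintro x ⟨d, hd, rfl⟩
    obtain ⟨y, hy, rfl⟩ := hR.mp hd
    exact hl y hy
  obtain ⟨eH, heH⟩ := exists_tr_eq_one P.act P.tr_e H
  let N : Submodule A P.E :=
    { carrier := {y | ∀ h ∈ H, P.act h y = y}
      add_mem' := fun {a b} ha hb h hh => by rw [map_add, ha h hh, hb h hh]
      zero_mem' := fun h _ => map_zero _
      smul_mem' := fun c x hx h hh => by rw [map_smul, hx h hh] }
  have hN : N ≤ (Subalgebra.toSubmodule F).comap P.E.val.toLinearMap := by
    refine Submodule.le_of_le_smul_of_le_jacobson_bot (IsNoetherian.noetherian N)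
      (maximalIdeal_le_jacobson _) fun x hx => ?_
    have hxr : residue S (x : S) ∈ resField F := by
      rw [hFres]; exact ⟨x, hR.mpr ⟨x, hx, rfl⟩, rfl⟩
    obtain ⟨d, hd, hdx⟩ := mem_resField.mp hxr
    let d' : P.E := ⟨d, hRE (hFR hd)⟩
    have hd' : ∀ h ∈ H, P.act h d' = d' := fun h hh => by
      obtain ⟨y, hy, hyd⟩ := hR.mp (hFR hd)
      have : d' = y := Subtype.ext hyd.symm
      rw [this]; exact hy h hh
    have hmem : x - d' ∈ (maximalIdeal A) • (⊤ : Submodule A P.E) := by
      rw [Ideal.smul_top_eq_map, Submodule.restrictScalars_mem, P.map_maximalIdeal]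
      intro hu
      have h1 : IsUnit ((x : S) - d) := hu.map P.E.val
      exact (residue_eq_zero_iff _).mp (by rw [map_sub, hdx, sub_self]) h1
    have htr : tr P.act H (eH * (x - d')) ∈ (maximalIdeal A) • N := by
      refine Submodule.smul_induction_on
        (p := fun y => tr P.act H (eH * y) ∈ (maximalIdeal A) • N) hmem
        (fun m hm w _ => ?_) (fun y z hy hz => ?_)
      · rw [mul_smul_comm, tr_smul]
        exact Submodule.smul_mem_smul hm fun h hh => act_tr P.act H hh _
      · rw [mul_add, tr_add]; exact add_mem hy hz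
    rw [tr_mul_of_fixed P.act H heH fun h hh => by rw [map_sub, hx h hh, hd' h hh]] at htr
    rw [show x = d' + (x - d') from (add_sub_cancel _ x).symm]
    exact add_mem (Submodule.mem_sup_left (show d ∈ F from hd)) (Submodule.mem_sup_right htr)
  exact ⟨F, hF, hFl, fun x hx => hRE (hFR hx), hN hz⟩

end Groth.Agent.Lib.Unram.StrictStage
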