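import Groth.Agent.Lib.Unram.Radicial
import Mathlib.AlgebraicGeometry.Morphisms.Etale
import Mathlib.AlgebraicGeometry.Stalk
import Mathlib.RingTheory.HopkinsLevitzki
import Mathlib.RingTheory.Noetherian.OfPrime
import Mathlib.RingTheory.Smooth.Basic

/-!
# Formal versality: finite residue extensions and étale neighbourhoods
-/

set_option autoImplicit false

universe u

open CategoryTheory AlgebraicGeometry IsLocalRing

namespace Groth.Agent.Lib.Unram.VersalEtale

theorem subsingleton_spectrum (D : Type u) [CommRing D] [IsLocalRing D] [IsArtinianRing D] :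
    Subsingleton (PrimeSpectrum D) :=
  ⟨fun a b => PrimeSpectrum.ext ((IsLocalRing.eq_maximalIdeal
    (IsArtinianRing.isMaximal_of_isPrime a.asIdeal)).trans
    (IsLocalRing.eq_maximalIdeal (IsArtinianRing.isMaximal_of_isPrime b.asIdeal)).symm)⟩

/-- The preimage of a subfield with finite index in the residue field of an Artinian local ring is
an Artinian local ring. -/
theorem artinian_comap {D K : Type u} [CommRing D] [IsLocalRing D] [IsArtinianRing D] [Field K]
    (ρ : D →+* K) (hρ : Function.Surjective ρ) (F : Subring K) [Module.Finite F K]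
    (hF : IsField F) :
    IsArtinianRing (F.comap ρ) ∧ IsLocalRing (F.comap ρ) := by
  let D₀ := F.comap ρ
  let := hF.toField
  have hker : RingHom.ker ρ = maximalIdeal D :=
    IsLocalRing.eq_maximalIdeal (RingHom.ker_isMaximal_of_surjective ρ hρ)
  let σ : D₀ →+* F := (ρ.comp D₀.subtype).codRestrict F fun x => x.2
  have hσ : Function.Surjective σ := fun y => by
    obtain ⟨x, hx⟩ := hρ y.1
    exact ⟨⟨x, show ρ x ∈ F by rw [hx]; exact y.2⟩, Subtype.ext hx⟩
  have hunit : ∀ x : D₀, ρ x ≠ 0 → IsUnit x := fun x hx => by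
    have hxu : IsUnit (x : D) := by
      by_contra h
      exact hx ((hker.symm ▸ (IsLocalRing.mem_maximalIdeal _).mpr h : (x : D) ∈ RingHom.ker ρ))
    obtain ⟨y, hy⟩ := hxu.exists_right_inv
    obtain ⟨z, hz⟩ := hF.mul_inv_cancel (a := σ x) (fun h => hx (congrArg Subtype.val h))
    have hyF : ρ y ∈ F := by
      have h1 : ρ y = z := by
        have h2 : ρ x * ρ y = 1 := by rw [← map_mul, hy, map_one]
        exact mul_left_cancel₀ hx (h2.trans (congrArg Subtype.val hz).symm)
      rw [h1]; exact z.2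
    exact IsUnit.of_mul_eq_one (⟨y, hyF⟩ : D₀) (Subtype.ext hy)
  have : Nontrivial D₀ := ⟨⟨0, 1, fun h => zero_ne_one (congrArg Subtype.val h)⟩⟩
  have hloc : IsLocalRing D₀ := IsLocalRing.of_isUnit_or_isUnit_one_sub_self fun x => by
    by_cases hx : ρ x = 0
    · exact Or.inr (hunit _ (by simp [hx]))
    · exact Or.inl (hunit _ hx)
  refine ⟨?_, hloc⟩
  have hm0 : maximalIdeal D₀ = (maximalIdeal D).comap D₀.subtype := by
    ext x
    rw [IsLocalRing.mem_maximalIdeal, Ideal.mem_comap, ← hker, RingHom.mem_ker]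
    exact ⟨fun h => by_contra fun hx => h (hunit x hx),
      fun h hu => (hu.map (ρ.comp D₀.subtype)).ne_zero h⟩
  have hfin : Module.Finite D₀ D := by
    classical
    obtain ⟨s, hs⟩ := Module.Finite.fg_top (R := F) (M := K)
    choose c hc using hρ
    refine ⟨insert 1 (s.image c), eq_top_iff.mpr fun x _ => ?_⟩
    set M := Submodule.span D₀ ((insert 1 (s.image c) : Finset D) : Set D) with hM
    have hmem : ∀ k ∈ Submodule.span F (s : Set K), ∃ m ∈ M, ρ m = k := fun k hk => by
      induction hk using Submodule.span_induction with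
      | mem k hk => exact ⟨c k, Submodule.subset_span (by
          simp only [Finset.coe_insert, Finset.coe_image]
          exact Set.mem_insert_of_mem _ ⟨k, hk, rfl⟩), hc k⟩
      | zero => exact ⟨0, M.zero_mem, map_zero _⟩
      | add k l _ _ hk hl =>
        obtain ⟨m, hm, rfl⟩ := hk
        obtain ⟨n, hn, rfl⟩ := hl
        exact ⟨m + n, M.add_mem hm hn, map_add _ _ _⟩
      | smul r k _ hk =>
        obtain ⟨m, hm, rfl⟩ := hk
        obtain ⟨r, rfl⟩ := hσ r
        exact ⟨r • m, M.smul_mem r hm, map_mul ρ _ _⟩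
    obtain ⟨m, hm, hρm⟩ := hmem (ρ x) (by rw [hs]; trivial)
    have h1 : ρ (x - m) = 0 := by rw [map_sub, hρm, sub_self]
    have h2 : (⟨x - m, show ρ (x - m) ∈ F by rw [h1]; exact F.zero_mem⟩ : D₀) • (1 : D) ∈ M :=
      M.smul_mem _ (Submodule.subset_span (by simp))
    have h3 : x - m ∈ M := by simpa [Subring.smul_def] using h2
    simpa using M.add_mem h3 hm
  have hnil : IsNilpotent (maximalIdeal D₀) := by
    obtain ⟨k, hk⟩ := IsArtinianRing.isNilpotent_jacobson_bot (R := D)
    rw [IsLocalRing.jacobson_eq_maximalIdeal _ bot_ne_top] at hk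
    refine ⟨k, eq_bot_iff.mpr fun x hx => Subtype.ext ?_⟩
    have h1 : (x : D) ∈ ((maximalIdeal D₀) ^ k).map D₀.subtype := Ideal.mem_map_of_mem _ hx
    rw [Ideal.map_pow] at h1
    have h2 : (maximalIdeal D₀).map D₀.subtype ≤ maximalIdeal D :=
      Ideal.map_le_iff_le_comap.mpr hm0.le
    have h3 := (Ideal.pow_right_mono h2 k) h1
    rw [hk] at h3
    exact h3
  have : IsNoetherianRing D₀ := IsNoetherianRing.of_prime fun I hI => by
    have hle : maximalIdeal D₀ ≤ I := fun x hx => by
      obtain ⟨k, hk⟩ := hnil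
      exact hI.mem_of_pow_mem k (by
        have h := Ideal.pow_mem_pow hx k
        rw [hk] at h
        rw [show x ^ k = 0 from h]; exact I.zero_mem)
    rw [← le_antisymm hle (IsLocalRing.le_maximalIdeal hI.ne_top)]
    have hfgD : (Submodule.restrictScalars D₀ (maximalIdeal D)).FG :=
      Submodule.FG.restrictScalars (IsNoetherian.noetherian (maximalIdeal D))
    let incl : D₀ →ₗ[D₀] D := Algebra.linearMap D₀ D
    have himg : Submodule.map incl (maximalIdeal D₀) =
        Submodule.restrictScalars D₀ (maximalIdeal D) := by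
      ext x
      constructor
      · rintro ⟨y, hy, rfl⟩; exact hm0.le hy
      · intro hx
        have h : ρ x = 0 := hker.ge hx
        exact ⟨⟨x, show ρ x ∈ F by rw [h]; exact F.zero_mem⟩, hm0.ge hx, rfl⟩
    exact Submodule.fg_of_fg_map_injective incl Subtype.val_injective (himg ▸ hfgD)
  exact (isArtinianRing_iff_isNilpotent_maximalIdeal D₀).mpr hnil

/-- The map to the residue field induced by a local point. -/
noncomputable def resMap {X : Scheme.{u}} {C : Type u} [CommRing C] [IsLocalRing C]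
    (a : Spec (CommRingCat.of C) ⟶ X) :
    X.presheaf.stalk (a (closedPoint C)) →+* ResidueField C :=
  (residue C).comp (Scheme.stalkClosedPointTo a).hom

theorem resMap_eq {X : Scheme.{u}} {C : Type u} [CommRing C] [IsLocalRing C]
    (a : Spec (CommRingCat.of C) ⟶ X) :
    ∃ e : (Spec (CommRingCat.of C)).residueField (closedPoint C) ≃+* ResidueField C,
      resMap a = (e.toRingHom.comp (a.residueFieldMap (closedPoint C)).hom).comp
        (X.residue (a (closedPoint C))).hom := by
  refine ⟨ResidueField.mapEquiv (stalkClosedPointIso (CommRingCat.of C)).commRingCatIsoToRingEquiv, ?_⟩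
  ext x
  rfl

theorem finite_resMap {X : Scheme.{u}} {C : Type u} [CommRing C] [IsLocalRing C]
    (a : Spec (CommRingCat.of C) ⟶ X) (h : (a.residueFieldMap (closedPoint C)).hom.Finite) :
    (resMap a).Finite := by
  obtain ⟨e, he⟩ := resMap_eq a
  rw [he]
  exact ((RingHom.Finite.of_surjective _ e.surjective).comp h).comp
    (RingHom.Finite.of_surjective _ (Scheme.residue_surjective X _))

theorem surjective_residueFieldMap {X : Scheme.{u}} {C : Type u} [CommRing C] [IsLocalRing C]
    (a : Spec (CommRingCat.of C) ⟶ X) (t : X) (φ : X.presheaf.stalk t ⟶ CommRingCat.of C)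
    (ht : a (closedPoint C) = t) (ha : a = Spec.map φ ≫ X.fromSpecStalk t)
    (h : Function.Surjective ((residue C).comp φ.hom)) :
    Function.Surjective (a.residueFieldMap (closedPoint C)).hom := by
  subst ht
  have : Spec.map φ = Spec.map (Scheme.stalkClosedPointTo a) :=
    (cancel_mono (X.fromSpecStalk _)).mp
      (ha.symm.trans (Scheme.Spec_stalkClosedPointTo_fromSpecStalk a).symm)
  obtain rfl := Spec.map_injective this
  obtain ⟨e, he⟩ := resMap_eq a
  intro y
  obtain ⟨r, hr⟩ := h (e y)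
  refine ⟨X.residue _ r, e.injective ?_⟩
  rw [← hr]
  exact (RingHom.congr_fun he r).symm

variable {S T : Scheme.{u}}

/-- Formal versality extends to finite residue field extensions. -/
theorem exists_lift (g : T ⟶ S) (t : T)
    (hT : ∀ (C C' : Type u) [CommRing C] [CommRing C'] [IsLocalRing C] [IsLocalRing C'] [IsArtinianRing C]
        [IsArtinianRing C'] (π : C' →+* C), Function.Surjective π →
        ∀ (a : Spec (CommRingCat.of C) ⟶ T) (b : Spec (CommRingCat.of C') ⟶ S),
          a (IsLocalRing.closedPoint C) = t →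
          Function.Surjective (a.residueFieldMap (IsLocalRing.closedPoint C)).hom →
          Spec.map (CommRingCat.ofHom π) ≫ b = a ≫ g →
          ∃ c : Spec (CommRingCat.of C') ⟶ T, Spec.map (CommRingCat.ofHom π) ≫ c = a ∧ c ≫ g = b)
    (C C' : Type u) [CommRing C] [CommRing C'] [IsLocalRing C] [IsLocalRing C'] [IsArtinianRing C]
    [IsArtinianRing C'] (π : C' →+* C) (hπ : Function.Surjective π)
    (a : Spec (CommRingCat.of C) ⟶ T) (b : Spec (CommRingCat.of C') ⟶ S)
    (hat : a (closedPoint C) = t) (hfin : (a.residueFieldMap (closedPoint C)).hom.Finite)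
    (hab : Spec.map (CommRingCat.ofHom π) ≫ b = a ≫ g) :
    ∃ c : Spec (CommRingCat.of C') ⟶ T, Spec.map (CommRingCat.ofHom π) ≫ c = a ∧ c ≫ g = b := by
  subst hat
  set t := a (closedPoint C) with ht
  let φ : T.presheaf.stalk t ⟶ CommRingCat.of C := Scheme.stalkClosedPointTo a
  have hφ : Spec.map φ ≫ T.fromSpecStalk t = a := Scheme.Spec_stalkClosedPointTo_fromSpecStalk a
  let h : T.presheaf.stalk t →+* ResidueField C := resMap a
  let F : Subring (ResidueField C) := h.range
  have hFfield : IsField F := by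
    refine ⟨⟨0, 1, zero_ne_one⟩, mul_comm, fun {x} hx => ?_⟩
    obtain ⟨_, r, rfl⟩ := x
    have hr : IsUnit r := by
      by_contra hn
      refine hx (Subtype.ext ((IsLocalRing.residue_eq_zero_iff _).mpr ?_))
      exact fun hu => hn (isUnit_of_map_unit (Scheme.stalkClosedPointTo a).hom r hu)
    obtain ⟨s, hs⟩ := hr.exists_right_inv
    exact ⟨⟨h s, s, rfl⟩, Subtype.ext (by simp [← map_mul, hs])⟩
  have : Module.Finite F (ResidueField C) := by
    have hf := finite_resMap a hfin
    have hcomp : (algebraMap F (ResidueField C)).comp h.rangeRestrict = h := rfl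
    have : (algebraMap F (ResidueField C)).Finite :=
      RingHom.Finite.of_comp_finite (f := h.rangeRestrict) (hcomp.symm ▸ hf)
    rwa [RingHom.finite_algebraMap] at this
  let C₀ := F.comap (residue C)
  let C₀' := F.comap ((residue C).comp π)
  obtain ⟨hA, hL⟩ := artinian_comap (residue C) IsLocalRing.residue_surjective F hFfield
  obtain ⟨hA', hL'⟩ := artinian_comap ((residue C).comp π)
    (IsLocalRing.residue_surjective.comp hπ) F hFfield
  let π₀ : C₀' →+* C₀ := (π.comp C₀'.subtype).codRestrict C₀ fun x => x.2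
  have hπ₀ : Function.Surjective π₀ := fun y => by
    obtain ⟨x, hx⟩ := hπ y.1
    exact ⟨⟨x, show residue C (π x) ∈ F by rw [hx]; exact y.2⟩, Subtype.ext hx⟩
  let φ₀ : T.presheaf.stalk t ⟶ CommRingCat.of C₀ :=
    CommRingCat.ofHom (φ.hom.codRestrict C₀ fun r => ⟨r, rfl⟩)
  have hφ₀ : φ₀ ≫ CommRingCat.ofHom C₀.subtype = φ := rfl
  let a₀ : Spec (CommRingCat.of C₀) ⟶ T := Spec.map φ₀ ≫ T.fromSpecStalk t
  have haa : Spec.map (CommRingCat.ofHom C₀.subtype) ≫ a₀ = a := by
    rw [← Spec.map_comp_assoc, hφ₀, hφ]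
  obtain ⟨ψ, hψ⟩ : ∃ ψ : S.presheaf.stalk (g t) ⟶ CommRingCat.of C',
      b = Spec.map ψ ≫ S.fromSpecStalk (g t) := by
    have hp : b (closedPoint C') = g t := by
      have hcl : Spec.map (CommRingCat.ofHom π) (closedPoint C) = closedPoint C' :=
        (subsingleton_spectrum C').elim _ _
      rw [← hcl, ← Scheme.Hom.comp_apply, hab, Scheme.Hom.comp_apply]
    rw [← hp]
    exact ⟨_, (Scheme.Spec_stalkClosedPointTo_fromSpecStalk b).symm⟩
  have hcomm : ψ ≫ CommRingCat.ofHom π = g.stalkMap t ≫ φ := by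
    apply Spec.map_injective
    rw [← cancel_mono (S.fromSpecStalk (g t)), Spec.map_comp_assoc, ← hψ, hab, ← hφ,
      Spec.map_comp_assoc, Category.assoc, Scheme.SpecMap_stalkMap_fromSpecStalk]
  let ψ₀ : S.presheaf.stalk (g t) ⟶ CommRingCat.of C₀' :=
    CommRingCat.ofHom (ψ.hom.codRestrict C₀' fun r => ⟨g.stalkMap t r,
      congrArg (residue C) (RingHom.congr_fun (congrArg CommRingCat.Hom.hom hcomm) r).symm⟩)
  let b₀ : Spec (CommRingCat.of C₀') ⟶ S := Spec.map ψ₀ ≫ S.fromSpecStalk (g t)
  have hbb : Spec.map (CommRingCat.ofHom C₀'.subtype) ≫ b₀ = b := by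
    rw [← Spec.map_comp_assoc, hψ]
    rfl
  have hab₀ : Spec.map (CommRingCat.ofHom π₀) ≫ b₀ = a₀ ≫ g := by
    rw [Category.assoc, ← Scheme.SpecMap_stalkMap_fromSpecStalk, ← Spec.map_comp_assoc,
      ← Spec.map_comp_assoc]
    congr 2
    refine CommRingCat.hom_ext (RingHom.ext fun r => Subtype.ext ?_)
    exact RingHom.congr_fun (congrArg CommRingCat.Hom.hom hcomm) r
  have ha₀t : a₀ (closedPoint C₀) = t := by
    have hcl : Spec.map (CommRingCat.ofHom C₀.subtype) (closedPoint C) = closedPoint C₀ :=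
      (subsingleton_spectrum C₀).elim _ _
    rw [← hcl, ← Scheme.Hom.comp_apply, haa, ht]
  have hsurj : Function.Surjective (a₀.residueFieldMap (closedPoint C₀)).hom := by
    refine surjective_residueFieldMap a₀ t φ₀ ha₀t rfl fun y => ?_
    obtain ⟨y, rfl⟩ := IsLocalRing.residue_surjective y
    obtain ⟨r, hr⟩ := y.2
    refine ⟨r, sub_eq_zero.mp ?_⟩
    rw [RingHom.comp_apply, ← map_sub, IsLocalRing.residue_eq_zero_iff, IsLocalRing.mem_maximalIdeal]
    intro hu
    have h1 : IsUnit ((φ₀.hom r - y : C₀) : C) := hu.map C₀.subtype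
    have h2 : residue C ((φ₀.hom r - y : C₀) : C) = 0 := by
      change residue C (φ.hom r - y.1) = 0
      rw [map_sub, sub_eq_zero]
      exact hr
    exact (h1.map (residue C)).ne_zero h2
  obtain ⟨c₀, hc₀, hc₀'⟩ := hT C₀ C₀' π₀ hπ₀ a₀ b₀ ha₀t hsurj hab₀
  refine ⟨Spec.map (CommRingCat.ofHom C₀'.subtype) ≫ c₀, ?_, ?_⟩
  · rw [← haa, ← hc₀, ← Spec.map_comp_assoc, ← Spec.map_comp_assoc]
    rfl
  · rw [Category.assoc, hc₀', hbb]

/-- Lifting along an étale morphism over Artinian local rings. -/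
theorem exists_etale_lift {U : Scheme.{u}} (e : U ⟶ T) [Etale e] (C C' : Type u) [CommRing C]
    [CommRing C'] [IsLocalRing C] [IsLocalRing C'] [IsArtinianRing C] [IsArtinianRing C']
    (π : C' →+* C) (hπ : Function.Surjective π) (a : Spec (CommRingCat.of C) ⟶ U)
    (d : Spec (CommRingCat.of C') ⟶ T) (h : Spec.map (CommRingCat.ofHom π) ≫ d = a ≫ e) :
    ∃ c : Spec (CommRingCat.of C') ⟶ U, Spec.map (CommRingCat.ofHom π) ≫ c = a ∧ c ≫ e = d := by
  have := subsingleton_spectrum C
  have := subsingleton_spectrum C'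
  set v := a (closedPoint C) with hv
  obtain ⟨W, hW, hvW, -⟩ := exists_isAffineOpen_mem_and_subset (x := e v) (U := (⊤ : T.Opens)) trivial
  obtain ⟨V, hV, hvV, hVW⟩ := exists_isAffineOpen_mem_and_subset (x := v) (U := e ⁻¹ᵁ W) hvW
  let j : Spec (CommRingCat.of C) ⟶ V := IsOpenImmersion.lift V.ι a (by
    rw [Scheme.Opens.range_ι]
    rintro _ ⟨z, rfl⟩
    rwa [show z = closedPoint C from Subsingleton.elim (α := PrimeSpectrum C) _ _])
  let k : Spec (CommRingCat.of C') ⟶ W := IsOpenImmersion.lift W.ι d (by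
    rw [Scheme.Opens.range_ι]
    rintro _ ⟨z, rfl⟩
    rwa [show z = Spec.map (CommRingCat.ofHom π) (closedPoint C) from
      Subsingleton.elim (α := PrimeSpectrum C') _ _, ← Scheme.Hom.comp_apply, h,
      Scheme.Hom.comp_apply])
  let α : Γ(U, V) ⟶ CommRingCat.of C := Spec.preimage (j ≫ hV.isoSpec.hom)
  let δ : Γ(T, W) ⟶ CommRingCat.of C' := Spec.preimage (k ≫ hW.isoSpec.hom)
  have hα : Spec.map α ≫ hV.fromSpec = a := by
    rw [Spec.map_preimage, Category.assoc, IsAffineOpen.fromSpec, Iso.hom_inv_id_assoc,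
      IsOpenImmersion.lift_fac]
  have hδ : Spec.map δ ≫ hW.fromSpec = d := by
    rw [Spec.map_preimage, Category.assoc, IsAffineOpen.fromSpec, Iso.hom_inv_id_assoc,
      IsOpenImmersion.lift_fac]
  let ε : Γ(T, W) ⟶ Γ(U, V) := e.appLE W V hVW
  have hε : Spec.map ε ≫ hW.fromSpec = hV.fromSpec ≫ e := hW.SpecMap_appLE_fromSpec e hV hVW
  have hcomm : ε ≫ α = δ ≫ CommRingCat.ofHom π := by
    apply Spec.map_injective
    rw [← cancel_mono hW.fromSpec, Spec.map_comp_assoc, Spec.map_comp_assoc, hδ, hε,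
      reassoc_of% hα, h]
  let _ : Algebra Γ(T, W) Γ(U, V) := ε.hom.toAlgebra
  let _ : Algebra Γ(T, W) C' := δ.hom.toAlgebra
  let _ : Algebra Γ(T, W) C := (π.comp δ.hom).toAlgebra
  have het : Algebra.Etale Γ(T, W) Γ(U, V) :=
    HasRingHomProperty.appLE @Etale e inferInstance ⟨W, hW⟩ ⟨V, hV⟩ hVW
  let αa : Γ(U, V) →ₐ[Γ(T, W)] C := { α.hom with commutes' := fun r => RingHom.congr_fun (congrArg CommRingCat.Hom.hom hcomm) r }
  let πa : C' →ₐ[Γ(T, W)] C := { π with commutes' := fun r => rfl }
  have hnil : IsNilpotent (RingHom.ker (πa : C' →+* C)) := by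
    obtain ⟨n, hn⟩ := IsArtinianRing.isNilpotent_jacobson_bot (R := C')
    rw [IsLocalRing.jacobson_eq_maximalIdeal _ bot_ne_top] at hn
    refine ⟨n, eq_bot_iff.mpr ((Ideal.pow_right_mono ?_ n).trans hn.le)⟩
    exact IsLocalRing.le_maximalIdeal (RingHom.ker_ne_top _)
  let γ := Algebra.FormallySmooth.liftOfSurjective αa πa hπ hnil
  refine ⟨Spec.map (CommRingCat.ofHom γ.toRingHom) ≫ hV.fromSpec, ?_, ?_⟩
  · rw [← Spec.map_comp_assoc, ← hα]
    congr 2
    exact CommRingCat.hom_ext (RingHom.ext fun x =>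
      Algebra.FormallySmooth.liftOfSurjective_apply αa πa hπ hnil x)
  · rw [Category.assoc, ← hε, ← Spec.map_comp_assoc, ← hδ]
    congr 2
    exact CommRingCat.hom_ext γ.comp_algebraMap

end Groth.Agent.Lib.Unram.VersalEtale
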